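import Mathlib.GroupTheory.Sylow
import Mathlib.GroupTheory.PGroup
import Mathlib.GroupTheory.Frattini
import Mathlib.GroupTheory.Nilpotent
import Mathlib.GroupTheory.SpecificGroups.Cyclic
import Mathlib.GroupTheory.Commutator.Basic
import Mathlib.Data.Int.NatPrime
import Mathlib.RingTheory.Int.Basic

/-!
Elementary facts about finite `p`-groups: orders of elements, normal subgroups meet the centre,
normal series with steps of index `p`, maximal subgroups, the Frattini subgroup, growing of normalisers.
-/

set_option autoImplicit false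
set_option linter.style.haveILetI false

namespace Cfsg.Agent.PGroups

open Subgroup

variable {G : Type*} [Group G] {p : ℕ} [hp : Fact p.Prime]

/-- A nontrivial subgroup of a finite `p`-group contains an element of order `p`. -/
theorem exists_orderOf_eq [Finite G] (hG : IsPGroup p G) {H : Subgroup G} (hH : H ≠ ⊥) :
    ∃ x ∈ H, orderOf x = p := by
  haveI : Nontrivial H := (Subgroup.nontrivial_iff_ne_bot H).mpr hH
  obtain ⟨n, hn0, hn⟩ := (hG.to_subgroup H).nontrivial_iff_card.mp inferInstance
  obtain ⟨x, hx⟩ := exists_prime_orderOf_dvd_card' p (hn ▸ dvd_pow_self p (ne_of_gt hn0))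
  exact ⟨x, x.2, by rw [Subgroup.orderOf_coe, hx]⟩

/-- In a finite `p`-group a nontrivial subgroup has order divisible by `p`. -/
theorem dvd_card_of_ne_bot [Finite G] (hG : IsPGroup p G) {H : Subgroup G} (hH : H ≠ ⊥) :
    p ∣ Nat.card H := by
  rcases (hG.to_subgroup H).card_eq_or_dvd with h | h
  · exact absurd (Subgroup.card_eq_one.mp h) hH
  · exact h

/-- A nontrivial normal subgroup of a finite `p`-group meets the centre nontrivially. -/
theorem inf_center_ne_bot [Finite G] (hG : IsPGroup p G) (N : Subgroup G) [N.Normal] (hN : N ≠ ⊥) :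
    N ⊓ center G ≠ ⊥ := by
  have hdvd := dvd_card_of_ne_bot hG hN
  have h1 : (⟨1, N.one_mem⟩ : N) ∈ MulAction.fixedPoints (ConjAct G) N := by
    intro g; ext; simp [ConjAct.Subgroup.val_conj_smul]
  obtain ⟨b, hb, hne⟩ := (hG.of_equiv ConjAct.toConjAct).exists_fixed_point_of_prime_dvd_card_of_fixed_point
    N hdvd h1
  intro hbot
  have hbc : (b : G) ∈ N ⊓ center G := by
    refine ⟨b.2, Subgroup.mem_center_iff.mpr fun g => ?_⟩
    have := congrArg (fun x : N => (x : G)) (hb (ConjAct.toConjAct g))
    simp only [ConjAct.Subgroup.val_conj_smul, ConjAct.smul_def, ConjAct.ofConjAct_toConjAct] at this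
    calc g * b = g * b * g⁻¹ * g := by group
      _ = b * g := by rw [this]
  rw [hbot, Subgroup.mem_bot] at hbc
  exact hne (Subtype.ext hbc.symm)

/-- A nontrivial normal subgroup of a finite `p`-group contains a central element of order `p`. -/
theorem exists_mem_center_orderOf_eq [Finite G] (hG : IsPGroup p G) (N : Subgroup G) [N.Normal]
    (hN : N ≠ ⊥) : ∃ z ∈ N, z ∈ center G ∧ orderOf z = p := by
  obtain ⟨z, hz, ho⟩ := exists_orderOf_eq hG (inf_center_ne_bot hG N hN)
  exact ⟨z, hz.1, hz.2, ho⟩

/-- A subgroup of the centre is normal. -/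
theorem normal_of_le_center {H : Subgroup G} (h : H ≤ center G) : H.Normal where
  conj_mem n hn g := by
    rw [Subgroup.mem_center_iff.mp (h hn) g, mul_inv_cancel_right]; exact hn

/-- A normal subgroup of order `p` in a finite `p`-group is central. -/
theorem le_center_of_card_eq [Finite G] (hG : IsPGroup p G) (N : Subgroup G) [N.Normal]
    (hN : Nat.card N = p) : N ≤ center G := by
  have hne : N ≠ ⊥ := by
    intro h; rw [h, Subgroup.card_bot] at hN; exact hp.out.one_lt.ne hN
  obtain ⟨z, hz, hzc, ho⟩ := exists_mem_center_orderOf_eq hG N hne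
  have : zpowers z = N := Subgroup.eq_of_le_of_card_ge (zpowers_le.mpr hz)
    (le_of_eq (by rw [hN, Nat.card_zpowers, ho]))
  rw [← this]
  exact zpowers_le.mpr hzc

/-- For normal subgroups `H < K` of a finite `p`-group there is a normal subgroup `M` between them
with `|M : H| = p`. -/
theorem exists_normal_card_mul [Finite G] (hG : IsPGroup p G) (H K : Subgroup G) [H.Normal] [K.Normal]
    (hlt : H < K) : ∃ M : Subgroup G, M.Normal ∧ H ≤ M ∧ M ≤ K ∧ Nat.card M = p * Nat.card H := by
  haveI : (K.map (QuotientGroup.mk' H)).Normal := Subgroup.Normal.map ‹_› _ (QuotientGroup.mk'_surjective H)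
  have hne : K.map (QuotientGroup.mk' H) ≠ ⊥ := by
    intro h
    rw [Subgroup.map_eq_bot_iff, QuotientGroup.ker_mk'] at h
    exact not_le_of_gt hlt h
  obtain ⟨z, hz, hzc, ho⟩ := exists_mem_center_orderOf_eq (hG.to_quotient H) _ hne
  refine ⟨(zpowers z).comap (QuotientGroup.mk' H), ?_, ?_, ?_, ?_⟩
  · exact (normal_of_le_center (zpowers_le.mpr hzc)).comap _
  · intro x hx
    rw [Subgroup.mem_comap, QuotientGroup.mk'_apply, (QuotientGroup.eq_one_iff x).mpr hx]
    exact Subgroup.one_mem _
  · have h := Subgroup.comap_mono (f := QuotientGroup.mk' H) (zpowers_le.mpr hz)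
    rwa [Subgroup.comap_map_eq, QuotientGroup.ker_mk', sup_eq_left.mpr hlt.le] at h
  · have hidx : ((zpowers z).comap (QuotientGroup.mk' H)).index = (zpowers z).index :=
      Subgroup.index_comap_of_surjective _ (QuotientGroup.mk'_surjective H)
    have e1 := Subgroup.card_mul_index ((zpowers z).comap (QuotientGroup.mk' H))
    have e2 := Subgroup.card_mul_index (zpowers z)
    rw [Nat.card_zpowers, ho] at e2
    rw [hidx] at e1
    have e3 : Nat.card G = Nat.card H * Nat.card (G ⧸ H) := by
      rw [← Subgroup.index_eq_card, Subgroup.card_mul_index]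
    rw [← e2] at e3
    rw [e3] at e1
    have hpos : 0 < (zpowers z).index := Nat.pos_of_ne_zero Subgroup.index_ne_zero_of_finite
    refine Nat.eq_of_mul_eq_mul_right hpos (e1.trans ?_)
    ring

/-- For normal subgroups `H ≤ K` of a finite `p`-group and any intermediate order there is a normal
subgroup of that order between them. -/
theorem exists_normal_card_pow_mul [Finite G] (hG : IsPGroup p G) (H K : Subgroup G) [H.Normal] [K.Normal]
    (hle : H ≤ K) : ∀ j : ℕ, p ^ j * Nat.card H ≤ Nat.card K →
      ∃ M : Subgroup G, M.Normal ∧ H ≤ M ∧ M ≤ K ∧ Nat.card M = p ^ j * Nat.card H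
  | 0, _ => ⟨H, ‹_›, le_rfl, hle, by simp⟩
  | j + 1, hj => by
    have hj' : p ^ j * Nat.card H < Nat.card K := by
      refine lt_of_lt_of_le ?_ hj
      exact Nat.mul_lt_mul_of_pos_right (Nat.pow_lt_pow_right hp.out.one_lt j.lt_succ_self) Nat.card_pos
    obtain ⟨M, hMn, hHM, hMK, hM⟩ := exists_normal_card_pow_mul hG H K hle j hj'.le
    haveI := hMn
    have hlt : M < K := lt_of_le_of_ne hMK (by rintro rfl; exact hj'.ne hM.symm)
    obtain ⟨M', hn, h1, h2, h3⟩ := exists_normal_card_mul hG M K hlt
    exact ⟨M', hn, hHM.trans h1, h2, by rw [h3, hM, pow_succ]; ring⟩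

/-- A normal subgroup of a finite `p`-group contains normal subgroups of all smaller `p`-power orders. -/
theorem exists_normal_card_le [Finite G] (hG : IsPGroup p G) (K : Subgroup G) [K.Normal] (j : ℕ)
    (hj : p ^ j ≤ Nat.card K) : ∃ M : Subgroup G, M.Normal ∧ M ≤ K ∧ Nat.card M = p ^ j := by
  obtain ⟨M, h1, -, h2, h3⟩ := exists_normal_card_pow_mul hG ⊥ K bot_le j (by simpa using hj)
  exact ⟨M, h1, h2, by simpa using h3⟩

/-- In a finite `p`-group every proper subgroup is properly contained in its normaliser. -/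
theorem lt_normalizer [Finite G] (hG : IsPGroup p G) {H : Subgroup G} (hH : H ≠ ⊤) :
    H < normalizer (H : Set G) :=
  haveI := hG.isNilpotent
  Group.normalizerCondition_of_isNilpotent H (lt_top_iff_ne_top.mpr hH)

/-- In a finite `p`-group, if `H < K` then `K` contains an element outside `H` normalising `H`. -/
theorem exists_mem_notMem_normalizer [Finite G] (hG : IsPGroup p G) {H K : Subgroup G} (hHK : H < K) :
    ∃ x ∈ K, x ∉ H ∧ x ∈ normalizer (H : Set G) := by
  have hne : H.subgroupOf K ≠ ⊤ := fun h => not_le_of_gt hHK (Subgroup.subgroupOf_eq_top.mp h)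
  obtain ⟨x, hx, hxn⟩ := SetLike.exists_of_lt (lt_normalizer (hG.to_subgroup K) hne)
  refine ⟨x, x.2, hxn, Subgroup.mem_normalizer_iff.mpr fun h => ?_⟩
  have hx' := Subgroup.mem_normalizer_iff.mp hx
  constructor
  · intro hh
    exact (hx' ⟨h, hHK.le hh⟩).mp hh
  · intro hh
    have hK : h ∈ K := by
      have : (x : G) * h * (x : G)⁻¹ ∈ K := hHK.le hh
      have h2 := K.mul_mem (K.mul_mem (K.inv_mem x.2) this) x.2
      simpa [mul_assoc] using h2
    exact (hx' ⟨h, hK⟩).mpr hh

/-- Maximal subgroups of a finite `p`-group are normal. -/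
theorem normal_of_isCoatom [Finite G] (hG : IsPGroup p G) {M : Subgroup G} (hM : IsCoatom M) :
    M.Normal :=
  haveI := hG.isNilpotent
  Group.normalizerCondition_of_isNilpotent.normal_of_coatom M hM

/-- Maximal subgroups of a finite `p`-group have index `p`. -/
theorem index_eq_of_isCoatom [Finite G] (hG : IsPGroup p G) {M : Subgroup G} (hM : IsCoatom M) :
    M.index = p := by
  haveI := normal_of_isCoatom hG hM
  obtain ⟨N, -, hMN, -, hN⟩ := exists_normal_card_mul hG M ⊤ hM.lt_top
  have hne : M ≠ N := by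
    rintro rfl
    have : 0 < Nat.card M := Nat.card_pos
    nlinarith [hp.out.two_le]
  have htop : N = ⊤ := hM.2 N (lt_of_le_of_ne hMN hne)
  rw [htop, Subgroup.card_top, ← Subgroup.card_mul_index M, mul_comm p] at hN
  exact Nat.eq_of_mul_eq_mul_left Nat.card_pos hN

/-- A subgroup of index `p` in a finite `p`-group is normal. -/
theorem normal_of_index_eq [Finite G] (hG : IsPGroup p G) {M : Subgroup G} (hM : M.index = p) :
    M.Normal := by
  apply normal_of_isCoatom hG
  refine ⟨fun h => hp.out.one_lt.ne (by rw [← hM, h, Subgroup.index_top]), fun K hK => ?_⟩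
  have h := Subgroup.relIndex_mul_index hK.le
  rw [hM] at h
  rcases hp.out.eq_one_or_self_of_dvd K.index (Dvd.intro_left _ h) with h1 | h1
  · exact Subgroup.index_eq_one.mp h1
  · rw [h1] at h
    have : M.relIndex K = 1 := Nat.eq_of_mul_eq_mul_right hp.out.pos (by rw [h, one_mul])
    exact absurd (Subgroup.relIndex_eq_one.mp this) (not_le_of_gt hK)

/-- In a finite `p`-group every commutator lies in the Frattini subgroup. -/
theorem commutator_le_frattini [Finite G] (hG : IsPGroup p G) : commutator G ≤ frattini G := by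
  refine le_iInf₂ fun M hM => ?_
  haveI := normal_of_isCoatom hG hM
  haveI : IsCyclic (G ⧸ M) := isCyclic_of_prime_card (p := p)
    (by rw [← Subgroup.index_eq_card, index_eq_of_isCoatom hG hM])
  rw [← Subgroup.Normal.quotient_commutative_iff_commutator_le]
  infer_instance

/-- In a finite `p`-group every `p`-th power lies in the Frattini subgroup. -/
theorem pow_mem_frattini [Finite G] (hG : IsPGroup p G) (x : G) : x ^ p ∈ frattini G := by
  simp only [frattini, Order.radical, Subgroup.mem_iInf]
  intro M hM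
  haveI := normal_of_isCoatom hG hM
  have := M.pow_index_mem x
  rwa [index_eq_of_isCoatom hG hM] at this

/-- Any element `g` outside a normal subgroup `N` of a finite group, with `G/N` of exponent `p` and
abelian, lies outside a maximal subgroup containing `N`. -/
theorem frattini_le_of_commutator_le [Finite G] (N : Subgroup G) [N.Normal]
    (hcomm : commutator G ≤ N) (hpow : ∀ x : G, x ^ p ∈ N) : frattini G ≤ N := by
  intro g hg
  by_contra hgN
  let S : Set (Subgroup G) := {K | N ≤ K ∧ g ∉ K}
  obtain ⟨M, ⟨hNM, hgM⟩, hmax⟩ := (Set.toFinite S).exists_maximal ⟨N, le_rfl, hgN⟩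
  haveI : M.Normal := Subgroup.Normal.of_commutator_le G (hcomm.trans hNM)
  have hstep : ∀ x, x ∉ M → g ∈ M ⊔ zpowers x := by
    intro x hx
    by_contra hgx
    exact hx ((hmax (y := M ⊔ zpowers x) ⟨hNM.trans le_sup_left, hgx⟩ le_sup_left :
      M ⊔ zpowers x ≤ M) (Subgroup.mem_sup_right (mem_zpowers x)))
  have hcoatom : IsCoatom M := by
    refine ⟨fun h => hgM (h ▸ Subgroup.mem_top g), fun K hK => ?_⟩
    rw [eq_top_iff]
    intro x _
    by_cases hxM : x ∈ M
    · exact hK.le hxM
    obtain ⟨y, hyK, hyM⟩ := SetLike.exists_of_lt hK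
    have hgK : g ∈ K := sup_le hK.le (zpowers_le.mpr hyK) (hstep y hyM)
    have hgx := hstep x hxM
    rw [← SetLike.mem_coe, Subgroup.normal_mul] at hgx
    obtain ⟨m, hm, w, hw, e⟩ := Set.mem_mul.mp hgx
    obtain ⟨k, rfl⟩ := Subgroup.mem_zpowers_iff.mp hw
    have hxk : x ^ k ∈ K := by
      have : x ^ k = m⁻¹ * g := by rw [← e]; group
      rw [this]
      exact K.mul_mem (K.inv_mem (hK.le hm)) hgK
    have hk : ¬ (p : ℤ) ∣ k := by
      rintro ⟨c, rfl⟩
      apply hgM
      rw [← e]
      refine M.mul_mem hm ?_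
      rw [zpow_mul, zpow_natCast]
      exact M.zpow_mem (hNM (hpow x)) c
    obtain ⟨a, b, hab⟩ := ((Nat.prime_iff_prime_int.mp hp.out).coprime_iff_not_dvd.mpr hk)
    have hexp : x = (x ^ p) ^ a * (x ^ k) ^ b := by
      rw [← zpow_natCast x p, ← zpow_mul, ← zpow_mul, ← zpow_add, mul_comm _ a, mul_comm k b, hab, zpow_one]
    rw [hexp]
    exact K.mul_mem (K.zpow_mem (hK.le (hNM (hpow x))) a) (K.zpow_mem hxk b)
  exact hgM (frattini_le_coatom hcoatom hg)

/-- The Frattini subgroup of a finite `p`-group is `P' P^p`. -/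
theorem frattini_eq [Finite G] (hG : IsPGroup p G) :
    frattini G = commutator G ⊔ Subgroup.closure (Set.range fun x : G => x ^ p) := by
  apply le_antisymm
  · haveI := Subgroup.Normal.of_commutator_le G
      (le_sup_left (a := commutator G) (b := Subgroup.closure (Set.range fun x : G => x ^ p)))
    exact frattini_le_of_commutator_le (p := p) _ le_sup_left
      (fun x => Subgroup.mem_sup_right (Subgroup.subset_closure ⟨x, rfl⟩))
  · refine sup_le (commutator_le_frattini hG) ((Subgroup.closure_le _).mpr ?_)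
    rintro _ ⟨x, rfl⟩
    exact pow_mem_frattini hG x

/-- A finite `p`-group with cyclic Frattini quotient is cyclic. -/
theorem isCyclic_of_frattini [Finite G] [IsCyclic (G ⧸ frattini G)] : IsCyclic G := by
  obtain ⟨q, hq⟩ := IsCyclic.exists_generator (α := G ⧸ frattini G)
  obtain ⟨g, rfl⟩ := QuotientGroup.mk_surjective q
  refine ⟨⟨g, fun x => ?_⟩⟩
  have htop : zpowers g ⊔ frattini G = ⊤ := by
    rw [eq_top_iff]
    intro y _
    obtain ⟨k, hk⟩ := Subgroup.mem_zpowers_iff.mp (hq (y : G ⧸ frattini G))
    rw [← QuotientGroup.mk_zpow, QuotientGroup.eq] at hk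
    exact (show y = g ^ k * ((g ^ k)⁻¹ * y) by group) ▸
      Subgroup.mul_mem_sup (zpow_mem_zpowers g k) hk
  show x ∈ zpowers g
  rw [frattini_nongenerating htop]; exact Subgroup.mem_top x

/-- The centre of a group never has prime index. -/
theorem center_index_ne_prime : (center G).index ≠ p := by
  intro h
  haveI : IsCyclic (G ⧸ center G) := isCyclic_of_prime_card (p := p) (by rw [← Subgroup.index_eq_card, h])
  have hc : ∀ a b : G, a * b = b * a :=
    (MonoidHom.isMulCommutative_of_isCyclic_of_ker_le_center (QuotientGroup.mk' (center G))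
      (le_of_eq (QuotientGroup.ker_mk' _))).is_comm.comm
  have : center G = ⊤ := eq_top_iff.mpr fun x _ => Subgroup.mem_center_iff.mpr fun g => hc g x
  rw [this, Subgroup.index_top] at h
  exact hp.out.one_lt.ne h

/-- A normal subgroup of index dividing `p ^ 2` contains the derived subgroup. -/
theorem commutator_le_of_index_dvd_sq (N : Subgroup G) [N.Normal] (hN : N.index ∣ p ^ 2) :
    commutator G ≤ N := by
  rw [← Subgroup.Normal.quotient_commutative_iff_commutator_le]
  obtain ⟨k, hk, hk'⟩ := (Nat.dvd_prime_pow hp.out).mp hN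
  rw [Subgroup.index_eq_card] at hk'
  interval_cases k
  · haveI : Subsingleton (G ⧸ N) := (Nat.card_eq_one_iff_unique.mp (by simpa using hk')).1
    exact ⟨⟨fun a b => Subsingleton.elim _ _⟩⟩
  · haveI : IsCyclic (G ⧸ N) := isCyclic_of_prime_card (p := p) (by simpa using hk')
    infer_instance
  · exact IsPGroup.isMulCommutative_of_card_eq_prime_sq hk'

end Cfsg.Agent.PGroups
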