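import Cfsg.Agent.PGroups.MaxAbelian
import Mathlib.NumberTheory.Multiplicity
import Mathlib.FieldTheory.Finite.Basic
import Mathlib.Data.Nat.Multiplicity

/-!
`p`-groups with a cyclic subgroup of index `p`, and `p`-groups all of whose normal abelian subgroups
are cyclic.
-/

set_option autoImplicit false
set_option linter.style.haveILetI false

namespace Cfsg.Agent.PGroups

open Subgroup
open scoped commutatorElement

variable {G : Type*} [Group G] {p : ℕ}

/-- Equality of powers of an element of order `m`. -/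
theorem zpow_eq_zpow_iff_dvd {c : G} {m : ℕ} (hc : orderOf c = m) (a b : ℤ) :
    c ^ a = c ^ b ↔ (m : ℤ) ∣ b - a := by
  rw [zpow_eq_zpow_iff_modEq, hc, Int.modEq_iff_dvd]

/-- A power equals `1` iff the order divides the exponent. -/
theorem zpow_eq_one_iff_dvd {c : G} {m : ℕ} (hc : orderOf c = m) (a : ℤ) : c ^ a = 1 ↔ (m : ℤ) ∣ a := by
  rw [← hc, orderOf_dvd_iff_zpow_eq_one]

/-- Iterated conjugation of a cyclic subgroup. -/
theorem conj_pow_of_conj_eq_zpow {g c : G} {r : ℤ} (h : g * c * g⁻¹ = c ^ r) (n : ℕ) :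
    g ^ n * c * (g ^ n)⁻¹ = c ^ (r ^ n) := by
  induction n with
  | zero => simp
  | succ n ih =>
    calc g ^ (n + 1) * c * (g ^ (n + 1))⁻¹ = g * (g ^ n * c * (g ^ n)⁻¹) * g⁻¹ := by rw [pow_succ']; group
      _ = (g * c * g⁻¹) ^ (r ^ n) := by rw [ih, conj_zpow]
      _ = c ^ (r ^ (n + 1)) := by rw [h, ← zpow_mul, ← pow_succ']

/-- Conjugation on a normal cyclic subgroup is a power map. -/
theorem exists_conj_eq_zpow {c : G} (h : (zpowers c).Normal) (g : G) :
    ∃ r : ℤ, g * c * g⁻¹ = c ^ r :=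
  let ⟨r, hr⟩ := Subgroup.mem_zpowers_iff.mp (h.conj_mem c (mem_zpowers c) g)
  ⟨r, hr.symm⟩

/-- A normal subgroup containing the commutator of two generators contains the derived subgroup. -/
theorem commutator_le_of_generators {c x : G} (hgen : zpowers c ⊔ zpowers x = ⊤) (N : Subgroup G)
    [N.Normal] (h : ⁅x, c⁆ ∈ N) : commutator G ≤ N := by
  have hxc : Commute (QuotientGroup.mk' N x) (QuotientGroup.mk' N c) := by
    rw [← commutatorElement_eq_one_iff_commute, ← map_commutatorElement]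
    exact (QuotientGroup.eq_one_iff _).mpr h
  have htop : zpowers (QuotientGroup.mk' N c) ⊔ zpowers (QuotientGroup.mk' N x) = ⊤ := by
    rw [← MonoidHom.map_zpowers, ← MonoidHom.map_zpowers, ← Subgroup.map_sup, hgen,
      Subgroup.map_top_of_surjective _ (QuotientGroup.mk'_surjective N)]
  have hab : IsMulCommutative (zpowers (QuotientGroup.mk' N c)) := inferInstance
  have := isMulCommutative_sup_zpowers hab (x := QuotientGroup.mk' N x) (by
    refine Subgroup.mem_centralizer_iff.mpr ?_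
    rintro _ ⟨i, rfl⟩
    exact (hxc.symm.zpow_left i).eq)
  rw [htop] at this
  rw [← Subgroup.Normal.quotient_commutative_iff_commutator_le]
  exact ⟨⟨fun a b => comm_of_isMulCommutative this (mem_top a) (mem_top b)⟩⟩

variable [hp : Fact p.Prime]

/-- A subgroup of index `p` and an element outside it generate. -/
theorem sup_zpowers_eq_top [Finite G] (hG : IsPGroup p G) {C : Subgroup G} (hC : C.index = p) {x : G}
    (hx : x ∉ C) : C ⊔ zpowers x = ⊤ := by
  haveI := normal_of_index_eq hG hC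
  apply Subgroup.eq_top_of_card_eq
  rw [card_sup_zpowers (p := p) C hx (hC ▸ C.pow_index_mem x), mul_comm, ← hC, Subgroup.card_mul_index]

omit hp in
theorem pow_dvd_sub_one {p : ℕ} (hp : p.Prime) (hp2 : p ≠ 2) {r : ℤ} {k : ℕ} (hk : 1 ≤ k)
    (h : ((p ^ k : ℕ) : ℤ) ∣ r ^ p - 1) : (p : ℤ) ∣ r - 1 ∧ ((p ^ (k - 1) : ℕ) : ℤ) ∣ r - 1 := by
  haveI := Fact.mk hp
  have hpr : ((r : ℤ) : ZMod p) ^ p = 1 := by
    have h1 : (p : ℤ) ∣ r ^ p - 1 := (Int.natCast_dvd_natCast.mpr (dvd_pow_self p (by omega))).trans h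
    have h2 : ((r ^ p - 1 : ℤ) : ZMod p) = 0 := (ZMod.intCast_zmod_eq_zero_iff_dvd _ p).mpr h1
    simpa [sub_eq_zero] using h2
  rw [ZMod.pow_card] at hpr
  have h1 : (p : ℤ) ∣ r - 1 := (ZMod.intCast_zmod_eq_zero_iff_dvd _ p).mp (by simp [hpr])
  refine ⟨h1, ?_⟩
  have hr : ¬ (p : ℤ) ∣ r := fun hd => by
    have : (p : ℤ) ∣ 1 := by simpa using dvd_sub hd h1
    exact hp.one_lt.ne' (Nat.dvd_one.mp (Int.natCast_dvd_natCast.mp (by simpa using this)))
  have he := Int.emultiplicity_pow_sub_pow hp (hp.odd_of_ne_two hp2) h1 hr p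
  rw [one_pow, hp.emultiplicity_self] at he
  rw [Nat.cast_pow, pow_dvd_iff_le_emultiplicity] at h ⊢
  obtain ⟨k, rfl⟩ : ∃ j, k = j + 1 := ⟨k - 1, by omega⟩
  rw [he, Nat.cast_add, Nat.cast_one] at h
  simpa using ENat.addLECancellable_of_ne_top (by simp : (1 : ℕ∞) ≠ ⊤) |>.add_le_add_iff_right.mp h

/-- For odd `p`, a `p`-group with a cyclic subgroup of index `p` has class at most 2 and derived
subgroup of exponent dividing `p`. -/
theorem commutator_le_center_of_cyclic_max [Finite G] (hG : IsPGroup p G) (hp2 : p ≠ 2)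
    {C : Subgroup G} (hC : IsCyclic C) (hCi : C.index = p) :
    commutator G ≤ center G ∧ ∀ z ∈ commutator G, z ^ p = 1 := by
  obtain ⟨c, hc⟩ := C.isCyclic_iff_exists_zpowers_eq_top.mp hC
  obtain ⟨k, hk⟩ := IsPGroup.iff_orderOf.mp hG c
  haveI hCn' : C.Normal := normal_of_index_eq hG hCi
  have hCn := hCn'
  have hne : C ≠ ⊤ := fun h => hp.out.one_lt.ne (by rw [← hCi, h, Subgroup.index_top])
  obtain ⟨x, hx⟩ : ∃ x, x ∉ C := by
    by_contra hall; push Not at hall; exact hne (eq_top_iff.mpr fun y _ => hall y)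
  have hgen := sup_zpowers_eq_top hG hCi hx
  rw [← hc] at hgen hCn
  obtain ⟨r, hr⟩ := exists_conj_eq_zpow hCn x
  obtain ⟨s, hs⟩ := Subgroup.mem_zpowers_iff.mp (hc.symm ▸ hCi ▸ C.pow_index_mem x : x ^ p ∈ zpowers c)
  have hrp := conj_pow_of_conj_eq_zpow hr p
  rw [← hs] at hrp
  have hrp1 : c ^ (1 : ℤ) = c ^ (r ^ p) := by rw [← hrp]; group
  rw [zpow_eq_zpow_iff_dvd hk] at hrp1
  have hd : ⁅x, c⁆ = c ^ (r - 1) := by rw [commutatorElement_def, hr, zpow_sub_one]
  have hdp : ((p ^ k : ℕ) : ℤ) ∣ (r - 1) * p ∧ ((p ^ k : ℕ) : ℤ) ∣ (r - 1) * (r - 1) := by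
    rcases Nat.eq_zero_or_pos k with rfl | hk1
    · simp
    · obtain ⟨h1, h2⟩ := pow_dvd_sub_one hp.out hp2 hk1 hrp1
      have he : ((p ^ k : ℕ) : ℤ) = ((p ^ (k - 1) : ℕ) : ℤ) * p := by
        rw [← Nat.cast_mul, ← pow_succ, Nat.sub_add_cancel hk1]
      rw [he]
      exact ⟨mul_dvd_mul_right h2 _, mul_dvd_mul h2 h1⟩
  have hdc : ⁅x, c⁆ ∈ center G := by
    have h1 : zpowers c ⊔ zpowers x ≤ centralizer ({⁅x, c⁆} : Set G) := by
      refine sup_le (zpowers_le.mpr ?_) (zpowers_le.mpr ?_) <;>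
        refine Subgroup.mem_centralizer_iff.mpr fun h hh => ?_ <;> rw [Set.mem_singleton_iff.mp hh, hd]
      · exact ((Commute.refl c).zpow_left _).eq
      · have : x * c ^ (r - 1) * x⁻¹ = c ^ (r - 1) := by
          rw [← conj_zpow, hr, ← zpow_mul, zpow_eq_zpow_iff_dvd hk]
          have := hdp.2
          rw [show (r - 1) * (r - 1) = -(r - 1 - r * (r - 1)) by ring, dvd_neg] at this
          exact this
        conv_lhs => rw [← this]
        group
    rw [hgen] at h1
    exact Subgroup.mem_center_iff.mpr fun g =>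
      (Subgroup.mem_centralizer_iff.mp (h1 (mem_top g)) _ rfl).symm
  haveI := normal_of_le_center (zpowers_le.mpr hdc)
  have hle := commutator_le_of_generators hgen _ (mem_zpowers ⁅x, c⁆)
  refine ⟨hle.trans (zpowers_le.mpr hdc), fun z hz => ?_⟩
  obtain ⟨i, rfl⟩ := Subgroup.mem_zpowers_iff.mp (hle hz)
  have h2 : ⁅x, c⁆ ^ p = 1 := by
    rw [hd, ← zpow_natCast, ← zpow_mul, zpow_eq_one_iff_dvd hk]; exact hdp.1
  rw [← zpow_natCast, ← zpow_mul, mul_comm, zpow_mul, zpow_natCast, h2, one_zpow]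

/-- For odd `p`, in a non-cyclic group with a cyclic subgroup of index `p`, the elements of order dividing
`p` generate an elementary abelian subgroup of order `p ^ 2`, consisting of exactly these elements. -/
theorem omega_of_cyclic_max [Finite G] (hG : IsPGroup p G) (hp2 : p ≠ 2) (hnc : ¬ IsCyclic G)
    {C : Subgroup G} (hC : IsCyclic C) (hCi : C.index = p) :
    IsMulCommutative (Subgroup.closure {x : G | x ^ p = 1}) ∧
      Nat.card (Subgroup.closure {x : G | x ^ p = 1}) = p ^ 2 ∧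
        ∀ x ∈ Subgroup.closure {x : G | x ^ p = 1}, x ^ p = 1 := by
  obtain ⟨hcl, hexp⟩ := commutator_le_center_of_cyclic_max hG hp2 hC hCi
  have hs : SmallClass p G := Or.inl ⟨hp2, hcl⟩
  obtain ⟨c, hc⟩ := C.isCyclic_iff_exists_zpowers_eq_top.mp hC
  obtain ⟨k, hk⟩ := IsPGroup.iff_orderOf.mp hG c
  haveI := normal_of_index_eq hG hCi
  have hcard : Nat.card G = p ^ (k + 1) := by
    rw [← C.card_mul_index, hCi, ← hc, Nat.card_zpowers, hk, pow_succ]
  have hk1 : 1 ≤ k := by
    by_contra h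
    exact hnc (isCyclic_of_prime_card (p := p) (by rw [hcard, show k = 0 by omega, zero_add, pow_one]))
  let f : G →* G := MonoidHom.mk' (fun x => x ^ p) fun a b => (hs.mul_pow a b).1 hexp
  have hker : Subgroup.closure {x : G | x ^ p = 1} = f.ker :=
    le_antisymm ((Subgroup.closure_le _).mpr fun x hx => hx) fun x hx => Subgroup.subset_closure hx
  have hrange : f.range = zpowers (c ^ p) := by
    refine le_antisymm ?_ (zpowers_le.mpr ⟨c, rfl⟩)
    rintro _ ⟨y, rfl⟩
    obtain ⟨i, hi⟩ := Subgroup.mem_zpowers_iff.mp (hc.symm ▸ hCi ▸ C.pow_index_mem y : y ^ p ∈ zpowers c)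
    show y ^ p ∈ zpowers (c ^ p)
    by_cases hpi : (p : ℤ) ∣ i
    · obtain ⟨j, rfl⟩ := hpi
      rw [← hi, zpow_mul, zpow_natCast]
      exact zpow_mem_zpowers _ j
    · exfalso
      apply hnc
      obtain ⟨m, hm⟩ := IsPGroup.iff_orderOf.mp hG y
      refine isCyclic_of_orderOf_eq_card y ?_
      rw [hcard, hm]
      have hle : m ≤ k + 1 := (Nat.pow_dvd_pow_iff_le_right hp.out.one_lt).mp
        (hm ▸ hcard ▸ orderOf_dvd_natCard y)
      have hge : k + 1 ≤ m := by
        by_contra hlt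
        have h1 : y ^ p ^ k = 1 := orderOf_dvd_iff_pow_eq_one.mp (hm ▸ pow_dvd_pow p (by omega))
        have h2 : (c ^ i) ^ (p ^ (k - 1)) = 1 := by
          rw [hi, ← pow_mul, ← pow_succ', Nat.sub_add_cancel hk1, h1]
        rw [← zpow_natCast, ← zpow_mul, zpow_eq_one_iff_dvd hk] at h2
        rw [show p ^ k = p ^ (k - 1) * p by rw [← pow_succ, Nat.sub_add_cancel hk1], Nat.cast_mul,
          mul_comm i] at h2
        exact hpi (Int.dvd_of_mul_dvd_mul_left (by exact_mod_cast (pow_pos hp.out.pos _).ne') h2)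
      rw [le_antisymm hle hge]
  have hcr : Nat.card f.range = p ^ (k - 1) := by
    rw [hrange, Nat.card_zpowers, orderOf_pow, hk, Nat.gcd_eq_right (dvd_pow_self p (by omega))]
    rw [Nat.div_eq_iff_eq_mul_left hp.out.pos (dvd_pow_self p (by omega)), ← pow_succ, Nat.sub_add_cancel hk1]
  have h2 := f.ker.card_mul_index
  rw [Subgroup.index_ker, hcr, hcard, show k + 1 = 2 + (k - 1) by omega, pow_add] at h2
  have hcardker : Nat.card f.ker = p ^ 2 := Nat.eq_of_mul_eq_mul_right (pow_pos hp.out.pos _) h2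
  refine ⟨?_, ?_, fun x hx => ?_⟩
  · rw [hker]; exact IsPGroup.isMulCommutative_of_card_eq_prime_sq hcardker
  · rw [hker, hcardker]
  · rw [hker] at hx; exact hx

/-- A cyclic subgroup contains at most one involution. -/
theorem eq_of_sq_eq_one [Finite G] {H : Subgroup G} (hH : IsCyclic H) {a b : G} (ha : a ∈ H) (hb : b ∈ H)
    (ha2 : a ^ 2 = 1) (hb2 : b ^ 2 = 1) (ha1 : a ≠ 1) (hb1 : b ≠ 1) : a = b := by
  classical
  haveI := Fintype.ofFinite H
  by_contra hab
  have h := IsCyclic.card_pow_eq_one_le (α := H) two_pos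
  have : ({1, ⟨a, ha⟩, ⟨b, hb⟩} : Finset H) ⊆ ({x | x ^ 2 = 1} : Finset H) := by
    intro x hx
    simp only [Finset.mem_insert, Finset.mem_singleton] at hx
    rcases hx with rfl | rfl | rfl <;> simp [Subtype.ext_iff, ha2, hb2]
  have := (Finset.card_le_card this).trans h
  rw [Finset.card_insert_of_notMem (by simp [Subtype.ext_iff, Ne.symm ha1, Ne.symm hb1]),
    Finset.card_pair (by simp [hab])] at this
  omega

/-- An abelian subgroup of a finite `p`-group whose elements of order dividing `p` lie in a subgroup of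
order at most `p` is cyclic. -/
theorem isCyclic_of_small_omega [Finite G] (hG : IsPGroup p G) {A : Subgroup G} (hA : IsMulCommutative A)
    (W : Subgroup G) (hW : ∀ a ∈ A, a ^ p = 1 → a ∈ W) (hm1 : Nat.card W ≤ p) : IsCyclic A := by
  letI : CommGroup A := { (inferInstance : Group A) with mul_comm := hA.is_comm.comm }
  obtain ⟨e, he⟩ := IsPGroup.iff_card.mp (hG.to_subgroup A)
  haveI := Fintype.ofFinite A
  have hsub : ∀ n, p ^ n ∣ Nat.card A → Nat.card (powMonoidHom (p ^ n) : A →* A).ker ≤ p ^ n := by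
    intro n
    induction n with
    | zero => intro _; simp
    | succ n ih =>
      intro hdvd
      let f : (powMonoidHom (p ^ (n + 1)) : A →* A).ker →* (powMonoidHom (p ^ n) : A →* A).ker :=
        MonoidHom.mk' (fun a => ⟨(a : A) ^ p, by
          rw [MonoidHom.mem_ker, powMonoidHom_apply, ← pow_mul, ← pow_succ']
          exact MonoidHom.mem_ker.mp a.2⟩) fun a b => Subtype.ext (mul_pow _ _ _)
      have hle := Subgroup.card_le_card_group f.range
      have hkw : Nat.card f.ker ≤ Nat.card W := by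
        refine Nat.card_le_card_of_injective
          (fun a => (⟨((a : (powMonoidHom (p ^ (n + 1)) : A →* A).ker) : A), hW _ (Subtype.prop _) ?_⟩ : W))
          (fun a b h => Subtype.ext (Subtype.ext (Subtype.ext (congrArg (fun w : W => (w : G)) h))))
        exact congrArg (fun z : (powMonoidHom (p ^ n) : A →* A).ker => ((z : A) : G)) (MonoidHom.mem_ker.mp a.2)
      rw [← Subgroup.card_mul_index f.ker, Subgroup.index_ker]
      refine le_of_le_of_eq ?_ (pow_succ' p n).symm
      exact Nat.mul_le_mul (hkw.trans hm1) (hle.trans (ih ((pow_dvd_pow p n.le_succ).trans hdvd)))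
  obtain ⟨g, hg⟩ : ∃ g : A, orderOf g = Nat.card A := by
    rcases Nat.eq_zero_or_pos e with rfl | hepos
    · exact ⟨1, by rw [orderOf_one, he, pow_zero]⟩
    by_contra hall
    push Not at hall
    have hker : (powMonoidHom (p ^ (e - 1)) : A →* A).ker = ⊤ := eq_top_iff.mpr fun g _ => by
      obtain ⟨j, hj, hgj⟩ := (Nat.dvd_prime_pow hp.out).mp (he ▸ orderOf_dvd_natCard g)
      have hje : j ≠ e := fun h => hall g (by rw [hgj, h, he])
      rw [MonoidHom.mem_ker, powMonoidHom_apply, ← orderOf_dvd_iff_pow_eq_one, hgj]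
      exact pow_dvd_pow p (by omega)
    have h3 := hsub (e - 1) (he ▸ pow_dvd_pow p (Nat.sub_le e 1))
    rw [hker, Subgroup.card_top, he] at h3
    exact absurd ((Nat.pow_le_pow_iff_right hp.out.one_lt).mp h3) (by omega)
  exact isCyclic_of_orderOf_eq_card g hg

/-- For odd `p`, a non-cyclic `p`-group has a normal elementary abelian subgroup of order `p ^ 2`. -/
theorem exists_normal_elementary_sq [Finite G] (hG : IsPGroup p G) (hp2 : p ≠ 2) (hnc : ¬ IsCyclic G) :
    ∃ A : Subgroup G, A.Normal ∧ IsMulCommutative A ∧ (∀ a ∈ A, a ^ p = 1) ∧ Nat.card A = p ^ 2 := by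
  classical
  obtain ⟨A, hAn, hA, -, hmax⟩ := exists_maximal_normal_abelian (⊥ : Subgroup G)
    (isMulCommutative_of_comm fun x hx y hy => by
      rw [Subgroup.mem_bot.mp hx, Subgroup.mem_bot.mp hy])
  haveI := hAn
  by_cases hAc : IsCyclic A
  · have hne : A ≠ ⊤ := fun h => hnc (by rw [h] at hAc; exact isCyclic_of_surjective _ Subgroup.topEquiv.surjective)
    obtain ⟨M, hMn, hAM, -, hM⟩ := exists_normal_card_mul hG A ⊤ (lt_top_iff_ne_top.mpr hne)
    haveI := hMn
    have hMc : ¬ IsCyclic M := fun h => by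
      have := hmax M hMn inferInstance hAM
      rw [this] at hM
      nlinarith [hp.out.two_le, (Nat.card_pos : 0 < Nat.card A)]
    have hidx : (A.subgroupOf M).index = p := by
      have h2 := Subgroup.card_mul_index (A.subgroupOf M)
      rw [Nat.card_congr (Subgroup.subgroupOfEquivOfLe hAM).toEquiv, hM, mul_comm p] at h2
      exact Nat.eq_of_mul_eq_mul_left Nat.card_pos h2
    haveI : IsCyclic (A.subgroupOf M) :=
      isCyclic_of_surjective _ (Subgroup.subgroupOfEquivOfLe hAM).symm.surjective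
    obtain ⟨hcomm, hcard, hexp⟩ := omega_of_cyclic_max (hG.to_subgroup M) hp2 hMc
      (C := A.subgroupOf M) inferInstance hidx
    refine ⟨(Subgroup.closure {x : M | x ^ p = 1}).map M.subtype, ?_, ?_, ?_, ?_⟩
    · refine ⟨?_⟩
      rintro _ ⟨x, hx, rfl⟩ g
      refine ⟨⟨g * x * g⁻¹, hMn.conj_mem x x.2 g⟩, Subgroup.subset_closure (Subtype.ext ?_), rfl⟩
      have hxp : (x : G) ^ p = 1 := congrArg Subtype.val (hexp x hx)
      change (g * x * g⁻¹) ^ p = 1
      rw [conj_pow, hxp, mul_one, mul_inv_cancel]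
    · refine isMulCommutative_of_comm ?_
      rintro _ ⟨x, hx, rfl⟩ _ ⟨y, hy, rfl⟩
      exact congrArg Subtype.val (comm_of_isMulCommutative hcomm hx hy)
    · rintro _ ⟨x, hx, rfl⟩
      exact congrArg Subtype.val (hexp x hx)
    · rw [Subgroup.card_map_of_injective M.subtype_injective, hcard]
  · let W : Subgroup G :=
      { carrier := {a | a ∈ A ∧ a ^ p = 1}
        one_mem' := ⟨one_mem _, one_pow p⟩
        mul_mem' := fun {a b} ha hb => ⟨mul_mem ha.1 hb.1, by
          rw [(show Commute a b from comm_of_isMulCommutative hA ha.1 hb.1).mul_pow, ha.2, hb.2, one_mul]⟩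
        inv_mem' := fun {a} ha => ⟨inv_mem ha.1, by rw [inv_pow, ha.2, inv_one]⟩ }
    haveI hWn : W.Normal := ⟨fun a ha g =>
      ⟨hAn.conj_mem a ha.1 g, by rw [conj_pow, ha.2, mul_one, mul_inv_cancel]⟩⟩
    have hW : p ^ 2 ≤ Nat.card W := by
      by_contra hlt
      obtain ⟨m, hm⟩ := IsPGroup.iff_card.mp (hG.to_subgroup W)
      have hm1 : Nat.card W ≤ p := by
        rw [hm]
        refine (Nat.pow_le_pow_right hp.out.pos (?_ : m ≤ 1)).trans (pow_one p).le
        by_contra h2
        exact hlt (hm ▸ Nat.pow_le_pow_right hp.out.pos (by omega))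
      exact hAc (isCyclic_of_small_omega hG hA W (fun a ha hap => ⟨ha, hap⟩) hm1)
    obtain ⟨B, hBn, hBW, hB⟩ := exists_normal_card_le hG W 2 hW
    exact ⟨B, hBn, isMulCommutative_of_comm fun x hx y hy =>
      comm_of_isMulCommutative hA (hBW hx).1 (hBW hy).1, fun a ha => (hBW ha).2, hB⟩

end Cfsg.Agent.PGroups
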