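import Mathlib.GroupTheory.PGroup
import Mathlib.GroupTheory.Commutator.Basic
import Mathlib.Data.Nat.Choose.Dvd

/-!
Commutator identities in groups of class at most 2 and at most 3, the power formulas and consequences
for elements of order `p` (`⁅a, b⁆ = a * b * a⁻¹ * b⁻¹`).
-/

set_option autoImplicit false

namespace Cfsg.Agent.PGroups

open Subgroup
open scoped commutatorElement

variable {G : Type*} [Group G]

/-- An element of the centre commutes with everything. -/
theorem commute_of_mem_center {z : G} (hz : z ∈ center G) (x : G) : Commute z x :=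
  (Subgroup.mem_center_iff.mp hz x).symm

/-- `⁅a * b, c⁆ = ⁅a, c⁆ * ⁅b, c⁆` when `⁅b, c⁆` is central. -/
theorem commutatorElement_mul_left_of_mem_center {a b c : G} (h : ⁅b, c⁆ ∈ center G) :
    ⁅a * b, c⁆ = ⁅a, c⁆ * ⁅b, c⁆ := by
  have hz := (commute_of_mem_center h a⁻¹).eq
  calc ⁅a * b, c⁆ = a * (⁅b, c⁆ * a⁻¹) * ⁅a, c⁆ := by simp only [commutatorElement_def]; group
    _ = ⁅b, c⁆ * ⁅a, c⁆ := by rw [hz]; group
    _ = ⁅a, c⁆ * ⁅b, c⁆ := (commute_of_mem_center h _).eq

/-- `⁅a, b * c⁆ = ⁅a, b⁆ * ⁅a, c⁆` when `⁅a, c⁆` is central. -/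
theorem commutatorElement_mul_right_of_mem_center {a b c : G} (h : ⁅a, c⁆ ∈ center G) :
    ⁅a, b * c⁆ = ⁅a, b⁆ * ⁅a, c⁆ := by
  have hz := (commute_of_mem_center h b⁻¹).eq
  calc ⁅a, b * c⁆ = ⁅a, b⁆ * b * (⁅a, c⁆ * b⁻¹) := by simp only [commutatorElement_def]; group
    _ = ⁅a, b⁆ * ⁅a, c⁆ := by rw [hz]; group

/-- `⁅a ^ n, b⁆ = ⁅a, b⁆ ^ n` when `⁅a, b⁆` is central. -/
theorem commutatorElement_pow_left_of_mem_center {a b : G} (h : ⁅a, b⁆ ∈ center G) (n : ℕ) :
    ⁅a ^ n, b⁆ = ⁅a, b⁆ ^ n := by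
  induction n with
  | zero => simp
  | succ n ih => rw [pow_succ, commutatorElement_mul_left_of_mem_center h, ih, pow_succ]

/-- `⁅a, b ^ n⁆ = ⁅a, b⁆ ^ n` when `⁅a, b⁆` is central. -/
theorem commutatorElement_pow_right_of_mem_center {a b : G} (h : ⁅a, b⁆ ∈ center G) (n : ℕ) :
    ⁅a, b ^ n⁆ = ⁅a, b⁆ ^ n := by
  induction n with
  | zero => simp
  | succ n ih => rw [pow_succ, commutatorElement_mul_right_of_mem_center h, ih, pow_succ]

/-- `b ^ n * a = a * b ^ n * c ^ n * e ^ (n choose 2)` when `b * a = a * b * c`, `c * b = b * c * e`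
and `e` is central. -/
theorem pow_mul_of_central {a b c e : G} (h : b * a = a * b * c) (hb : c * b = b * c * e)
    (he : e ∈ center G) (n : ℕ) :
    c ^ n * b = b * c ^ n * e ^ n ∧ b ^ n * a = a * b ^ n * c ^ n * e ^ n.choose 2 := by
  have hE : ∀ (k : ℕ) (x : G), e ^ k * x = x * e ^ k :=
    fun k x => ((commute_of_mem_center he x).pow_left k).eq
  have h1 : ∀ n : ℕ, c ^ n * b = b * c ^ n * e ^ n := by
    intro n
    induction n with
    | zero => simp
    | succ n ih =>
      calc c ^ (n + 1) * b = c ^ n * (c * b) := by rw [pow_succ, mul_assoc]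
        _ = c ^ n * b * c * e := by rw [hb]; group
        _ = b * c ^ n * (e ^ n * c) * e := by rw [ih]; group
        _ = b * c ^ (n + 1) * e ^ (n + 1) := by rw [hE n c]; group
  refine ⟨h1 n, ?_⟩
  induction n with
  | zero => simp
  | succ n ih =>
    calc b ^ (n + 1) * a = b ^ n * (b * a) := by rw [pow_succ, mul_assoc]
      _ = b ^ n * a * (b * c) := by rw [h]; group
      _ = a * b ^ n * c ^ n * (e ^ n.choose 2 * b) * c := by rw [ih]; group
      _ = a * b ^ n * (c ^ n * b) * (e ^ n.choose 2 * c) := by rw [hE _ b]; group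
      _ = a * b ^ n * b * c ^ n * (e ^ n * c) * e ^ n.choose 2 := by rw [h1 n, hE _ c]; group
      _ = a * b ^ (n + 1) * c ^ (n + 1) * (e ^ n * e ^ n.choose 2) := by rw [hE _ c]; group
      _ = _ := by rw [← pow_add, Nat.choose_succ_succ' n 1, Nat.choose_one_right]

/-- Power formula for class at most 3: if `b * a = a * b * c`, `c * a = a * c * d`, `c * b = b * c * e`
with `d`, `e` central, then
`(a * b) ^ n = a ^ n * b ^ n * c ^ C(n,2) * d ^ C(n,3) * e ^ (C(n,3) + C(n+1,3))`. -/
theorem mul_pow_of_central {a b c d e : G} (h : b * a = a * b * c) (ha : c * a = a * c * d)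
    (hb : c * b = b * c * e) (hd : d ∈ center G) (he : e ∈ center G) (n : ℕ) :
    (a * b) ^ n =
      a ^ n * b ^ n * c ^ n.choose 2 * d ^ n.choose 3 * e ^ (n.choose 3 + (n + 1).choose 3) := by
  have hE : ∀ (k : ℕ) (x : G), e ^ k * x = x * e ^ k :=
    fun k x => ((commute_of_mem_center he x).pow_left k).eq
  have hD : ∀ (k : ℕ) (x : G), d ^ k * x = x * d ^ k :=
    fun k x => ((commute_of_mem_center hd x).pow_left k).eq
  have hca : ∀ m : ℕ, c ^ m * a = a * c ^ m * d ^ m := by
    intro m
    induction m with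
    | zero => simp
    | succ m ih =>
      calc c ^ (m + 1) * a = c ^ m * (c * a) := by rw [pow_succ, mul_assoc]
        _ = c ^ m * a * c * d := by rw [ha]; group
        _ = a * c ^ m * (d ^ m * c) * d := by rw [ih]; group
        _ = a * c ^ (m + 1) * d ^ (m + 1) := by rw [hD m c]; group
  induction n with
  | zero => simp [Nat.choose_eq_zero_of_lt]
  | succ n ih =>
    have hc2 : n + n.choose 2 = (n + 1).choose 2 := by
      rw [Nat.choose_succ_succ' n 1, Nat.choose_one_right]
    have hd3 : n.choose 3 + n.choose 2 = (n + 1).choose 3 := by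
      rw [Nat.choose_succ_succ' n 2, add_comm]
    have he3 : n.choose 3 + (n + 1).choose 3 + n.choose 2 + (n + 1).choose 2 =
        (n + 1).choose 3 + (n + 1 + 1).choose 3 := by
      rw [Nat.choose_succ_succ' (n + 1) 2]; simp only [Nat.reduceAdd]; omega
    obtain ⟨u, hu⟩ : ∃ u, u = n.choose 2 := ⟨_, rfl⟩
    obtain ⟨v, hv⟩ : ∃ v, v = n.choose 3 := ⟨_, rfl⟩
    obtain ⟨w, hw⟩ : ∃ w, w = v + (n + 1).choose 3 := ⟨_, rfl⟩
    have hK := (pow_mul_of_central h hb he n).2
    rw [← hu] at hc2 hd3 he3 ih hK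
    rw [← hv] at hd3 he3 ih
    rw [← hw] at he3 ih
    calc (a * b) ^ (n + 1) = a ^ n * b ^ n * c ^ u * d ^ v * (e ^ w * a) * b := by
          rw [pow_succ, ih]; group
      _ = a ^ n * b ^ n * c ^ u * (d ^ v * a) * (e ^ w * b) := by rw [hE w a]; group
      _ = a ^ n * b ^ n * (c ^ u * a) * d ^ v * (e ^ w * b) := by rw [hD v a]; group
      _ = a ^ n * (b ^ n * a) * c ^ u * (d ^ (u + v) * b) * e ^ w := by
          rw [hca u, hE w b, pow_add]; group
      _ = a ^ n * a * b ^ n * c ^ n * (e ^ u * c ^ u) * (d ^ (u + v) * b) * e ^ w := by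
          rw [hK]; group
      _ = a ^ (n + 1) * b ^ n * (c ^ (n + u) * (e ^ u * b)) * d ^ (u + v) * e ^ w := by
          rw [hE u (c ^ u), hD (u + v) b, pow_succ, pow_add c n u]; group
      _ = a ^ (n + 1) * b ^ n * (c ^ (n + u) * b) * (e ^ u * d ^ (u + v)) * e ^ w := by
          rw [hE u b]; group
      _ = a ^ (n + 1) * b ^ (n + 1) * c ^ (n + u) * (e ^ (n + u + u) * d ^ (u + v)) * e ^ w := by
          rw [(pow_mul_of_central h hb he _).1, pow_succ, pow_add e (n + u) u]; group
      _ = a ^ (n + 1) * b ^ (n + 1) * c ^ (n + u) * d ^ (u + v) * e ^ (n + u + u + w) := by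
          rw [hE (n + u + u) (d ^ (u + v)), pow_add e (n + u + u) w]; group
      _ = _ := by
          rw [← hc2, show u + v = (n + 1).choose 3 by omega,
            show n + u + u + w = (n + 1).choose 3 + (n + 1 + 1).choose 3 by omega]

/-- `(a * b) ^ n = a ^ n * b ^ n * ⁅b, a⁆ ^ (n choose 2)` when `⁅b, a⁆` is central. -/
theorem mul_pow_of_commutator_mem_center {a b : G} (h : ⁅b, a⁆ ∈ center G) (n : ℕ) :
    (a * b) ^ n = a ^ n * b ^ n * ⁅b, a⁆ ^ n.choose 2 := by
  have hc : b * a = a * b * ⁅b, a⁆ := by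
    calc b * a = ⁅b, a⁆ * (a * b) := by simp only [commutatorElement_def]; group
      _ = a * b * ⁅b, a⁆ := (commute_of_mem_center h _).eq
  simpa using mul_pow_of_central hc (d := 1) (e := 1)
    (by rw [mul_one, (commute_of_mem_center h a).eq]) (by rw [mul_one, (commute_of_mem_center h b).eq])
    (one_mem _) (one_mem _) n

section Prime

variable {p : ℕ} [hp : Fact p.Prime]

omit hp in
/-- `p ∣ C(p,2)` for odd `p`. -/
theorem dvd_choose_two (hp : p.Prime) (hp2 : p ≠ 2) : p ∣ p.choose 2 :=
  hp.dvd_choose_self two_ne_zero (lt_of_le_of_ne hp.two_le (Ne.symm hp2))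

omit hp in
/-- `p ∣ C(p,3) + C(p+1,3)` for `p > 3`. -/
theorem dvd_choose_three (hp : p.Prime) (hp3 : 3 < p) :
    p ∣ p.choose 3 ∧ p ∣ p.choose 3 + (p + 1).choose 3 := by
  have h3 := hp.dvd_choose_self three_ne_zero hp3
  refine ⟨h3, dvd_add h3 ?_⟩
  rw [Nat.choose_succ_succ' p 2]
  exact dvd_add (dvd_choose_two hp (by omega)) h3

/-- Class at most 2 with `p` odd, or class at most 3 with `p > 3`. -/
def SmallClass (p : ℕ) (G : Type*) [Group G] : Prop :=
  (p ≠ 2 ∧ commutator G ≤ center G) ∨ (3 < p ∧ ⁅commutator G, (⊤ : Subgroup G)⁆ ≤ center G)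

/-- The class 2 / class 3 hypotheses in the form of iterated commutators give `SmallClass`. -/
theorem smallClass_of_commutator {p : ℕ}
    (h : (p ≠ 2 ∧ ⁅commutator G, (⊤ : Subgroup G)⁆ = ⊥) ∨
      (3 < p ∧ ⁅⁅commutator G, (⊤ : Subgroup G)⁆, (⊤ : Subgroup G)⁆ = ⊥)) : SmallClass p G :=
  h.imp (fun h => ⟨h.1, commutator_top_right_eq_bot_iff_le_center.mp h.2⟩)
    (fun h => ⟨h.1, commutator_top_right_eq_bot_iff_le_center.mp h.2⟩)

/-- In a group of small class relative to `p`, `(a * b) ^ p` is `a ^ p * b ^ p` times a product of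
`p`-th powers of elements of the derived subgroup; and if `b ^ p = 1` those powers are trivial. -/
theorem SmallClass.mul_pow (h : SmallClass p G) (a b : G) :
    ((∀ x ∈ commutator G, x ^ p = 1) → (a * b) ^ p = a ^ p * b ^ p) ∧
      (b ^ p = 1 → (a * b) ^ p = a ^ p * b ^ p) := by
  have hmem : ∀ x y : G, ⁅x, y⁆ ∈ commutator G := fun x y => commutator_mem_commutator (mem_top x) (mem_top y)
  set c := ⁅b⁻¹, a⁻¹⁆ with hcdef
  set d := ⁅c⁻¹, a⁻¹⁆ with hddef
  set e := ⁅c⁻¹, b⁻¹⁆ with hedef
  have h0 : b * a = a * b * c := by rw [hcdef, commutatorElement_def]; group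
  have ha : c * a = a * c * d := by rw [hddef, commutatorElement_def]; group
  have hb : c * b = b * c * e := by rw [hedef, commutatorElement_def]; group
  rcases h with ⟨hp2, hcl⟩ | ⟨hp3, hcl⟩
  · have hc : c ∈ center G := hcl (hmem _ _)
    obtain ⟨k, hk⟩ := dvd_choose_two hp.out hp2
    have hformula := mul_pow_of_central h0 (d := 1) (e := 1) (a := a) (b := b) (c := c)
      (by rw [mul_one, (commute_of_mem_center hc a).eq]) (by rw [mul_one, (commute_of_mem_center hc b).eq])
      (one_mem _) (one_mem _) p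
    simp only [one_pow, mul_one, hk, pow_mul] at hformula
    refine ⟨fun hexp => ?_, fun hbp => ?_⟩
    · rw [hformula, hexp c (hmem _ _), one_pow, mul_one]
    · have h2 := (pow_mul_of_central h0 (e := 1)
        (by rw [mul_one, (commute_of_mem_center hc b).eq]) (one_mem _) p).2
      rw [hbp] at h2
      have hcp : c ^ p = 1 := by simpa using h2
      rw [hformula, hcp, one_pow, mul_one]
  · have hd : d ∈ center G :=
      hcl (commutator_mem_commutator (inv_mem (hmem _ _)) (mem_top _))
    have he : e ∈ center G :=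
      hcl (commutator_mem_commutator (inv_mem (hmem _ _)) (mem_top _))
    obtain ⟨k, hk⟩ := dvd_choose_two hp.out (by omega : p ≠ 2)
    obtain ⟨l, hl⟩ := (dvd_choose_three hp.out hp3).1
    obtain ⟨m, hm⟩ := (dvd_choose_three hp.out hp3).2
    have hformula := mul_pow_of_central h0 ha hb hd he p
    rw [hm, hl, hk, pow_mul, pow_mul, pow_mul] at hformula
    refine ⟨fun hexp => ?_, fun hbp => ?_⟩
    · rw [hformula, hexp c (hmem _ _), hexp d (hmem _ _), hexp e (hmem _ _)]
      simp
    · obtain ⟨h1, h2⟩ := pow_mul_of_central h0 hb he p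
      rw [hbp, hk, pow_mul] at h2
      have hce : c ^ p * (e ^ p) ^ k = 1 := by simpa [mul_assoc] using h2
      have hcpc : c ^ p ∈ center G := by
        rw [eq_inv_of_mul_eq_one_left hce]
        exact inv_mem (pow_mem (pow_mem he p) k)
      have hep : e ^ p = 1 := by
        rw [(commute_of_mem_center hcpc b).eq] at h1
        simpa using h1
      have hcp : c ^ p = 1 := by simpa [hep] using hce
      have hca : ∀ n : ℕ, c ^ n * a = a * c ^ n * d ^ n := by
        intro n
        induction n with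
        | zero => simp
        | succ n ih =>
          calc c ^ (n + 1) * a = c ^ n * (c * a) := by rw [pow_succ, mul_assoc]
            _ = c ^ n * a * c * d := by rw [ha]; group
            _ = a * c ^ n * (d ^ n * c) * d := by rw [ih]; group
            _ = a * c ^ (n + 1) * d ^ (n + 1) := by
              rw [((commute_of_mem_center hd c).pow_left n).eq]; group
      have hdp : d ^ p = 1 := by
        have := hca p
        rw [hcp] at this
        simpa using this
      rw [hformula, hcp, hdp, hep]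
      simp

/-- In a group of small class relative to `p` the elements with `x ^ p = 1` form a subgroup. -/
theorem SmallClass.pow_eq_one_of_mem_closure (h : SmallClass p G) {g : G}
    (hg : g ∈ Subgroup.closure {x : G | x ^ p = 1}) : g ^ p = 1 := by
  induction hg using Subgroup.closure_induction with
  | mem x hx => exact hx
  | one => exact one_pow p
  | mul x y _ _ hx hy => rw [(h.mul_pow x y).2 hy, hx, hy, one_mul]
  | inv x _ hx => rw [inv_pow, hx, inv_one]

end Prime

end Cfsg.Agent.PGroups
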