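import Cfsg.Agent.PGroups.CyclicMaximal
import Mathlib.GroupTheory.SpecificGroups.Quaternion
import Mathlib.GroupTheory.SpecificGroups.Dihedral
import Cfsg.Prelude.Def_CaseTheorems

/-!
2-groups with a cyclic subgroup of index 2: standard generators, recognition of dihedral and quaternion
groups, and groups all of whose normal abelian subgroups are cyclic.
-/

set_option autoImplicit false
set_option linter.style.haveILetI false

namespace Cfsg.Agent.PGroups

open Subgroup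
open scoped commutatorElement

variable {G : Type*} [Group G]

/-- Powers indexed by `ZMod n` of an element of order `n`. -/
theorem pow_val_eq_zpow {c : G} {n : ℕ} [NeZero n] (hc : orderOf c = n) {i : ZMod n} {z : ℤ}
    (h : (z : ZMod n) = i) : c ^ i.val = c ^ z := by
  rw [← zpow_natCast, zpow_eq_zpow_iff_dvd hc, ← ZMod.intCast_eq_intCast_iff_dvd_sub]
  simp [h]

/-- Moving a power of `c` past an element inverting `c`. -/
theorem zpow_mul_of_conj_eq_inv {c y : G} (h : y * c * y⁻¹ = c⁻¹) (i : ℤ) : c ^ i * y = y * c ^ (-i) := by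
  have h1 : y * c ^ (-i) * y⁻¹ = c ^ i := by rw [← conj_zpow, h, inv_zpow, zpow_neg, inv_inv]
  rw [← h1]; group

/-- Recognition of dihedral groups. -/
theorem nonempty_mulEquiv_dihedral [Finite G] {c y : G} {n : ℕ} [NeZero n] (hc : orderOf c = n)
    (hy : y ∉ zpowers c) (hy2 : y ^ 2 = 1) (hconj : y * c * y⁻¹ = c⁻¹) (hcard : Nat.card G = 2 * n) :
    Nonempty (G ≃* DihedralGroup n) := by
  let f : DihedralGroup n →* G := MonoidHom.mk'
    (fun g => match g with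
      | DihedralGroup.r i => c ^ i.val
      | DihedralGroup.sr i => y * c ^ i.val) (by
    rintro (i | i) (j | j)
    · rw [DihedralGroup.r_mul_r]
      show c ^ (i + j).val = c ^ i.val * c ^ j.val
      rw [pow_val_eq_zpow hc (z := (i.val : ℤ) + j.val) (by simp), zpow_add, zpow_natCast, zpow_natCast]
    · rw [DihedralGroup.r_mul_sr]
      show y * c ^ (j - i).val = c ^ i.val * (y * c ^ j.val)
      rw [pow_val_eq_zpow hc (z := -(i.val : ℤ) + j.val) (by simp; ring), zpow_add,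
        ← mul_assoc (c ^ i.val), ← zpow_natCast c i.val, zpow_mul_of_conj_eq_inv hconj, zpow_natCast c j.val,
        mul_assoc]
    · rw [DihedralGroup.sr_mul_r]
      show y * c ^ (i + j).val = y * c ^ i.val * c ^ j.val
      rw [pow_val_eq_zpow hc (z := (i.val : ℤ) + j.val) (by simp), zpow_add, zpow_natCast, zpow_natCast, mul_assoc]
    · rw [DihedralGroup.sr_mul_sr]
      show c ^ (j - i).val = y * c ^ i.val * (y * c ^ j.val)
      rw [pow_val_eq_zpow hc (z := -(i.val : ℤ) + j.val) (by simp; ring), zpow_add, ← zpow_natCast c i.val,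
        mul_assoc y, ← mul_assoc _ y, zpow_mul_of_conj_eq_inv hconj, zpow_natCast c j.val, ← mul_assoc,
        ← mul_assoc, ← sq, hy2, one_mul])
  have hinj : Function.Injective f := by
    rintro (i | i) (j | j) h
    · exact congrArg _ (ZMod.val_injective n
        (pow_injOn_Iio_orderOf (hc.symm ▸ ZMod.val_lt i) (hc.symm ▸ ZMod.val_lt j) h))
    · exfalso; apply hy
      have h' : c ^ i.val = y * c ^ j.val := h
      rw [eq_mul_inv_of_mul_eq h'.symm]
      exact mul_mem (pow_mem (mem_zpowers c) _) (inv_mem (pow_mem (mem_zpowers c) _))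
    · exfalso; apply hy
      have h' : y * c ^ i.val = c ^ j.val := h
      rw [eq_mul_inv_of_mul_eq h']
      exact mul_mem (pow_mem (mem_zpowers c) _) (inv_mem (pow_mem (mem_zpowers c) _))
    · exact congrArg _ (ZMod.val_injective n
        (pow_injOn_Iio_orderOf (hc.symm ▸ ZMod.val_lt i) (hc.symm ▸ ZMod.val_lt j) (mul_left_cancel h)))
  exact ⟨(MulEquiv.ofBijective f (hinj.bijective_of_nat_card_le
    (by rw [DihedralGroup.nat_card, hcard]))).symm⟩

/-- Recognition of generalised quaternion groups. -/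
theorem nonempty_mulEquiv_quaternion [Finite G] {c y : G} {n : ℕ} [NeZero n] (hc : orderOf c = 2 * n)
    (hy : y ∉ zpowers c) (hy2 : y ^ 2 = c ^ n) (hconj : y * c * y⁻¹ = c⁻¹) (hcard : Nat.card G = 4 * n) :
    Nonempty (G ≃* QuaternionGroup n) := by
  haveI : NeZero (2 * n) := ⟨mul_ne_zero two_ne_zero (NeZero.ne n)⟩
  let f : QuaternionGroup n →* G := MonoidHom.mk'
    (fun g => match g with
      | QuaternionGroup.a i => c ^ i.val
      | QuaternionGroup.xa i => y * c ^ i.val) (by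
    rintro (i | i) (j | j)
    · rw [QuaternionGroup.a_mul_a]
      show c ^ (i + j).val = c ^ i.val * c ^ j.val
      rw [pow_val_eq_zpow hc (z := (i.val : ℤ) + j.val) (by simp), zpow_add, zpow_natCast, zpow_natCast]
    · rw [QuaternionGroup.a_mul_xa]
      show y * c ^ (j - i).val = c ^ i.val * (y * c ^ j.val)
      rw [pow_val_eq_zpow hc (z := -(i.val : ℤ) + j.val) (by simp; ring), zpow_add,
        ← mul_assoc (c ^ i.val), ← zpow_natCast c i.val, zpow_mul_of_conj_eq_inv hconj, zpow_natCast c j.val,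
        mul_assoc]
    · rw [QuaternionGroup.xa_mul_a]
      show y * c ^ (i + j).val = y * c ^ i.val * c ^ j.val
      rw [pow_val_eq_zpow hc (z := (i.val : ℤ) + j.val) (by simp), zpow_add, zpow_natCast, zpow_natCast, mul_assoc]
    · rw [QuaternionGroup.xa_mul_xa]
      show c ^ ((n : ZMod (2 * n)) + j - i).val = y * c ^ i.val * (y * c ^ j.val)
      rw [pow_val_eq_zpow hc (z := (n : ℤ) + (-(i.val : ℤ) + j.val)) (by simp; ring), zpow_add, zpow_add,
        ← zpow_natCast c i.val, mul_assoc y, ← mul_assoc _ y, zpow_mul_of_conj_eq_inv hconj,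
        zpow_natCast c j.val, ← mul_assoc y, ← mul_assoc y, ← sq, hy2, zpow_natCast, mul_assoc])
  have hinj : Function.Injective f := by
    rintro (i | i) (j | j) h
    · exact congrArg _ (ZMod.val_injective _
        (pow_injOn_Iio_orderOf (hc.symm ▸ ZMod.val_lt i) (hc.symm ▸ ZMod.val_lt j) h))
    · exfalso; apply hy
      have h' : c ^ i.val = y * c ^ j.val := h
      rw [eq_mul_inv_of_mul_eq h'.symm]
      exact mul_mem (pow_mem (mem_zpowers c) _) (inv_mem (pow_mem (mem_zpowers c) _))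
    · exfalso; apply hy
      have h' : y * c ^ i.val = c ^ j.val := h
      rw [eq_mul_inv_of_mul_eq h']
      exact mul_mem (pow_mem (mem_zpowers c) _) (inv_mem (pow_mem (mem_zpowers c) _))
    · exact congrArg _ (ZMod.val_injective _
        (pow_injOn_Iio_orderOf (hc.symm ▸ ZMod.val_lt i) (hc.symm ▸ ZMod.val_lt j) (mul_left_cancel h)))
  exact ⟨(MulEquiv.ofBijective f (hinj.bijective_of_nat_card_le
    (by rw [Nat.card_eq_fintype_card (α := QuaternionGroup n), QuaternionGroup.card, hcard]))).symm⟩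

/-- The square roots of unity modulo `2 ^ k`. -/
theorem sq_one_mod_two_pow {r : ℤ} {k : ℕ} (hk : 1 ≤ k) (h : (2 : ℤ) ^ k ∣ r * r - 1) :
    (2 : ℤ) ^ k ∣ r + 1 ∨ (2 : ℤ) ^ k ∣ r - 1 ∨
      3 ≤ k ∧ ((2 : ℤ) ^ k ∣ r + 1 - 2 ^ (k - 1) ∨ (2 : ℤ) ^ k ∣ r - 1 - 2 ^ (k - 1)) := by
  obtain ⟨m, rfl | rfl⟩ : ∃ m, r = 2 * m ∨ r = 2 * m + 1 := ⟨r / 2, by omega⟩
  · exfalso
    have h2 : (2 : ℤ) ∣ 2 * m * (2 * m) - 1 := (dvd_pow_self 2 (by omega)).trans h
    rw [mul_assoc] at h2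
    omega
  match k, hk with
  | 1, _ => left; norm_num; omega
  | 2, _ =>
    rcases Int.even_or_odd' m with ⟨j, rfl | rfl⟩
    · right; left; norm_num; omega
    · left; norm_num; omega
  | l + 3, _ =>
    have h4 : (4 : ℤ) * 2 ^ (l + 1) ∣ 4 * (m * (m + 1)) := by
      rw [show (4 : ℤ) * 2 ^ (l + 1) = 2 ^ (l + 3) by ring,
        show 4 * (m * (m + 1)) = (2 * m + 1) * (2 * m + 1) - 1 by ring]
      exact h
    have h5 : (2 : ℤ) ^ (l + 1) ∣ m * (m + 1) := Int.dvd_of_mul_dvd_mul_left (by norm_num) h4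
    have hl : (l + 3) - 1 = l + 2 := by omega
    rw [hl]
    rcases Int.even_or_odd' m with ⟨j, rfl | rfl⟩
    · obtain ⟨t, ht⟩ := (IsCoprime.pow_left ⟨-j, 1, by ring⟩ :
        IsCoprime ((2 : ℤ) ^ (l + 1)) (2 * j + 1)).dvd_of_dvd_mul_right h5
      rw [ht]
      rcases Int.even_or_odd' t with ⟨u, rfl | rfl⟩
      · right; left; exact ⟨u, by ring⟩
      · right; right; exact ⟨by omega, Or.inr ⟨u, by ring⟩⟩
    · obtain ⟨t, ht⟩ := (IsCoprime.pow_left ⟨-j, 1, by ring⟩ :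
        IsCoprime ((2 : ℤ) ^ (l + 1)) (2 * j + 1)).dvd_of_dvd_mul_left h5
      rw [show 2 * (2 * j + 1) + 1 = 2 * (2 * j + 1 + 1) - 1 by ring, ht]
      rcases Int.even_or_odd' t with ⟨u, rfl | rfl⟩
      · left; exact ⟨u, by ring⟩
      · right; right; exact ⟨by omega, Or.inl ⟨u, by ring⟩⟩

/-- Square of `x * c ^ i` when `x` acts on `c` as `r` and `x ^ 2 = c ^ s`. -/
theorem sq_mul_zpow {c x : G} {r s : ℤ} (hr : x * c * x⁻¹ = c ^ r) (hs : x ^ 2 = c ^ s) (i : ℤ) :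
    (x * c ^ i) ^ 2 = c ^ (r * i + s + i) := by
  calc (x * c ^ i) ^ 2 = x * c ^ i * x⁻¹ * x ^ 2 * c ^ i := by rw [sq, sq]; group
    _ = _ := by rw [← conj_zpow, hr, hs, ← zpow_mul, ← zpow_add, ← zpow_add]

/-- Standard generators: if `x ∉ ⟨c⟩` normalises `⟨c⟩` (order `2 ^ k`), has square in it and does not
centralise it, then some `x * c ^ i` has one of the four standard forms. -/
theorem standard_generator {c x : G} {k : ℕ} (hc : orderOf c = 2 ^ k) (hx2 : x ^ 2 ∈ zpowers c) {r : ℤ}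
    (hr : x * c * x⁻¹ = c ^ r) (hne : x * c * x⁻¹ ≠ c) :
    2 ≤ k ∧
      ((x * c * x⁻¹ = c⁻¹ ∧ ∃ i : ℤ, (x * c ^ i) ^ 2 = 1 ∨ (x * c ^ i) ^ 2 = c ^ 2 ^ (k - 1)) ∨
      (3 ≤ k ∧ ((2 : ℤ) ^ k ∣ r + 1 - 2 ^ (k - 1)) ∧ ∃ i : ℤ, (x * c ^ i) ^ 2 = 1) ∨
      (3 ≤ k ∧ ((2 : ℤ) ^ k ∣ r - 1 - 2 ^ (k - 1)) ∧ ∃ i : ℤ, (x * c ^ i) ^ 2 = 1)) := by
  have hk' : ((2 ^ k : ℕ) : ℤ) = (2 : ℤ) ^ k := by push_cast; rfl
  have hne' : ¬ (2 : ℤ) ^ k ∣ r - 1 := fun h => hne <| by
    refine hr.trans (Eq.trans ?_ (zpow_one c))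
    rw [eq_comm, zpow_eq_zpow_iff_dvd hc, hk']
    exact h
  obtain ⟨s, hs⟩ := Subgroup.mem_zpowers_iff.mp hx2
  have hrr : (2 : ℤ) ^ k ∣ r * r - 1 := by
    have h1 := conj_pow_of_conj_eq_zpow hr 2
    rw [← hs, show c ^ s * c * (c ^ s)⁻¹ = c ^ (1 : ℤ) by group, zpow_eq_zpow_iff_dvd hc, hk', sq r] at h1
    exact h1
  have hsr : (2 : ℤ) ^ k ∣ r * s - s := by
    have h1 : x * c ^ s * x⁻¹ = c ^ s := by rw [hs]; group
    rw [← conj_zpow, hr, ← zpow_mul, eq_comm, zpow_eq_zpow_iff_dvd hc, hk'] at h1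
    exact h1
  have hk1 : 1 ≤ k := by
    by_contra h
    apply hne'
    rw [show k = 0 by omega]; simp
  have hsq : ∀ i : ℤ, (2 : ℤ) ^ k ∣ r * i + s + i → (x * c ^ i) ^ 2 = 1 := fun i hi => by
    rw [sq_mul_zpow hr hs.symm, zpow_eq_one_iff_dvd hc, hk']; exact hi
  have hk2 : 2 ≤ k := by
    by_contra h
    obtain rfl : k = 1 := by omega
    apply hne'
    rcases sq_one_mod_two_pow le_rfl hrr with h1 | h1 | ⟨h3, -⟩
    · rw [pow_one] at h1 ⊢; omega
    · exact h1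
    · omega
  refine ⟨hk2, ?_⟩
  obtain ⟨K, hK⟩ : ∃ K : ℤ, (2 : ℤ) ^ (k - 1) = K := ⟨_, rfl⟩
  have hkK : (2 : ℤ) ^ k = 2 * K := by rw [← hK, ← pow_succ', Nat.sub_add_cancel hk1]
  rcases sq_one_mod_two_pow hk1 hrr with h1 | h1 | ⟨h3, h1 | h1⟩
  · refine Or.inl ⟨?_, 0, ?_⟩
    · rw [hr, ← zpow_neg_one, zpow_eq_zpow_iff_dvd hc, hk']
      rw [show -1 - r = -(r + 1) by ring, dvd_neg]; exact h1
    · obtain ⟨t, ht⟩ : K ∣ s := by
        have : (2 : ℤ) ^ k ∣ 2 * s := by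
          have := dvd_sub (dvd_mul_of_dvd_left h1 s) hsr
          rwa [show (r + 1) * s - (r * s - s) = 2 * s by ring] at this
        rw [hkK] at this
        exact Int.dvd_of_mul_dvd_mul_left (by norm_num) this
      rcases Int.even_or_odd' t with ⟨u, rfl | rfl⟩
      · exact Or.inl (hsq 0 ⟨u, by rw [hkK, ht]; ring⟩)
      · right
        rw [zpow_zero, mul_one, ← hs, ← zpow_natCast, zpow_eq_zpow_iff_dvd hc, hk']
        refine ⟨-u, ?_⟩
        push_cast
        rw [hK, hkK, ht]; ring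
  · exact absurd h1 hne'
  · refine Or.inr (Or.inl ⟨h3, hK.symm ▸ h1, ?_⟩)
    obtain ⟨a, ha⟩ := h1
    obtain ⟨l, rfl⟩ : ∃ l, k = l + 3 := ⟨k - 3, by omega⟩
    rw [show l + 3 - 1 = l + 2 by omega] at hK ha
    rw [hK, hkK] at ha
    obtain ⟨b, hb⟩ := hsr
    rw [hkK] at hb
    have hK2 : K = 4 * 2 ^ l := by rw [← hK]; ring
    have hr' : r = 2 * K * a + K - 1 := by linarith
    -- `s` is a multiple of `K`
    have hs2 : K ∣ s := by
      have h2 : 2 * K ∣ 2 * (s * (2 * (2 ^ l * (2 * a + 1)) - 1)) := ⟨b, by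
        rw [← hb, hr', hK2]; ring⟩
      exact (IsCoprime.dvd_of_dvd_mul_right (z := 2 * (2 ^ l * (2 * a + 1)) - 1) (by
        rw [← hK]; exact IsCoprime.pow_left ⟨2 ^ l * (2 * a + 1), -1, by ring⟩)
        (Int.dvd_of_mul_dvd_mul_left (by norm_num) h2))
    obtain ⟨t, rfl⟩ := hs2
    rcases Int.even_or_odd' t with ⟨u, rfl | rfl⟩
    · exact ⟨0, hsq 0 ⟨u, by rw [hkK]; ring⟩⟩
    · exact ⟨1, hsq 1 ⟨a + u + 1, by rw [hr', hkK]; ring⟩⟩
  · refine Or.inr (Or.inr ⟨h3, hK.symm ▸ h1, ?_⟩)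
    obtain ⟨a, ha⟩ := h1
    obtain ⟨l, rfl⟩ : ∃ l, k = l + 3 := ⟨k - 3, by omega⟩
    rw [show l + 3 - 1 = l + 2 by omega] at hK ha
    rw [hK, hkK] at ha
    obtain ⟨b, hb⟩ := hsr
    rw [hkK] at hb
    have hK2 : K = 4 * 2 ^ l := by rw [← hK]; ring
    have hr' : r = 2 * K * a + K + 1 := by linarith
    obtain ⟨t, rfl⟩ : 2 ∣ s := by
      have h2 : K * 2 ∣ K * s := ⟨b - s * a, by rw [hr'] at hb; linear_combination hb⟩
      exact Int.dvd_of_mul_dvd_mul_left (by rw [hK2]; positivity) h2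
    refine ⟨-t * (2 * 2 ^ l + 1), hsq _ ⟨-(t * (a * (2 * 2 ^ l + 1))) - t * (2 ^ l + 1), ?_⟩⟩
    rw [hr', hkK, hK2]
    ring

/-- A 2-group all of whose normal abelian subgroups are cyclic is cyclic, dihedral of order at least 16,
generalised quaternion, or semidihedral, given here by generators. -/
theorem structure_of_normal_abelian_cyclic [Finite G] (hG : IsPGroup 2 G) (hnc : ¬ IsCyclic G)
    (hn : ∀ A : Subgroup G, A.Normal → IsMulCommutative A → IsCyclic A) :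
    ∃ (k : ℕ) (c y : G), orderOf c = 2 ^ k ∧ Nat.card G = 2 ^ (k + 1) ∧ y ∉ zpowers c ∧
      ((3 ≤ k ∧ y * c * y⁻¹ = c⁻¹ ∧ y ^ 2 = 1) ∨
        (2 ≤ k ∧ y * c * y⁻¹ = c⁻¹ ∧ y ^ 2 = c ^ 2 ^ (k - 1)) ∨
        (3 ≤ k ∧ y * c * y⁻¹ = c ^ (2 ^ (k - 1) - 1) ∧ y ^ 2 = 1)) := by
  haveI : Fact (Nat.Prime 2) := ⟨Nat.prime_two⟩
  obtain ⟨A, hAn, hA, -, hmax⟩ := exists_maximal_normal_abelian (⊥ : Subgroup G)
    (isMulCommutative_of_comm fun x hx y hy => by
      rw [Subgroup.mem_bot.mp hx, Subgroup.mem_bot.mp hy])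
  obtain ⟨c, rfl⟩ := A.isCyclic_iff_exists_zpowers_eq_top.mp (hn A hAn hA)
  haveI := hAn
  have hCA := centralizer_eq_self hG hA hmax
  obtain ⟨k, hk⟩ := IsPGroup.iff_orderOf.mp hG c
  have hk' : ((2 ^ k : ℕ) : ℤ) = (2 : ℤ) ^ k := by push_cast; rfl
  have hmem : ∀ g : G, g * c * g⁻¹ = c → g ∈ zpowers c := fun g hg => by
    rw [← hCA, Subgroup.mem_centralizer_iff]
    rintro _ ⟨i, rfl⟩
    have h1 : Commute g c := mul_inv_eq_iff_eq_mul.mp hg
    exact (h1.zpow_right i).eq.symm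
  have hAtop : zpowers c ≠ ⊤ := fun h => hnc ⟨⟨c, fun x => Subgroup.mem_zpowers_iff.mp (h ▸ mem_top x)⟩⟩
  obtain ⟨x₀, hx₀⟩ : ∃ x, x ∉ zpowers c := by
    by_contra hall; push Not at hall; exact hAtop (eq_top_iff.mpr fun y _ => hall y)
  have hk2 : 2 ≤ k := by
    by_contra h
    apply hx₀
    apply hmem
    obtain ⟨r, hr⟩ := exists_conj_eq_zpow hAn x₀
    rcases Nat.le_one_iff_eq_zero_or_eq_one.mp (by omega : k ≤ 1) with rfl | rfl
    · rw [pow_zero, orderOf_eq_one_iff] at hk; rw [hk]; group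
    · have hc : c ∈ center G := le_center_of_card_eq hG _ (by rw [Nat.card_zpowers, hk, pow_one]) (mem_zpowers c)
      rw [Subgroup.mem_center_iff.mp hc x₀, mul_inv_cancel_right]
  have hodd : ∀ (g : G) (r : ℤ), g * c * g⁻¹ = c ^ r → ¬ (2 : ℤ) ∣ r := by
    rintro g r hr ⟨t, rfl⟩
    have h1 : (c ^ ((2 : ℤ) ^ (k - 1))) = 1 := by
      have h2 : g * c ^ ((2 : ℤ) ^ (k - 1)) * g⁻¹ = 1 := by
        rw [← conj_zpow, hr, ← zpow_mul, zpow_eq_one_iff_dvd hk, hk']
        refine ⟨t, ?_⟩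
        nth_rw 2 [show k = (k - 1) + 1 by omega]
        rw [pow_succ]; ring
      calc c ^ ((2 : ℤ) ^ (k - 1)) = g⁻¹ * (g * c ^ ((2 : ℤ) ^ (k - 1)) * g⁻¹) * g := by group
        _ = 1 := by rw [h2]; group
    rw [zpow_eq_one_iff_dvd hk] at h1
    have h3 : 2 ^ k ∣ 2 ^ (k - 1) := Int.natCast_dvd_natCast.mp (by exact_mod_cast h1)
    exact absurd ((Nat.pow_dvd_pow_iff_le_right one_lt_two).mp h3) (by omega)
  have hcomm : ∀ g h : G, ⁅g, h⁆ ∈ zpowers c := fun g h => by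
    apply hmem
    obtain ⟨r, hr⟩ := exists_conj_eq_zpow hAn g
    obtain ⟨r', hr'⟩ := exists_conj_eq_zpow hAn g⁻¹
    obtain ⟨s, hs⟩ := exists_conj_eq_zpow hAn h
    obtain ⟨s', hs'⟩ := exists_conj_eq_zpow hAn h⁻¹
    have e1 : c ^ (r' * r) = c := by
      rw [mul_comm, zpow_mul, ← hr, conj_zpow, ← hr']; group
    have e2 : c ^ (s' * s) = c := by
      rw [mul_comm, zpow_mul, ← hs, conj_zpow, ← hs']; group
    calc ⁅g, h⁆ * c * ⁅g, h⁆⁻¹ = g * (h * (g⁻¹ * (h⁻¹ * c * (h⁻¹)⁻¹) * (g⁻¹)⁻¹) * h⁻¹) * g⁻¹ := by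
          rw [commutatorElement_def]; group
      _ = c ^ ((r' * r) * (s' * s)) := by
          rw [hs', ← conj_zpow, hr', ← zpow_mul, ← conj_zpow, hs, ← zpow_mul, ← conj_zpow, hr, ← zpow_mul]
          ring_nf
      _ = c := by rw [zpow_mul, e1, e2]
  -- every element with square in `⟨c⟩` acts as one of the two inverting maps
  have hthree : ∀ x : G, x ∉ zpowers c → x ^ 2 ∈ zpowers c → ∀ r : ℤ, x * c * x⁻¹ = c ^ r →
      (4 : ℤ) ∣ r + 1 ∧
        ((x * c * x⁻¹ = c⁻¹ ∧ ∃ i : ℤ, (x * c ^ i) ^ 2 = 1 ∨ (x * c ^ i) ^ 2 = c ^ 2 ^ (k - 1)) ∨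
        (3 ≤ k ∧ ((2 : ℤ) ^ k ∣ r + 1 - 2 ^ (k - 1)) ∧ ∃ i : ℤ, (x * c ^ i) ^ 2 = 1)) := by
    intro x hx hx2 r hr
    have h4 : (4 : ℤ) ∣ 2 ^ k := ⟨2 ^ (k - 2), by
      nth_rw 1 [show k = 2 + (k - 2) by omega]; rw [pow_add]; ring⟩
    rcases (standard_generator hk hx2 hr (fun h => hx (hmem x h))).2 with
      ⟨h1, h2⟩ | ⟨h3, h1, h2⟩ | ⟨h3, h1, i, h2⟩
    · refine ⟨?_, Or.inl ⟨h1, h2⟩⟩
      have h5 := hr.symm.trans h1
      rw [← zpow_neg_one, zpow_eq_zpow_iff_dvd hk, hk', show -1 - r = -(r + 1) by ring, dvd_neg] at h5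
      exact h4.trans h5
    · refine ⟨?_, Or.inr ⟨h3, h1, h2⟩⟩
      have h5 : (4 : ℤ) ∣ 2 ^ (k - 1) := ⟨2 ^ (k - 3), by
        nth_rw 1 [show k - 1 = 2 + (k - 3) by omega]; rw [pow_add]; ring⟩
      have := dvd_add (h4.trans h1) h5
      rwa [sub_add_cancel] at this
    · exfalso
      set y := x * c ^ i with hy
      set z := c ^ ((2 : ℤ) ^ (k - 1)) with hz
      have hyc : y * c * y⁻¹ = c ^ r := by rw [hy, ← hr]; group
      have hyA : y ∉ zpowers c := fun hmem' => hx (by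
        have := mul_mem hmem' (inv_mem (zpow_mem_zpowers c i)); rwa [hy, mul_inv_cancel_right] at this)
      have hz2 : z ^ 2 = 1 := by
        rw [hz, ← zpow_natCast, ← zpow_mul, zpow_eq_one_iff_dvd hk, hk']
        refine ⟨1, ?_⟩
        push_cast
        rw [← pow_succ, Nat.sub_add_cancel (by omega), mul_one]
      have hz1 : z ≠ 1 := fun h => by
        rw [hz, zpow_eq_one_iff_dvd hk] at h
        have h6 : 2 ^ k ∣ 2 ^ (k - 1) := Int.natCast_dvd_natCast.mp (by exact_mod_cast h)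
        exact absurd ((Nat.pow_dvd_pow_iff_le_right one_lt_two).mp h6) (by omega)
      have hzc : ∀ g : G, g * z * g⁻¹ = z := fun g => by
        obtain ⟨e, he⟩ := exists_conj_eq_zpow hAn g
        rw [hz, ← conj_zpow, he, ← zpow_mul, zpow_eq_zpow_iff_dvd hk, hk']
        obtain ⟨t, ht | ht⟩ : ∃ t, e = 2 * t ∨ e = 2 * t + 1 := ⟨e / 2, by omega⟩
        · exact absurd ⟨t, ht⟩ (hodd g e he)
        · refine ⟨-t, ?_⟩
          nth_rw 3 [show k = (k - 1) + 1 by omega]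
          rw [ht, pow_succ]; ring
      let V : Subgroup G := zpowers z ⊔ zpowers y
      have hVab : IsMulCommutative V := isMulCommutative_sup_zpowers inferInstance (by
        refine Subgroup.mem_centralizer_iff.mpr ?_
        rintro _ ⟨j, rfl⟩
        exact ((show Commute z y from (mul_inv_eq_iff_eq_mul.mp (hzc y)).symm).zpow_left j).eq)
      have hVn : V.Normal := by
        have hgen : ∀ g : G, (V.map (MulAut.conj g).toMonoidHom) ≤ V := fun g => by
          rw [Subgroup.map_sup, MonoidHom.map_zpowers, MonoidHom.map_zpowers]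
          refine sup_le (zpowers_le.mpr ?_) (zpowers_le.mpr ?_)
          · show g * z * g⁻¹ ∈ V
            rw [hzc g]; exact Subgroup.mem_sup_left (mem_zpowers z)
          · show g * y * g⁻¹ ∈ V
            obtain ⟨j, hj⟩ := Subgroup.mem_zpowers_iff.mp (hcomm g y)
            have hgy : g * y * g⁻¹ = c ^ j * y := by rw [hj, commutatorElement_def]; group
            have hsq : (c ^ j * y) ^ 2 = 1 := by rw [← hgy, conj_pow, h2, mul_one, mul_inv_cancel]
            have hsq' : c ^ (j + r * j) = 1 := by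
              have : (c ^ j * y) ^ 2 = c ^ j * (y * c ^ j * y⁻¹) * y ^ 2 := by rw [sq, sq]; group
              rw [this, ← conj_zpow, hyc, ← zpow_mul, h2, mul_one, ← zpow_add] at hsq
              exact hsq
            rw [zpow_eq_one_iff_dvd hk, hk'] at hsq'
            obtain ⟨a, ha⟩ := h1
            obtain ⟨b, hb⟩ := hsq'
            obtain ⟨l, rfl⟩ : ∃ l, k = l + 3 := ⟨k - 3, by omega⟩
            rw [show l + 3 - 1 = l + 2 by omega] at ha hz
            obtain ⟨t, rfl⟩ : (2 : ℤ) ^ (l + 2) ∣ j := by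
              refine IsCoprime.dvd_of_dvd_mul_right (z := 2 * (2 ^ l * (2 * a + 1)) + 1)
                (IsCoprime.pow_left ⟨-(2 ^ l * (2 * a + 1)), 1, by ring⟩) ⟨b, ?_⟩
              have hr'' : r = 2 ^ (l + 3) * a + 2 ^ (l + 2) + 1 := by linarith
              apply mul_left_cancel₀ (two_ne_zero (α := ℤ))
              rw [hr''] at hb
              linear_combination hb
            rw [hgy, zpow_mul, ← hz]
            exact mul_mem (Subgroup.mem_sup_left (zpow_mem_zpowers z t)) (Subgroup.mem_sup_right (mem_zpowers y))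
        exact ⟨fun v hv g => hgen g ⟨v, hv, rfl⟩⟩
      have hy1 : y ≠ 1 := fun h => hyA (h ▸ one_mem _)
      have := eq_of_sq_eq_one (hn V hVn hVab) (Subgroup.mem_sup_left (mem_zpowers z))
        (Subgroup.mem_sup_right (mem_zpowers y)) hz2 h2 hz1 hy1
      exact hyA (this ▸ zpow_mem_zpowers c _)
  have hsq : ∀ g : G, g ^ 2 ∈ zpowers c := by
    intro g
    by_contra hg
    have hex : ∃ j, g ^ 2 ^ j ∈ zpowers c := by
      obtain ⟨m, hm⟩ := IsPGroup.iff_orderOf.mp hG g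
      exact ⟨m, by rw [← hm, pow_orderOf_eq_one]; exact one_mem _⟩
    have hmin := Nat.find_spec hex
    have hj2 : 2 ≤ Nat.find hex := by
      by_contra h
      apply hg
      rcases Nat.le_one_iff_eq_zero_or_eq_one.mp (by omega : Nat.find hex ≤ 1) with h0 | h0 <;> rw [h0] at hmin
      · rw [pow_zero, pow_one] at hmin; exact pow_mem hmin 2
      · rwa [pow_one] at hmin
    obtain ⟨j, hj⟩ : ∃ j, Nat.find hex = j + 2 := ⟨_, (Nat.sub_add_cancel hj2).symm⟩
    rw [hj] at hmin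
    have hnot := Nat.find_min hex (m := j + 1) (by omega)
    obtain ⟨r, hr⟩ := exists_conj_eq_zpow hAn (g ^ 2 ^ j)
    have hr2 := conj_pow_of_conj_eq_zpow hr 2
    rw [← pow_mul, ← pow_succ] at hr2
    have h4 := (hthree _ hnot (by rw [← pow_mul, ← pow_succ]; exact hmin) _ hr2).1
    obtain ⟨t, ht | ht⟩ : ∃ t, r = 2 * t ∨ r = 2 * t + 1 := ⟨r / 2, by omega⟩
    · exact hodd _ r hr ⟨t, ht⟩
    · rw [ht, show (2 * t + 1) ^ 2 + 1 = 4 * (t * t + t) + 2 by ring] at h4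
      omega
  have hmul : ∀ g h : G, g ∉ zpowers c → h ∉ zpowers c → g * h ∈ zpowers c := by
    intro g h hg hh
    by_contra hgh
    obtain ⟨r, hr⟩ := exists_conj_eq_zpow hAn g
    obtain ⟨s, hs⟩ := exists_conj_eq_zpow hAn h
    have hrs : g * h * c * (g * h)⁻¹ = c ^ (r * s) := by
      rw [show g * h * c * (g * h)⁻¹ = g * (h * c * h⁻¹) * g⁻¹ by group, hs, ← conj_zpow, hr, ← zpow_mul]
    obtain ⟨a, ha⟩ := (hthree g hg (hsq g) r hr).1
    obtain ⟨b, hb⟩ := (hthree h hh (hsq h) s hs).1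
    obtain ⟨e, he⟩ := (hthree _ hgh (hsq _) _ hrs).1
    have hr' : r = 4 * a - 1 := by linarith
    have hs' : s = 4 * b - 1 := by linarith
    rw [hr', hs', show (4 * a - 1) * (4 * b - 1) = 4 * (4 * a * b - a - b) + 1 by ring] at he
    omega
  have hidx : (zpowers c).index = 2 := by
    refine Subgroup.index_eq_two_iff.mpr ⟨x₀, fun b => ?_⟩
    by_cases hb : b ∈ zpowers c
    · exact Or.inr ⟨hb, fun h => hx₀ ((mul_mem_cancel_left hb).mp h)⟩
    · exact Or.inl ⟨hmul b x₀ hb hx₀, hb⟩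
  have hcard : Nat.card G = 2 ^ (k + 1) := by
    rw [← (zpowers c).card_mul_index, hidx, Nat.card_zpowers, hk, pow_succ]
  obtain ⟨r, hr⟩ := exists_conj_eq_zpow hAn x₀
  have hy : ∀ i : ℤ, x₀ * c ^ i ∉ zpowers c := fun i h =>
    hx₀ ((mul_mem_cancel_right (zpow_mem_zpowers c i)).mp h)
  have hyc : ∀ i : ℤ, x₀ * c ^ i * c * (x₀ * c ^ i)⁻¹ = x₀ * c * x₀⁻¹ := fun i => by group
  refine ⟨k, c, ?_⟩
  rcases (hthree x₀ hx₀ (hsq x₀) r hr).2 with ⟨h1, i, h2 | h2⟩ | ⟨h3, h1, i, h2⟩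
  · rcases hk2.lt_or_eq with hk3 | hk3
    · exact ⟨x₀ * c ^ i, hk, hcard, hy i, Or.inl ⟨hk3, (hyc i).trans h1, h2⟩⟩
    · -- the dihedral group of order 8 has a normal four group
      exfalso
      subst hk3
      set y := x₀ * c ^ i with hydef
      have hc2 : (c ^ 2) ^ 2 = 1 := by
        rw [← pow_mul]; exact orderOf_dvd_iff_pow_eq_one.mp (by rw [hk]; norm_num)
      have hconj : y * c * y⁻¹ = c⁻¹ := (hyc i).trans h1
      have hcy : Commute (c ^ 2) y := by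
        have h4 : y * c ^ 2 * y⁻¹ = c ^ 2 := by
          rw [← conj_pow, hconj, inv_pow, inv_eq_iff_mul_eq_one, ← sq, hc2]
        exact (mul_inv_eq_iff_eq_mul.mp h4).symm
      let V : Subgroup G := zpowers (c ^ 2) ⊔ zpowers y
      have hVab : IsMulCommutative V := isMulCommutative_sup_zpowers inferInstance (by
        refine Subgroup.mem_centralizer_iff.mpr ?_
        rintro _ ⟨j, rfl⟩
        exact (hcy.zpow_left j).eq)
      have hne : c ^ 2 ≠ 1 := fun h => by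
        have := orderOf_le_of_pow_eq_one two_pos h
        rw [hk] at this; norm_num at this
      have hyn : y ∉ zpowers c := hy i
      have hy1 : y ≠ 1 := fun h => hyn (h ▸ one_mem _)
      have hyy : c ^ 2 ≠ y := fun h => hyn (h ▸ pow_mem (mem_zpowers c) 2)
      haveI : (zpowers (c ^ 2)).Normal := by
        refine ⟨fun v hv g => ?_⟩
        obtain ⟨j, rfl⟩ := Subgroup.mem_zpowers_iff.mp hv
        obtain ⟨e, he⟩ := exists_conj_eq_zpow hAn g
        rw [← conj_zpow, ← conj_pow, he]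
        have h8 : (c ^ e) ^ 2 ∈ zpowers (c ^ 2) := by
          exact ⟨e, show (c ^ 2) ^ e = (c ^ e) ^ 2 by group⟩
        exact zpow_mem h8 j
      have hV4 : Nat.card V = 2 * 2 := by
        have h5 : y ∉ zpowers (c ^ 2) := fun h =>
          hy i (Subgroup.zpowers_le.mpr (pow_mem (mem_zpowers c) 2) h)
        have h6 := card_sup_zpowers (p := 2) (zpowers (c ^ 2)) h5 (h2.symm ▸ one_mem _)
        rwa [Nat.card_zpowers, orderOf_eq_prime hc2 hne] at h6
      have hVn : V.Normal := normal_of_index_eq (p := 2) hG (by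
        have h7 := V.card_mul_index
        rw [hV4, hcard] at h7
        norm_num at h7
        omega)
      exact hyy (eq_of_sq_eq_one (hn V hVn hVab) (Subgroup.mem_sup_left (mem_zpowers _))
        (Subgroup.mem_sup_right (mem_zpowers y)) hc2 h2 hne hy1)
  · exact ⟨x₀ * c ^ i, hk, hcard, hy i, Or.inr (Or.inl ⟨hk2, (hyc i).trans h1, h2⟩)⟩
  · refine ⟨x₀ * c ^ i, hk, hcard, hy i, Or.inr (Or.inr ⟨h3, ?_, h2⟩)⟩
    rw [hyc i, hr, ← zpow_natCast, zpow_eq_zpow_iff_dvd hk, hk', Nat.cast_sub (Nat.one_le_two_pow)]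
    push_cast
    rw [show (2 : ℤ) ^ (k - 1) - 1 - r = -(r + 1 - 2 ^ (k - 1)) by ring, dvd_neg]
    exact h1

/-- The structure theorem up to isomorphism. -/
theorem isQuaternion_or_isDihedral_or_isQuasiDihedral [Finite G] (hG : IsPGroup 2 G) (hnc : ¬ IsCyclic G)
    (hn : ∀ A : Subgroup G, A.Normal → IsMulCommutative A → IsCyclic A) :
    (∃ n : ℕ, 1 ≤ n ∧ Nonempty (G ≃* QuaternionGroup (2 ^ n))) ∨
      (∃ n : ℕ, 3 ≤ n ∧ Nonempty (G ≃* DihedralGroup (2 ^ n))) ∨ Cfsg.IsQuasiDihedral G := by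
  obtain ⟨k, c, y, hc, hcard, hy, ⟨h1, h2, h3⟩ | ⟨h1, h2, h3⟩ | ⟨h1, h2, h3⟩⟩ :=
    structure_of_normal_abelian_cyclic hG hnc hn
  · haveI : NeZero (2 ^ k) := ⟨by positivity⟩
    exact Or.inr (Or.inl ⟨k, h1, nonempty_mulEquiv_dihedral hc hy h3 h2 (by rw [hcard, pow_succ']) ⟩)
  · obtain ⟨l, rfl⟩ : ∃ l, k = l + 1 := ⟨k - 1, by omega⟩
    haveI : NeZero (2 ^ l) := ⟨by positivity⟩
    rw [Nat.add_sub_cancel] at h3
    exact Or.inl ⟨l, by omega, nonempty_mulEquiv_quaternion (by rw [hc, pow_succ']) hy h3 h2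
      (by rw [hcard, pow_succ, pow_succ]; ring)⟩
  · refine Or.inr (Or.inr ⟨k, h1, hcard, c, y, hc, orderOf_eq_prime h3 fun h => hy (h ▸ one_mem _), h2⟩)

end Cfsg.Agent.PGroups
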