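import Cfsg.Agent.PGroups.MaxAbelian

/-!
Thompson's critical subgroup and its faithfulness for automorphisms of order prime to `p`.
-/

set_option autoImplicit false
set_option linter.style.haveILetI false

namespace Cfsg.Agent.PGroups

open Subgroup
open scoped commutatorElement

variable {G : Type*} [Group G] {p : ℕ} [hp : Fact p.Prime]

omit hp in
/-- A characteristic subgroup is preserved by every automorphism. -/
theorem apply_mem_iff_of_characteristic {H : Subgroup G} (hH : H.Characteristic) (φ : G ≃* G) {x : G} :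
    φ x ∈ H ↔ x ∈ H := by
  exact SetLike.ext_iff.mp (hH.fixed φ) x

omit hp in
/-- The intersection with the centraliser of a characteristic subgroup is characteristic. -/
theorem characteristic_inf_centralizer {H : Subgroup G} (hH : H.Characteristic) :
    (H ⊓ centralizer (H : Set G)).Characteristic := by
  rw [characteristic_iff_le_comap]
  intro φ x hx
  refine ⟨(apply_mem_iff_of_characteristic hH φ).mpr hx.1, Subgroup.mem_centralizer_iff.mpr fun h hh => ?_⟩
  have h1 := Subgroup.mem_centralizer_iff.mp hx.2 (φ.symm h)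
    ((apply_mem_iff_of_characteristic hH φ.symm).mpr hh)
  simpa using congrArg φ h1

omit hp in
theorem isMulCommutative_inf_centralizer (H : Subgroup G) :
    IsMulCommutative ↑(H ⊓ centralizer (H : Set G) : Subgroup G) :=
  isMulCommutative_of_comm fun x hx _ hy => Subgroup.mem_centralizer_iff.mp hy.2 x hx.1

/-- Thompson's critical subgroup exists. -/
theorem exists_critical [Finite G] (hG : IsPGroup p G) : ∃ H : Subgroup G, H.Characteristic ∧
    (frattini H).map H.subtype ≤ centralizer (H : Set G) ∧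
    ⁅H, (⊤ : Subgroup G)⁆ ≤ H ⊓ centralizer (H : Set G) ∧ centralizer (H : Set G) ≤ H := by
  obtain ⟨A, hA⟩ := (Set.toFinite {A : Subgroup G | A.Characteristic ∧ IsMulCommutative A}).exists_maximal
    ⟨⊥, inferInstance, isMulCommutative_of_comm fun x hx y hy => by
      rw [Subgroup.mem_bot.mp hx, Subgroup.mem_bot.mp hy]⟩
  obtain ⟨⟨hAc, hAab⟩, hmax⟩ := hA
  haveI := hAc
  let H : Subgroup G :=
    { carrier := {x | x ∈ centralizer (A : Set G) ∧ x ^ p ∈ A ∧ ∀ g : G, ⁅g, x⁆ ∈ A}
      one_mem' := ⟨one_mem _, by simp, fun g => by simp⟩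
      mul_mem' := by
        rintro x y ⟨hx1, hx2, hx3⟩ ⟨hy1, hy2, hy3⟩
        refine ⟨mul_mem hx1 hy1, ?_, fun g => ?_⟩
        · have hc : Commute (QuotientGroup.mk' A x) (QuotientGroup.mk' A y) := by
            rw [← commutatorElement_eq_one_iff_commute, ← map_commutatorElement]
            exact (QuotientGroup.eq_one_iff _).mpr (hy3 x)
          have h1 : QuotientGroup.mk' A ((x * y) ^ p) = 1 := by
            rw [map_pow, map_mul, hc.mul_pow, ← map_pow, ← map_pow, ← map_mul]
            exact (QuotientGroup.eq_one_iff _).mpr (mul_mem hx2 hy2)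
          exact (QuotientGroup.eq_one_iff _).mp h1
        · have : ⁅g, x * y⁆ = ⁅g, x⁆ * (x * ⁅g, y⁆ * x⁻¹) := by simp only [commutatorElement_def]; group
          rw [this]
          exact mul_mem (hx3 g) (Subgroup.Normal.conj_mem inferInstance _ (hy3 g) x)
      inv_mem' := by
        rintro x ⟨hx1, hx2, hx3⟩
        refine ⟨inv_mem hx1, by rw [inv_pow]; exact inv_mem hx2, fun g => ?_⟩
        have : ⁅g, x⁻¹⁆ = x⁻¹ * ⁅g, x⁆⁻¹ * x⁻¹⁻¹ := by simp only [commutatorElement_def]; group
        rw [this]
        exact Subgroup.Normal.conj_mem inferInstance _ (inv_mem (hx3 g)) x⁻¹ }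
  have hAC : A ≤ centralizer (A : Set G) := fun a ha =>
    Subgroup.mem_centralizer_iff.mpr fun g hg => comm_of_isMulCommutative hAab hg ha
  have hAH : A ≤ H := fun a ha => ⟨hAC ha, pow_mem ha p, fun g => by
    rw [commutatorElement_def]; exact mul_mem (Subgroup.Normal.conj_mem inferInstance a ha g) (inv_mem ha)⟩
  have hHc : H.Characteristic := by
    rw [characteristic_iff_le_comap]
    rintro φ x ⟨h1, h2, h3⟩
    refine ⟨Subgroup.mem_centralizer_iff.mpr fun a ha => ?_, ?_, fun g => ?_⟩
    · simpa using congrArg φ (Subgroup.mem_centralizer_iff.mp h1 (φ.symm a)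
        ((apply_mem_iff_of_characteristic hAc φ.symm).mpr ha))
    · have := (apply_mem_iff_of_characteristic hAc φ).mpr h2
      rwa [map_pow] at this
    · have h4 := (apply_mem_iff_of_characteristic hAc φ).mpr (h3 (φ.symm g))
      rw [map_commutatorElement, MulEquiv.apply_symm_apply] at h4
      exact h4
  haveI := hHc
  have hHA : H ≤ centralizer (A : Set G) := fun x hx => hx.1
  have hAZ : A ≤ H ⊓ centralizer (H : Set G) := fun a ha => ⟨hAH ha,
    Subgroup.mem_centralizer_iff.mpr fun h hh => (Subgroup.mem_centralizer_iff.mp (hHA hh) a ha).symm⟩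
  have hZA : H ⊓ centralizer (H : Set G) = A := le_antisymm
    (hmax ⟨characteristic_inf_centralizer hHc, isMulCommutative_inf_centralizer H⟩ hAZ) hAZ
  have hcomm : ⁅H, (⊤ : Subgroup G)⁆ ≤ A := commutator_le.mpr fun x hx g _ => by
    rw [← commutatorElement_inv]; exact inv_mem (hx.2.2 g)
  refine ⟨H, hHc, ?_, hZA.symm ▸ hcomm, ?_⟩
  · have hfr : frattini H ≤ A.subgroupOf H := by
      refine frattini_le_of_commutator_le (p := p) _ ?_ fun x => x.2.2.1
      rw [commutator_eq_closure, Subgroup.closure_le]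
      rintro _ ⟨a, b, rfl⟩
      exact b.2.2.2 a
    calc (frattini H).map H.subtype ≤ (A.subgroupOf H).map H.subtype := Subgroup.map_mono hfr
      _ ≤ A := by rw [Subgroup.subgroupOf_map_subtype]; exact inf_le_left
      _ ≤ centralizer (H : Set G) := hAZ.trans inf_le_right
  · intro x hx
    by_contra hxH
    let Q := centralizer (H : Set G)
    have hQA : Q ≤ centralizer (A : Set G) := Subgroup.centralizer_le hAH
    haveI : (Q.map (QuotientGroup.mk' A)).Normal :=
      Subgroup.Normal.map inferInstance _ (QuotientGroup.mk'_surjective A)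
    have hne : Q.map (QuotientGroup.mk' A) ≠ ⊥ := by
      intro h
      rw [Subgroup.map_eq_bot_iff, QuotientGroup.ker_mk'] at h
      exact hxH (hAH (h hx))
    obtain ⟨_, ⟨y, hyQ, rfl⟩, hzc, ho⟩ := exists_mem_center_orderOf_eq (hG.to_quotient A) _ hne
    have hyH : y ∈ H := by
      refine ⟨hQA hyQ, (QuotientGroup.eq_one_iff _).mp ?_, fun g => (QuotientGroup.eq_one_iff _).mp ?_⟩
      · change QuotientGroup.mk' A (y ^ p) = 1
        rw [map_pow, ← ho, pow_orderOf_eq_one]
      · change QuotientGroup.mk' A ⁅g, y⁆ = 1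
        rw [map_commutatorElement, commutatorElement_eq_one_iff_mul_comm]
        exact Subgroup.mem_center_iff.mp hzc _
    have hyA : y ∈ A := hZA ▸ ⟨hyH, hyQ⟩
    rw [show QuotientGroup.mk' A y = 1 from (QuotientGroup.eq_one_iff y).mpr hyA, orderOf_one] at ho
    exact hp.out.one_lt.ne ho

/-- An automorphism of order prime to `p` of a finite `p`-group fixing pointwise a normal subgroup
containing its centraliser is trivial. -/
theorem mulAut_eq_one_of_fixed [Finite G] (hG : IsPGroup p G) (H : Subgroup G) [H.Normal]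
    (hC : centralizer (H : Set G) ≤ H) (a : MulAut G) (ha : Nat.Coprime (orderOf a) p)
    (h : ∀ x ∈ H, a x = x) : a = 1 := by
  refine MulEquiv.ext fun g => ?_
  have hz : g⁻¹ * a g ∈ centralizer (H : Set G) := by
    refine Subgroup.mem_centralizer_iff.mpr fun x hx => ?_
    have h1 := h _ (Subgroup.Normal.conj_mem ‹_› x hx g)
    rw [map_mul, map_mul, map_inv, h x hx] at h1
    calc x * (g⁻¹ * a g) = g⁻¹ * (g * x * g⁻¹) * a g := by group
      _ = g⁻¹ * a g * x := by rw [← h1]; group
  have hfix := h _ (hC hz)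
  have hiter : ∀ n : ℕ, (a ^ n) g = g * (g⁻¹ * a g) ^ n := by
    intro n
    induction n with
    | zero => simp
    | succ n ih =>
      rw [pow_succ' a, MulAut.mul_apply, ih, map_mul, map_pow, hfix, pow_succ' (g⁻¹ * a g), ← mul_assoc g,
        mul_inv_cancel_left]
  have h1 := hiter (orderOf a)
  rw [pow_orderOf_eq_one, MulAut.one_apply, left_eq_mul] at h1
  have h2 : orderOf (g⁻¹ * a g) ∣ orderOf a := orderOf_dvd_of_pow_eq_one h1
  obtain ⟨k, hk⟩ := IsPGroup.iff_orderOf.mp hG (g⁻¹ * a g)
  have h3 : orderOf (g⁻¹ * a g) = 1 := by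
    refine Nat.eq_one_of_dvd_coprimes ?_ h2 (hk ▸ dvd_rfl : orderOf (g⁻¹ * a g) ∣ p ^ k)
    exact Nat.Coprime.pow_right k ha
  rw [orderOf_eq_one_iff, inv_mul_eq_one] at h3
  rw [MulAut.one_apply]
  exact h3.symm

end Cfsg.Agent.PGroups
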