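import Cfsg.Agent.PGroups.Basic

/-!
Burnside's basis theorem and the bound on homomorphisms out of a `p`-group.
-/

set_option autoImplicit false
set_option linter.style.haveILetI false

namespace Cfsg.Agent.PGroups

open Subgroup

variable {G : Type*} [Group G] {p : ℕ} [hp : Fact p.Prime]

omit hp in
/-- The order of the preimage of a subgroup of a quotient. -/
theorem card_comap_mk' [Finite G] (N : Subgroup G) [N.Normal] (K : Subgroup (G ⧸ N)) :
    Nat.card (K.comap (QuotientGroup.mk' N)) = Nat.card N * Nat.card K := by
  have e1 := Subgroup.card_mul_index (K.comap (QuotientGroup.mk' N))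
  rw [Subgroup.index_comap_of_surjective _ (QuotientGroup.mk'_surjective N)] at e1
  have e2 := Subgroup.card_mul_index N
  rw [Subgroup.index_eq_card] at e2
  rw [← Subgroup.card_mul_index K, ← mul_assoc] at e2
  exact Nat.eq_of_mul_eq_mul_right (Nat.pos_of_ne_zero Subgroup.index_ne_zero_of_finite)
    (e1.trans e2.symm)

/-- Adjoining an element whose `p`-th power lies in the normal subgroup `H` multiplies the order by
`1` or `p`. -/
theorem card_sup_zpowers [Finite G] (H : Subgroup G) [H.Normal] {x : G} (hx : x ∉ H)
    (hxp : x ^ p ∈ H) : Nat.card ↑(H ⊔ zpowers x : Subgroup G) = p * Nat.card H := by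
  have ho : orderOf (QuotientGroup.mk' H x) = p := by
    refine orderOf_eq_prime ?_ ?_
    · rw [← map_pow]; exact (QuotientGroup.eq_one_iff _).mpr hxp
    · exact fun h => hx ((QuotientGroup.eq_one_iff _).mp h)
  have : H ⊔ zpowers x = (zpowers (QuotientGroup.mk' H x)).comap (QuotientGroup.mk' H) := by
    rw [← MonoidHom.map_zpowers, Subgroup.comap_map_eq, QuotientGroup.ker_mk', sup_comm]
  rw [this, card_comap_mk', Nat.card_zpowers, ho, mul_comm]

/-- A subgroup generated by a set and the Frattini subgroup is normal. -/
theorem normal_closure_sup_frattini [Finite G] (hG : IsPGroup p G) (K : Subgroup G) :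
    (K ⊔ frattini G).Normal :=
  Subgroup.Normal.of_commutator_le G ((commutator_le_frattini hG).trans le_sup_right)

/-- Adjoining `k` elements to the Frattini subgroup multiplies its order by at most `p ^ k`, and every
set contains a subset attaining this with the same span. -/
theorem exists_basis_aux [Finite G] (hG : IsPGroup p G) (S : Finset G) :
    Nat.card ↑(Subgroup.closure (S : Set G) ⊔ frattini G : Subgroup G) ≤ p ^ S.card * Nat.card (frattini G) ∧
      ∃ T : Finset G, T ⊆ S ∧
        Nat.card ↑(Subgroup.closure (T : Set G) ⊔ frattini G : Subgroup G) = p ^ T.card * Nat.card (frattini G) ∧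
        Subgroup.closure (S : Set G) ⊔ frattini G = Subgroup.closure (T : Set G) ⊔ frattini G := by
  classical
  induction S using Finset.induction with
  | empty => exact ⟨by simp, ∅, subset_rfl, by simp, rfl⟩
  | insert a S ha ih =>
    obtain ⟨hle, T, hT, hTc, hST⟩ := ih
    haveI := normal_closure_sup_frattini hG (Subgroup.closure (S : Set G))
    have hins : Subgroup.closure ((insert a S : Finset G) : Set G) ⊔ frattini G =
        (Subgroup.closure (S : Set G) ⊔ frattini G) ⊔ zpowers a := by
      rw [Finset.coe_insert, Set.insert_eq, Subgroup.closure_union, Subgroup.zpowers_eq_closure]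
      ac_rfl
    rw [Finset.card_insert_of_notMem ha, hins]
    by_cases hmem : a ∈ Subgroup.closure (S : Set G) ⊔ frattini G
    · rw [sup_eq_left.mpr (zpowers_le.mpr hmem)]
      refine ⟨hle.trans ?_, T, hT.trans (Finset.subset_insert _ _), hTc, hST⟩
      exact Nat.mul_le_mul_right _ (Nat.pow_le_pow_right hp.out.pos (Nat.le_succ _))
    · have hcard := card_sup_zpowers (p := p) _ hmem (Subgroup.mem_sup_right (pow_mem_frattini hG a))
      refine ⟨?_, insert a T, Finset.insert_subset_insert _ hT, ?_, ?_⟩
      · rw [hcard, pow_succ', mul_assoc]; exact Nat.mul_le_mul_left _ hle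
      · have haT : a ∉ T := fun h => ha (hT h)
        have he : Subgroup.closure ((insert a T : Finset G) : Set G) ⊔ frattini G =
            (Subgroup.closure (S : Set G) ⊔ frattini G) ⊔ zpowers a := by
          rw [hST, Finset.coe_insert, Set.insert_eq, Subgroup.closure_union, Subgroup.zpowers_eq_closure]
          ac_rfl
        rw [he, hcard, Finset.card_insert_of_notMem haT, hST, hTc, pow_succ']
        ring
      · rw [hST, Finset.coe_insert, Set.insert_eq, Subgroup.closure_union, Subgroup.zpowers_eq_closure]
        ac_rfl

/-- Burnside's basis theorem. -/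
theorem burnside_basis [Finite G] (hG : IsPGroup p G) {n : ℕ} (hn : (frattini G).index = p ^ n)
    {S : Finset G} (hS : Subgroup.closure (S : Set G) = ⊤) :
    n ≤ S.card ∧ ∃ T : Finset G, T ⊆ S ∧ T.card = n ∧ Subgroup.closure (T : Set G) = ⊤ := by
  obtain ⟨hle, T, hT, hTc, hST⟩ := exists_basis_aux hG S
  have hG' : Nat.card G = p ^ n * Nat.card (frattini G) := by
    rw [← hn, mul_comm, Subgroup.card_mul_index]
  rw [hS, top_sup_eq] at hle hST
  rw [Subgroup.card_top, hG'] at hle
  refine ⟨(Nat.pow_le_pow_iff_right hp.out.one_lt).mp (Nat.le_of_mul_le_mul_right hle Nat.card_pos), T, hT, ?_, ?_⟩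
  · rw [← hST, Subgroup.card_top, hG'] at hTc
    exact (Nat.pow_right_injective hp.out.two_le (Nat.eq_of_mul_eq_mul_right Nat.card_pos hTc)).symm
  · exact frattini_nongenerating hST.symm

/-- A finite `p`-group is generated by `n` elements when its Frattini quotient has order `p ^ n`. -/
theorem exists_generators [Finite G] (hG : IsPGroup p G) {n : ℕ} (hn : (frattini G).index = p ^ n) :
    ∃ T : Finset G, T.card = n ∧ Subgroup.closure (T : Set G) = ⊤ := by
  haveI := Fintype.ofFinite G
  obtain ⟨-, T, -, h⟩ := burnside_basis hG hn (S := Finset.univ) (by simp)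
  exact ⟨T, h⟩

/-- There are at most as many homomorphisms into a group of order `p` as there are cosets of the
Frattini subgroup. -/
theorem card_hom_le [Finite G] (hG : IsPGroup p G) {M : Type*} [Group M] (hM : Nat.card M = p) :
    Nat.card (G →* M) ≤ (frattini G).index := by
  haveI : Finite M := Nat.finite_of_card_ne_zero (hM ▸ hp.out.ne_zero)
  obtain ⟨n, hn⟩ := hG.index (frattini G)
  obtain ⟨T, hTc, hT⟩ := exists_generators hG hn
  have hinj : Function.Injective fun (f : G →* M) (t : T) => f t := fun f g h =>
    MonoidHom.eq_of_eqOn_dense hT fun t ht => congrFun h ⟨t, ht⟩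
  have := Nat.card_le_card_of_injective _ hinj
  rwa [Nat.card_fun, hM, Nat.card_eq_finsetCard, hTc, ← hn] at this

end Cfsg.Agent.PGroups
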