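import Cfsg.Agent.PGroups.Commutator
import Cfsg.Agent.PGroups.Burnside
import Mathlib.Data.Finset.Interval

/-!
Maximal normal abelian subgroups (self-centralising), the bound `|G| ≤ p^(a(a+1)/2)`, and Alperin's
theorem on maximal normal abelian subgroups of bounded exponent.
-/

set_option autoImplicit false
set_option linter.style.haveILetI false

namespace Cfsg.Agent.PGroups

open Subgroup
open scoped commutatorElement

variable {G : Type*} [Group G] {p : ℕ} [hp : Fact p.Prime]

omit hp in
theorem isMulCommutative_of_comm {H : Subgroup G} (h : ∀ x ∈ H, ∀ y ∈ H, x * y = y * x) :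
    IsMulCommutative H :=
  ⟨⟨fun x y => Subtype.ext (h x x.2 y y.2)⟩⟩

omit hp in
theorem comm_of_isMulCommutative {H : Subgroup G} (hH : IsMulCommutative H) {x y : G} (hx : x ∈ H)
    (hy : y ∈ H) : x * y = y * x :=
  congrArg Subtype.val (hH.is_comm.comm ⟨x, hx⟩ ⟨y, hy⟩)

omit hp in
/-- The join of an abelian subgroup and an element centralising it is abelian. -/
theorem isMulCommutative_sup_zpowers {A : Subgroup G} (hA : IsMulCommutative A) {x : G}
    (hx : x ∈ centralizer (A : Set G)) : IsMulCommutative ↑(A ⊔ zpowers x : Subgroup G) := by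
  have hle : A ⊔ zpowers x ≤ centralizer ((A : Set G) ∪ {x}) := by
    refine sup_le (fun a ha => ?_) (zpowers_le.mpr ?_)
    · refine Subgroup.mem_centralizer_iff.mpr ?_
      rintro g (hg | hg)
      · exact comm_of_isMulCommutative hA hg ha
      · rw [Set.mem_singleton_iff.mp hg]
        exact (Subgroup.mem_centralizer_iff.mp hx a ha).symm
    · refine Subgroup.mem_centralizer_iff.mpr ?_
      rintro g (hg | hg)
      · exact Subgroup.mem_centralizer_iff.mp hx g hg
      · rw [Set.mem_singleton_iff.mp hg]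
  have hle2 : A ⊔ zpowers x ≤ centralizer ((A ⊔ zpowers x : Subgroup G) : Set G) := by
    rw [Subgroup.le_centralizer_iff]
    refine sup_le ?_ (zpowers_le.mpr ?_)
    · intro a ha
      exact Subgroup.mem_centralizer_iff.mpr fun g hg =>
        (Subgroup.mem_centralizer_iff.mp (hle hg) a (Or.inl ha)).symm
    · exact Subgroup.mem_centralizer_iff.mpr fun g hg =>
        (Subgroup.mem_centralizer_iff.mp (hle hg) x (Or.inr rfl)).symm
  exact isMulCommutative_of_comm fun a ha b hb => Subgroup.mem_centralizer_iff.mp (hle2 hb) a ha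

omit hp in
/-- There is a maximal normal abelian subgroup above any given one. -/
theorem exists_maximal_normal_abelian [Finite G] (B : Subgroup G) [B.Normal] (hB : IsMulCommutative B) :
    ∃ A : Subgroup G, A.Normal ∧ IsMulCommutative A ∧ B ≤ A ∧
      ∀ C : Subgroup G, C.Normal → IsMulCommutative C → A ≤ C → C = A := by
  obtain ⟨A, hle, hA⟩ := (Set.toFinite {A : Subgroup G | A.Normal ∧ IsMulCommutative A}).exists_le_maximal
    (show B ∈ {A : Subgroup G | A.Normal ∧ IsMulCommutative A} from ⟨‹_›, hB⟩)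
  exact ⟨A, hA.1.1, hA.1.2, hle, fun C h1 h2 hAC => le_antisymm (hA.2 ⟨h1, h2⟩ hAC) hAC⟩

/-- In a finite `p`-group a maximal normal abelian subgroup is its own centraliser. -/
theorem centralizer_eq_self [Finite G] (hG : IsPGroup p G) {A : Subgroup G} [A.Normal]
    (hA : IsMulCommutative A) (hmax : ∀ B : Subgroup G, B.Normal → IsMulCommutative B → A ≤ B → B = A) :
    centralizer (A : Set G) = A := by
  have hle : A ≤ centralizer (A : Set G) := fun a ha =>
    Subgroup.mem_centralizer_iff.mpr fun g hg => comm_of_isMulCommutative hA hg ha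
  by_contra hne
  obtain ⟨M, hMn, hAM, hMC, hcard⟩ :=
    exists_normal_card_mul hG A (centralizer (A : Set G)) (lt_of_le_of_ne hle (Ne.symm hne))
  have hlt : A < M := lt_of_le_of_ne hAM fun h => by
    rw [← h] at hcard
    nlinarith [hp.out.two_le, (Nat.card_pos : 0 < Nat.card A)]
  obtain ⟨x, hxM, hxA⟩ := SetLike.exists_of_lt hlt
  have hMeq : A ⊔ zpowers x = M := by
    refine Subgroup.eq_of_le_of_card_ge (sup_le hAM (zpowers_le.mpr hxM)) ?_
    have h1 : A < A ⊔ zpowers x :=
      lt_of_le_of_ne le_sup_left fun h => hxA (h ▸ Subgroup.mem_sup_right (mem_zpowers x))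
    obtain ⟨m, hm⟩ := Subgroup.card_dvd_of_le h1.le
    have hd := Subgroup.card_dvd_of_le (sup_le hAM (zpowers_le.mpr hxM))
    rw [hm, hcard, mul_comm p] at hd
    rcases hp.out.eq_one_or_self_of_dvd m (Nat.dvd_of_mul_dvd_mul_left Nat.card_pos hd) with h | h
    · rw [h, mul_one] at hm
      exact absurd (Subgroup.eq_of_le_of_card_ge h1.le hm.le) h1.ne
    · rw [hcard, hm, h, mul_comm]
  have hcomm := isMulCommutative_sup_zpowers hA (hMC hxM)
  rw [hMeq] at hcomm
  exact hlt.ne' (hmax M hMn hcomm hAM)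

/-- Conjugation acts trivially on a normal section of order `p`. -/
theorem commutatorElement_mem_of_card [Finite G] (hG : IsPGroup p G) {M N : Subgroup G} [M.Normal] [N.Normal]
    (hMN : M ≤ N) (hcard : Nat.card N = p * Nat.card M) {x : G} (hx : x ∈ N) (g : G) : ⁅g, x⁆ ∈ M := by
  haveI : (N.map (QuotientGroup.mk' M)).Normal :=
    Subgroup.Normal.map ‹_› _ (QuotientGroup.mk'_surjective M)
  have hc := card_comap_mk' M (N.map (QuotientGroup.mk' M))
  rw [Subgroup.comap_map_eq, QuotientGroup.ker_mk', sup_eq_left.mpr hMN, hcard, mul_comm p] at hc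
  have hcen := le_center_of_card_eq (hG.to_quotient M) _ (Nat.eq_of_mul_eq_mul_left Nat.card_pos hc).symm
    (Subgroup.mem_map_of_mem (QuotientGroup.mk' M) hx)
  have h1 : QuotientGroup.mk' M ⁅g, x⁆ = 1 := by
    rw [map_commutatorElement, commutatorElement_eq_one_iff_mul_comm]
    exact Subgroup.mem_center_iff.mp hcen _
  exact (QuotientGroup.eq_one_iff _).mp h1

/-- The centraliser of a normal subgroup of order `p ^ a` has index at most `p ^ C(a, 2)`. -/
theorem index_centralizer_le [Finite G] (hG : IsPGroup p G) : ∀ (a : ℕ) (N : Subgroup G) [N.Normal],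
    Nat.card N = p ^ a → (centralizer (N : Set G)).index ≤ p ^ a.choose 2
  | 0, N, _, hN => by
    rw [pow_zero, Subgroup.card_eq_one] at hN
    subst hN
    rw [Subgroup.index_eq_one.mpr]
    · exact Nat.one_le_pow _ _ hp.out.pos
    · exact eq_top_iff.mpr fun g _ => Subgroup.mem_centralizer_iff.mpr fun h hh => by
        rw [Subgroup.mem_bot.mp hh, one_mul, mul_one]
  | a + 1, N, _, hN => by
    obtain ⟨M, hMn, hMN, hM⟩ := exists_normal_card_le hG N a
      (by rw [hN]; exact Nat.pow_le_pow_right hp.out.pos a.le_succ)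
    haveI := hMn
    have hlt : M < N := lt_of_le_of_ne hMN fun h => by
      rw [h, hN] at hM
      exact absurd (Nat.pow_right_injective hp.out.two_le hM) (Nat.succ_ne_self a)
    obtain ⟨x, hxN, hxM⟩ := SetLike.exists_of_lt hlt
    have hNM : Nat.card N = p * Nat.card M := by rw [hN, hM, pow_succ']
    have hgen : ∀ g : G, g ∈ centralizer (M : Set G) → g * x = x * g → g ∈ centralizer (N : Set G) := by
      intro g hg hgx
      have hle : M ⊔ zpowers x ≤ centralizer ({g} : Set G) := by
        refine sup_le (fun m hm => ?_) (zpowers_le.mpr ?_)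
        · refine Subgroup.mem_centralizer_iff.mpr fun h hh => ?_
          rw [Set.mem_singleton_iff.mp hh]
          exact (Subgroup.mem_centralizer_iff.mp hg m hm).symm
        · refine Subgroup.mem_centralizer_iff.mpr fun h hh => ?_
          rw [Set.mem_singleton_iff.mp hh]; exact hgx
      have hxp : x ^ p ∈ M := by
        have h1 := Subgroup.pow_index_mem (M.subgroupOf N) (⟨x, hxN⟩ : N)
        have hidx : (M.subgroupOf N).index = p := by
          have h2 := Subgroup.card_mul_index (M.subgroupOf N)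
          rw [Nat.card_congr (Subgroup.subgroupOfEquivOfLe hMN).toEquiv, hNM, mul_comm p] at h2
          exact Nat.eq_of_mul_eq_mul_left Nat.card_pos h2
        rw [hidx] at h1
        simpa [Subgroup.mem_subgroupOf] using h1
      have hNeq : M ⊔ zpowers x = N := Subgroup.eq_of_le_of_card_ge (sup_le hMN (zpowers_le.mpr hxN))
        (le_of_eq (by rw [card_sup_zpowers (p := p) M hxM hxp, hNM]))
      rw [hNeq] at hle
      exact Subgroup.mem_centralizer_iff.mpr fun n hn =>
        (Subgroup.mem_centralizer_iff.mp (hle hn) g rfl).symm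
    have hCle : centralizer (N : Set G) ≤ centralizer (M : Set G) := Subgroup.centralizer_le hMN
    rw [← Subgroup.relIndex_mul_index hCle, Nat.choose_succ_succ', Nat.choose_one_right, pow_add]
    refine Nat.mul_le_mul ?_ (index_centralizer_le hG a M hM)
    rw [← hM]
    show Nat.card (centralizer (M : Set G) ⧸ (centralizer (N : Set G)).subgroupOf (centralizer (M : Set G)))
      ≤ Nat.card M
    refine Nat.card_le_card_of_injective (Quotient.lift (fun g : centralizer (M : Set G) =>
      (⟨⁅(g : G), x⁆, commutatorElement_mem_of_card hG hMN hNM hxN (g : G)⟩ : M)) ?_) ?_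
    · intro g k hgk
      have h0 : g⁻¹ * k ∈ (centralizer (N : Set G)).subgroupOf (centralizer (M : Set G)) :=
        QuotientGroup.leftRel_apply.mp hgk
      have h1 : (g : G)⁻¹ * k ∈ centralizer (N : Set G) := h0
      have h2 := Subgroup.mem_centralizer_iff.mp h1 x hxN
      apply Subtype.ext
      change ⁅(g : G), x⁆ = ⁅(k : G), x⁆
      have hk : (k : G) = g * ((g : G)⁻¹ * k) := by group
      rw [hk, commutatorElement_def, commutatorElement_def]
      calc (g : G) * x * (g : G)⁻¹ * x⁻¹ = (g : G) * (x * ((g : G)⁻¹ * k)) * ((g : G)⁻¹ * k)⁻¹ * (g : G)⁻¹ * x⁻¹ := by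
            group
        _ = _ := by rw [h2]; group
    · intro q r
      induction q using QuotientGroup.induction_on with | _ g =>
      induction r using QuotientGroup.induction_on with | _ k =>
      intro h
      have h1 : ⁅(g : G), x⁆ = ⁅(k : G), x⁆ := congrArg Subtype.val h
      rw [commutatorElement_def, commutatorElement_def, mul_left_inj] at h1
      rw [QuotientGroup.eq, Subgroup.mem_subgroupOf]
      refine hgen _ (g⁻¹ * k).2 ?_
      calc ((g⁻¹ * k : centralizer (M : Set G)) : G) * x = (g : G)⁻¹ * ((k : G) * x * (k : G)⁻¹) * k := by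
            simp only [Subgroup.coe_mul, Subgroup.coe_inv]; group
        _ = _ := by rw [← h1]; simp only [Subgroup.coe_mul, Subgroup.coe_inv]; group

/-- A finite `p`-group with a maximal normal abelian subgroup of order `p ^ a` has order at most
`p ^ (a (a + 1) / 2)`. -/
theorem card_le_of_maximal_normal_abelian [Finite G] (hG : IsPGroup p G) {A : Subgroup G} [A.Normal]
    (hA : IsMulCommutative A) (hmax : ∀ B : Subgroup G, B.Normal → IsMulCommutative B → A ≤ B → B = A)
    {a : ℕ} (ha : Nat.card A = p ^ a) : Nat.card G ≤ p ^ (a * (a + 1) / 2) := by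
  have h := index_centralizer_le hG a A ha
  rw [centralizer_eq_self hG hA hmax] at h
  have he : a + a.choose 2 = a * (a + 1) / 2 := by
    have h1 : (a + 1).choose 2 = a * (a + 1) / 2 := by rw [Nat.choose_two_right, Nat.add_sub_cancel, mul_comm]
    rw [← h1, Nat.choose_succ_succ', Nat.choose_one_right]
  rw [← Subgroup.card_mul_index A, ha, ← he, pow_add]
  exact Nat.mul_le_mul_left _ h

omit hp in
theorem dvd_choose_two_pow (hp : p.Prime) (hp2 : p ≠ 2) (n : ℕ) : p ^ n ∣ (p ^ n).choose 2 := by
  rw [Nat.choose_two_right]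
  rcases Nat.even_or_odd' (p ^ n) with ⟨m, hm | hm⟩
  · exfalso
    have h2 : 2 ∣ p ^ n := ⟨m, hm⟩
    exact hp2 ((Nat.prime_dvd_prime_iff_eq Nat.prime_two hp).mp (Nat.prime_two.dvd_of_dvd_pow h2)).symm
  · refine ⟨m, ?_⟩
    rw [hm, Nat.add_sub_cancel, show (2 * m + 1) * (2 * m) = 2 * ((2 * m + 1) * m) by ring,
      Nat.mul_div_cancel_left _ (by norm_num)]

/-- The product step in Alperin's theorem. -/
theorem mul_mem_of_pow_eq_one {K : Type*} [Group K] {n : ℕ} (hn : p ^ n ≠ 2) {A : Subgroup K}
    (hA : A ≤ center K) (hAe : ∀ a ∈ A, a ^ p ^ n = 1) {M : Subgroup K}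
    (hM : ∀ m ∈ M, m ^ p ^ n = 1 → m ∈ A) {a b : K} (ha : a ^ p ^ n = 1) (hb : b ^ p ^ n = 1)
    (hab : a * b ∈ M) (hw : ⁅b, a⁆ ∈ A) : a * b ∈ A := by
  have hformula := mul_pow_of_commutator_mem_center (hA hw) (p ^ n)
  rw [ha, hb, one_mul, one_mul] at hformula
  refine hM _ hab (hformula.trans ?_)
  by_cases hp2 : p = 2
  · subst hp2
    match n, hn with
    | 0, _ => simp
    | 1, h => exact absurd (pow_one 2) h
    | m + 2, _ =>
      set z := a * b with hz
      have hz2 : (z ^ 2) ^ 2 ^ (m + 2) = 1 := by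
        rw [← pow_mul, mul_comm, pow_mul, hformula, ← pow_mul, mul_comm, pow_mul]
        obtain ⟨k, hk⟩ : 2 ^ (m + 2) ∣ 2 * (2 ^ (m + 2)).choose 2 := by
          refine ⟨2 ^ (m + 2) - 1, ?_⟩
          rw [Nat.choose_two_right, Nat.mul_div_cancel' ]
          exact Nat.dvd_mul_right_of_dvd (dvd_pow_self 2 (by omega)) _
        rw [← pow_mul, hk, pow_mul, hAe _ hw, one_pow]
      have hz2A := hA (hM _ (M.pow_mem hab 2) hz2)
      have hzw : ⁅z, a⁆ = ⁅b, a⁆ := by
        calc ⁅z, a⁆ = a * ⁅b, a⁆ * a⁻¹ := by rw [hz, commutatorElement_def, commutatorElement_def]; group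
          _ = ⁅b, a⁆ := by rw [← (commute_of_mem_center (hA hw) a).eq, mul_inv_cancel_right]
      have hw2 : ⁅b, a⁆ ^ 2 = 1 := by
        rw [← hzw, ← commutatorElement_pow_left_of_mem_center (hzw.symm ▸ hA hw),
          commutatorElement_eq_one_iff_commute]
        exact commute_of_mem_center hz2A a
      obtain ⟨k, hk⟩ : 2 ∣ (2 ^ (m + 2)).choose 2 := by
        refine ⟨2 ^ m * (2 ^ (m + 2) - 1), ?_⟩
        rw [Nat.choose_two_right, show 2 ^ (m + 2) * (2 ^ (m + 2) - 1) = 2 * (2 * (2 ^ m * (2 ^ (m + 2) - 1))) by ring,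
          Nat.mul_div_cancel_left _ (by norm_num)]
      rw [hk, pow_mul, hw2, one_pow]
  · obtain ⟨k, hk⟩ := dvd_choose_two_pow hp.out hp2 n
    rw [hk, pow_mul, hAe _ hw, one_pow]

/-- Alperin: a subgroup maximal among normal abelian subgroups of exponent dividing `p ^ n ≠ 2` contains
every element of order dividing `p ^ n` of its centraliser. -/
theorem mem_of_pow_eq_one [Finite G] (hG : IsPGroup p G) {n : ℕ} (hn : p ^ n ≠ 2) {A : Subgroup G}
    [A.Normal] (hA : IsMulCommutative A) (hAe : ∀ a ∈ A, a ^ p ^ n = 1)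
    (hmax : ∀ B : Subgroup G, B.Normal → IsMulCommutative B → (∀ b ∈ B, b ^ p ^ n = 1) → A ≤ B → B = A)
    {x : G} (hx : x ∈ centralizer (A : Set G)) (hxn : x ^ p ^ n = 1) : x ∈ A := by
  set C := centralizer (A : Set G) with hC
  have hAC : A ≤ C := fun a ha =>
    Subgroup.mem_centralizer_iff.mpr fun g hg => comm_of_isMulCommutative hA hg ha
  suffices H : ∀ (k : ℕ) (N : Subgroup G) [N.Normal], Nat.card N ≤ k → A ≤ N → N ≤ C →
      ∀ m ∈ N, m ^ p ^ n = 1 → m ∈ A from H _ C le_rfl hAC le_rfl x hx hxn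
  intro k
  induction k with
  | zero => intro N _ hN; exact absurd Nat.card_pos (not_lt.mpr hN)
  | succ k ih =>
    intro N _ hN hAN hNC m hm hmn
    by_cases hNA : N ≤ A
    · exact hNA hm
    have hlt : A < N := lt_of_le_not_ge hAN hNA
    have drop : ∀ (L : Subgroup G) [L.Normal], A < L → ∃ L' : Subgroup G, ∃ _ : L'.Normal, A ≤ L' ∧ L' ≤ L ∧
        Nat.card L = p * Nat.card L' := by
      intro L _ hL
      obtain ⟨r, hr⟩ := IsPGroup.iff_card.mp (hG.to_subgroup L)
      obtain ⟨s, hs⟩ := IsPGroup.iff_card.mp (hG.to_subgroup A)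
      have hsr : s < r := by
        by_contra hge
        refine hL.ne (Subgroup.eq_of_le_of_card_ge hL.le ?_)
        rw [hr, hs]; exact Nat.pow_le_pow_right hp.out.pos (by omega)
      obtain ⟨L', h1, h2, h3, h4⟩ := exists_normal_card_pow_mul hG A L hL.le (r - 1 - s)
        (by rw [hs, hr, ← pow_add]; exact Nat.pow_le_pow_right hp.out.pos (by omega))
      refine ⟨L', h1, h2, h3, ?_⟩
      rw [h4, hs, hr, ← pow_add, ← pow_succ']
      congr 1; omega
    obtain ⟨M, hMn, hAM, hMN, hNM⟩ := drop N hlt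
    have hMk : Nat.card M ≤ k := by
      have : Nat.card M < p * Nat.card M := lt_mul_of_one_lt_left Nat.card_pos hp.out.one_lt
      omega
    have hMA := ih M hMk hAM (hMN.trans hNC)
    have key : ∀ a ∈ N, ∀ b ∈ N, a ^ p ^ n = 1 → b ^ p ^ n = 1 → a * b ∈ M → ⁅b, a⁆ ∈ A → a * b ∈ A := by
      intro a ha b hb han hbn hab hw
      have := mul_mem_of_pow_eq_one (K := C) hn (A := A.subgroupOf C)
        (fun z hz => Subgroup.mem_center_iff.mpr fun g => Subtype.ext
          (Subgroup.mem_centralizer_iff.mp g.2 z hz).symm)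
        (fun z hz => Subtype.ext (hAe _ hz)) (M := M.subgroupOf C) (fun z hz hzn =>
          hMA z hz (congrArg Subtype.val hzn))
        (a := ⟨a, hNC ha⟩) (b := ⟨b, hNC hb⟩) (Subtype.ext han) (Subtype.ext hbn) hab hw
      exact this
    have hR : ∀ (j : ℕ) (L : Subgroup G) [L.Normal], Nat.card L ≤ j → A ≤ L → L ≤ M →
        ∀ a ∈ N, ∀ b ∈ N, a ^ p ^ n = 1 → b ^ p ^ n = 1 → ⁅a, b⁆ ∈ L → ⁅a, b⁆ ∈ A := by
      intro j
      induction j with
      | zero => intro L _ hL; exact absurd Nat.card_pos (not_lt.mpr hL)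
      | succ j ihj =>
        intro L _ hL hAL hLM a ha b hb han hbn hab
        rcases hAL.lt_or_eq with hlt' | heq
        · obtain ⟨L1, hL1n, hAL1, hL1L, hLL1⟩ := drop L hlt'
          have hL1j : Nat.card L1 ≤ j := by
            have : Nat.card L1 < p * Nat.card L1 := lt_mul_of_one_lt_left Nat.card_pos hp.out.one_lt
            omega
          have hz : a * (b * a⁻¹ * b⁻¹) = ⁅a, b⁆ := by rw [commutatorElement_def]; group
          have ha' : (b * a⁻¹ * b⁻¹) ^ p ^ n = 1 := by rw [conj_pow, inv_pow, han, inv_one, mul_one, mul_inv_cancel]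
          have ha'N : b * a⁻¹ * b⁻¹ ∈ N := N.mul_mem (N.mul_mem hb (N.inv_mem ha)) (N.inv_mem hb)
          rw [← hz]
          refine key a ha _ ha'N han ha' (hz ▸ hLM hab) ?_
          refine ihj L1 hL1j hAL1 (hL1L.trans hLM) _ ha'N a ha ha' han ?_
          have : ⁅b * a⁻¹ * b⁻¹, a⁆ = a⁻¹ * (⁅a, ⁅a, b⁆⁆)⁻¹ * a := by
            simp only [commutatorElement_def]; group
          rw [this]
          have hcl := Subgroup.Normal.conj_mem hL1n _
            (L1.inv_mem (commutatorElement_mem_of_card hG hL1L hLL1 hab a)) a⁻¹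
          simpa using hcl
        · exact heq ▸ hab
    by_contra hmA
    have hu : ∀ g : G, ⁅g, m⁆ ∈ A := by
      intro g
      have hgN : g * m * g⁻¹ ∈ N := Subgroup.Normal.conj_mem ‹_› m hm g
      have hgp : (g * m * g⁻¹) ^ p ^ n = 1 := by rw [conj_pow, hmn, mul_one, mul_inv_cancel]
      have hmi : m⁻¹ ^ p ^ n = 1 := by rw [inv_pow, hmn, inv_one]
      have he : g * m * g⁻¹ * m⁻¹ = ⁅g, m⁆ := (commutatorElement_def g m).symm
      rw [← he]
      refine key _ hgN _ (N.inv_mem hm) hgp hmi (he ▸ commutatorElement_mem_of_card hG hMN hNM hm g) ?_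
      exact hR _ M le_rfl hAM le_rfl _ (N.inv_mem hm) _ hgN hmi hgp
        (commutatorElement_mem_of_card hG hMN hNM hgN _)
    have hB : A ⊔ zpowers m = A := by
      refine hmax _ ?_ (isMulCommutative_sup_zpowers hA (hNC hm)) ?_ le_sup_left
      · refine commutator_top_left_le_iff.mp ?_
        refine commutator_le.mpr fun g _ y hy => ?_
        suffices A ⊔ zpowers m ≤ (centralizer
            ((zpowers (QuotientGroup.mk' A g) : Subgroup (G ⧸ A)) : Set (G ⧸ A))).comap (QuotientGroup.mk' A) by
          have h1 : QuotientGroup.mk' A ⁅g, y⁆ = 1 := by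
            rw [map_commutatorElement, commutatorElement_eq_one_iff_mul_comm]
            exact Subgroup.mem_centralizer_iff.mp (Subgroup.mem_comap.mp (this hy)) _ (mem_zpowers _)
          exact Subgroup.mem_sup_left ((QuotientGroup.eq_one_iff _).mp h1)
        refine sup_le (fun a ha => ?_) (zpowers_le.mpr ?_)
        · rw [Subgroup.mem_comap, show QuotientGroup.mk' A a = 1 from (QuotientGroup.eq_one_iff a).mpr ha]
          exact Subgroup.one_mem _
        · rw [Subgroup.mem_comap, Subgroup.mem_centralizer_iff]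
          rintro q ⟨i, rfl⟩
          have h1 : QuotientGroup.mk' A ⁅g, m⁆ = 1 := (QuotientGroup.eq_one_iff _).mpr (hu g)
          rw [map_commutatorElement, commutatorElement_eq_one_iff_commute] at h1
          exact (h1.zpow_left i).eq
      · intro y hy
        have hmC := Subgroup.mem_centralizer_iff.mp (hNC hm)
        rw [← SetLike.mem_coe, Subgroup.normal_mul] at hy
        obtain ⟨a, ha, w, ⟨i, rfl⟩, rfl⟩ := Set.mem_mul.mp hy
        have hcomm : Commute a (m ^ i) := (show Commute a m from hmC a ha).zpow_right i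
        rw [hcomm.mul_pow, hAe a ha, one_mul, ← zpow_natCast, ← zpow_mul, mul_comm, zpow_mul,
          zpow_natCast, hmn, one_zpow]
    exact hmA (hB ▸ Subgroup.mem_sup_right (mem_zpowers m))

end Cfsg.Agent.PGroups
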