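import Cfsg.Agent.PGroups.RankTwo
import Cfsg.Prelude.Def_OddOrderLocal

/-!
Huppert's criterion: for `p > 3` a `p`-group with `|Ω₁| ≤ p ^ 2` is metacyclic. The proof: `|R : ℧₁(R)| ≤ p ^ 2`,
the derived subgroup is cyclic, hence `R` is regular, and a suitable root of a generator of the derived
subgroup generates the cyclic normal subgroup.
-/

set_option autoImplicit false
set_option linter.style.haveILetI false

namespace Cfsg.Agent.PGroups

open Subgroup
open scoped commutatorElement

universe u

variable {p : ℕ} [hp : Fact p.Prime]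

/-- If the derived subgroup is cyclic, the third term of the lower central series consists of products of
`p`-th powers of elements of the derived subgroup. -/
theorem lowerCentralSeries_two_le_of_cyclic {G : Type*} [Group G] [Finite G] (hG : IsPGroup p G) (c : G)
    (hc : commutator G = zpowers c) :
    (⊤ : Subgroup G).lowerCentralSeries 2 ≤ Cfsg.powerClosure p 1 (commutator G) := by
  set N := Cfsg.powerClosure p 1 (commutator G) with hN
  haveI : N.Normal := powerClosure_normal p 1 (commutator G)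
  set q := QuotientGroup.mk' N
  have hmap : (commutator G).map q ≤ center (G ⧸ N) := by
    haveI : ((commutator G).map q).Normal :=
      Subgroup.Normal.map inferInstance _ (QuotientGroup.mk'_surjective N)
    have hcard : Nat.card ((commutator G).map q) = orderOf (q c) := by
      rw [hc, MonoidHom.map_zpowers, Nat.card_zpowers]
    have hdvd : orderOf (q c) ∣ p := by
      rw [orderOf_dvd_iff_pow_eq_one, ← map_pow]
      refine (QuotientGroup.eq_one_iff _).mpr ?_
      have h := pow_mem_powerClosure p 1 (show c ∈ commutator G from hc ▸ mem_zpowers c)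
      rwa [pow_one] at h
    rcases hp.out.eq_one_or_self_of_dvd _ hdvd with h | h
    · rw [Subgroup.card_eq_one.mp (hcard.trans h)]; exact bot_le
    · exact le_center_of_card_eq (hG.to_quotient N) _ (hcard.trans h)
  rw [Subgroup.lowerCentralSeries_succ, Subgroup.top_lowerCentralSeries_one]
  refine commutator_le.mpr fun g hg k _ => ?_
  rw [← QuotientGroup.eq_one_iff]
  show q ⁅g, k⁆ = 1
  rw [map_commutatorElement, commutatorElement_eq_one_iff_mul_comm]
  exact (Subgroup.mem_center_iff.mp (hmap (Subgroup.mem_map_of_mem q hg)) _).symm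

/-- A finite `p`-group, `p` odd, with cyclic derived subgroup is regular. -/
theorem isRegular_of_commutator_cyclic {G : Type*} [Group G] [Finite G] (hG : IsPGroup p G) (hp2 : p ≠ 2)
    (c : G) (hc : commutator G = zpowers c) : Cfsg.IsRegularPGroup p G := by
  refine isRegular_of_regularAt_one hG fun a b => ?_
  generalize hHdef : Subgroup.closure ({a, b} : Set G) = H
  haveI := powerClosure_normal p 1 (commutator H)
  obtain ⟨d, hd⟩ : ∃ d : H, commutator H = zpowers d := by
    have hle : (commutator H).map H.subtype ≤ zpowers c := by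
      rw [H.map_subtype_commutator, ← hc]
      exact commutator_mono le_top le_top
    haveI : IsCyclic ((commutator H).map H.subtype) :=
      isCyclic_of_surjective _ (Subgroup.subgroupOfEquivOfLe hle).surjective
    haveI : IsCyclic (commutator H) := isCyclic_of_surjective _
      ((commutator H).equivMapOfInjective H.subtype H.subtype_injective).symm.surjective
    obtain ⟨d, hd⟩ := IsCyclic.exists_generator (α := commutator H)
    refine ⟨d.1, le_antisymm (fun x hx => ?_) (zpowers_le.mpr d.2)⟩
    obtain ⟨i, hi⟩ := Subgroup.mem_zpowers_iff.mp (hd ⟨x, hx⟩)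
    exact Subgroup.mem_zpowers_iff.mpr ⟨i, congrArg Subtype.val hi⟩
  have h2 := lowerCentralSeries_two_le_of_cyclic (hG.to_subgroup H) d hd
  obtain ⟨u, hu, he⟩ := hall_petrescu (⟨a, hHdef ▸ Subgroup.subset_closure (by simp)⟩ : H)
    ⟨b, hHdef ▸ Subgroup.subset_closure (by simp)⟩ p (Cfsg.powerClosure p 1 (commutator H)) (by
    intro j hj2 hjp x hx
    rcases eq_or_lt_of_le hjp with rfl | hlt
    · refine pow_mem (h2 (Subgroup.lowerCentralSeries_antitone _ ?_ hx)) _
      have := hp.out.two_le
      omega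
    · obtain ⟨t, ht⟩ := hp.out.dvd_choose_self (k := j) (by omega) hlt
      have hxt : x ^ t ∈ commutator H := pow_mem (lcsFil_two (G := H) ▸ lcsFil_antitone hj2 hx) t
      have h2' : (x ^ t) ^ p ^ 1 ∈ Cfsg.powerClosure p 1 (commutator H) := pow_mem_powerClosure p 1 hxt
      have h3 : x ^ p.choose j = (x ^ t) ^ p ^ 1 := by rw [pow_one, ← pow_mul, ht, mul_comm t]
      rw [h3]
      exact h2')
  have hu' := Subgroup.mem_map_of_mem H.subtype hu
  rw [powerClosure_map, H.map_subtype_commutator] at hu'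
  exact ⟨u, hu', by simpa using congrArg Subtype.val he⟩

/-- If `|R : ℧₁(R)| ≤ p ^ 2` then `|R : Φ(R)| ≤ p ^ 2` and `Φ(R)` is generated by `p`-th powers. -/
theorem frattini_of_agemo_index {R : Type u} [Group R] [Finite R] (hR : IsPGroup p R)
    (hidx : (Cfsg.powerClosure p 1 (⊤ : Subgroup R)).index ≤ p ^ 2) :
    (frattini R).index ∣ p ^ 2 ∧ frattini R ≤ Cfsg.powerClosure p 1 ⊤ := by
  set N := Cfsg.powerClosure p 1 (⊤ : Subgroup R)
  haveI : N.Normal := powerClosure_normal p 1 ⊤
  have hexp : ∀ x : R, x ^ p ∈ N := fun x => by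
    simpa using pow_mem_powerClosure p 1 (mem_top x)
  obtain ⟨k, hk⟩ := hR.index N
  rw [hk] at hidx
  have hNdvd : N.index ∣ p ^ 2 :=
    hk ▸ pow_dvd_pow p ((Nat.pow_le_pow_iff_right hp.out.one_lt).mp hidx)
  have hle := frattini_le_of_commutator_le (p := p) N (commutator_le_of_index_dvd_sq (p := p) N hNdvd) hexp
  refine ⟨dvd_trans (Subgroup.index_dvd_of_le ?_) hNdvd, hle⟩
  refine (Subgroup.closure_le _).mpr ?_
  rintro _ ⟨x, -, rfl⟩
  rw [pow_one]
  exact pow_mem_frattini hR x

/-- The bound `|R : ℧₁(R)| ≤ p ^ 2` from `|Ω₁(R)| ≤ p ^ 2` (for `p > 3`). -/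
theorem agemo_index_of_small_omega {R : Type u} [Group R] [Finite R] (hp3 : 3 < p) (hR : IsPGroup p R)
    (hO : Nat.card (Cfsg.omegaOne p (⊤ : Subgroup R)) ≤ p ^ 2) :
    (Cfsg.powerClosure p 1 (⊤ : Subgroup R)).index ≤ p ^ 2 := by
  set N := Cfsg.powerClosure p 1 (⊤ : Subgroup R)
  haveI : N.Normal := powerClosure_normal p 1 ⊤
  refine le_trans (le_of_eq ?_) (omega_quotient hp3 _ R le_rfl hR hO N)
  have : Cfsg.omegaOne p (⊤ : Subgroup (R ⧸ N)) = ⊤ := eq_top_iff.mpr fun x _ => by
    refine Subgroup.subset_closure ⟨mem_top _, ?_⟩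
    obtain ⟨g, rfl⟩ := QuotientGroup.mk_surjective x
    rw [← QuotientGroup.mk_pow]
    exact (QuotientGroup.eq_one_iff _).mpr (by simpa using pow_mem_powerClosure p 1 (mem_top g))
  rw [this, Subgroup.card_top]
  rfl

/-- An odd `p`-group with `|R : ℧₁(R)| ≤ p ^ 2` is metacyclic. -/
theorem isMetacyclic_of_agemo_index (hp2 : p ≠ 2) : ∀ (N : ℕ) (R : Type u) [Group R] [Finite R],
    Nat.card R ≤ N → IsPGroup p R → (Cfsg.powerClosure p 1 (⊤ : Subgroup R)).index ≤ p ^ 2 →
    Cfsg.IsMetacyclic R
  | 0, R, _, _, hN, _, _ => absurd Nat.card_pos (not_lt.mpr hN)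
  | N + 1, R, _, _, hN, hR, hI => by
    by_cases htriv : Subsingleton R
    · exact ⟨⊥, inferInstance, inferInstance, inferInstance⟩
    rw [not_subsingleton_iff_nontrivial] at htriv
    obtain ⟨hidx, hΦ⟩ := frattini_of_agemo_index hR hI
    -- the derived subgroup is cyclic
    obtain ⟨c, hc⟩ : ∃ c : R, commutator R = zpowers c := by
      by_cases hab : commutator R = ⊥
      · exact ⟨1, by rw [hab, Subgroup.zpowers_one_eq_bot]⟩
      obtain ⟨z, hzR, hzc, hz⟩ := exists_mem_center_orderOf_eq hR _ hab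
      have hZc : zpowers z ≤ center R := zpowers_le.mpr hzc
      haveI := normal_of_le_center hZc
      have hlt : Nat.card (R ⧸ zpowers z) ≤ N := by
        have h := (zpowers z).card_eq_card_quotient_mul_card_subgroup
        rw [Nat.card_zpowers, hz] at h
        have : Nat.card (R ⧸ zpowers z) < Nat.card (R ⧸ zpowers z) * p :=
          lt_mul_of_one_lt_right Nat.card_pos hp.out.one_lt
        omega
      have hI' : (Cfsg.powerClosure p 1 (⊤ : Subgroup (R ⧸ zpowers z))).index ≤ p ^ 2 := by
        rw [← Subgroup.map_top_of_surjective _ (QuotientGroup.mk'_surjective (zpowers z)), ← powerClosure_map]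
        exact (Nat.le_of_dvd (Nat.pos_of_ne_zero Subgroup.index_ne_zero_of_finite)
          (Subgroup.index_map_dvd _ (QuotientGroup.mk'_surjective _))).trans hI
      obtain ⟨M, hMn, hMc, hMq⟩ := isMetacyclic_of_agemo_index hp2 N (R ⧸ zpowers z) hlt (hR.to_quotient _) hI'
      haveI := hMn
      set q := QuotientGroup.mk' (zpowers z)
      obtain ⟨⟨n', hn'⟩, hMgen⟩ := IsCyclic.exists_generator (α := M)
      obtain ⟨g', hggen⟩ := IsCyclic.exists_generator (α := (R ⧸ zpowers z) ⧸ M)
      obtain ⟨n, rfl⟩ := QuotientGroup.mk'_surjective (zpowers z) n'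
      obtain ⟨g₀, rfl⟩ := QuotientGroup.mk'_surjective M g'
      obtain ⟨g, rfl⟩ := QuotientGroup.mk'_surjective (zpowers z) g₀
      have hmemM : ∀ x : R, q x ∈ M → ∃ i : ℤ, ∃ y ∈ zpowers z, x = n ^ i * y := by
        intro x hx
        obtain ⟨i, hi⟩ := Subgroup.mem_zpowers_iff.mp (hMgen ⟨q x, hx⟩)
        have hi' : q (n ^ i) = q x := by rw [map_zpow]; exact congrArg Subtype.val hi
        exact ⟨i, (n ^ i)⁻¹ * x, QuotientGroup.eq.mp hi', by group⟩
      have hgen : zpowers n ⊔ zpowers g = ⊤ := by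
        refine frattini_nongenerating (top_le_iff.mp fun x _ => ?_)
        obtain ⟨j, hj⟩ := Subgroup.mem_zpowers_iff.mp (hggen (QuotientGroup.mk' M (q x)))
        have hxM : q ((g ^ j)⁻¹ * x) ∈ M := by
          have h1 : QuotientGroup.mk' M (q g ^ j) = QuotientGroup.mk' M (q x) := by
            rw [map_zpow]; exact hj
          rw [map_mul, map_inv, map_zpow]
          exact QuotientGroup.eq.mp h1
        obtain ⟨i, y, hy, he⟩ := hmemM _ hxM
        rw [show x = g ^ j * (n ^ i * y) by rw [← he]; group]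
        exact mul_mem (Subgroup.mem_sup_left (Subgroup.mem_sup_right (zpow_mem (mem_zpowers g) j)))
          (mul_mem (Subgroup.mem_sup_left (Subgroup.mem_sup_left (zpow_mem (mem_zpowers n) i)))
            (Subgroup.mem_sup_right (zpowers_le.mpr (commutator_le_frattini hR hzR) hy)))
      obtain ⟨a, y, hy, hca⟩ := hmemM ⁅g, n⁆ (by
        have h := M.mul_mem (hMn.conj_mem _ hn' (q g)) (M.inv_mem hn')
        rw [map_commutatorElement]; exact h)
      have hyc : ∀ r : R, r * y = y * r := Subgroup.mem_center_iff.mp (hZc hy)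
      have hcn : n * ⁅g, n⁆ * n⁻¹ = ⁅g, n⁆ := by
        rw [hca, ← mul_assoc, mul_assoc _ y, ← hyc n⁻¹]; group
      have hcg : g * ⁅g, n⁆ * g⁻¹ = ⁅g, n⁆ ^ (a + 1) := by
        have h1 : g * n * g⁻¹ = ⁅g, n⁆ * n := by simp only [commutatorElement_def]; group
        have hcomm : Commute ⁅g, n⁆ n := by
          show ⁅g, n⁆ * n = n * ⁅g, n⁆
          nth_rewrite 1 [← hcn]
          group
        have h2 : g * y * g⁻¹ = y := by rw [hyc g, mul_inv_cancel_right]
        calc g * ⁅g, n⁆ * g⁻¹ = g * (n ^ a * y) * g⁻¹ := by rw [← hca]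
          _ = (g * n * g⁻¹) ^ a * (g * y * g⁻¹) := by rw [conj_zpow]; group
          _ = ⁅g, n⁆ ^ a * (n ^ a * y) := by rw [h1, h2, hcomm.mul_zpow, mul_assoc]
          _ = ⁅g, n⁆ ^ (a + 1) := by rw [← hca, zpow_add_one]
      have hnorm : (zpowers ⁅g, n⁆).Normal := by
        have hle : ∀ r ∈ ({n, g} : Set R), ∀ x ∈ zpowers ⁅g, n⁆, r * x * r⁻¹ ∈ zpowers ⁅g, n⁆ := by
          intro r hr x hx
          obtain ⟨i, rfl⟩ := Subgroup.mem_zpowers_iff.mp hx
          rw [← conj_zpow]
          rcases hr with rfl | rfl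
          · rw [hcn]; exact zpow_mem (mem_zpowers _) i
          · rw [hcg]; exact zpow_mem (zpow_mem (mem_zpowers _) _) i
        rw [← Subgroup.normalizer_eq_top_iff, eq_top_iff, ← hgen, sup_le_iff, zpowers_le, zpowers_le]
        exact ⟨mem_normalizer_fintype (hle n (by simp)), mem_normalizer_fintype (hle g (by simp))⟩
      haveI := hnorm
      have hR' := commutator_le_of_generators hgen (zpowers ⁅g, n⁆) (mem_zpowers _)
      exact ⟨⁅g, n⁆, le_antisymm hR' (zpowers_le.mpr (commutator_mem_commutator (mem_top g) (mem_top n)))⟩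
    have hreg := regularAt_of_isRegular (isRegular_of_commutator_cyclic hR hp2 c hc) 1
    -- choose a root of `c` of largest order
    have hS : ({w : R | w ≠ 1 ∧ c ∈ zpowers w}).Nonempty := by
      by_cases hc1 : c = 1
      · obtain ⟨w, hw⟩ := exists_ne (1 : R)
        exact ⟨w, hw, hc1 ▸ one_mem _⟩
      · exact ⟨c, hc1, mem_zpowers c⟩
    obtain ⟨w, ⟨hw1, hcw⟩, hmax⟩ := Set.exists_max_image _ orderOf (Set.toFinite _) hS
    have hwΦ : w ∉ frattini R := by
      intro hw
      obtain ⟨u, -, hu⟩ := regularAt_mem_powerClosure hR hreg (hΦ hw)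
      rw [pow_one] at hu
      have hu1 : u ≠ 1 := fun h => hw1 (by rw [hu, h, one_pow])
      have hcu : c ∈ zpowers u := zpowers_le.mpr (hu ▸ pow_mem (mem_zpowers u) p) hcw
      have h := hmax u ⟨hu1, hcu⟩
      obtain ⟨k, hk⟩ := IsPGroup.iff_orderOf.mp hR u
      have hk0 : k ≠ 0 := fun h0 => hu1 (by rwa [h0, pow_zero, orderOf_eq_one_iff] at hk)
      rw [hu, orderOf_pow, hk, Nat.gcd_eq_right (dvd_pow_self p hk0)] at h
      exact absurd h (not_le.mpr (Nat.div_lt_self (pow_pos hp.out.pos k) hp.out.one_lt))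
    have hWn : (zpowers w).Normal :=
      Subgroup.Normal.of_commutator_le R (hc.le.trans (zpowers_le.mpr hcw))
    refine ⟨zpowers w, hWn, inferInstance, ?_⟩
    haveI := hWn
    set F := frattini (R ⧸ zpowers w)
    set K := F.comap (QuotientGroup.mk' (zpowers w))
    have hwK : w ∈ K := by
      show QuotientGroup.mk' (zpowers w) w ∈ F
      rw [show QuotientGroup.mk' (zpowers w) w = 1 from (QuotientGroup.eq_one_iff _).mpr (mem_zpowers w)]
      exact one_mem _
    have hΦK : frattini R ≤ K := by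
      refine hΦ.trans ((Subgroup.closure_le _).mpr ?_)
      rintro _ ⟨x, -, rfl⟩
      show QuotientGroup.mk' (zpowers w) (x ^ p ^ 1) ∈ F
      rw [pow_one, map_pow]
      exact pow_mem_frattini (hR.to_quotient _) _
    have hd : F.index ∣ p := by
      rw [← Subgroup.index_comap_of_surjective F (QuotientGroup.mk'_surjective (zpowers w))]
      show K.index ∣ p
      obtain ⟨k, hk, hkp⟩ := (Nat.dvd_prime_pow hp.out).mp hidx
      obtain ⟨j, hj⟩ := hR.index K
      have hle : j ≤ k :=
        (Nat.pow_dvd_pow_iff_le_right hp.out.one_lt).mp (hj ▸ hkp ▸ Subgroup.index_dvd_of_le hΦK)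
      have hne : j ≠ k := by
        rintro rfl
        refine hwΦ (Subgroup.eq_of_le_of_card_ge hΦK ?_ ▸ hwK)
        have h1 := K.card_mul_index
        rw [hj, ← hkp, ← (frattini R).card_mul_index] at h1
        exact (Nat.eq_of_mul_eq_mul_right Subgroup.index_ne_zero_of_finite.bot_lt h1).le
      rw [hj]
      exact (pow_dvd_pow p (show j ≤ 1 by omega)).trans (pow_one p).dvd
    haveI : IsCyclic ((R ⧸ zpowers w) ⧸ F) := by
      rw [Subgroup.index_eq_card] at hd
      rcases hp.out.eq_one_or_self_of_dvd _ hd with h | h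
      · haveI : Subsingleton ((R ⧸ zpowers w) ⧸ F) := (Nat.card_eq_one_iff_unique.mp h).1
        infer_instance
      · exact isCyclic_of_prime_card (p := p) h
    exact isCyclic_of_frattini

/-- Huppert's criterion. -/
theorem isMetacyclic_of_small_omega (hp3 : 3 < p) (N : ℕ) (R : Type u) [Group R] [Finite R]
    (hN : Nat.card R ≤ N) (hR : IsPGroup p R) (hO : Nat.card (Cfsg.omegaOne p (⊤ : Subgroup R)) ≤ p ^ 2) :
    Cfsg.IsMetacyclic R :=
  isMetacyclic_of_agemo_index (by omega) N R hN hR (agemo_index_of_small_omega hp3 hR hO)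

/-- In a regular group `|R : ℧₁(R)| ≤ |Ω₁(R)|`. -/
theorem agemo_index_le_of_regular {R : Type u} [Group R] [Finite R] (hR : IsPGroup p R)
    (hr : RegularAt p 1 R) :
    (Cfsg.powerClosure p 1 (⊤ : Subgroup R)).index ≤ Nat.card (omegaSubgroup hR hr) := by
  set K := omegaSubgroup hR hr
  set P := Cfsg.powerClosure p 1 (⊤ : Subgroup R)
  have h : K.index ≤ Nat.card P := by
    show Nat.card (R ⧸ K) ≤ _
    refine Nat.card_le_card_of_injective
      (Quotient.lift (fun a : R => (⟨a ^ (p ^ 1), pow_mem_powerClosure p 1 (mem_top a)⟩ : P)) fun a b hab =>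
        Subtype.ext ((regularAt_pow_eq_iff hR hr a b).mpr (QuotientGroup.leftRel_apply.mp hab :))) ?_
    intro q r
    induction q using QuotientGroup.induction_on with | _ a =>
    induction r using QuotientGroup.induction_on with | _ b =>
    intro h
    rw [QuotientGroup.eq]
    exact (regularAt_pow_eq_iff hR hr a b).mp (congrArg Subtype.val h :)
  refine Nat.le_of_mul_le_mul_left ?_ (Nat.card_pos (α := P))
  rw [P.card_mul_index, ← K.card_mul_index, mul_comm (Nat.card P)]
  exact Nat.mul_le_mul_left _ h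

end Cfsg.Agent.PGroups
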