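import Cfsg.Agent.PGroups.RegularClass
import Cfsg.Agent.PGroups.MaxAbelian
import Cfsg.Agent.PGroups.CyclicMaximal
import Cfsg.Agent.H77.FittingClass
import Cfsg.Prelude.Def_PLocal

/-!
For `p > 3`: the elements of order dividing `p` of a `p`-group of rank at most two generate a subgroup of
exponent `p` and order at most `p ^ 3`; groups with `|Ω₁| ≤ p ^ 2` are closed under quotients.
-/

set_option autoImplicit false
set_option linter.style.haveILetI false

namespace Cfsg.Agent.PGroups

open Subgroup
open scoped commutatorElement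

universe u

variable {p : ℕ} [hp : Fact p.Prime]

/-- Beyond the first, a nontrivial term of the lower central series has index at least `p` in the previous one. -/
theorem card_lowerCentralSeries_mul_le {G : Type*} [Group G] [Finite G] (hG : IsPGroup p G) (i : ℕ) :
    (⊤ : Subgroup G).lowerCentralSeries (i + 1) = ⊥ ∨
      Nat.card ((⊤ : Subgroup G).lowerCentralSeries (i + 1)) * p ^ (i + 2) ≤ Nat.card G := by
  induction i with
  | zero =>
    rw [Subgroup.top_lowerCentralSeries_one]
    refine or_iff_not_imp_left.mpr fun hne => ?_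
    rw [← (commutator G).card_mul_index]
    refine Nat.mul_le_mul_left _ ?_
    obtain ⟨k, hk⟩ := hG.index (commutator G)
    rw [hk]
    refine Nat.pow_le_pow_right hp.out.pos ?_
    by_contra hlt
    refine hne ?_
    haveI : IsCyclic (G ⧸ commutator G) := by
      have hc : Nat.card (G ⧸ commutator G) = p ^ k := by rw [← Subgroup.index_eq_card, hk]
      rcases (show k = 0 ∨ k = 1 by omega) with rfl | rfl
      · haveI : Subsingleton (G ⧸ commutator G) :=
          (Nat.card_eq_one_iff_unique.mp (by simpa using hc)).1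
        infer_instance
      · exact isCyclic_of_prime_card (p := p) (by simpa using hc)
    haveI : IsCyclic (G ⧸ frattini G) := isCyclic_of_surjective
      (QuotientGroup.map (commutator G) (frattini G) (MonoidHom.id G)
        ((commutator_le_frattini hG).trans (Subgroup.comap_id _).ge))
      (by
        intro x
        obtain ⟨g, rfl⟩ := QuotientGroup.mk_surjective x
        exact ⟨QuotientGroup.mk g, rfl⟩)
    haveI : IsCyclic G := isCyclic_of_frattini
    rw [commutator_eq_bot_iff]
    infer_instance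
  | succ i ih =>
    set A := (⊤ : Subgroup G).lowerCentralSeries (i + 1)
    set B := (⊤ : Subgroup G).lowerCentralSeries (i + 1 + 1)
    have hBA : B ≤ A := Subgroup.lowerCentralSeries_antitone _ (Nat.le_succ _)
    rcases ih with ih | ih
    · exact Or.inl (le_bot_iff.mp (hBA.trans ih.le))
    refine or_iff_not_imp_left.mpr fun hne => ?_
    have hlt : B ≠ A := by
      intro he
      obtain ⟨n, hn⟩ := Subgroup.nilpotent_iff_lowerCentralSeries.mp hG.isNilpotent
      have hs : ∀ j, A ≤ (⊤ : Subgroup G).lowerCentralSeries j := by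
        intro j
        induction j with
        | zero => simp
        | succ j ihj =>
          rw [← he, Subgroup.lowerCentralSeries_succ]
          exact commutator_mono ihj le_rfl
      exact hne (le_bot_iff.mp (hBA.trans ((hs n).trans hn.le)))
    obtain ⟨a, ha⟩ := IsPGroup.iff_card.mp (hG.to_subgroup A)
    obtain ⟨b, hb⟩ := IsPGroup.iff_card.mp (hG.to_subgroup B)
    have hab : b < a := by
      by_contra hge
      exact hlt (Subgroup.eq_of_le_of_card_ge hBA
        (by rw [ha, hb]; exact Nat.pow_le_pow_right hp.out.pos (by omega)))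
    rw [ha] at ih
    rw [hb]
    refine le_trans ?_ ih
    rw [← pow_add, ← pow_add]
    exact Nat.pow_le_pow_right hp.out.pos (by omega)

/-- A `p`-group of order at most `p ^ (m + 2)` has class at most `m + 1`. -/
theorem lowerCentralSeries_eq_bot_of_card {G : Type*} [Group G] [Finite G] (hG : IsPGroup p G) (m : ℕ)
    (h : Nat.card G ≤ p ^ (m + 2)) : (⊤ : Subgroup G).lowerCentralSeries (m + 1) = ⊥ := by
  rcases card_lowerCentralSeries_mul_le hG m with h1 | h1
  · exact h1
  · rw [← Subgroup.card_eq_one]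
    have h2 := h1.trans h
    exact le_antisymm (Nat.le_of_mul_le_mul_right (h2.trans (one_mul _).ge) (pow_pos hp.out.pos _))
      Nat.card_pos

/-- A group of exponent `p` of rank at most two has order at most `p ^ 3`. -/
theorem card_le_of_exponent_rank_two {G : Type*} [Group G] [Finite G] (hG : IsPGroup p G)
    (hexp : ∀ x : G, x ^ p = 1)
    (hrk : ∀ E : Subgroup G, Cfsg.IsElementaryAbelian p E → Nat.card E ≤ p ^ 2) :
    Nat.card G ≤ p ^ 3 := by
  obtain ⟨A, hAn, hA, -, hmax⟩ := exists_maximal_normal_abelian (⊥ : Subgroup G)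
    (isMulCommutative_of_comm fun x hx y hy => by
      rw [Subgroup.mem_bot.mp hx, Subgroup.mem_bot.mp hy])
  haveI := hAn
  obtain ⟨a, ha⟩ := IsPGroup.iff_card.mp (hG.to_subgroup A)
  have ha2 : a ≤ 2 := (Nat.pow_le_pow_iff_right hp.out.one_lt).mp (ha ▸ hrk A ⟨hA, fun x _ => hexp x⟩)
  refine (card_le_of_maximal_normal_abelian hG hA hmax ha).trans (Nat.pow_le_pow_right hp.out.pos ?_)
  interval_cases a <;> decide

omit hp in
/-- A bound on elementary abelian subgroups passes to subgroups. -/
theorem rank_le_subgroup {G : Type*} [Group G] {k : ℕ}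
    (hrk : ∀ E : Subgroup G, Cfsg.IsElementaryAbelian p E → Nat.card E ≤ k) (H : Subgroup G)
    (E : Subgroup H) (hE : Cfsg.IsElementaryAbelian p E) : Nat.card E ≤ k := by
  rw [← Subgroup.card_map_of_injective H.subtype_injective]
  refine hrk _ ⟨isMulCommutative_of_comm ?_, ?_⟩
  · rintro _ ⟨x, hx, rfl⟩ _ ⟨y, hy, rfl⟩
    exact congrArg Subtype.val (comm_of_isMulCommutative hE.1 hx hy)
  · rintro _ ⟨x, hx, rfl⟩
    rw [← map_pow, hE.2 x hx, map_one]

/-- For `p > 3` and rank at most two, elements of order dividing `p` are closed under multiplication. -/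
theorem mul_pow_eq_one_of_rank_two (hp3 : 3 < p) : ∀ (N : ℕ) (G : Type u) [Group G] [Finite G],
    Nat.card G ≤ N → IsPGroup p G →
    (∀ E : Subgroup G, Cfsg.IsElementaryAbelian p E → Nat.card E ≤ p ^ 2) →
    ∀ x y : G, x ^ p = 1 → y ^ p = 1 → (x * y) ^ p = 1
  | 0, G, _, _, hN, _, _, _, _, _, _ => absurd Nat.card_pos (not_lt.mpr hN)
  | N + 1, G, _, _, hN, hG, hrk, x, y, hx, hy => by
    by_contra hne
    have hsub : ∀ H : Subgroup G, H ≠ ⊤ → ∀ a ∈ H, ∀ b ∈ H, a ^ p = 1 → b ^ p = 1 → (a * b) ^ p = 1 := by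
      intro H hH a ha b hb ha1 hb1
      have hlt : Nat.card H < Nat.card G := by
        refine lt_of_le_of_ne (Subgroup.card_le_card_group H) fun he => hH (Subgroup.eq_top_of_card_eq _ he)
      exact congrArg Subtype.val (mul_pow_eq_one_of_rank_two hp3 N H (by omega) (hG.to_subgroup H)
        (rank_le_subgroup hrk H) ⟨a, ha⟩ ⟨b, hb⟩ (Subtype.ext ha1) (Subtype.ext hb1))
    have hgen : Subgroup.closure ({x, y} : Set G) = ⊤ := by
      by_contra hH
      exact hne (hsub _ hH x (Subgroup.subset_closure (by simp)) y (Subgroup.subset_closure (by simp)) hx hy)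
    have hM : ∀ z w : G, Subgroup.closure ({z, w} : Set G) = ⊤ → z ^ p = 1 → w ^ p = 1 → (z * w) ^ p ≠ 1 →
        ∃ W : Subgroup G, W.Normal ∧ z ∈ W ∧ W.lowerCentralSeries 2 = ⊥ := by
      intro z w hzw hz hw hne'
      set M := zpowers z ⊔ frattini G with hMdef
      have hMtop : M ≠ ⊤ := by
        intro h
        have h2 : zpowers z = ⊤ := frattini_nongenerating h
        obtain ⟨i, hi⟩ := Subgroup.mem_zpowers_iff.mp (h2 ▸ mem_top w)
        have hc : Commute z w := hi ▸ (Commute.refl z).zpow_right i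
        exact hne' (by rw [hc.mul_pow, hz, hw, one_mul])
      haveI : M.Normal := Subgroup.Normal.of_commutator_le G ((commutator_le_frattini hG).trans le_sup_right)
      let W : Subgroup G :=
        { carrier := {a | a ∈ M ∧ a ^ p = 1}
          one_mem' := ⟨one_mem _, one_pow _⟩
          mul_mem' := fun {a b} ha hb => ⟨mul_mem ha.1 hb.1, hsub M hMtop a ha.1 b hb.1 ha.2 hb.2⟩
          inv_mem' := fun {a} ha => ⟨inv_mem ha.1, by rw [inv_pow, ha.2, inv_one]⟩ }
      refine ⟨W, ⟨fun a ha g => ⟨Subgroup.Normal.conj_mem ‹_› a ha.1 g, by rw [conj_pow, ha.2]; simp⟩⟩,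
        ⟨Subgroup.mem_sup_left (mem_zpowers z), hz⟩, ?_⟩
      rw [← Subgroup.top_subtype_lowerCentralSeries, lowerCentralSeries_eq_bot_of_card (hG.to_subgroup W) 1
        (card_le_of_exponent_rank_two (hG.to_subgroup W) (fun a => Subtype.ext a.2.2) (rank_le_subgroup hrk W)),
        Subgroup.map_bot]
    have hne2 : (y * x) ^ p ≠ 1 := fun h => hne (by
      rw [show x * y = x * (y * x) * x⁻¹ by group, conj_pow, h]; simp)
    obtain ⟨Wx, hWxn, hxW, hWx⟩ := hM x y hgen hx hy hne
    obtain ⟨Wy, hWyn, hyW, hWy⟩ := hM y x (by rwa [Set.pair_comm]) hy hx hne2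
    haveI := hWxn
    haveI := hWyn
    have h4 : (⊤ : Subgroup G).lowerCentralSeries (2 + 2) = ⊥ := by
      have h := H77.lcs_sup_eq_bot Wx Wy 2 2 hWx hWy
      have ht : Wx ⊔ Wy = ⊤ := top_le_iff.mp (hgen.symm.le.trans
        (closure_pair_le (Subgroup.mem_sup_left hxW) (Subgroup.mem_sup_right hyW)))
      rwa [ht] at h
    have hreg := isRegular_of_class hG (le_bot_iff.mp
      ((Subgroup.lowerCentralSeries_antitone _ (show 2 + 2 ≤ p - 1 by
        have : p ≠ 4 := fun h => absurd (h ▸ hp.out) (by decide)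
        omega)).trans h4.le))
    have hR := regularAt_of_isRegular hreg 1
    have h' : (x * y) ^ (p ^ 1) = 1 := (omegaSubgroup hG hR).mul_mem
      (show x ^ (p ^ 1) = 1 by rwa [pow_one]) (show y ^ (p ^ 1) = 1 by rwa [pow_one])
    exact hne (by rwa [pow_one] at h')

/-- For `p > 3` and rank at most two, `Ω₁` has exponent `p`. -/
theorem pow_eq_one_of_rank_two {G : Type u} [Group G] [Finite G] (hp3 : 3 < p) (hG : IsPGroup p G)
    (hrk : ∀ E : Subgroup G, Cfsg.IsElementaryAbelian p E → Nat.card E ≤ p ^ 2) {g : G}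
    (hg : g ∈ Subgroup.closure {x : G | x ^ p = 1}) : g ^ p = 1 :=
  Subgroup.closure_induction (p := fun g _ => g ^ p = 1) (fun _ h => h) (one_pow _)
    (fun a b _ _ ha hb => mul_pow_eq_one_of_rank_two hp3 _ G le_rfl hG hrk a b ha hb)
    (fun a _ ha => by rw [inv_pow, ha, inv_one]) hg

/-- A subgroup of class less than `p` with all `p`-th powers in a subgroup of order `p`. -/
theorem card_le_of_pow_mem {G : Type*} [Group G] [Finite G] (hG : IsPGroup p G)
    (hO : Nat.card (Cfsg.omegaOne p (⊤ : Subgroup G)) ≤ p ^ 2) (Z : Subgroup G) (hZ : Nat.card Z = p)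
    (A : Subgroup G) (hcl : A.lowerCentralSeries (p - 1) = ⊥) (hpow : ∀ a ∈ A, a ^ p ∈ Z) :
    Nat.card A ≤ p ^ 3 := by
  have hbot : (⊤ : Subgroup A).lowerCentralSeries (p - 1) = ⊥ := by
    rw [← map_subtype_inj, Subgroup.top_subtype_lowerCentralSeries, hcl, Subgroup.map_bot]
  have hA := hG.to_subgroup A
  have hR := regularAt_of_isRegular (isRegular_of_class hA hbot) 1
  set K := omegaSubgroup hA hR
  have hK : Nat.card K ≤ p ^ 2 := le_trans (Nat.card_le_card_of_injective
    (fun k : K => (⟨((k : A) : G), Subgroup.subset_closure ⟨mem_top _, by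
      simpa using congrArg Subtype.val (show (k : A) ^ (p ^ 1) = 1 from k.2)⟩⟩ :
        Cfsg.omegaOne p (⊤ : Subgroup G)))
    (fun a b h => Subtype.ext (Subtype.ext (congrArg Subtype.val h :)))) hO
  have hidx : K.index ≤ Nat.card Z := by
    show Nat.card (A ⧸ K) ≤ _
    refine Nat.card_le_card_of_injective
      (Quotient.lift (fun a : A => (⟨(a : G) ^ p, hpow a a.2⟩ : Z)) fun a b hab => Subtype.ext ?_) ?_
    · have h : (a⁻¹ * b) ^ (p ^ 1) = 1 := QuotientGroup.leftRel_apply.mp hab
      simpa using congrArg Subtype.val ((regularAt_pow_eq_iff hA hR a b).mpr h)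
    · intro q r
      induction q using QuotientGroup.induction_on with | _ a =>
      induction r using QuotientGroup.induction_on with | _ b =>
      intro h
      rw [QuotientGroup.eq]
      exact (regularAt_pow_eq_iff hA hR a b).mp
        (Subtype.ext (by simpa using (congrArg Subtype.val h : (a : G) ^ p = (b : G) ^ p)))
  calc Nat.card A = Nat.card K * K.index := K.card_mul_index.symm
    _ ≤ p ^ 2 * p := Nat.mul_le_mul hK (hidx.trans hZ.le)
    _ = p ^ 3 := (pow_succ p 2).symm

omit hp in
/-- The elementary abelian subgroups have order at most `|Ω₁|`. -/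
theorem card_le_omega {G : Type*} [Group G] [Finite G] (E : Subgroup G)
    (hE : Cfsg.IsElementaryAbelian p E) : Nat.card E ≤ Nat.card (Cfsg.omegaOne p (⊤ : Subgroup G)) :=
  Subgroup.card_le_of_le fun e he => Subgroup.subset_closure ⟨mem_top _, hE.2 e he⟩

/-- `|Ω₁| ≤ p ^ 2` passes to the quotient by a central subgroup of order `p`. -/
theorem omega_quotient_center {G : Type u} [Group G] [Finite G] (hp3 : 3 < p) (hG : IsPGroup p G)
    (hO : Nat.card (Cfsg.omegaOne p (⊤ : Subgroup G)) ≤ p ^ 2) (Z : Subgroup G) [Z.Normal]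
    (hZc : Z ≤ center G) (hZ : Nat.card Z = p) :
    Nat.card (Cfsg.omegaOne p (⊤ : Subgroup (G ⧸ Z))) ≤ p ^ 2 := by
  set q := QuotientGroup.mk' Z with hq
  have hp1 : 3 ≤ p - 1 := by omega
  -- the preimage of an exponent `p` subgroup of class at most two is small
  have key : ∀ E : Subgroup (G ⧸ Z), (∀ e ∈ E, e ^ p = 1) → E.lowerCentralSeries 2 = ⊥ →
      Nat.card E ≤ p ^ 2 := by
    intro E hexp hcl
    set A := E.comap q
    have hmap : A.map q = E := Subgroup.map_comap_eq_self_of_surjective (QuotientGroup.mk'_surjective Z) E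
    have h2 : A.lowerCentralSeries 2 ≤ Z := by
      rw [← QuotientGroup.ker_mk' Z, ← Subgroup.map_eq_bot_iff, Subgroup.map_lowerCentralSeries, hmap, hcl]
    have h3 : A.lowerCentralSeries 3 = ⊥ := by
      rw [Subgroup.lowerCentralSeries_succ, eq_bot_iff]
      refine commutator_le.mpr fun z hz a _ => ?_
      rw [Subgroup.mem_bot, commutatorElement_eq_one_iff_mul_comm]
      exact (Subgroup.mem_center_iff.mp (hZc (h2 hz)) a).symm
    have h := card_le_of_pow_mem hG hO Z hZ A
      (le_bot_iff.mp ((Subgroup.lowerCentralSeries_antitone _ hp1).trans h3.le))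
      fun a ha => (QuotientGroup.eq_one_iff _).mp (by
        rw [QuotientGroup.mk_pow]; exact hexp _ ha)
    rw [card_comap_mk', hZ, pow_succ] at h
    exact Nat.le_of_mul_le_mul_right (by rwa [mul_comm (Nat.card E)]) hp.out.pos
  have hrk : ∀ E : Subgroup (G ⧸ Z), Cfsg.IsElementaryAbelian p E → Nat.card E ≤ p ^ 2 := by
    refine fun E hE => key E hE.2 (le_bot_iff.mp ((Subgroup.lowerCentralSeries_antitone _
      (show 1 ≤ 2 by omega)).trans (le_of_eq ?_)))
    rw [Subgroup.lowerCentralSeries_succ, Subgroup.lowerCentralSeries_zero, eq_bot_iff]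
    refine commutator_le.mpr fun a ha b hb => ?_
    rw [Subgroup.mem_bot, commutatorElement_eq_one_iff_mul_comm]
    exact comm_of_isMulCommutative hE.1 ha hb
  set W := Cfsg.omegaOne p (⊤ : Subgroup (G ⧸ Z))
  have hWexp : ∀ e ∈ W, e ^ p = 1 := fun e he => pow_eq_one_of_rank_two hp3 (hG.to_quotient Z) hrk
    (Subgroup.closure_mono (fun _ h => h.2) he)
  refine key W hWexp ?_
  rw [← Subgroup.top_subtype_lowerCentralSeries, lowerCentralSeries_eq_bot_of_card
    ((hG.to_quotient Z).to_subgroup W) 1 (card_le_of_exponent_rank_two ((hG.to_quotient Z).to_subgroup W)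
      (fun e => Subtype.ext (hWexp e e.2)) (rank_le_subgroup hrk W)), Subgroup.map_bot]

omit hp in
theorem omegaOne_card_le_of_equiv {G H : Type*} [Group G] [Group H] [Finite G] (e : G ≃* H) :
    Nat.card (Cfsg.omegaOne p (⊤ : Subgroup H)) ≤ Nat.card (Cfsg.omegaOne p (⊤ : Subgroup G)) := by
  haveI : Finite H := Finite.of_equiv G e.toEquiv
  rw [← Subgroup.card_map_of_injective (f := e.toMonoidHom) e.injective
    (K := Cfsg.omegaOne p (⊤ : Subgroup G))]
  refine Subgroup.card_le_of_le ?_
  rw [Cfsg.omegaOne, Subgroup.closure_le]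
  rintro x ⟨-, hx⟩
  exact ⟨e.symm x, Subgroup.subset_closure ⟨mem_top _, by rw [← map_pow, hx, map_one]⟩, e.apply_symm_apply x⟩

/-- `|Ω₁| ≤ p ^ 2` passes to all quotients. -/
theorem omega_quotient (hp3 : 3 < p) : ∀ (N : ℕ) (G : Type u) [Group G] [Finite G], Nat.card G ≤ N →
    IsPGroup p G → Nat.card (Cfsg.omegaOne p (⊤ : Subgroup G)) ≤ p ^ 2 →
    ∀ (T : Subgroup G) [T.Normal], Nat.card (Cfsg.omegaOne p (⊤ : Subgroup (G ⧸ T))) ≤ p ^ 2
  | 0, G, _, _, hN, _, _, _, _ => absurd Nat.card_pos (not_lt.mpr hN)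
  | N + 1, G, _, _, hN, hG, hO, T, _ => by
    by_cases hT : T = ⊥
    · subst hT
      exact (omegaOne_card_le_of_equiv (QuotientGroup.quotientBot (G := G)).symm).trans hO
    obtain ⟨z, hzT, hzc, hz⟩ := exists_mem_center_orderOf_eq hG T hT
    have hZc : zpowers z ≤ center G := zpowers_le.mpr hzc
    haveI := normal_of_le_center hZc
    have hZ : Nat.card (zpowers z) = p := by rw [Nat.card_zpowers, hz]
    have hlt : Nat.card (G ⧸ zpowers z) ≤ N := by
      have h := (zpowers z).card_eq_card_quotient_mul_card_subgroup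
      rw [hZ] at h
      have : Nat.card (G ⧸ zpowers z) < Nat.card (G ⧸ zpowers z) * p :=
        lt_mul_of_one_lt_right Nat.card_pos hp.out.one_lt
      omega
    haveI : (T.map (QuotientGroup.mk' (zpowers z))).Normal :=
      Subgroup.Normal.map ‹_› _ (QuotientGroup.mk'_surjective _)
    have h := omega_quotient hp3 N (G ⧸ zpowers z) hlt (hG.to_quotient _)
      (omega_quotient_center hp3 hG hO _ hZc hZ) (T.map (QuotientGroup.mk' (zpowers z)))
    exact (omegaOne_card_le_of_equiv
      (QuotientGroup.quotientQuotientEquivQuotient (zpowers z) T (zpowers_le.mpr hzT))).trans h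

end Cfsg.Agent.PGroups
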