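import Cfsg.Prelude.Def_Transfer
import Cfsg.Agent.PGroups.Burnside
import Cfsg.Agent.PGroups.Commutator

/-!
Special and extraspecial `p`-groups.
-/

set_option autoImplicit false
set_option linter.style.haveILetI false

namespace Cfsg.Agent.PGroups

open Subgroup
open scoped commutatorElement

variable {G : Type*} [Group G] {p : ℕ}

/-- In a group of class at most 2 every commutator is central. -/
theorem commutatorElement_mem_center (h : commutator G ≤ center G) (a b : G) : ⁅a, b⁆ ∈ center G :=
  h (commutator_mem_commutator (mem_top a) (mem_top b))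

theorem isSpecial_commutator_le {P : Type*} [Group P] (h : Cfsg.IsSpecial p P) :
    commutator P ≤ center P := le_of_eq h.2.2

variable [hp : Fact p.Prime]

/-- In a special group `p`-th powers are central. -/
theorem isSpecial_pow_mem_center [Finite G] (h : Cfsg.IsSpecial p G) (x : G) : x ^ p ∈ center G :=
  h.2.1 ▸ pow_mem_frattini h.1 x

omit hp in
/-- When commutators and `p`-th powers are central, the derived subgroup has exponent dividing `p`. -/
theorem pow_eq_one_of_mem_commutator (hc : commutator G ≤ center G) (hpow : ∀ x : G, x ^ p ∈ center G)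
    {z : G} (hz : z ∈ commutator G) : z ^ p = 1 := by
  suffices h : commutator G ≤ center G ∧ ∀ z ∈ commutator G, z ^ p = 1 from h.2 z hz
  refine ⟨hc, fun z hz => ?_⟩
  rw [commutator_eq_closure] at hz
  have key : z ∈ center G ∧ z ^ p = 1 := by
    induction hz using Subgroup.closure_induction with
    | mem x hx =>
      obtain ⟨a, b, rfl⟩ := hx
      have hab := commutatorElement_mem_center hc a b
      refine ⟨hab, ?_⟩
      rw [← commutatorElement_pow_left_of_mem_center hab, commutatorElement_eq_one_iff_commute]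
      exact commute_of_mem_center (hpow a) b
    | one => exact ⟨one_mem _, one_pow p⟩
    | mul x y _ _ hx hy =>
      exact ⟨mul_mem hx.1 hy.1, by rw [(commute_of_mem_center hx.1 y).mul_pow, hx.2, hy.2, one_mul]⟩
    | inv x _ hx => exact ⟨inv_mem hx.1, by rw [inv_pow, hx.2, inv_one]⟩
  exact key.2

/-- The centre of a special group has exponent dividing `p`. -/
theorem isSpecial_center_pow [Finite G] (h : Cfsg.IsSpecial p G) {z : G} (hz : z ∈ center G) :
    z ^ p = 1 :=
  pow_eq_one_of_mem_commutator (isSpecial_commutator_le h) (isSpecial_pow_mem_center h) (h.2.2.symm ▸ hz)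

/-- An element of a group of order `p` is a power of any nontrivial element. -/
theorem zpowers_eq_of_card_eq {H : Subgroup G} (hH : Nat.card H = p) {c : G} (hc : c ∈ H) (hc1 : c ≠ 1) :
    zpowers c = H := by
  haveI : Finite H := Nat.finite_of_card_ne_zero (hH ▸ hp.out.ne_zero)
  have ho : orderOf c = p := by
    rcases hp.out.eq_one_or_self_of_dvd _ (hH ▸ Subgroup.orderOf_dvd_natCard H hc) with h | h
    · exact absurd (orderOf_eq_one_iff.mp h) hc1
    · exact h
  exact Subgroup.eq_of_le_of_card_ge (zpowers_le.mpr hc) (le_of_eq (by rw [hH, Nat.card_zpowers, ho]))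

/-- An extraspecial group is not commutative: some commutator is nontrivial. -/
theorem isExtraspecial_exists_ne (h : Cfsg.IsExtraspecial p G) : ∃ x y : G, ⁅x, y⁆ ≠ 1 := by
  by_contra hall
  push Not at hall
  have hbot : commutator G = ⊥ := by
    rw [eq_bot_iff, commutator_eq_closure, Subgroup.closure_le]
    rintro _ ⟨a, b, rfl⟩
    exact hall a b
  have := h.2
  rw [← h.1.2.2, hbot, Subgroup.card_bot] at this
  exact hp.out.one_lt.ne this

/-- Commutation with a fixed element as a homomorphism into the centre, in class at most 2. -/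
def commutatorHom (hc : commutator G ≤ center G) (x : G) : G →* center G :=
  MonoidHom.mk' (fun g => ⟨⁅g, x⁆, commutatorElement_mem_center hc g x⟩) fun a b =>
    Subtype.ext (commutatorElement_mul_left_of_mem_center (commutatorElement_mem_center hc b x))

omit hp in
@[simp] theorem commutatorHom_apply (hc : commutator G ≤ center G) (x g : G) :
    (commutatorHom hc x g : G) = ⁅g, x⁆ := rfl

omit hp in
theorem mem_centralizer_pair {x y g : G} :
    g ∈ centralizer ({x, y} : Set G) ↔ ⁅g, x⁆ = 1 ∧ ⁅g, y⁆ = 1 := by
  simp only [Subgroup.mem_centralizer_iff, Set.mem_insert_iff, Set.mem_singleton_iff, forall_eq_or_imp,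
    forall_eq, commutatorElement_eq_one_iff_mul_comm]
  exact ⟨fun h => ⟨h.1.symm, h.2.symm⟩, fun h => ⟨h.1.symm, h.2.symm⟩⟩

/-- If the centre has order `p` and contains the derived subgroup, and `x`, `y` do not commute, then
every element is `y ^ i * x ^ j` times an element of the centraliser of `x` and `y`; that centraliser
has index `p ^ 2` and its centre is the centre of the group. -/
theorem centralizer_pair [Finite G] (hc : commutator G ≤ center G) (hZ : Nat.card (center G) = p)
    {x y : G} (hxy : ⁅x, y⁆ ≠ 1) :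
    (∀ g : G, ∃ i j : ℤ, x ^ i * y ^ j * g ∈ centralizer ({x, y} : Set G)) ∧
      (centralizer ({x, y} : Set G)).index = p ^ 2 ∧
      ∀ z : G, z ∈ centralizer ({x, y} : Set G) →
        (∀ g ∈ centralizer ({x, y} : Set G), g * z = z * g) → z ∈ center G := by
  have hgen := zpowers_eq_of_card_eq hZ (commutatorElement_mem_center hc x y) hxy
  have hadd : ∀ a b c : G, ⁅a * b, c⁆ = ⁅a, c⁆ * ⁅b, c⁆ := fun a b c =>
    commutatorElement_mul_left_of_mem_center (commutatorElement_mem_center hc b c)
  have hpw : ∀ (a c : G) (i : ℤ), ⁅a ^ i, c⁆ = ⁅a, c⁆ ^ i := fun a c i => by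
    rw [← commutatorHom_apply hc c a, ← commutatorHom_apply hc c (a ^ i), map_zpow, Subgroup.coe_zpow]
  have hdec : ∀ g : G, ∃ i j : ℤ, x ^ i * y ^ j * g ∈ centralizer ({x, y} : Set G) := by
    intro g
    obtain ⟨m, hm⟩ := Subgroup.mem_zpowers_iff.mp (hgen.symm ▸ commutatorElement_mem_center hc g y :
      ⁅g, y⁆ ∈ zpowers ⁅x, y⁆)
    obtain ⟨k, hk⟩ := Subgroup.mem_zpowers_iff.mp (hgen.symm ▸ commutatorElement_mem_center hc g x :
      ⁅g, x⁆ ∈ zpowers ⁅x, y⁆)
    refine ⟨-m, k, mem_centralizer_pair.mpr ⟨?_, ?_⟩⟩
    · rw [hadd, hadd, hpw, hpw, commutatorElement_self, one_zpow, one_mul,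
        ← commutatorElement_inv x y, ← hk, inv_zpow, inv_mul_cancel]
    · rw [hadd, hadd, hpw, hpw, commutatorElement_self, one_zpow, mul_one, ← hm, zpow_neg, inv_mul_cancel]
  refine ⟨hdec, ?_, ?_⟩
  · let f : G →* center G × center G := (commutatorHom hc x).prod (commutatorHom hc y)
    have hker : f.ker = centralizer ({x, y} : Set G) := by
      ext g
      rw [mem_centralizer_pair, MonoidHom.mem_ker]
      simp [f, Prod.ext_iff, Subtype.ext_iff]
    have hsurj : Function.Surjective f := by
      rintro ⟨⟨a, ha⟩, ⟨b, hb⟩⟩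
      rw [← hgen] at ha hb
      obtain ⟨k, rfl⟩ := Subgroup.mem_zpowers_iff.mp ha
      obtain ⟨m, rfl⟩ := Subgroup.mem_zpowers_iff.mp hb
      refine ⟨y ^ (-k) * x ^ m, Prod.ext (Subtype.ext ?_) (Subtype.ext ?_)⟩
      · change ⁅y ^ (-k) * x ^ m, x⁆ = _
        rw [hadd, hpw, hpw, commutatorElement_self, one_zpow, mul_one, ← commutatorElement_inv x y, inv_zpow,
          zpow_neg, inv_inv]
      · change ⁅y ^ (-k) * x ^ m, y⁆ = _
        rw [hadd, hpw, hpw, commutatorElement_self, one_zpow, one_mul]
    rw [← hker, Subgroup.index_ker, MonoidHom.range_eq_top.mpr hsurj, Subgroup.card_top, Nat.card_prod, hZ, sq]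
  · intro z hz hzC
    refine Subgroup.mem_center_iff.mpr fun g => ?_
    obtain ⟨i, j, hij⟩ := hdec g
    obtain ⟨hzx, hzy⟩ := mem_centralizer_pair.mp hz
    have h1 : Commute z x := commutatorElement_eq_one_iff_commute.mp hzx
    have h2 : Commute z y := commutatorElement_eq_one_iff_commute.mp hzy
    have h3 : Commute z (x ^ i * y ^ j * g) := (hzC _ hij).symm
    have h4 : g = (x ^ i * y ^ j)⁻¹ * (x ^ i * y ^ j * g) := by group
    have h5 : Commute z g := by
      rw [h4]; exact (((h1.zpow_right i).mul_right (h2.zpow_right j)).inv_right).mul_right h3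
    exact h5.symm.eq

/-- A `p`-group of class at most 2 with centre of order `p` has order an odd power of `p`. -/
theorem card_eq_of_center_card [Finite G] (_hG : IsPGroup p G) (hc : commutator G ≤ center G)
    (hZ : Nat.card (center G) = p) : ∃ n : ℕ, Nat.card G = p ^ (2 * n + 1) := by
  suffices H : ∀ (N : ℕ) (K : Subgroup G), Nat.card K ≤ N → commutator K ≤ center K →
      Nat.card (center K) = p → ∃ n : ℕ, Nat.card K = p ^ (2 * n + 1) by
    obtain ⟨n, hn⟩ := H (Nat.card G) ⊤ (by simp)
      (by
        rw [commutator_eq_closure, Subgroup.closure_le]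
        rintro _ ⟨a, b, rfl⟩
        refine Subgroup.mem_center_iff.mpr fun g => Subtype.ext ?_
        exact Subgroup.mem_center_iff.mp (commutatorElement_mem_center hc (a : G) b) g)
      (by rw [← hZ]; exact Nat.card_congr (Subgroup.centerCongr Subgroup.topEquiv).toEquiv)
    exact ⟨n, by simpa using hn⟩
  intro N
  induction N with
  | zero => intro K hK; exact absurd Nat.card_pos (not_lt.mpr hK)
  | succ N ih =>
    intro K hK hcK hZK
    by_cases hcomm : ∀ a b : K, ⁅a, b⁆ = 1
    · refine ⟨0, ?_⟩
      have : center K = ⊤ := eq_top_iff.mpr fun a _ =>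
        Subgroup.mem_center_iff.mpr fun b => (commutatorElement_eq_one_iff_mul_comm.mp (hcomm b a))
      rw [this, Subgroup.card_top] at hZK
      simpa using hZK
    · push Not at hcomm
      obtain ⟨x, y, hxy⟩ := hcomm
      obtain ⟨-, hidx, hcen⟩ := centralizer_pair hcK hZK hxy
      set C := centralizer ({x, y} : Set K) with hC
      set C' := C.map K.subtype with hC'
      let e : C ≃* C' := C.equivMapOfInjective K.subtype K.subtype_injective
      have hcC : commutator C ≤ center C := by
        rw [commutator_eq_closure, Subgroup.closure_le]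
        rintro _ ⟨a, b, rfl⟩
        refine Subgroup.mem_center_iff.mpr fun g => Subtype.ext ?_
        exact Subgroup.mem_center_iff.mp (commutatorElement_mem_center hcK (a : K) b) g
      have hZC : Nat.card (center C) = p := by
        rw [← hZK]
        refine Nat.card_congr
          { toFun := fun z => ⟨((z : C) : K), hcen _ z.1.2 fun g hg =>
              congrArg Subtype.val (Subgroup.mem_center_iff.mp z.2 ⟨g, hg⟩)⟩
            invFun := fun z => ⟨⟨z, Subgroup.mem_centralizer_iff.mpr fun g _ =>
              Subgroup.mem_center_iff.mp z.2 g⟩, Subgroup.mem_center_iff.mpr fun g =>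
              Subtype.ext (Subgroup.mem_center_iff.mp z.2 g)⟩
            left_inv := fun z => rfl
            right_inv := fun z => rfl }
      have hcard : Nat.card K = Nat.card C * p ^ 2 := by rw [← hidx, Subgroup.card_mul_index]
      have hCC' : Nat.card C' = Nat.card C := Nat.card_congr e.symm.toEquiv
      have hlt : Nat.card C < Nat.card K := by
        rw [hcard]
        exact lt_mul_of_one_lt_right Nat.card_pos (Nat.one_lt_pow two_ne_zero hp.out.one_lt)
      have hcC' : commutator C' ≤ center C' := by
        rw [commutator_eq_closure, Subgroup.closure_le]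
        rintro _ ⟨a, b, rfl⟩
        refine Subgroup.mem_center_iff.mpr fun g => e.symm.injective ?_
        rw [map_mul, map_mul, map_commutatorElement]
        exact Subgroup.mem_center_iff.mp (commutatorElement_mem_center hcC _ _) _
      have hZC' : Nat.card (center C') = p := by
        rw [← hZC]; exact Nat.card_congr (Subgroup.centerCongr e).symm.toEquiv
      obtain ⟨n, hn⟩ := ih C' (by omega) hcC' hZC'
      exact ⟨n + 1, by rw [hcard, ← hCC', hn, ← pow_add]; ring_nf⟩

/-- An extraspecial group has order `p ^ (2 n + 1)` with `1 ≤ n`. -/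
theorem isExtraspecial_card [Finite G] (h : Cfsg.IsExtraspecial p G) :
    ∃ n : ℕ, 1 ≤ n ∧ Nat.card G = p ^ (2 * n + 1) := by
  obtain ⟨n, hn⟩ := card_eq_of_center_card h.1.1 (isSpecial_commutator_le h.1) h.2
  refine ⟨n, Nat.pos_of_ne_zero ?_, hn⟩
  rintro rfl
  obtain ⟨x, y, hxy⟩ := isExtraspecial_exists_ne h
  have : center G = ⊤ := Subgroup.eq_top_of_card_eq _ (by rw [h.2, hn]; simp)
  exact hxy (commutatorElement_eq_one_iff_commute.mpr (commute_of_mem_center (this ▸ mem_top x) y))

/-- An automorphism of an extraspecial group trivial modulo the centre is inner. -/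
theorem exists_conj_of_trivial_mod_center [Finite G] (h : Cfsg.IsExtraspecial p G) (a : MulAut G)
    (ha : ∀ x : G, a x * x⁻¹ ∈ center G) : ∃ g : G, MulAut.conj g = a := by
  have hc := isSpecial_commutator_le h.1
  let ψ : G →* center G := MonoidHom.mk' (fun x => ⟨a x * x⁻¹, ha x⟩) fun x y => by
    apply Subtype.ext
    change a (x * y) * (x * y)⁻¹ = a x * x⁻¹ * (a y * y⁻¹)
    calc a (x * y) * (x * y)⁻¹ = a x * (a y * y⁻¹ * x⁻¹) := by rw [map_mul]; group
      _ = a x * x⁻¹ * (a y * y⁻¹) := by rw [(commute_of_mem_center (ha y) x⁻¹).eq]; group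
  let F : G ⧸ center G → (G →* center G) := Quotient.lift (fun g => commutatorHom hc g⁻¹) fun g k hgk => by
    have hz : g⁻¹ * k ∈ center G := QuotientGroup.leftRel_apply.mp hgk
    ext x
    simp only [commutatorHom_apply]
    have hk : k⁻¹ = (g⁻¹ * k)⁻¹ * g⁻¹ := by group
    rw [hk, commutatorElement_mul_right_of_mem_center (commutatorElement_mem_center hc _ _),
      commutatorElement_eq_one_iff_commute.mpr (commute_of_mem_center (inv_mem hz) x).symm, one_mul]
  have hinj : Function.Injective F := by
    intro q r
    induction q using QuotientGroup.induction_on with | _ g =>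
    induction r using QuotientGroup.induction_on with | _ k =>
    intro hF
    rw [QuotientGroup.eq, Subgroup.mem_center_iff]
    intro x
    have hx : ⁅x, g⁻¹⁆ = ⁅x, k⁻¹⁆ := congrArg (fun f : G →* center G => (f x : G)) hF
    have hsplit : ⁅x, g⁻¹⁆ = ⁅x, g⁻¹ * k⁆ * ⁅x, k⁻¹⁆ := by
      rw [← commutatorElement_mul_right_of_mem_center (commutatorElement_mem_center hc _ _),
        mul_inv_cancel_right]
    exact commutatorElement_eq_one_iff_mul_comm.mp (right_eq_mul.mp (hx.symm.trans hsplit))
  have hle := card_hom_le h.1.1 h.2 (G := G) (M := center G)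
  have hfr : (frattini G).index = Nat.card (G ⧸ center G) := by rw [h.1.2.1, Subgroup.index_eq_card]
  haveI : Finite (G →* center G) := Finite.of_injective _ DFunLike.coe_injective
  obtain ⟨q, hq⟩ := (hinj.bijective_of_nat_card_le (hfr ▸ hle)).2 ψ
  induction q using QuotientGroup.induction_on with | _ g =>
  refine ⟨g, MulEquiv.ext fun x => ?_⟩
  have hx : ⁅x, g⁻¹⁆ = a x * x⁻¹ := congrArg (fun f : G →* center G => (f x : G)) hq
  have hcomm := (commute_of_mem_center (commutatorElement_mem_center hc x g⁻¹) g).eq
  calc MulAut.conj g x = g * ⁅x, g⁻¹⁆ * g⁻¹ * x := by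
        rw [MulAut.conj_apply, commutatorElement_def]; group
    _ = ⁅x, g⁻¹⁆ * x := by rw [← hcomm, mul_inv_cancel_right]
    _ = a x := by rw [hx, inv_mul_cancel_right]

/-- If an element of a group acts on an extraspecial subgroup trivially modulo its centre, it lies in
the product of the subgroup and its centraliser. -/
theorem sup_centralizer_eq_top [Finite G] (E : Subgroup G) (hE : Cfsg.IsExtraspecial p E)
    (h : ⁅(⊤ : Subgroup G), E⁆ ≤ E ⊓ centralizer (E : Set G)) :
    E ⊔ centralizer (E : Set G) = ⊤ := by
  have hn : E.Normal := commutator_top_left_le_iff.mp (h.trans inf_le_left)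
  rw [eq_top_iff]
  intro g _
  obtain ⟨e, he⟩ := exists_conj_of_trivial_mod_center hE (MulAut.conjNormal g) fun x => by
    refine Subgroup.mem_center_iff.mpr fun y => Subtype.ext ?_
    have hx : ⁅g, (x : G)⁆ ∈ E ⊓ centralizer (E : Set G) := h (commutator_mem_commutator (mem_top g) x.2)
    have := Subgroup.mem_centralizer_iff.mp hx.2 y y.2
    simpa [MulAut.conjNormal_apply, commutatorElement_def] using this
  have hc : (e : G)⁻¹ * g ∈ centralizer (E : Set G) := by
    refine Subgroup.mem_centralizer_iff.mpr fun x hx => ?_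
    have := congrArg Subtype.val (DFunLike.congr_fun he ⟨x, hx⟩)
    simp only [MulAut.conj_apply, MulAut.conjNormal_apply, Subgroup.coe_mul, Subgroup.coe_inv] at this
    have h2 : (e : G)⁻¹ * g * x * g⁻¹ * (e : G) = x := by
      calc (e : G)⁻¹ * g * x * g⁻¹ * (e : G) = (e : G)⁻¹ * (g * x * g⁻¹) * e := by group
        _ = x := by rw [← this]; group
    calc x * ((e : G)⁻¹ * g) = (e : G)⁻¹ * g * x * g⁻¹ * e * ((e : G)⁻¹ * g) := by rw [h2]
      _ = (e : G)⁻¹ * g * x := by group
  rw [show g = (e : G) * ((e : G)⁻¹ * g) by group]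
  exact Subgroup.mul_mem_sup e.2 hc

end Cfsg.Agent.PGroups
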