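import Cfsg.Agent.PGroups.Burnside
import Cfsg.Agent.PGroups.MaxAbelian
import Cfsg.Agent.PGroups.CyclicMaximal
import Mathlib.Combinatorics.Enumerative.DoubleCounting
import Mathlib.Data.ZMod.Basic
import Mathlib.Algebra.Group.Hom.CompTypeclasses
import Mathlib.Algebra.BigOperators.Group.List.Basic

/-!
Vaughan-Lee's theorem on breadth: if every conjugacy class of a finite `p`-group has at most `p ^ b`
elements then `|G'| ≤ p ^ (b (b + 1) / 2)`.

The proof is by induction on the order. If some maximal subgroup has the same derived subgroup we are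
done. Otherwise a double count of pairs (element, maximal subgroup modulo whose derived subgroup it is
central) shows that the elements `x` with `C(x) ≤ Φ ⟨x⟩` generate `G`; with such generators `a₀, …`, every
element of `G'` is a product of commutators `⁅aᵢ, hᵢ⁆` with `hᵢ ∈ ⟨aᵢ, aᵢ₊₁, …⟩ Φ`, which gives the bound.
-/

set_option autoImplicit false
set_option linter.style.haveILetI false

namespace Cfsg.Agent.PGroups

open Subgroup
open scoped commutatorElement

universe u

section Product

variable {G : Type*} [Group G]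

/-- The subgroup `⟨l⟩ Φ(G)`. -/
def spanFrattini (l : List G) : Subgroup G :=
  Subgroup.closure {x | x ∈ l} ⊔ frattini G

/-- Products `⁅a₀, h₀⁆ ⁅a₁, h₁⁆ ⋯` with `hᵢ ∈ K ∩ ⟨aᵢ, aᵢ₊₁, …⟩ Φ`. -/
def repSet (K : Subgroup G) : List G → Set G
  | [] => {1}
  | a :: l => Set.image2 (fun h v => ⁅a, h⁆ * v) ((K ⊓ spanFrattini (a :: l) : Subgroup G) : Set G) (repSet K l)

theorem one_mem_repSet (K : Subgroup G) : ∀ l : List G, (1 : G) ∈ repSet K l
  | [] => rfl
  | a :: l => ⟨1, one_mem _, 1, one_mem_repSet K l, by simp⟩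

theorem spanFrattini_mono {l m : List G} (h : ∀ x ∈ l, x ∈ m) : spanFrattini l ≤ spanFrattini m :=
  sup_le_sup_right (Subgroup.closure_mono h) _

theorem commutator_mem_repSet (K : Subgroup G) {a k : G} (hk : k ∈ K) {m : List G} :
    ∀ l : List G, k ∈ spanFrattini (a :: m) → ⁅a, k⁆ ∈ repSet K (l ++ a :: m)
  | [], hm => ⟨k, ⟨hk, hm⟩, 1, one_mem_repSet K m, mul_one _⟩
  | c :: l, hm => ⟨1, one_mem _, _, commutator_mem_repSet K hk l hm, by simp⟩

theorem repSet_mono {K K' : Subgroup G} (h : K ≤ K') : ∀ l : List G, repSet K l ⊆ repSet K' l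
  | [] => subset_rfl
  | _ :: l => Set.image2_subset (fun _ hx => ⟨h hx.1, hx.2⟩) (repSet_mono h l)

variable {Q : Type*} [Group Q] (q : G →* Q)

theorem repSet_central {K : Subgroup G} (hK : ∀ a : G, ∀ k ∈ K, q ⁅a, k⁆ ∈ center Q) :
    ∀ l : List G, ∀ w ∈ repSet K l, q w ∈ center Q
  | [], w, hw => by rw [show w = 1 from hw, map_one]; exact one_mem _
  | a :: l, _, ⟨h, hh, v, hv, rfl⟩ => by
    rw [map_mul]; exact mul_mem (hK a h hh.1) (repSet_central hK l v hv)

/-- Products from `repSet K'` can be multiplied by products from `repSet K` (central images). -/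
theorem repSet_mul {K K' : Subgroup G} (hle : K ≤ K') (hK : ∀ a : G, ∀ k ∈ K, q ⁅a, k⁆ ∈ center Q) :
    ∀ l : List G, ∀ w ∈ repSet K' l, ∀ u ∈ repSet K l, ∃ v ∈ repSet K' l, q v = q w * q u
  | [], w, hw, u, hu => ⟨1, rfl, by rw [show w = 1 from hw, show u = 1 from hu, map_one, one_mul]⟩
  | a :: l, _, ⟨h, hh, w, hw, rfl⟩, _, ⟨k, hk, u, hu, rfl⟩ => by
    obtain ⟨v, hv, hvq⟩ := repSet_mul hle hK l w hw u hu
    refine ⟨⁅a, h * k⁆ * v, ⟨h * k, ⟨mul_mem hh.1 (hle hk.1), mul_mem hh.2 hk.2⟩, v, hv, rfl⟩, ?_⟩
    have hz := hK a k hk.1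
    have hconj : ⁅a, h * k⁆ = ⁅a, h⁆ * (h * ⁅a, k⁆ * h⁻¹) := by simp only [commutatorElement_def]; group
    have hcomm : ∀ x : Q, q ⁅a, k⁆ * x = x * q ⁅a, k⁆ := fun x => (Subgroup.mem_center_iff.mp hz x).symm
    rw [hconj, map_mul, hvq]
    simp only [map_mul, map_inv]
    rw [← hcomm (q h), mul_inv_cancel_right, mul_assoc (q ⁅a, h⁆) (q ⁅a, k⁆), ← mul_assoc (q ⁅a, k⁆) (q w),
      hcomm (q w)]
    group

omit [Group G] in
theorem list_split {a : G} : ∀ {l : List G}, a ∈ l → ∃ l₁ l₂ : List G, l = l₁ ++ a :: l₂ :=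
  fun h => List.append_of_mem h

omit [Group G] in
/-- For two members of a list one of them occurs after the other, or they are equal. -/
theorem list_order {a c : G} : ∀ {l : List G}, a ∈ l → c ∈ l →
    (∃ l₁ l₂, l = l₁ ++ a :: l₂ ∧ c ∈ a :: l₂) ∨ (∃ l₁ l₂, l = l₁ ++ c :: l₂ ∧ a ∈ c :: l₂)
  | x :: l, ha, hc => by
    rcases List.mem_cons.mp ha with rfl | ha'
    · exact Or.inl ⟨[], l, rfl, hc⟩
    rcases List.mem_cons.mp hc with rfl | hc'
    · exact Or.inr ⟨[], l, rfl, ha⟩
    rcases list_order ha' hc' with ⟨l₁, l₂, rfl, h⟩ | ⟨l₁, l₂, rfl, h⟩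
    · exact Or.inl ⟨x :: l₁, l₂, rfl, h⟩
    · exact Or.inr ⟨x :: l₁, l₂, rfl, h⟩

end Product

variable {p : ℕ} [hp : Fact p.Prime]

/-- One step: a term of the lower central series is covered modulo the next one. -/
theorem repSet_cover {G : Type*} [Group G] [Finite G] (hG : IsPGroup p G) (l : List G)
    (hl : Subgroup.closure {x | x ∈ l} = ⊤) (n : ℕ) {y : G}
    (hy : y ∈ (⊤ : Subgroup G).lowerCentralSeries (n + 1)) :
    ∃ v ∈ repSet ((⊤ : Subgroup G).lowerCentralSeries n) l,
      QuotientGroup.mk' ((⊤ : Subgroup G).lowerCentralSeries (n + 2)) v =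
        QuotientGroup.mk' ((⊤ : Subgroup G).lowerCentralSeries (n + 2)) y := by
  set K := (⊤ : Subgroup G).lowerCentralSeries n with hKdef
  set N := (⊤ : Subgroup G).lowerCentralSeries (n + 2) with hNdef
  set q := QuotientGroup.mk' N with hq
  have hKc : ∀ a : G, ∀ k ∈ K, q ⁅a, k⁆ ∈ center (G ⧸ N) := by
    intro a k hk
    refine Subgroup.mem_center_iff.mpr fun x => ?_
    obtain ⟨g, rfl⟩ := QuotientGroup.mk'_surjective N x
    have h1 : ⁅a, k⁆ ∈ (⊤ : Subgroup G).lowerCentralSeries (n + 1) := by
      rw [← commutatorElement_inv, Subgroup.lowerCentralSeries_succ]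
      exact inv_mem (commutator_mem_commutator hk (mem_top a))
    have h2 : ⁅⁅a, k⁆, g⁆ ∈ N := by
      rw [hNdef, Subgroup.lowerCentralSeries_succ]
      exact commutator_mem_commutator h1 (mem_top g)
    have h3 : q ⁅⁅a, k⁆, g⁆ = 1 := (QuotientGroup.eq_one_iff _).mpr h2
    rw [map_commutatorElement, commutatorElement_eq_one_iff_mul_comm] at h3
    exact h3.symm
  let I : Subgroup (G ⧸ N) :=
    { carrier := q '' repSet K l
      one_mem' := ⟨1, one_mem_repSet K l, map_one q⟩
      mul_mem' := by
        rintro _ _ ⟨w, hw, rfl⟩ ⟨u, hu, rfl⟩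
        exact repSet_mul q le_rfl hKc l w hw u hu
      inv_mem' := by
        intro x hx
        have : ∀ m : ℕ, x ^ m ∈ q '' repSet K l := by
          intro m
          induction m with
          | zero => exact ⟨1, one_mem_repSet K l, by rw [map_one, pow_zero]⟩
          | succ m ih =>
            obtain ⟨w, hw, hwx⟩ := ih
            obtain ⟨u, hu, hux⟩ := hx
            obtain ⟨v, hv, hvx⟩ := repSet_mul q le_rfl hKc l w hw u hu
            exact ⟨v, hv, by rw [hvx, hwx, hux, pow_succ]⟩
        have he : x⁻¹ = x ^ (orderOf x - 1) := by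
          refine inv_eq_of_mul_eq_one_right ?_
          rw [← pow_succ', Nat.sub_add_cancel (orderOf_pos x), pow_orderOf_eq_one]
        rw [he]; exact this _ }
  suffices h : (⊤ : Subgroup G).lowerCentralSeries (n + 1) ≤ I.comap q from h hy
  rw [Subgroup.lowerCentralSeries_succ]
  refine commutator_le.mpr fun k hk g _ => ?_
  -- it suffices to treat the generators
  have key : ∀ a ∈ l, q ⁅a, k⁆ ∈ I := by
    intro a ha
    rcases n with - | m
    · let J : Subgroup G :=
        { carrier := {k | q ⁅a, k⁆ ∈ I}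
          one_mem' := by simp [commutatorElement_one_right, one_mem]
          mul_mem' := by
            intro x y hx hy
            have hz := hKc a y (by simp [hKdef])
            show q ⁅a, x * y⁆ ∈ I
            rw [show ⁅a, x * y⁆ = ⁅a, x⁆ * (x * ⁅a, y⁆ * x⁻¹) by simp only [commutatorElement_def]; group]
            simp only [map_mul, map_inv]
            rw [Subgroup.mem_center_iff.mp hz (q x), mul_inv_cancel_right]
            exact mul_mem hx hy
          inv_mem' := by
            intro x hx
            have hz := hKc a x (by simp [hKdef])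
            show q ⁅a, x⁻¹⁆ ∈ I
            rw [show ⁅a, x⁻¹⁆ = x⁻¹ * ⁅a, x⁆⁻¹ * x by simp only [commutatorElement_def]; group]
            simp only [map_mul, map_inv]
            rw [Subgroup.mem_center_iff.mp (inv_mem hz) (q x)⁻¹, inv_mul_cancel_right]
            exact inv_mem hx }
      suffices hJ : (⊤ : Subgroup G) ≤ J from hJ (mem_top k)
      rw [← hl, Subgroup.closure_le]
      intro c hc
      rcases list_order ha hc with ⟨l₁, l₂, rfl, h⟩ | ⟨l₁, l₂, rfl, h⟩
      · exact ⟨_, commutator_mem_repSet K (by simp [hKdef]) l₁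
          (Subgroup.mem_sup_left (Subgroup.subset_closure h)), rfl⟩
      · show q ⁅a, c⁆ ∈ I
        rw [← commutatorElement_inv, map_inv]
        exact inv_mem ⟨_, commutator_mem_repSet K (by simp [hKdef]) l₁
          (Subgroup.mem_sup_left (Subgroup.subset_closure h)), rfl⟩
    · obtain ⟨l₁, l₂, rfl⟩ := list_split ha
      refine ⟨_, commutator_mem_repSet K hk l₁ (Subgroup.mem_sup_right (commutator_le_frattini hG ?_)), rfl⟩
      have h1 : K ≤ (⊤ : Subgroup G).lowerCentralSeries 1 :=
        Subgroup.lowerCentralSeries_antitone _ (by omega)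
      rw [Subgroup.top_lowerCentralSeries_one] at h1
      exact h1 hk
  let J : Subgroup G :=
    { carrier := {g | q ⁅g, k⁆ ∈ I}
      one_mem' := by simp [commutatorElement_one_left, one_mem]
      mul_mem' := by
        intro x y hx hy
        have hz := hKc y k hk
        show q ⁅x * y, k⁆ ∈ I
        rw [show ⁅x * y, k⁆ = x * ⁅y, k⁆ * x⁻¹ * ⁅x, k⁆ by simp only [commutatorElement_def]; group]
        simp only [map_mul, map_inv]
        rw [Subgroup.mem_center_iff.mp hz (q x), mul_inv_cancel_right]
        exact mul_mem hy hx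
      inv_mem' := by
        intro x hx
        have hz := hKc x k hk
        show q ⁅x⁻¹, k⁆ ∈ I
        rw [show ⁅x⁻¹, k⁆ = x⁻¹ * ⁅x, k⁆⁻¹ * x by simp only [commutatorElement_def]; group]
        simp only [map_mul, map_inv]
        rw [Subgroup.mem_center_iff.mp (inv_mem hz) (q x)⁻¹, inv_mul_cancel_right]
        exact inv_mem hx }
  have hJ : (⊤ : Subgroup G) ≤ J := by rw [← hl, Subgroup.closure_le]; exact key
  show q ⁅k, g⁆ ∈ I
  rw [← commutatorElement_inv, map_inv]
  exact inv_mem (hJ (mem_top g))

/-- Every element of the derived subgroup lies in `repSet ⊤ l` when `l` generates. -/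
theorem commutator_subset_repSet {G : Type*} [Group G] [Finite G] (hG : IsPGroup p G) (l : List G)
    (hl : Subgroup.closure {x | x ∈ l} = ⊤) : (commutator G : Set G) ⊆ repSet ⊤ l := by
  intro w hw
  have main : ∀ n : ℕ, ∃ v ∈ repSet ⊤ l, v⁻¹ * w ∈ (⊤ : Subgroup G).lowerCentralSeries (n + 1) := by
    intro n
    induction n with
    | zero =>
      refine ⟨1, one_mem_repSet _ l, ?_⟩
      rw [inv_one, one_mul, Subgroup.top_lowerCentralSeries_one]
      exact hw
    | succ n ih =>
      obtain ⟨v, hv, hvw⟩ := ih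
      obtain ⟨u, hu, huq⟩ := repSet_cover hG l hl n hvw
      set N := (⊤ : Subgroup G).lowerCentralSeries (n + 2) with hNdef
      have hKc : ∀ a : G, ∀ k ∈ (⊤ : Subgroup G).lowerCentralSeries n,
          QuotientGroup.mk' N ⁅a, k⁆ ∈ center (G ⧸ N) := by
        intro a k hk
        refine Subgroup.mem_center_iff.mpr fun x => ?_
        obtain ⟨g, rfl⟩ := QuotientGroup.mk'_surjective N x
        have h1 : ⁅a, k⁆ ∈ (⊤ : Subgroup G).lowerCentralSeries (n + 1) := by
          rw [← commutatorElement_inv, Subgroup.lowerCentralSeries_succ]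
          exact inv_mem (commutator_mem_commutator hk (mem_top a))
        have h2 : ⁅⁅a, k⁆, g⁆ ∈ N := by
          rw [hNdef, Subgroup.lowerCentralSeries_succ]
          exact commutator_mem_commutator h1 (mem_top g)
        have h3 : QuotientGroup.mk' N ⁅⁅a, k⁆, g⁆ = 1 := (QuotientGroup.eq_one_iff _).mpr h2
        rw [map_commutatorElement, commutatorElement_eq_one_iff_mul_comm] at h3
        exact h3.symm
      obtain ⟨v', hv', hq⟩ := repSet_mul (QuotientGroup.mk' N) le_top hKc l v hv u hu
      refine ⟨v', hv', ?_⟩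
      rw [huq, map_mul, map_inv, mul_inv_cancel_left, QuotientGroup.mk'_apply, QuotientGroup.mk'_apply,
        QuotientGroup.eq] at hq
      exact hq
  haveI := hG.isNilpotent
  obtain ⟨n, hn⟩ := Subgroup.nilpotent_iff_lowerCentralSeries.mp (inferInstance : Group.IsNilpotent G)
  obtain ⟨v, hv, hvw⟩ := main n
  have : v⁻¹ * w ∈ (⊥ : Subgroup G) := hn ▸ Subgroup.lowerCentralSeries_antitone _ n.le_succ hvw
  rw [Subgroup.mem_bot, inv_mul_eq_one] at this
  exact this ▸ hv

/-- Every element outside a normal subgroup with elementary abelian quotient is moved by a homomorphism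
to the group of order `p` killing that subgroup. -/
theorem exists_hom_ne_one {G : Type*} [Group G] [Finite G] (hG : IsPGroup p G) (N : Subgroup G) [N.Normal]
    (hN : frattini G ≤ N) {c : G} (hc : c ∉ N) :
    ∃ α : G →* Multiplicative (ZMod p), N ≤ α.ker ∧ α c ≠ 1 := by
  have hbot : frattini (G ⧸ N) ≤ ⊥ := by
    refine frattini_le_of_commutator_le (p := p) _ ?_ fun x => ?_
    · rw [le_bot_iff, commutator_eq_bot_iff]
      exact Subgroup.Normal.quotient_commutative_iff_commutator_le.mpr ((commutator_le_frattini hG).trans hN)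
    · obtain ⟨g, rfl⟩ := QuotientGroup.mk'_surjective N x
      rw [← map_pow, Subgroup.mem_bot]
      exact (QuotientGroup.eq_one_iff _).mpr (hN (pow_mem_frattini hG g))
  obtain ⟨M, hM, hcM⟩ : ∃ M : Subgroup (G ⧸ N), IsCoatom M ∧ QuotientGroup.mk' N c ∉ M := by
    by_contra hall
    push Not at hall
    have : QuotientGroup.mk' N c ∈ frattini (G ⧸ N) := by
      simp only [frattini, Order.radical, Subgroup.mem_iInf]
      exact hall
    exact hc ((QuotientGroup.eq_one_iff _).mp (Subgroup.mem_bot.mp (hbot this)))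
  haveI := normal_of_isCoatom (hG.to_quotient N) hM
  have hidx : Nat.card ((G ⧸ N) ⧸ M) = p := by
    rw [← Subgroup.index_eq_card]; exact index_eq_of_isCoatom (hG.to_quotient N) hM
  haveI : NeZero p := ⟨hp.out.ne_zero⟩
  have hcard : Nat.card (Multiplicative (ZMod p)) = p := by
    rw [Nat.card_congr Multiplicative.toAdd, Nat.card_zmod]
  let e : (G ⧸ N) ⧸ M ≃* Multiplicative (ZMod p) := mulEquivOfPrimeCardEq hidx hcard
  refine ⟨e.toMonoidHom.comp ((QuotientGroup.mk' M).comp (QuotientGroup.mk' N)), fun g hg => ?_, fun h => hcM ?_⟩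
  · rw [MonoidHom.mem_ker, MonoidHom.comp_apply, MonoidHom.comp_apply,
      show QuotientGroup.mk' N g = 1 from (QuotientGroup.eq_one_iff g).mpr hg, map_one, map_one]
  · rw [← QuotientGroup.eq_one_iff]
    refine e.injective ?_
    rw [map_one]; exact h

/-- The counting step: if no maximal subgroup has the full derived subgroup, then outside every maximal
subgroup there is an element `x` with `C(x) ≤ ⟨x⟩ Φ`. -/
theorem exists_small_centralizer {G : Type*} [Group G] [Finite G] (hG : IsPGroup p G)
    (hM : ∀ M : Subgroup G, M.index = p → ¬ commutator G ≤ ⁅M, M⁆) (H : Subgroup G) (hH : H.index = p) :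
    ∃ x, x ∉ H ∧ centralizer ({x} : Set G) ≤ frattini G ⊔ zpowers x := by
  classical
  by_contra hall
  push Not at hall
  haveI : NeZero p := ⟨hp.out.ne_zero⟩
  have hcard : Nat.card (Multiplicative (ZMod p)) = p := by
    rw [Nat.card_congr Multiplicative.toAdd, Nat.card_zmod]
  haveI : Finite (G →* Multiplicative (ZMod p)) := Finite.of_injective _ DFunLike.coe_injective
  haveI := Fintype.ofFinite G
  haveI := Fintype.ofFinite (G →* Multiplicative (ZMod p))
  let Z : (G →* Multiplicative (ZMod p)) → Subgroup G := fun α =>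
    (center (G ⧸ ⁅α.ker, α.ker⁆)).comap (QuotientGroup.mk' ⁅α.ker, α.ker⁆)
  let r : G → (G →* Multiplicative (ZMod p)) → Prop := fun x α => x ∈ Z α
  haveI hHn := normal_of_index_eq hG hH
  have hΦH : frattini G ≤ H := by
    refine frattini_le_of_commutator_le (p := p) H (commutator_le_of_index_dvd_sq (p := p) H ?_)
      fun x => hH ▸ H.pow_index_mem x
    rw [hH]; exact dvd_pow_self p two_ne_zero
  have hindex : ∀ α : G →* Multiplicative (ZMod p), α ≠ 1 → α.ker.index = p := by
    intro α hα
    rw [Subgroup.index_ker]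
    rcases hp.out.eq_one_or_self_of_dvd _ (hcard ▸ α.range.card_subgroup_dvd_card) with h | h
    · exfalso
      rw [Subgroup.card_eq_one] at h
      exact hα (MonoidHom.ext fun g => Subgroup.mem_bot.mp (h ▸ ⟨g, rfl⟩))
    · exact h
  set D := Fintype.card (G →* Multiplicative (ZMod p))
  let X : Finset G := {x | x ∉ H}
  let A : Finset (G →* Multiplicative (ZMod p)) := {α | α ≠ 1}
  have hX : p * X.card = (p - 1) * Nat.card G := by
    have h1 : (Finset.univ.filter fun x : G => x ∈ H).card + X.card = Fintype.card G :=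
      Finset.card_filter_add_card_filter_not (s := (Finset.univ : Finset G)) _
    have h2 : (Finset.univ.filter fun x : G => x ∈ H).card = Nat.card H := by
      rw [Nat.card_eq_fintype_card, Fintype.card_subtype]
    rw [h2, ← Nat.card_eq_fintype_card] at h1
    have h3 := H.card_mul_index
    rw [hH] at h3
    rw [Nat.sub_mul, one_mul]
    have : p * Nat.card H + p * X.card = p * Nat.card G := by rw [← Nat.mul_add, h1]
    rw [mul_comm p (Nat.card H)] at this
    omega
  -- every element outside `H` is central modulo many `⁅M, M⁆`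
  have hlow : ∀ x ∈ X, (p - 1) * D ≤ p ^ 2 * (A.bipartiteAbove r x).card := by
    intro x hx
    simp only [X, Finset.mem_filter, Finset.mem_univ, true_and] at hx
    obtain ⟨c, hc, hcn⟩ := SetLike.not_le_iff_exists.mp (hall x hx)
    let ex : (G →* Multiplicative (ZMod p)) →* Multiplicative (ZMod p) :=
      MonoidHom.mk' (fun α => α x) fun α β => rfl
    let ec : ex.ker →* Multiplicative (ZMod p) :=
      MonoidHom.mk' (fun α => (α : G →* Multiplicative (ZMod p)) c) fun α β => rfl
    haveI : (frattini G ⊔ zpowers x).Normal :=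
      Subgroup.Normal.of_commutator_le G ((commutator_le_frattini hG).trans le_sup_left)
    obtain ⟨α₀, hα₀, hα₀c⟩ := exists_hom_ne_one hG (frattini G ⊔ zpowers x) le_sup_left hcn
    obtain ⟨α₁, -, hα₁x⟩ := exists_hom_ne_one hG (frattini G) le_rfl (fun h => hx (hΦH h))
    have htop : ∀ {S : Subgroup (Multiplicative (ZMod p))} {s}, s ∈ S → s ≠ 1 → Nat.card S = p := by
      intro S s hs hs1
      rcases hp.out.eq_one_or_self_of_dvd _ (hcard ▸ S.card_subgroup_dvd_card) with h | h
      · rw [Subgroup.card_eq_one] at h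
        exact absurd (Subgroup.mem_bot.mp (h ▸ hs)) hs1
      · exact h
    have h1 := ex.ker.card_mul_index
    rw [Subgroup.index_ker, htop (S := ex.range) (s := α₁ x) ⟨α₁, rfl⟩ hα₁x] at h1
    have hα₀x : α₀ x = 1 := hα₀ (Subgroup.mem_sup_right (mem_zpowers x))
    have h2 := ec.ker.card_mul_index
    rw [Subgroup.index_ker, htop (S := ec.range) (s := α₀ c) ⟨⟨α₀, hα₀x⟩, rfl⟩ hα₀c] at h2
    have hle : (Finset.univ.filter fun α : ex.ker => α ∉ ec.ker).card ≤ (A.bipartiteAbove r x).card := by
      refine Finset.card_le_card_of_injOn (fun α => (α : G →* Multiplicative (ZMod p))) ?_ Subtype.val_injective.injOn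
      intro α hα
      simp only [Finset.coe_filter, Finset.mem_univ, true_and, Set.mem_ofPred_eq] at hα
      have hαc : (α : G →* Multiplicative (ZMod p)) c ≠ 1 := hα
      have hne : (α : G →* Multiplicative (ZMod p)) ≠ 1 := fun h => hαc (by rw [h]; rfl)
      simp only [Finset.coe_filter, Finset.bipartiteAbove, Set.mem_ofPred_eq, A, Finset.mem_filter,
        Finset.mem_univ, true_and]
      refine ⟨hne, ?_⟩
      set β : G →* Multiplicative (ZMod p) := α.1
      set q := QuotientGroup.mk' ⁅β.ker, β.ker⁆
      show q x ∈ center _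
      have hgen := sup_zpowers_eq_top hG (C := β.ker) (hindex β hne) (x := c) hαc
      have hle2 : β.ker ⊔ zpowers c ≤ (centralizer ({q x} : Set (G ⧸ ⁅β.ker, β.ker⁆))).comap q := by
        refine sup_le (fun m hm => ?_) (zpowers_le.mpr ?_) <;>
          refine Subgroup.mem_centralizer_iff.mpr fun h hh => ?_ <;> rw [Set.mem_singleton_iff.mp hh]
        · rw [← commutatorElement_eq_one_iff_mul_comm, ← map_commutatorElement]
          exact (QuotientGroup.eq_one_iff _).mpr (commutator_mem_commutator α.2 hm)
        · rw [← map_mul, ← map_mul, Subgroup.mem_centralizer_iff.mp hc x rfl]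
      rw [hgen] at hle2
      refine Subgroup.mem_center_iff.mpr fun z => ?_
      obtain ⟨g, rfl⟩ := QuotientGroup.mk'_surjective _ z
      exact (Subgroup.mem_centralizer_iff.mp (hle2 (mem_top g)) _ rfl).symm
    have h3 : (Finset.univ.filter fun α : ex.ker => α ∈ ec.ker).card +
        (Finset.univ.filter fun α : ex.ker => α ∉ ec.ker).card = Fintype.card ex.ker :=
      Finset.card_filter_add_card_filter_not (s := (Finset.univ : Finset ex.ker)) _
    have h4 : (Finset.univ.filter fun α : ex.ker => α ∈ ec.ker).card = Nat.card ec.ker := by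
      rw [Nat.card_eq_fintype_card, Fintype.card_subtype]
    rw [h4, ← Nat.card_eq_fintype_card] at h3
    rw [Nat.card_eq_fintype_card (α := G →* Multiplicative (ZMod p))] at h1
    calc (p - 1) * D = (p * Nat.card ex.ker - Nat.card ex.ker) * 1 * p := by
          rw [show D = Nat.card ex.ker * p from h1.symm, mul_one, ← Nat.sub_one_mul]; ring
      _ = p ^ 2 * (Nat.card ex.ker - Nat.card ec.ker) := by
          rw [sq, mul_one, Nat.mul_sub, Nat.sub_mul]
          congr 1
          · ring
          · rw [← h2]; ring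
      _ ≤ p ^ 2 * (A.bipartiteAbove r x).card := Nat.mul_le_mul_left _ (by omega)
  have hhigh : ∀ α ∈ A, p ^ 3 * (X.bipartiteBelow r α).card ≤ (p - 1) * Nat.card G := by
    intro α hα
    simp only [A, Finset.mem_filter, Finset.mem_univ, true_and] at hα
    set W := ⁅α.ker, α.ker⁆
    have hZ : p ^ 2 ≤ (Z α).index := by
      obtain ⟨k, hk⟩ := hG.index (Z α)
      rw [hk]
      refine Nat.pow_le_pow_right hp.out.pos ?_
      have hidx : (center (G ⧸ W)).index = p ^ k :=
        (Subgroup.index_comap_of_surjective _ (QuotientGroup.mk'_surjective _)).symm.trans hk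
      by_contra hlt
      rcases (show k = 0 ∨ k = 1 by omega) with rfl | rfl
      · apply hM α.ker (hindex α hα)
        rw [pow_zero, Subgroup.index_eq_one] at hidx
        rw [← Subgroup.Normal.quotient_commutative_iff_commutator_le]
        exact ⟨⟨fun a b => Subgroup.mem_center_iff.mp (hidx ▸ mem_top b) a⟩⟩
      · exact center_index_ne_prime (G := G ⧸ W) (hidx.trans (pow_one p))
    have h2 := (Z α).card_mul_index
    have hZG : p ^ 2 * Nat.card (Z α) ≤ Nat.card G := by
      rw [← h2, mul_comm]; exact Nat.mul_le_mul_left _ hZ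
    have hsplit : (Finset.univ.filter fun x : G => x ∈ Z α ⊓ H).card + (X.bipartiteBelow r α).card =
        Nat.card (Z α) := by
      rw [Nat.card_eq_fintype_card, Fintype.card_subtype,
        ← Finset.card_union_of_disjoint]
      · congr 1
        ext x
        simp only [Finset.mem_union, Finset.mem_filter, Finset.mem_univ, true_and, Finset.bipartiteBelow, X,
          Subgroup.mem_inf, r]
        tauto
      · rw [Finset.disjoint_left]
        intro x hx hx'
        simp only [Finset.mem_filter, Finset.mem_univ, true_and, Finset.bipartiteBelow, X,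
          Subgroup.mem_inf] at hx hx'
        exact hx'.1 hx.2
    have hinter : Nat.card (Z α) ≤ p * (Finset.univ.filter fun x : G => x ∈ Z α ⊓ H).card := by
      rw [← Fintype.card_subtype, ← Nat.card_eq_fintype_card]
      have h5 := (H.subgroupOf (Z α)).card_mul_index
      have h6 : (H.subgroupOf (Z α)).index ≤ p :=
        Nat.le_of_dvd hp.out.pos (hH ▸ Subgroup.relIndex_dvd_index_of_normal H (Z α))
      have h7 : Nat.card (H.subgroupOf (Z α)) = Nat.card ↑(Z α ⊓ H) := by
        rw [← Subgroup.card_map_of_injective (Z α).subtype_injective, Subgroup.subgroupOf_map_subtype, inf_comm]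
      rw [h7] at h5
      rw [← h5, mul_comm p]
      exact Nat.mul_le_mul_left _ h6
    have hmain : p * (X.bipartiteBelow r α).card ≤ (p - 1) * Nat.card (Z α) := by
      rw [Nat.sub_mul, one_mul]
      have : p * (Finset.univ.filter fun x : G => x ∈ Z α ⊓ H).card + p * (X.bipartiteBelow r α).card =
        p * Nat.card (Z α) := by rw [← Nat.mul_add, hsplit]
      omega
    calc p ^ 3 * (X.bipartiteBelow r α).card = p ^ 2 * (p * (X.bipartiteBelow r α).card) := by ring
      _ ≤ p ^ 2 * ((p - 1) * Nat.card (Z α)) := Nat.mul_le_mul_left _ hmain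
      _ = (p - 1) * (p ^ 2 * Nat.card (Z α)) := by ring
      _ ≤ (p - 1) * Nat.card G := Nat.mul_le_mul_left _ hZG
  have hdc : p ^ 3 * ∑ x ∈ X, (A.bipartiteAbove r x).card = p ^ 3 * ∑ α ∈ A, (X.bipartiteBelow r α).card := by
    rw [Finset.sum_card_bipartiteAbove_eq_sum_card_bipartiteBelow]
  rw [Finset.mul_sum, Finset.mul_sum] at hdc
  have hA : A.card + 1 = D := by
    have h1 : (Finset.univ.filter fun α : G →* Multiplicative (ZMod p) => α = 1).card + A.card = D :=
      Finset.card_filter_add_card_filter_not (s := Finset.univ) _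
    rw [Finset.filter_eq' Finset.univ (1 : G →* Multiplicative (ZMod p))] at h1
    simp at h1
    omega
  have h1 : X.card • (p * ((p - 1) * D)) ≤ ∑ x ∈ X, p ^ 3 * (A.bipartiteAbove r x).card :=
    Finset.card_nsmul_le_sum _ _ _ fun x hx => by
      rw [pow_succ' p 2, mul_assoc]
      exact Nat.mul_le_mul_left _ (hlow x hx)
  have h2 := Finset.sum_le_card_nsmul A _ _ hhigh
  rw [smul_eq_mul] at h1 h2
  have h3 := h1.trans (hdc.le.trans h2)
  rw [show X.card * (p * ((p - 1) * D)) = (p * X.card) * ((p - 1) * D) by ring, hX,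
    mul_comm A.card ((p - 1) * Nat.card G)] at h3
  have h4 : (p - 1) * D ≤ A.card := Nat.le_of_mul_le_mul_left h3
    (Nat.mul_pos (by have := hp.out.two_le; omega) Nat.card_pos)
  have h5 : D ≤ (p - 1) * D := Nat.le_mul_of_pos_left D (by have := hp.out.two_le; omega)
  omega

/-- The size of a product set of commutators. -/
theorem card_repSet_le {G : Type*} [Group G] [Finite G] (hG : IsPGroup p G) {b : ℕ}
    (hb : ∀ x : G, (centralizer ({x} : Set G)).index ≤ p ^ b) (T : List G)
    (hT : ∀ a ∈ T, centralizer ({a} : Set G) ≤ frattini G ⊔ zpowers a) {d : ℕ}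
    (hd : (frattini G).index = p ^ d) :
    ∀ l : List G, (∀ a ∈ l, a ∈ T) → l.length ≤ d →
        Nat.card (repSet ⊤ l) ≤ p ^ ∑ i ∈ Finset.Ico (d - l.length) d, (b - i)
  | [], _, _ => by simp [repSet]
  | a :: l, hl, hlen => by
    classical
    have ih := card_repSet_le hG hb T hT hd l (fun x hx => hl x (List.mem_cons_of_mem _ hx))
      (by simp at hlen; omega)
    set H := spanFrattini (a :: l) with hH
    have hHidx : p ^ (d - (a :: l).length) ≤ H.index := by
      have h1 := (exists_basis_aux hG (a :: l).toFinset).1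
      rw [show ((a :: l).toFinset : Set G) = {x | x ∈ a :: l} by ext; simp] at h1
      have h1' : Nat.card H ≤ p ^ (a :: l).length * Nat.card (frattini G) :=
        h1.trans (Nat.mul_le_mul_right _ (Nat.pow_le_pow_right hp.out.pos (List.toFinset_card_le _)))
      have h2 := H.card_mul_index
      rw [← Subgroup.card_mul_index (frattini G), hd] at h2
      obtain ⟨i, hi⟩ := hG.index H
      rw [hi] at h2 ⊢
      refine Nat.pow_le_pow_right hp.out.pos ?_
      have h3 : Nat.card (frattini G) * p ^ d ≤ Nat.card (frattini G) * p ^ ((a :: l).length + i) := by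
        rw [← h2, pow_add, ← mul_assoc, mul_comm (Nat.card (frattini G)) (p ^ (a :: l).length)]
        exact Nat.mul_le_mul_right _ h1'
      have := (Nat.pow_le_pow_iff_right hp.out.one_lt).mp (Nat.le_of_mul_le_mul_left h3 Nat.card_pos)
      omega
    have haH : centralizer ({a} : Set G) ≤ H := (hT a (hl a (List.mem_cons_self ..))).trans
      (sup_le le_sup_right (zpowers_le.mpr (Subgroup.mem_sup_left (Subgroup.subset_closure (List.mem_cons_self ..)))))
    obtain ⟨c, hc⟩ := hG.index (centralizer ({a} : Set G))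
    have hcb : c ≤ b := (Nat.pow_le_pow_iff_right hp.out.one_lt).mp (hc ▸ hb a)
    have hri := Subgroup.relIndex_mul_index haH
    rw [hc] at hri
    obtain ⟨i, hi⟩ := hG.index H
    rw [hi] at hri hHidx
    have hHi : d - (a :: l).length ≤ i := (Nat.pow_le_pow_iff_right hp.out.one_lt).mp hHidx
    have hic : i ≤ c :=
      (Nat.pow_dvd_pow_iff_le_right hp.out.one_lt).mp (Dvd.intro_left _ hri)
    have hset : Nat.card ((fun h => ⁅a, h⁆) '' (((⊤ : Subgroup G) ⊓ H : Subgroup G) : Set G)) ≤
        (centralizer ({a} : Set G)).relIndex H := by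
      rw [top_inf_eq]
      refine Nat.card_le_card_of_surjective (Quotient.lift
        (fun h : H => (⟨⁅a, (h : G)⁆, h, h.2, rfl⟩ : ((fun h => ⁅a, h⁆) '' (H : Set G) : Set G))) ?_) ?_
      · intro g k hgk
        have h0 : g⁻¹ * k ∈ (centralizer ({a} : Set G)).subgroupOf H := QuotientGroup.leftRel_apply.mp hgk
        have h1 : a * ((g : G)⁻¹ * k) = (g : G)⁻¹ * k * a := Subgroup.mem_centralizer_iff.mp h0 a rfl
        apply Subtype.ext
        show ⁅a, (g : G)⁆ = ⁅a, (k : G)⁆
        rw [commutatorElement_def, commutatorElement_def]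
        obtain ⟨z, hz⟩ : ∃ z, (g : G)⁻¹ * (k : G) = z := ⟨_, rfl⟩
        rw [hz] at h1
        rw [show (k : G) = g * z by rw [← hz, mul_inv_cancel_left]]
        have h2 : z * a⁻¹ = a⁻¹ * z := ((show Commute a z from h1).inv_left).symm.eq
        calc a * (g : G) * a⁻¹ * (g : G)⁻¹ = a * g * (a⁻¹ * z) * z⁻¹ * (g : G)⁻¹ := by group
          _ = a * (g * z) * a⁻¹ * (g * z)⁻¹ := by rw [← h2]; group
      · rintro ⟨_, h, hh, rfl⟩
        exact ⟨QuotientGroup.mk ⟨h, hh⟩, rfl⟩
    have hrel : (centralizer ({a} : Set G)).relIndex H = p ^ (c - i) := by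
      rw [← Nat.pow_div hic hp.out.pos, ← hri, Nat.mul_div_cancel _ (pow_pos hp.out.pos _)]
    have hsum : ∑ j ∈ Finset.Ico (d - (a :: l).length) d, (b - j) =
        (b - (d - (a :: l).length)) + ∑ j ∈ Finset.Ico (d - l.length) d, (b - j) := by
      simp only [List.length_cons] at hlen ⊢
      rw [Finset.sum_eq_sum_Ico_succ_bot (by omega), show d - (l.length + 1) + 1 = d - l.length by omega]
    rw [hsum, pow_add]
    calc Nat.card (repSet ⊤ (a :: l))
        ≤ Nat.card ((fun h => ⁅a, h⁆) '' (((⊤ : Subgroup G) ⊓ H : Subgroup G) : Set G)) * Nat.card (repSet ⊤ l) := by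
          rw [repSet, ← Set.image2_image_left (fun x v => x * v) (fun h => ⁅a, h⁆), ← Nat.card_prod]
          refine Nat.card_le_card_of_surjective (fun z => ⟨(z.1 : G) * z.2, Set.mem_image2_of_mem z.1.2 z.2.2⟩) ?_
          rintro ⟨_, x, hx, v, hv, rfl⟩
          exact ⟨(⟨x, hx⟩, ⟨v, hv⟩), rfl⟩
      _ ≤ p ^ (b - (d - (a :: l).length)) * _ :=
          Nat.mul_le_mul ((hset.trans_eq hrel).trans (Nat.pow_le_pow_right hp.out.pos (by omega))) ih

/-- Vaughan-Lee's theorem. -/
theorem card_commutator_le_of_breadth : ∀ (N : ℕ) (G : Type u) [Group G] [Finite G], Nat.card G ≤ N →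
    IsPGroup p G → ∀ b : ℕ, (∀ x : G, (centralizer ({x} : Set G)).index ≤ p ^ b) →
      Nat.card (commutator G) ≤ p ^ (b * (b + 1) / 2)
  | 0, G, _, _, hN, _, _, _ => absurd Nat.card_pos (not_lt.mpr hN)
  | N + 1, G, _, _, hN, hG, b, hb => by
    classical
    by_cases hM : ∃ M : Subgroup G, M.index = p ∧ commutator G ≤ ⁅M, M⁆
    · obtain ⟨M, hMi, hMc⟩ := hM
      have hlt : Nat.card M ≤ N := by
        have h := M.card_mul_index
        rw [hMi] at h
        have h1 : Nat.card M < Nat.card M * p := lt_mul_of_one_lt_right Nat.card_pos hp.out.one_lt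
        omega
      have hbM : ∀ x : M, (centralizer ({x} : Set M)).index ≤ p ^ b := by
        intro x
        refine le_trans ?_ (hb x)
        have he : centralizer ({x} : Set M) = (centralizer ({(x : G)} : Set G)).subgroupOf M := by
          ext y
          rw [Subgroup.mem_subgroupOf, Subgroup.mem_centralizer_iff, Subgroup.mem_centralizer_iff]
          constructor
          · intro h z hz
            rw [Set.mem_singleton_iff] at hz
            subst hz
            exact congrArg Subtype.val (h x rfl)
          · intro h z hz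
            rw [Set.mem_singleton_iff] at hz
            subst hz
            exact Subtype.ext (h _ rfl)
        rw [he, ← Subgroup.relIndex_top_right (centralizer ({(x : G)} : Set G))]
        exact Subgroup.relIndex_le_of_le_right le_top
          (by rw [Subgroup.relIndex_top_right]; exact Subgroup.index_ne_zero_of_finite)
      have ih := card_commutator_le_of_breadth N M hlt (hG.to_subgroup M) b hbM
      rw [← Subgroup.card_map_of_injective M.subtype_injective, M.map_subtype_commutator] at ih
      exact (Subgroup.card_le_of_le hMc).trans ih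
    · push Not at hM
      set T : Set G := {x | centralizer ({x} : Set G) ≤ frattini G ⊔ zpowers x}
      have hTtop : Subgroup.closure T = ⊤ := by
        by_contra hne
        obtain ⟨H, hH, hle⟩ := (eq_top_or_exists_le_coatom (Subgroup.closure T)).resolve_left hne
        obtain ⟨x, hx, hxT⟩ := exists_small_centralizer hG hM H (index_eq_of_isCoatom hG hH)
        exact hx (hle (Subgroup.subset_closure hxT))
      obtain ⟨d, hd⟩ := hG.index (frattini G)
      obtain ⟨-, S, hS, hSc, hStop⟩ := burnside_basis hG hd (S := (Set.toFinite T).toFinset) (by simpa using hTtop)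
      have hcard := card_repSet_le hG hb S.toList
        (fun a ha => (Set.toFinite T).mem_toFinset.mp (hS (Finset.mem_toList.mp ha))) hd S.toList
        (fun _ h => h) (by rw [Finset.length_toList, hSc])
      have hl : Subgroup.closure {x | x ∈ S.toList} = (⊤ : Subgroup G) := by
        rw [← hStop]; congr 1; ext; simp
      have h1 : Nat.card (commutator G) ≤ Nat.card (repSet (⊤ : Subgroup G) S.toList) :=
        Nat.card_mono (Set.toFinite _) (commutator_subset_repSet hG S.toList hl)
      refine h1.trans (hcard.trans (Nat.pow_le_pow_right hp.out.pos ?_))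
      rw [Finset.length_toList, hSc, Nat.sub_self, ← Finset.range_eq_Ico]
      calc ∑ i ∈ Finset.range d, (b - i) ≤ ∑ i ∈ Finset.range (d + (b + 1)), (b - i) :=
            Finset.sum_le_sum_of_subset (Finset.range_subset_range.mpr (by omega))
        _ = ∑ i ∈ Finset.range (b + 1), (b - i) := by
            refine (Finset.sum_subset (Finset.range_subset_range.mpr (by omega)) fun i _ hi => ?_).symm
            simp only [Finset.mem_range] at hi
            omega
        _ = ∑ i ∈ Finset.range (b + 1), i := by
            rw [← Finset.sum_range_reflect]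
            refine Finset.sum_congr rfl fun i hi => ?_
            simp only [Finset.mem_range] at hi
            omega
        _ ≤ b * (b + 1) / 2 := by rw [Finset.sum_range_id, mul_comm (b + 1)]; simp

end Cfsg.Agent.PGroups
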