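import Cfsg.Agent.PGroups.CyclicMaximal

/-!
Normal elementary abelian subgroups of order `p ^ 2` inside a given non-cyclic normal subgroup, `p` odd.
-/

set_option autoImplicit false
set_option linter.style.haveILetI false

namespace Cfsg.Agent.PGroups

open Subgroup

variable {G : Type*} [Group G] {p : ℕ} [hp : Fact p.Prime]

/-- A maximal `G`-normal abelian subgroup `A` of a normal subgroup `S` satisfies `C_S(A) = A`. -/
theorem exists_normal_abelian_le [Finite G] (hG : IsPGroup p G) (S : Subgroup G) [S.Normal] :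
    ∃ A : Subgroup G, A.Normal ∧ A ≤ S ∧ IsMulCommutative A ∧ S ⊓ centralizer (A : Set G) = A := by
  obtain ⟨A, -, hA⟩ := (Set.toFinite {A : Subgroup G | A.Normal ∧ A ≤ S ∧ IsMulCommutative A}).exists_le_maximal
    (show (⊥ : Subgroup G) ∈ {A : Subgroup G | A.Normal ∧ A ≤ S ∧ IsMulCommutative A} from
      ⟨inferInstance, bot_le, isMulCommutative_of_comm fun x hx y hy => by
        rw [Subgroup.mem_bot.mp hx, Subgroup.mem_bot.mp hy]⟩)
  obtain ⟨⟨hAn, hAS, hAab⟩, hmax⟩ := hA
  haveI := hAn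
  refine ⟨A, hAn, hAS, hAab, ?_⟩
  have hle : A ≤ S ⊓ centralizer (A : Set G) := le_inf hAS fun a ha =>
    Subgroup.mem_centralizer_iff.mpr fun g hg => comm_of_isMulCommutative hAab hg ha
  by_contra hne
  obtain ⟨M, hMn, hAM, hMC, hcard⟩ :=
    exists_normal_card_mul hG A (S ⊓ centralizer (A : Set G)) (lt_of_le_of_ne hle (Ne.symm hne))
  have hlt : A < M := lt_of_le_of_ne hAM fun h => by
    rw [← h] at hcard
    exact (lt_mul_of_one_lt_left (Nat.card_pos (α := A)) hp.out.one_lt).ne hcard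
  obtain ⟨x, hxM, hxA⟩ := SetLike.exists_of_lt hlt
  have hMeq : A ⊔ zpowers x = M := by
    refine Subgroup.eq_of_le_of_card_ge (sup_le hAM (zpowers_le.mpr hxM)) ?_
    have hidx : (A.subgroupOf M).index = p := by
      have h2 := Subgroup.card_mul_index (A.subgroupOf M)
      rw [Nat.card_congr (Subgroup.subgroupOfEquivOfLe hAM).toEquiv, hcard, mul_comm p] at h2
      exact Nat.eq_of_mul_eq_mul_left Nat.card_pos h2
    have h1 := Subgroup.pow_index_mem (A.subgroupOf M) (⟨x, hxM⟩ : M)
    rw [hidx] at h1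
    rw [card_sup_zpowers (p := p) A hxA (by simpa [Subgroup.mem_subgroupOf] using h1), hcard]
  have hcomm := isMulCommutative_sup_zpowers hAab (hMC hxM).2
  rw [hMeq] at hcomm
  exact not_le_of_gt hlt (hmax ⟨hMn, hMC.trans inf_le_left, hcomm⟩ hAM)

/-- For odd `p` a non-cyclic normal subgroup of a `p`-group contains a normal elementary abelian subgroup
of order `p ^ 2` of the whole group. -/
theorem exists_normal_elementary_sq_le [Finite G] (hG : IsPGroup p G) (hp2 : p ≠ 2) (S : Subgroup G) [S.Normal]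
    (hnc : ¬ IsCyclic S) :
    ∃ B : Subgroup G, B ≤ S ∧ B.Normal ∧ IsMulCommutative B ∧ (∀ a ∈ B, a ^ p = 1) ∧ Nat.card B = p ^ 2 := by
  obtain ⟨A, hAn, hAS, hA, hCA⟩ := exists_normal_abelian_le hG S
  haveI := hAn
  by_cases hAc : IsCyclic A
  · have hne : A ≠ S := fun h => hnc (by rw [h] at hAc; exact hAc)
    obtain ⟨M, hMn, hAM, hMS, hM⟩ := exists_normal_card_mul hG A S (lt_of_le_of_ne hAS hne)
    haveI := hMn
    have hMc : ¬ IsCyclic M := fun h => by
      haveI := h
      have hMA : M ≤ A := fun x hx => hCA ▸ (show x ∈ S ⊓ centralizer (A : Set G) from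
        ⟨hMS hx, Subgroup.mem_centralizer_iff.mpr fun a ha =>
          comm_of_isMulCommutative (inferInstance : IsMulCommutative M) (hAM ha) hx⟩)
      rw [le_antisymm hAM hMA] at hM
      exact (lt_mul_of_one_lt_left (Nat.card_pos (α := M)) hp.out.one_lt).ne hM
    have hidx : (A.subgroupOf M).index = p := by
      have h2 := Subgroup.card_mul_index (A.subgroupOf M)
      rw [Nat.card_congr (Subgroup.subgroupOfEquivOfLe hAM).toEquiv, hM, mul_comm p] at h2
      exact Nat.eq_of_mul_eq_mul_left Nat.card_pos h2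
    haveI : IsCyclic (A.subgroupOf M) :=
      isCyclic_of_surjective _ (Subgroup.subgroupOfEquivOfLe hAM).symm.surjective
    obtain ⟨hcomm, hcard, hexp⟩ := omega_of_cyclic_max (hG.to_subgroup M) hp2 hMc
      (C := A.subgroupOf M) inferInstance hidx
    refine ⟨(Subgroup.closure {x : M | x ^ p = 1}).map M.subtype, (map_subtype_le _).trans hMS, ?_, ?_, ?_, ?_⟩
    · refine ⟨?_⟩
      rintro _ ⟨x, hx, rfl⟩ g
      refine ⟨⟨g * x * g⁻¹, hMn.conj_mem x x.2 g⟩, Subgroup.subset_closure (Subtype.ext ?_), rfl⟩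
      change (g * x * g⁻¹) ^ p = 1
      rw [conj_pow, show (x : G) ^ p = 1 from congrArg Subtype.val (hexp x hx), mul_one, mul_inv_cancel]
    · refine isMulCommutative_of_comm ?_
      rintro _ ⟨x, hx, rfl⟩ _ ⟨y, hy, rfl⟩
      exact congrArg Subtype.val (comm_of_isMulCommutative hcomm hx hy)
    · rintro _ ⟨x, hx, rfl⟩
      exact congrArg Subtype.val (hexp x hx)
    · rw [Subgroup.card_map_of_injective M.subtype_injective, hcard]
  · let W : Subgroup G :=
      { carrier := {a | a ∈ A ∧ a ^ p = 1}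
        one_mem' := ⟨one_mem _, one_pow p⟩
        mul_mem' := fun {a b} ha hb => ⟨mul_mem ha.1 hb.1, by
          rw [(show Commute a b from comm_of_isMulCommutative hA ha.1 hb.1).mul_pow, ha.2, hb.2, one_mul]⟩
        inv_mem' := fun {a} ha => ⟨inv_mem ha.1, by rw [inv_pow, ha.2, inv_one]⟩ }
    haveI hWn : W.Normal := ⟨fun a ha g =>
      ⟨hAn.conj_mem a ha.1 g, by rw [conj_pow, ha.2, mul_one, mul_inv_cancel]⟩⟩
    have hW : p ^ 2 ≤ Nat.card W := by
      by_contra hlt
      obtain ⟨m, hm⟩ := IsPGroup.iff_card.mp (hG.to_subgroup W)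
      refine hAc (isCyclic_of_small_omega hG hA W (fun a ha hap => ⟨ha, hap⟩) ?_)
      rw [hm] at hlt ⊢
      refine (Nat.pow_le_pow_right hp.out.pos (?_ : m ≤ 1)).trans (pow_one p).le
      by_contra h2
      exact hlt (Nat.pow_le_pow_right hp.out.pos (by omega))
    obtain ⟨B, hBn, hBW, hB⟩ := exists_normal_card_le hG W 2 hW
    exact ⟨B, fun a ha => hAS (hBW ha).1, hBn, isMulCommutative_of_comm fun x hx y hy =>
      comm_of_isMulCommutative hA (hBW hx).1 (hBW hy).1, fun a ha => (hBW ha).2, hB⟩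

end Cfsg.Agent.PGroups
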