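import Cfsg.Agent.PGroups.TwoGroups

/-!
`p`-groups of maximal class: the bound on the class, a criterion by a self-centralising subgroup of order
`p ^ 2`, and the 2-groups of maximal class.
-/

set_option autoImplicit false
set_option linter.style.haveILetI false

namespace Cfsg.Agent.PGroups

open Subgroup
open scoped commutatorElement

universe u

variable {p : ℕ} [hp : Fact p.Prime]

/-- The order of the central quotient of a nonabelian `p`-group. -/
theorem card_quotient_center {G : Type*} [Group G] [Finite G] {m : ℕ} (hm : Nat.card G = p ^ m)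
    (hna : center G ≠ ⊤) : ∃ j : ℕ, 2 ≤ j ∧ j + 1 ≤ m ∧ Nat.card (G ⧸ center G) = p ^ j ∧
      Nat.card (center G) = p ^ (m - j) := by
  have hG := IsPGroup.of_card hm
  obtain ⟨j, hj⟩ := IsPGroup.iff_card.mp (hG.to_quotient (center G))
  have hidx : (center G).index = p ^ j := by rw [Subgroup.index_eq_card, hj]
  have hj2 : 2 ≤ j := by
    by_contra h
    rcases Nat.le_one_iff_eq_zero_or_eq_one.mp (by omega : j ≤ 1) with rfl | rfl
    · exact hna (Subgroup.index_eq_one.mp (by rw [hidx, pow_zero]))
    · exact center_index_ne_prime (by rw [hidx, pow_one])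
  have h1 := (center G).card_mul_index
  rw [hidx, hm] at h1
  obtain ⟨i, hi⟩ := IsPGroup.iff_card.mp (hG.to_subgroup (center G))
  rw [hi, ← pow_add] at h1
  have hij := Nat.pow_right_injective hp.out.two_le h1
  haveI : Nontrivial G := not_subsingleton_iff_nontrivial.mp fun h =>
    hna (eq_top_iff.mpr fun x _ => (Subsingleton.elim x 1) ▸ one_mem _)
  have hi1 : i ≠ 0 := fun h => by
    have := (hG.bot_lt_center).ne'
    rw [h, pow_zero, Subgroup.card_eq_one] at hi
    exact this hi
  exact ⟨j, hj2, by omega, hj, by rw [hi]; congr 1; omega⟩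

/-- The class of a group of order `p ^ m`, `m ≥ 2`, is at most `m - 1`. -/
theorem nilpotencyClass_le : ∀ (m : ℕ) (G : Type u) [Group G] [Finite G], 2 ≤ m → Nat.card G = p ^ m →
    Group.nilpotencyClass G ≤ m - 1
  | m, G, _, _, hm, hG => by
    haveI := (IsPGroup.of_card hG).isNilpotent
    by_cases hna : center G = ⊤
    · have : Group.nilpotencyClass G ≤ 1 := by
        rw [← Subgroup.upperCentralSeries_eq_top_iff_nilpotencyClass_le, Subgroup.upperCentralSeries_one, hna]
      omega
    · obtain ⟨j, hj2, hjm, hj, -⟩ := card_quotient_center hG hna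
      have := nilpotencyClass_le j (G ⧸ center G) hj2 hj
      rw [Group.nilpotencyClass_quotient_center] at this
      omega
  termination_by m => m

/-- A `p`-group of maximal class has centre of order `p` and central quotient of maximal class. -/
theorem card_center_of_maxClass {G : Type u} [Group G] [Finite G] {n : ℕ} (hn : 3 ≤ n)
    (hG : Nat.card G = p ^ n) (hc : Group.nilpotencyClass G = n - 1) :
    Nat.card (center G) = p ∧ Nat.card (G ⧸ center G) = p ^ (n - 1) ∧
      Group.nilpotencyClass (G ⧸ center G) = n - 1 - 1 := by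
  haveI := (IsPGroup.of_card hG).isNilpotent
  have hna : center G ≠ ⊤ := fun h => by
    have : Group.nilpotencyClass G ≤ 1 := by
      rw [← Subgroup.upperCentralSeries_eq_top_iff_nilpotencyClass_le, Subgroup.upperCentralSeries_one, h]
    omega
  obtain ⟨j, hj2, hjm, hj, hz⟩ := card_quotient_center hG hna
  have h1 := nilpotencyClass_le j (G ⧸ center G) hj2 hj
  have h2 := Group.nilpotencyClass_quotient_center (G := G)
  have hjn : j = n - 1 := by omega
  refine ⟨by rw [hz, show n - j = 1 by omega, pow_one], hjn ▸ hj, by rw [h2, hc]⟩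

/-- A self-centralising subgroup of order `p ^ 2` forces maximal class. -/
theorem nilpotencyClass_of_self_centralizing : ∀ (n : ℕ) (X : Type u) [Group X] [Finite X],
    Nat.card X = p ^ n → ∀ A : Subgroup X, Nat.card A = p ^ 2 → centralizer (A : Set X) = A →
      Group.nilpotencyClass X = n - 1
  | n, X, _, _, hX, A, hA, hCA => by
    have hXp := IsPGroup.of_card hX
    haveI := hXp.isNilpotent
    have hAab : IsMulCommutative A := IsPGroup.isMulCommutative_of_card_eq_prime_sq hA
    have hn : 2 ≤ n := (Nat.pow_dvd_pow_iff_le_right hp.out.one_lt).mp (hA ▸ hX ▸ A.card_subgroup_dvd_card)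
    haveI : Nontrivial X := Finite.one_lt_card_iff_nontrivial.mp
      (hX ▸ Nat.one_lt_pow (by omega) hp.out.one_lt)
    rcases hn.lt_or_eq with hn3 | rfl
    swap
    · have hAt : A = ⊤ := Subgroup.eq_top_of_card_eq _ (hA.trans hX.symm)
      have hle : Group.nilpotencyClass X ≤ 1 := by
        rw [← Subgroup.upperCentralSeries_eq_top_iff_nilpotencyClass_le, Subgroup.upperCentralSeries_one, eq_top_iff]
        exact fun x _ => Subgroup.mem_center_iff.mpr fun y =>
          comm_of_isMulCommutative hAab (hAt ▸ mem_top y) (hAt ▸ mem_top x)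
      have h0 : Group.nilpotencyClass X ≠ 0 := fun h =>
        not_subsingleton X (Group.nilpotencyClass_zero_iff_subsingleton.mp h)
      omega
    have hZA : center X ≤ A := hCA ▸ Subgroup.center_le_centralizer _
    have hAX : A ≠ ⊤ := fun h => by
      rw [h, Subgroup.card_top, hX] at hA
      exact absurd (Nat.pow_right_injective hp.out.two_le hA) (by omega)
    have hZne : center X ≠ A := fun h => hAX (by
      rw [← hCA, eq_top_iff]
      exact fun g _ => Subgroup.mem_centralizer_iff.mpr fun a ha =>
        (Subgroup.mem_center_iff.mp (h.symm ▸ ha : a ∈ center X) g).symm)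
    obtain ⟨a, haA, haZ⟩ := SetLike.exists_of_lt (lt_of_le_of_ne hZA hZne)
    have hna : center X ≠ ⊤ := fun h => hAX (top_le_iff.mp (h.symm.trans_le hZA))
    obtain ⟨j, hj2, hjn, hj, hz⟩ := card_quotient_center hX hna
    have hzdvd := Subgroup.card_dvd_of_le hZA
    rw [hz, hA, Nat.pow_dvd_pow_iff_le_right hp.out.one_lt] at hzdvd
    have hZp : Nat.card (center X) = p := by
      rw [hz, show n - j = 1 by
        by_contra hne
        exact hZne (Subgroup.eq_of_le_of_card_ge hZA (by rw [hz, hA, show n - j = 2 by omega]))]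
      exact pow_one p
    have hgenA : center X ⊔ zpowers a = A := by
      refine Subgroup.eq_of_le_of_card_ge (sup_le hZA (zpowers_le.mpr haA)) ?_
      have hlt : center X < center X ⊔ zpowers a :=
        lt_of_le_of_ne le_sup_left fun h => haZ (h ▸ Subgroup.mem_sup_right (mem_zpowers a))
      obtain ⟨i, hi, hic⟩ := (Nat.dvd_prime_pow hp.out).mp
        (hA ▸ Subgroup.card_dvd_of_le (sup_le hZA (zpowers_le.mpr haA)))
      rw [hA, hic]
      refine Nat.pow_le_pow_right hp.out.pos ?_
      by_contra h2
      refine hlt.ne (Subgroup.eq_of_le_of_card_ge hlt.le ?_)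
      rw [hic, hZp]
      exact (Nat.pow_le_pow_right hp.out.pos (by omega : i ≤ 1)).trans (pow_one p).le
    have hCa : centralizer ({a} : Set X) = A := by
      refine le_antisymm (fun g hg => ?_) fun g hg => ?_
      · rw [← hCA]
        have hle : A ≤ centralizer ({g} : Set X) := by
          rw [← hgenA]
          refine sup_le (Subgroup.center_le_centralizer _) (zpowers_le.mpr ?_)
          refine Subgroup.mem_centralizer_iff.mpr fun h hh => ?_
          rw [Set.mem_singleton_iff.mp hh]
          exact (Subgroup.mem_centralizer_iff.mp hg a rfl).symm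
        exact Subgroup.mem_centralizer_iff.mpr fun x hx => (Subgroup.mem_centralizer_iff.mp (hle hx) g rfl).symm
      · refine Subgroup.mem_centralizer_iff.mpr fun h hh => ?_
        rw [Set.mem_singleton_iff.mp hh]; exact comm_of_isMulCommutative hAab haA hg
    -- the centraliser of the image of `a` in the central quotient
    set q := QuotientGroup.mk' (center X) with hq
    set D := (centralizer ({q a} : Set (X ⧸ center X))).comap q with hD
    have hDmem : ∀ g : X, g ∈ D ↔ ⁅g, a⁆ ∈ center X := fun g => by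
      rw [hD, Subgroup.mem_comap, Subgroup.mem_centralizer_iff]
      simp only [Set.mem_singleton_iff, forall_eq]
      rw [eq_comm, ← commutatorElement_eq_one_iff_mul_comm, ← map_commutatorElement]
      exact QuotientGroup.eq_one_iff _
    have hAD : A < D := by
      refine lt_of_le_of_ne (fun g hg => (hDmem g).mpr ?_) ?_
      · rw [commutatorElement_eq_one_iff_mul_comm.mpr (comm_of_isMulCommutative hAab hg haA)]
        exact one_mem _
      · intro h
        obtain ⟨g, -, hgA, hgn⟩ := exists_mem_notMem_normalizer hXp (lt_top_iff_ne_top.mpr hAX)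
        apply hgA
        rw [h, hDmem]
        -- `g` normalises the subgroup `A` of order `p ^ 2`, so acts trivially on `A / Z`
        have hgaA : g * a * g⁻¹ ∈ A := (Subgroup.mem_normalizer_iff.mp hgn a).mp haA
        have hK : zpowers g ⊔ A ≤ normalizer (A : Set X) :=
          sup_le (zpowers_le.mpr hgn) Subgroup.le_normalizer
        set K := zpowers g ⊔ A with hKdef
        have hAK : A ≤ K := le_sup_right
        have hgK : g ∈ K := Subgroup.mem_sup_left (mem_zpowers g)
        haveI : (A.subgroupOf K).Normal := Subgroup.normal_subgroupOf_iff_le_normalizer hAK |>.mpr hK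
        haveI : ((center X).subgroupOf K).Normal := normal_of_le_center fun z hz =>
          Subgroup.mem_center_iff.mpr fun k => Subtype.ext (Subgroup.mem_center_iff.mp hz _)
        have hcard : Nat.card (A.subgroupOf K) = p * Nat.card ((center X).subgroupOf K) := by
          rw [Nat.card_congr (Subgroup.subgroupOfEquivOfLe hAK).toEquiv,
            Nat.card_congr (Subgroup.subgroupOfEquivOfLe (hZA.trans hAK)).toEquiv, hA, hZp, sq]
        haveI : (A.comap K.subtype).Normal := ‹(A.subgroupOf K).Normal›
        haveI : ((center X).comap K.subtype).Normal := ‹((center X).subgroupOf K).Normal›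
        exact commutatorElement_mem_of_card (hXp.to_subgroup K)
          (Subgroup.comap_mono hZA) hcard (x := ⟨a, hAK haA⟩) haA ⟨g, hgK⟩
    have hDcard : Nat.card D ≤ p ^ 3 := by
      let f : D → center X := fun g => ⟨⁅(g : X), a⁆, (hDmem g).mp g.2⟩
      have hker : ∀ g h : D, f g = f h → (g : X)⁻¹ * h ∈ A := by
        intro g h he
        have he' : ⁅(g : X), a⁆ = ⁅(h : X), a⁆ := congrArg Subtype.val he
        rw [commutatorElement_def, commutatorElement_def, mul_left_inj] at he'
        rw [← hCa]
        refine Subgroup.mem_centralizer_iff.mpr fun b hb => ?_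
        rw [Set.mem_singleton_iff.mp hb]
        calc a * ((g : X)⁻¹ * h) = (g : X)⁻¹ * ((g : X) * a * (g : X)⁻¹) * h := by group
          _ = (g : X)⁻¹ * h * a := by rw [he']; group
      have h1 : Nat.card (D ⧸ A.subgroupOf D) ≤ Nat.card (center X) := by
        refine Nat.card_le_card_of_injective (fun x => f x.out) fun x y he => ?_
        have h2 : (x.out)⁻¹ * y.out ∈ A.subgroupOf D := hker _ _ he
        rw [← QuotientGroup.eq, QuotientGroup.out_eq', QuotientGroup.out_eq'] at h2
        exact h2
      rw [← (A.subgroupOf D).card_mul_index, Nat.card_congr (Subgroup.subgroupOfEquivOfLe hAD.le).toEquiv, hA,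
        Subgroup.index_eq_card, pow_succ]
      exact Nat.mul_le_mul_left _ (hZp ▸ h1)
    set B := D.map q with hB
    have hZD : center X ≤ D := hZA.trans hAD.le
    have hDB : D = B.comap q := by
      rw [hB, Subgroup.comap_map_eq, hq, QuotientGroup.ker_mk', sup_eq_left.mpr hZD]
    have hBC : B = centralizer ({q a} : Set (X ⧸ center X)) := by
      rw [hB, hD, Subgroup.map_comap_eq_self_of_surjective (QuotientGroup.mk'_surjective _)]
    have hBcard : Nat.card B = p ^ 2 := by
      have h1 := card_comap_mk' (center X) B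
      rw [← hq, ← hDB, hZp] at h1
      obtain ⟨i, hi⟩ := IsPGroup.iff_card.mp ((hXp.to_quotient _).to_subgroup B)
      rw [hi, ← pow_succ'] at h1
      have h3 : i + 1 ≤ 3 := (Nat.pow_le_pow_iff_right hp.out.one_lt).mp (h1 ▸ hDcard)
      have h4 : Nat.card A < Nat.card D :=
        lt_of_not_ge fun hge => hAD.ne (Subgroup.eq_of_le_of_card_ge hAD.le hge)
      rw [h1, hA] at h4
      have h5 : 2 < i + 1 := (Nat.pow_lt_pow_iff_right hp.out.one_lt).mp h4
      rw [hi, show i = 2 by omega]
    have hBab := IsPGroup.isMulCommutative_of_card_eq_prime_sq (p := p) hBcard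
    have hBself : centralizer (B : Set (X ⧸ center X)) = B := by
      refine le_antisymm ?_ fun b hb =>
        Subgroup.mem_centralizer_iff.mpr fun c hc => comm_of_isMulCommutative hBab hc hb
      conv_rhs => rw [hBC]
      refine Subgroup.centralizer_le (Set.singleton_subset_iff.mpr ?_)
      exact ⟨a, hAD.le haA, rfl⟩
    have hXZ : Nat.card (X ⧸ center X) = p ^ (n - 1) := by
      have := (center X).card_mul_index
      rw [hZp, Subgroup.index_eq_card, hX, show n = n - 1 + 1 by omega, pow_succ'] at this
      exact Nat.eq_of_mul_eq_mul_left hp.out.pos this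
    have ih := nilpotencyClass_of_self_centralizing (n - 1) _ hXZ B hBcard hBself
    rw [Group.nilpotencyClass_eq_quotient_center_plus_one, ih]
    omega
  termination_by n => n

/-- A 2-group of maximal class has a cyclic subgroup of index 2. -/
theorem exists_cyclic_index_two : ∀ (n : ℕ) (X : Type u) [Group X] [Finite X], 3 ≤ n →
    Nat.card X = 2 ^ n → Group.nilpotencyClass X = n - 1 → ∃ c : X, orderOf c = 2 ^ (n - 1)
  | n, X, _, _, hn, hX, hc => by
    haveI : Fact (Nat.Prime 2) := ⟨Nat.prime_two⟩
    have hXp := IsPGroup.of_card hX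
    obtain ⟨hZ, hQ, hQc⟩ := card_center_of_maxClass hn hX hc
    rcases hn.lt_or_eq with hn4 | rfl
    · obtain ⟨q, hq⟩ := exists_cyclic_index_two (n - 1) _ (by omega) hQ hQc
      obtain ⟨c, rfl⟩ := QuotientGroup.mk'_surjective _ q
      refine ⟨c, ?_⟩
      have hdvd : 2 ^ (n - 1 - 1) ∣ orderOf c := hq ▸ orderOf_map_dvd _ c
      obtain ⟨i, hi⟩ := IsPGroup.iff_orderOf.mp hXp c
      rw [hi, Nat.pow_dvd_pow_iff_le_right one_lt_two] at hdvd
      have hle : i ≤ n := (Nat.pow_dvd_pow_iff_le_right one_lt_two).mp (hi ▸ hX ▸ orderOf_dvd_natCard c)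
      have hin : i ≠ n := fun h => by
        haveI := isCyclic_of_orderOf_eq_card c (by rw [hi, h, hX])
        haveI : IsMulCommutative X := inferInstance
        have : center X = ⊤ := eq_top_iff.mpr fun x _ => Subgroup.mem_center_iff.mpr fun y => this.is_comm.comm y x
        rw [this, Subgroup.card_top, hX] at hZ
        exact absurd (Nat.pow_right_injective le_rfl (hZ.trans (pow_one 2).symm)) (by omega)
      rcases (show i = n - 1 ∨ i = n - 2 by omega) with rfl | rfl
      · exact hi
      exfalso
      set u := c ^ 2 ^ (n - 3) with hu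
      have hu1 : QuotientGroup.mk' (center X) u ≠ 1 := fun h => by
        rw [hu, map_pow] at h
        have := orderOf_dvd_of_pow_eq_one h
        rw [hq, Nat.pow_dvd_pow_iff_le_right one_lt_two] at this
        omega
      have hu2 : u ^ 2 = 1 := by
        rw [hu, ← pow_mul, ← pow_succ, show n - 3 + 1 = n - 2 by omega, ← hi, pow_orderOf_eq_one]
      have hucent : u ∈ center X := Subgroup.mem_center_iff.mpr fun x => by
        have hMn : ((zpowers (QuotientGroup.mk' (center X) c)).comap (QuotientGroup.mk' (center X))).Normal := by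
          haveI : (zpowers (QuotientGroup.mk' (center X) c)).Normal := by
            refine normal_of_index_eq (hXp.to_quotient _) (p := 2) ?_
            have h1 := (zpowers (QuotientGroup.mk' (center X) c)).card_mul_index
            rw [Nat.card_zpowers, hq, hQ] at h1
            nth_rw 2 [show n - 1 = (n - 1 - 1) + 1 by omega] at h1
            rw [pow_succ] at h1
            exact Nat.eq_of_mul_eq_mul_left (by positivity) h1
          infer_instance
        obtain ⟨j, hj⟩ := Subgroup.mem_zpowers_iff.mp (hMn.conj_mem c (mem_zpowers _) x :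
          QuotientGroup.mk' (center X) (x * c * x⁻¹) ∈ zpowers (QuotientGroup.mk' (center X) c))
        set z := (c ^ j)⁻¹ * (x * c * x⁻¹) with hz
        have hzc : z ∈ center X := by
          rw [← QuotientGroup.eq_one_iff]
          change QuotientGroup.mk' (center X) z = 1
          rw [hz, map_mul, map_inv, map_zpow, hj, inv_mul_cancel]
        have hxu : x * u * x⁻¹ = u ^ j := by
          have hcz : Commute (c ^ j) z := (commute_of_mem_center hzc _).symm
          have hz2 : z ^ 2 ^ (n - 3) = 1 := by
            obtain ⟨l, hl⟩ : ∃ l, n - 3 = l + 1 := ⟨n - 4, by omega⟩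
            have h2 : z ^ 2 = 1 := orderOf_dvd_iff_pow_eq_one.mp (hZ ▸ Subgroup.orderOf_dvd_natCard _ hzc)
            rw [hl, pow_succ', pow_mul, h2, one_pow]
          rw [hu, ← conj_pow, show x * c * x⁻¹ = c ^ j * z by rw [hz, mul_inv_cancel_left], hcz.mul_pow, hz2,
            mul_one]
          group
        rcases Int.even_or_odd' j with ⟨t, rfl | rfl⟩
        · exfalso
          have h1 : x * u * x⁻¹ = 1 := by rw [hxu, zpow_mul, zpow_ofNat, hu2, one_zpow]
          apply hu1
          rw [show u = x⁻¹ * (x * u * x⁻¹) * x by group, h1, mul_one, inv_mul_cancel, map_one]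
        · have h1 : x * u * x⁻¹ = u := by
            rw [hxu, zpow_add, zpow_mul, zpow_ofNat, hu2, one_zpow, one_mul, zpow_one]
          exact mul_inv_eq_iff_eq_mul.mp h1
      exact hu1 ((QuotientGroup.eq_one_iff u).mpr hucent)
    · -- order 8
      by_contra hall
      push Not at hall
      have hexp : ∀ x : X, x * x = 1 := fun x => by
        obtain ⟨i, hi⟩ := IsPGroup.iff_orderOf.mp hXp x
        have hle : i ≤ 3 := (Nat.pow_dvd_pow_iff_le_right one_lt_two).mp (hi ▸ hX ▸ orderOf_dvd_natCard x)
        have h3 : i ≠ 3 := fun h => hall (x ^ 2) (by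
          rw [orderOf_pow, hi, h]; norm_num)
        have h2 : i ≠ 2 := fun h => hall x (by rw [hi, h])
        rw [← sq, ← orderOf_dvd_iff_pow_eq_one, hi]
        exact Nat.pow_dvd_pow 2 (by omega : i ≤ 1) |>.trans (by norm_num)
      have hct : center X = ⊤ := eq_top_iff.mpr fun x _ => Subgroup.mem_center_iff.mpr fun y => by
        have hi : ∀ a : X, a⁻¹ = a := fun a => inv_eq_of_mul_eq_one_right (hexp a)
        calc y * x = (y * x)⁻¹ := (hi _).symm
          _ = x * y := by rw [mul_inv_rev, hi, hi]
      rw [hct, Subgroup.card_top, hX] at hZ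
      norm_num at hZ
  termination_by n => n

/-- An element `≠ 1` of a subgroup of order 2 generates it. -/
theorem zpowers_eq_of_card_eq_two {X : Type*} [Group X] [Finite X] {H : Subgroup X} (hH : Nat.card H = 2)
    {c : X} (hc : c ∈ H) (hc1 : c ≠ 1) : zpowers c = H := by
  have ho : orderOf c = 2 := by
    rcases Nat.prime_two.eq_one_or_self_of_dvd _ (hH ▸ Subgroup.orderOf_dvd_natCard H hc) with h | h
    · exact absurd (orderOf_eq_one_iff.mp h) hc1
    · exact h
  exact Subgroup.eq_of_le_of_card_ge (zpowers_le.mpr hc) (le_of_eq (by rw [hH, Nat.card_zpowers, ho]))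

/-- Classification of 2-groups of maximal class by standard generators; in particular the central quotient
is dihedral. -/
theorem maxClass_two {X : Type u} [Group X] [Finite X] {n : ℕ} (hn : 3 ≤ n) (hX : Nat.card X = 2 ^ n)
    (hc : Group.nilpotencyClass X = n - 1) :
    ∃ c y : X, orderOf c = 2 ^ (n - 1) ∧ y ∉ zpowers c ∧
      ((y * c * y⁻¹ = c⁻¹ ∧ (y ^ 2 = 1 ∨ y ^ 2 = c ^ 2 ^ (n - 2))) ∨
        (4 ≤ n ∧ y * c * y⁻¹ = c ^ (2 ^ (n - 2) - 1) ∧ y ^ 2 = 1)) ∧
      Nonempty (X ⧸ center X ≃* DihedralGroup (2 ^ (n - 2))) := by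
  haveI : Fact (Nat.Prime 2) := ⟨Nat.prime_two⟩
  have hXp := IsPGroup.of_card hX
  obtain ⟨hZ, hQ, -⟩ := card_center_of_maxClass hn hX hc
  obtain ⟨c, hk⟩ := exists_cyclic_index_two n X hn hX hc
  have hidx : (zpowers c).index = 2 := by
    have h1 := (zpowers c).card_mul_index
    rw [Nat.card_zpowers, hk, hX] at h1
    nth_rw 2 [show n = (n - 1) + 1 by omega] at h1
    rw [pow_succ] at h1
    exact Nat.eq_of_mul_eq_mul_left (by positivity) h1
  have hCn : (zpowers c).Normal := normal_of_index_eq hXp hidx
  obtain ⟨x, hx⟩ : ∃ x, x ∉ zpowers c := by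
    by_contra hall
    push Not at hall
    rw [(eq_top_iff.mpr fun y _ => hall y : zpowers c = ⊤), Subgroup.index_top] at hidx
    omega
  have hgen := sup_zpowers_eq_top hXp hidx hx
  haveI := hCn
  have hx2 : x ^ 2 ∈ zpowers c := hidx ▸ (zpowers c).pow_index_mem x
  obtain ⟨r, hr⟩ := exists_conj_eq_zpow hCn x
  have hcent : ∀ g : X, g * x = x * g → g * c = c * g → g ∈ center X := fun g h1 h2 => by
    have hle : (⊤ : Subgroup X) ≤ centralizer ({g} : Set X) := by
      rw [← hgen]
      refine sup_le (zpowers_le.mpr ?_) (zpowers_le.mpr ?_) <;>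
        refine Subgroup.mem_centralizer_iff.mpr fun h hh => ?_ <;> rw [Set.mem_singleton_iff.mp hh]
      exacts [h2, h1]
    exact Subgroup.mem_center_iff.mpr fun h => (Subgroup.mem_centralizer_iff.mp (hle (mem_top h)) g rfl).symm
  have hne : x * c * x⁻¹ ≠ c := fun h => by
    have := hcent c (mul_inv_eq_iff_eq_mul.mp h).symm rfl
    have h1 := Subgroup.card_dvd_of_le (zpowers_le.mpr this)
    rw [Nat.card_zpowers, hk, hZ] at h1
    have := Nat.le_of_dvd two_pos h1
    have : 2 ^ 2 ≤ 2 ^ (n - 1) := Nat.pow_le_pow_right two_pos (by omega)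
    omega
  have hk' : ((2 ^ (n - 1) : ℕ) : ℤ) = (2 : ℤ) ^ (n - 1) := by push_cast; rfl
  obtain ⟨hk2, hcases⟩ := standard_generator hk hx2 hr hne
  rw [show n - 1 - 1 = n - 2 by omega] at hcases
  set K : ℤ := 2 ^ (n - 2) with hK
  have hkK : (2 : ℤ) ^ (n - 1) = 2 * K := by rw [hK, ← pow_succ', show n - 2 + 1 = n - 1 by omega]
  -- the central involution
  set z := c ^ 2 ^ (n - 2) with hzdef
  have hz2 : z ^ 2 = 1 := by
    rw [hzdef, ← pow_mul, ← pow_succ, show n - 2 + 1 = n - 1 by omega, ← hk, pow_orderOf_eq_one]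
  have hz1 : z ≠ 1 := fun h => by
    have := orderOf_dvd_of_pow_eq_one (hzdef ▸ h)
    rw [hk, Nat.pow_dvd_pow_iff_le_right one_lt_two] at this
    omega
  have hzc : z ∈ center X := by
    haveI : (zpowers z).Normal := by
      refine ⟨fun v hv g => ?_⟩
      obtain ⟨j, rfl⟩ := Subgroup.mem_zpowers_iff.mp hv
      obtain ⟨e, he⟩ := exists_conj_eq_zpow hCn g
      rw [← conj_zpow, hzdef, ← conj_pow, he]
      exact zpow_mem (show (c ^ e) ^ 2 ^ (n - 2) ∈ zpowers (c ^ 2 ^ (n - 2)) from
        ⟨e, show (c ^ 2 ^ (n - 2)) ^ e = (c ^ e) ^ 2 ^ (n - 2) by group⟩) j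
    exact le_center_of_card_eq hXp _ (by rw [Nat.card_zpowers, orderOf_eq_prime hz2 hz1]) (mem_zpowers z)
  have hfinish : ∀ y : X, y ∉ zpowers c → (∃ e : ℤ, y * c * y⁻¹ = c ^ e ∧ K ∣ e + 1) → y ^ 2 ∈ center X →
      Nonempty (X ⧸ center X ≃* DihedralGroup (2 ^ (n - 2))) := by
    intro y hy ⟨e, he, hed⟩ hy2
    haveI : NeZero (2 ^ (n - 2)) := ⟨by positivity⟩
    have hZeq : zpowers z = center X :=
      zpowers_eq_of_card_eq_two hZ hzc hz1
    have hmem : center X ≤ zpowers c := hZeq ▸ zpowers_le.mpr (pow_mem (mem_zpowers c) _)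
    have hord : orderOf (QuotientGroup.mk' (center X) c) = 2 ^ (n - 2) := by
      have h1 : Nat.card ((zpowers (QuotientGroup.mk' (center X) c)).comap (QuotientGroup.mk' (center X))) =
          2 * orderOf (QuotientGroup.mk' (center X) c) := by rw [card_comap_mk', hZ, Nat.card_zpowers]
      rw [← MonoidHom.map_zpowers, Subgroup.comap_map_eq, QuotientGroup.ker_mk', sup_eq_left.mpr hmem,
        Nat.card_zpowers, hk, show n - 1 = n - 2 + 1 by omega, pow_succ'] at h1
      exact (Nat.eq_of_mul_eq_mul_left two_pos h1).symm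
    refine nonempty_mulEquiv_dihedral hord (y := QuotientGroup.mk' (center X) y) ?_ ?_ ?_ ?_
    · intro h
      obtain ⟨i, hi⟩ := Subgroup.mem_zpowers_iff.mp h
      rw [← map_zpow, QuotientGroup.mk'_apply, QuotientGroup.mk'_apply, QuotientGroup.eq] at hi
      exact hy (by simpa using mul_mem (zpow_mem_zpowers c i) (hmem hi))
    · rw [← map_pow]; exact (QuotientGroup.eq_one_iff _).mpr hy2
    · rw [← map_inv, ← map_mul, ← map_mul, he, map_zpow, ← zpow_neg_one, zpow_eq_zpow_iff_dvd hord]
      push_cast
      rw [← hK, show -1 - e = -(e + 1) by ring, dvd_neg]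
      exact hed
    · rw [hQ, ← pow_succ', show n - 2 + 1 = n - 1 by omega]
  rcases hcases with ⟨h1, i, h2⟩ | ⟨h3, h1, i, h2⟩ | ⟨h3, h1, i, h2⟩
  · refine ⟨c, x * c ^ i, hk, fun h => hx ((mul_mem_cancel_right (zpow_mem_zpowers c i)).mp h),
      Or.inl ⟨by rw [← h1]; group, h2⟩, ?_⟩
    refine hfinish _ (fun h => hx ((mul_mem_cancel_right (zpow_mem_zpowers c i)).mp h))
      ⟨-1, by rw [zpow_neg_one, ← h1]; group, by norm_num⟩ ?_
    rcases h2 with h2 | h2 <;> rw [h2]
    exacts [one_mem _, hzc]
  · refine ⟨c, x * c ^ i, hk, fun h => hx ((mul_mem_cancel_right (zpow_mem_zpowers c i)).mp h),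
      Or.inr ⟨by omega, ?_, h2⟩, ?_⟩
    · rw [show x * c ^ i * c * (x * c ^ i)⁻¹ = x * c * x⁻¹ by group, hr, ← zpow_natCast,
        zpow_eq_zpow_iff_dvd hk, hk', Nat.cast_sub Nat.one_le_two_pow]
      push_cast
      rw [← hK, show K - 1 - r = -(r + 1 - K) by ring, dvd_neg]
      exact h1
    · refine hfinish _ (fun h => hx ((mul_mem_cancel_right (zpow_mem_zpowers c i)).mp h))
        ⟨r, by rw [← hr]; group, ?_⟩ (h2 ▸ one_mem _)
      obtain ⟨t, ht⟩ := h1
      exact ⟨2 * t + 1, by rw [hkK] at ht; linarith⟩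
  · exfalso
    obtain ⟨l, rfl⟩ : ∃ l, n = l + 4 := ⟨n - 4, by omega⟩
    have h5 : c ^ 2 ∈ center X := by
      refine hcent _ ?_ (by group)
      have h6 : x * c ^ 2 * x⁻¹ = c ^ 2 := by
        rw [← conj_pow, hr, ← zpow_natCast, ← zpow_mul, ← zpow_natCast, zpow_eq_zpow_iff_dvd hk, hk', hkK]
        obtain ⟨t, ht⟩ := h1
        exact ⟨-(2 * t + 1), by push_cast; rw [hkK] at ht; linarith⟩
      exact (mul_inv_eq_iff_eq_mul.mp h6).symm
    have h7 := Nat.le_of_dvd two_pos (hZ ▸ Subgroup.orderOf_dvd_natCard _ h5)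
    rw [orderOf_pow, hk, show l + 4 - 1 = l + 3 by omega, Nat.gcd_eq_right (dvd_pow_self 2 (by omega)),
      pow_succ, Nat.mul_div_cancel _ two_pos, pow_succ, pow_succ] at h7
    nlinarith [Nat.one_le_two_pow (n := l)]

end Cfsg.Agent.PGroups
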