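import Cfsg.Agent.PGroups.RegularClass

/-!
`p`-central subgroups, `p` odd: subgroups `C` in which every element of order dividing `p` is central.
The quotient of `C` by these elements is again `p`-central, and `|C : ℧₁(C)| ≤ |Ω₁(C)|`.
-/

set_option autoImplicit false
set_option linter.style.haveILetI false

namespace Cfsg.Agent.PGroups

open Subgroup
open scoped commutatorElement

universe u

variable {G : Type*} [Group G] {p : ℕ}

/-- Power formula when the commutator commutes with both factors. -/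
theorem mul_pow_of_commute {a b e : G} (h : b * a = a * b * e) (ha : Commute e a) (hb : Commute e b) (n : ℕ) :
    (a * b) ^ n = a ^ n * b ^ n * e ^ n.choose 2 := by
  have hswap : ∀ m : ℕ, b ^ m * a = a * b ^ m * e ^ m := by
    intro m
    induction m with
    | zero => simp
    | succ m ih =>
      have hbe : e * b ^ m = b ^ m * e := (hb.pow_right m).eq
      calc b ^ (m + 1) * a = b ^ m * (b * a) := by rw [pow_succ, mul_assoc]
        _ = b ^ m * a * b * e := by rw [h]; group
        _ = a * b ^ m * (e ^ m * b) * e := by rw [ih]; group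
        _ = a * b ^ (m + 1) * e ^ (m + 1) := by
          rw [(hb.pow_left m).eq]; group
  induction n with
  | zero => simp
  | succ n ih =>
    calc (a * b) ^ (n + 1) = a ^ n * b ^ n * (e ^ n.choose 2 * a) * b := by rw [pow_succ, ih]; group
      _ = a ^ n * (b ^ n * a) * (e ^ n.choose 2 * b) := by rw [(ha.pow_left _).eq]; group
      _ = a ^ n * a * b ^ n * (e ^ n * b) * e ^ n.choose 2 := by rw [hswap, (hb.pow_left _).eq]; group
      _ = a ^ (n + 1) * b ^ (n + 1) * (e ^ n * e ^ n.choose 2) := by rw [(hb.pow_left n).eq]; group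
      _ = _ := by rw [← pow_add, Nat.choose_succ_succ' n 1, Nat.choose_one_right]

/-- Every element of order dividing `p` of `C` centralizes `C`. -/
def IsPCentralIn (p : ℕ) (C : Subgroup G) : Prop :=
  ∀ x ∈ C, x ^ p = 1 → ∀ c ∈ C, Commute x c

/-- The elements of order dividing `p` of a `p`-central subgroup. -/
def torsionIn {C : Subgroup G} (h : IsPCentralIn p C) : Subgroup G where
  carrier := {x | x ∈ C ∧ x ^ p = 1}
  one_mem' := ⟨one_mem _, one_pow _⟩
  mul_mem' {x y} hx hy := ⟨mul_mem hx.1 hy.1, by rw [(h x hx.1 hx.2 y hy.1).mul_pow, hx.2, hy.2, one_mul]⟩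
  inv_mem' {x} hx := ⟨inv_mem hx.1, by rw [inv_pow, hx.2, inv_one]⟩

theorem mem_torsionIn {C : Subgroup G} {h : IsPCentralIn p C} {x : G} :
    x ∈ torsionIn h ↔ x ∈ C ∧ x ^ p = 1 := Iff.rfl

theorem torsionIn_normal {C : Subgroup G} [hC : C.Normal] (h : IsPCentralIn p C) : (torsionIn h).Normal :=
  ⟨fun x hx g => ⟨hC.conj_mem x hx.1 g, by rw [conj_pow, hx.2]; simp⟩⟩

variable [hp : Fact p.Prime]

/-- If `x ^ p` is central then so is `⁅g, x⁆`, with order dividing `p`. -/
theorem commutatorElement_pow_eq_one [Finite G] (hG : IsPGroup p G) (hp2 : p ≠ 2) (C : Subgroup G)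
    (hc : IsPCentralIn p C) :
    ∀ x ∈ C, (∀ c ∈ C, Commute (x ^ p) c) → ∀ g ∈ C, ⁅g, x⁆ ^ p = 1 := by
  induction C using WellFoundedLT.induction with
  | ind C ih =>
  intro x hx hxp g hg
  by_cases hab : ⁅C, C⁆ = ⊥
  · have h0 := commutator_mem_commutator hg hx
    rw [hab, Subgroup.mem_bot] at h0
    rw [h0, one_pow]
  have hlt : zpowers x ⊔ ⁅C, C⁆ < C := sup_commutator_lt hG hx hab
  set y := g * x * g⁻¹ with hy
  have hyH : y ∈ zpowers x ⊔ ⁅C, C⁆ := by
    have h1 : ⁅g, x⁆ * x ∈ zpowers x ⊔ ⁅C, C⁆ := mul_mem (Subgroup.mem_sup_right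
      (commutator_mem_commutator hg hx)) (Subgroup.mem_sup_left (mem_zpowers x))
    rwa [commutatorElement_def, inv_mul_cancel_right] at h1
  have hyC : y ∈ C := mul_mem (mul_mem hg hx) (inv_mem hg)
  have hxy := ih _ hlt (fun a ha h1 c hcH => hc a (hlt.le ha) h1 c (hlt.le hcH)) x
    (Subgroup.mem_sup_left (mem_zpowers x)) (fun c hcH => hxp c (hlt.le hcH)) y hyH
  set e := ⁅x⁻¹, y⁆ with he
  have he' : e = x⁻¹ * ⁅y, x⁆ * x⁻¹⁻¹ := by simp only [he, commutatorElement_def]; group
  have heC : e ∈ C := commutator_self_le C (commutator_mem_commutator (inv_mem hx) hyC)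
  have hep : e ^ p = 1 := by rw [he', conj_pow, hxy]; simp
  have hcomm := hc e heC hep
  have hyx : x⁻¹ * y = y * x⁻¹ * e := by
    rw [← (hcomm _ (mul_mem hyC (inv_mem hx))).eq, he, commutatorElement_def]; group
  have hpow := mul_pow_of_commute hyx (hcomm y hyC) (hcomm _ (inv_mem hx)) p
  have hyp : y ^ p = x ^ p := by rw [hy, conj_pow, ← (hxp g hg).eq, mul_inv_cancel_right]
  obtain ⟨t, ht⟩ : p ∣ p.choose 2 :=
    hp.out.dvd_choose_self two_ne_zero (lt_of_le_of_ne hp.out.two_le (Ne.symm hp2))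
  rw [hyp, inv_pow, mul_inv_cancel, one_mul, ht, pow_mul, hep, one_pow] at hpow
  rw [commutatorElement_def, ← hy]
  exact hpow

/-- The product formula for `p`-th powers when one of them is central. -/
theorem mul_pow_of_pow_central [Finite G] (hG : IsPGroup p G) (hp2 : p ≠ 2) {C : Subgroup G}
    (hc : IsPCentralIn p C) {x y : G} (hx : x ∈ C) (hy : y ∈ C) (hxp : ∀ c ∈ C, Commute (x ^ p) c) :
    (x * y) ^ p = x ^ p * y ^ p := by
  have he := commutatorElement_pow_eq_one hG hp2 C hc x hx hxp y⁻¹ (inv_mem hy)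
  set e := ⁅y⁻¹, x⁆⁻¹ with hedef
  have hep : e ^ p = 1 := by rw [hedef, inv_pow, he, inv_one]
  have heC : e ∈ C := inv_mem (commutator_self_le C (commutator_mem_commutator (inv_mem hy) hx))
  have hyx : y * x = x * y * (y⁻¹ * x⁻¹ * y * x) := by group
  have hcomm := hc e heC hep
  have he2 : y⁻¹ * x⁻¹ * y * x = x⁻¹ * e⁻¹⁻¹ * x := by
    simp only [hedef, commutatorElement_def]; group
  rw [he2, inv_inv, ← (hcomm _ (inv_mem hx)).eq, inv_mul_cancel_right] at hyx
  obtain ⟨t, ht⟩ : p ∣ p.choose 2 :=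
    hp.out.dvd_choose_self two_ne_zero (lt_of_le_of_ne hp.out.two_le (Ne.symm hp2))
  rw [mul_pow_of_commute hyx (hcomm x hx) (hcomm y hy) p, ht, pow_mul, hep, one_pow, mul_one]

/-- The quotient by the elements of order dividing `p` is again `p`-central. -/
theorem isPCentralIn_map [Finite G] (hG : IsPGroup p G) (hp2 : p ≠ 2) {C : Subgroup G} [C.Normal]
    (hc : IsPCentralIn p C) (E : Subgroup G) [E.Normal] (hE : E = torsionIn hc) :
    IsPCentralIn p (C.map (QuotientGroup.mk' E)) := by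
  rintro _ ⟨x, hx, rfl⟩ hxp _ ⟨c, hcC, rfl⟩
  rw [← map_pow] at hxp
  have h1 : x ^ p ∈ torsionIn hc := hE ▸ (QuotientGroup.eq_one_iff _).mp hxp
  have h2 := commutatorElement_pow_eq_one hG hp2 C hc x hx (hc _ h1.1 h1.2) c hcC
  refine Commute.symm ?_
  rw [← commutatorElement_eq_one_iff_commute, ← map_commutatorElement]
  refine (QuotientGroup.eq_one_iff _).mpr ?_
  rw [hE]
  exact ⟨commutator_self_le C (commutator_mem_commutator hcC hx), h2⟩

/-- `p`-th powering maps the elements of order dividing `p` of `C / Ω₁(C)` injectively to `℧₁(C) ∩ Ω₁(C)`. -/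
theorem card_torsionIn_map_le [Finite G] (hG : IsPGroup p G) (hp2 : p ≠ 2) {C : Subgroup G} [C.Normal]
    (hc : IsPCentralIn p C) (E : Subgroup G) [E.Normal] (hE : E = torsionIn hc)
    (hc' : IsPCentralIn p (C.map (QuotientGroup.mk' E))) :
    Nat.card (torsionIn hc') ≤ Nat.card ↑(Cfsg.powerClosure p 1 C ⊓ E) := by
  have hlift : ∀ t : torsionIn hc', ∃ x : G, x ∈ C ∧ x ^ p ∈ E ∧ QuotientGroup.mk' E x = t := by
    intro t
    obtain ⟨x, hx, hxt⟩ := t.2.1
    refine ⟨x, hx, (QuotientGroup.eq_one_iff _).mp ?_, hxt⟩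
    rw [QuotientGroup.mk_pow]
    show (QuotientGroup.mk' E x) ^ p = 1
    rw [hxt]; exact t.2.2
  choose f hfC hfp hft using hlift
  refine Nat.card_le_card_of_injective (fun t => (⟨f t ^ p,
    ⟨by simpa using pow_mem_powerClosure p 1 (hfC t), hfp t⟩⟩ : ↑(Cfsg.powerClosure p 1 C ⊓ E))) ?_
  intro s t hst
  have h1 : f s ^ p = f t ^ p := congrArg Subtype.val hst
  have hcen : ∀ c ∈ C, Commute ((f s)⁻¹ ^ p) c := fun c hcC => by
    have h2 : f s ^ p ∈ torsionIn hc := hE ▸ hfp s
    rw [inv_pow]; exact (hc _ h2.1 h2.2 c hcC).inv_left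
  have h3 := mul_pow_of_pow_central hG hp2 hc (inv_mem (hfC s)) (hfC t) hcen
  rw [inv_pow, h1, inv_mul_cancel] at h3
  have h4 : (f s)⁻¹ * f t ∈ E := by rw [hE]; exact ⟨mul_mem (inv_mem (hfC s)) (hfC t), h3⟩
  apply Subtype.ext
  rw [← hft s, ← hft t]
  exact QuotientGroup.eq.mpr h4

omit hp in
/-- The order of a subgroup from its image and kernel. -/
theorem card_eq_card_map_mul [Finite G] (N : Subgroup G) [N.Normal] (P : Subgroup G) :
    Nat.card P = Nat.card (P.map (QuotientGroup.mk' N)) * Nat.card ↑(P ⊓ N) := by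
  have h := Subgroup.card_mul_index ((QuotientGroup.mk' N).comp P.subtype).ker
  rw [Subgroup.index_ker, MonoidHom.range_comp, Subgroup.range_subtype] at h
  rw [← h, mul_comm]
  congr 1
  rw [← Subgroup.card_map_of_injective P.subtype_injective, ← MonoidHom.comap_ker,
    QuotientGroup.ker_mk', Subgroup.map_comap_eq, Subgroup.range_subtype]

/-- `|C : ℧₁(C)| ≤ |Ω₁(C)|`. -/
theorem card_le_powerClosure_mul_torsion (hp2 : p ≠ 2) :
    ∀ (N : ℕ) (G : Type u) [Group G] [Finite G], Nat.card G ≤ N → IsPGroup p G →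
      ∀ (C : Subgroup G) [C.Normal] (hc : IsPCentralIn p C),
        Nat.card C ≤ Nat.card (Cfsg.powerClosure p 1 C) * Nat.card (torsionIn hc)
  | 0, G, _, _, hN, _, _, _, _ => absurd Nat.card_pos (not_lt.mpr hN)
  | N + 1, G, _, _, hN, hG, C, _, hc => by
    by_cases hC : C = ⊥
    · subst hC
      rw [Subgroup.card_bot]
      exact Nat.one_le_iff_ne_zero.mpr (Nat.mul_ne_zero Nat.card_pos.ne' Nat.card_pos.ne')
    haveI hEn := torsionIn_normal hc
    set E := torsionIn hc with hE
    have hEne : E ≠ ⊥ := by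
      intro h
      obtain ⟨z, hz, hzo⟩ := exists_orderOf_eq hG hC
      have : z ∈ E := ⟨hz, hzo ▸ pow_orderOf_eq_one z⟩
      rw [h, Subgroup.mem_bot] at this
      rw [this, orderOf_one] at hzo
      exact hp.out.one_lt.ne hzo
    have hlt : Nat.card (G ⧸ E) ≤ N := by
      have h := E.card_eq_card_quotient_mul_card_subgroup
      have h1 : 1 < Nat.card E := (Subgroup.one_lt_card_iff_ne_bot E).mpr hEne
      have : Nat.card (G ⧸ E) < Nat.card (G ⧸ E) * Nat.card E := lt_mul_of_one_lt_right Nat.card_pos h1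
      omega
    have hc' := isPCentralIn_map hG hp2 hc E hE
    haveI : (C.map (QuotientGroup.mk' E)).Normal :=
      Subgroup.Normal.map ‹_› _ (QuotientGroup.mk'_surjective E)
    have ih := card_le_powerClosure_mul_torsion hp2 N (G ⧸ E) hlt (hG.to_quotient E) _ hc'
    have hO := card_torsionIn_map_le hG hp2 hc E hE hc'
    rw [← powerClosure_map] at ih
    rw [card_eq_card_map_mul E C, card_eq_card_map_mul E (Cfsg.powerClosure p 1 C),
      inf_eq_right.mpr (fun x hx => (hE ▸ hx : x ∈ torsionIn hc).1)]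
    exact Nat.mul_le_mul_right _ (ih.trans (Nat.mul_le_mul_left _ hO))

end Cfsg.Agent.PGroups
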