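import Mathlib.Algebra.Group.End
import Mathlib.Algebra.Field.ZMod
import Mathlib.Tactic.LinearCombination
import Mathlib.Tactic.Group

/-!
A group of automorphisms that induces on a two-dimensional `p`-elementary section a transvection fixing `e`
and moves `e` to an independent vector `f` contains an element acting as `diag (2, 1/2)`.
-/

set_option autoImplicit false

namespace Cfsg.Agent.PGroups

variable {G Q : Type*} [Group G] [Group Q] {p : ℕ}

theorem zpow_eq_of_zmod_eq {c : Q} (hc : c ^ p = 1) {i j : ℤ} (h : (i : ZMod p) = (j : ZMod p)) :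
    c ^ i = c ^ j := by
  obtain ⟨d, hd⟩ := (ZMod.intCast_eq_intCast_iff_dvd_sub i j p).1 h
  rw [show j = i + (p : ℤ) * d by omega, zpow_add, zpow_mul, zpow_natCast, hc, one_zpow, mul_one]

/-- The automorphism `h` acts, modulo the kernel of `q`, on the basis `q E`, `q F` by the rows `(i, j)`, `(k, l)`. -/
def WordRep (q : G →* Q) (E F : G) (h : MulAut G) (i j k l : ℤ) : Prop :=
  q (h E) = q E ^ i * q F ^ j ∧ q (h F) = q E ^ k * q F ^ l

theorem WordRep.comp {q : G →* Q} {E F : G} (hcomm : Commute (q E) (q F)) {h₁ h₂ : MulAut G}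
    (hinv : ∀ g, q g = 1 → q (h₁ g) = 1) {i j k l i' j' k' l' : ℤ} (r₁ : WordRep q E F h₁ i j k l)
    (r₂ : WordRep q E F h₂ i' j' k' l') :
    WordRep q E F (h₁ * h₂) (i * i' + k * j') (j * i' + l * j') (i * k' + k * l') (j * k' + l * l') := by
  have key : ∀ (g : G) (u v : ℤ), q g = q E ^ u * q F ^ v →
      q (h₁ g) = q E ^ (i * u + k * v) * q F ^ (j * u + l * v) := by
    intro g u v hg
    have h0 : q ((E ^ u * F ^ v)⁻¹ * g) = 1 := by
      rw [map_mul, map_inv, map_mul, map_zpow, map_zpow, hg, inv_mul_cancel]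
    have h1 := hinv _ h0
    rw [map_mul, map_inv, map_mul, map_inv, inv_mul_eq_one, map_mul, map_mul, map_zpow, map_zpow, map_zpow,
      map_zpow, r₁.1, r₁.2] at h1
    rw [← h1, (hcomm.zpow_zpow i j).mul_zpow, (hcomm.zpow_zpow k l).mul_zpow, ← zpow_mul, ← zpow_mul,
      ← zpow_mul, ← zpow_mul, mul_assoc (q E ^ (i * u)), ← mul_assoc (q F ^ (j * u)),
      ← (hcomm.zpow_zpow (k * v) (j * u)).eq, mul_assoc (q E ^ (k * v)), ← zpow_add, ← mul_assoc, ← zpow_add]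
  exact ⟨key _ _ _ r₂.1, key _ _ _ r₂.2⟩

theorem exists_diag_of_transvection [hp : Fact p.Prime] (hp2 : p ≠ 2) (H : Subgroup (MulAut G)) (q : G →* Q)
    (hinv : ∀ h ∈ H, ∀ g, q g = 1 → q (h g) = 1) (E F : G) (hcomm : Commute (q E) (q F))
    (he : q E ^ p = 1) (hf : q F ^ p = 1) (hspan : ∀ g, ∃ i j : ℤ, q g = q E ^ i * q F ^ j)
    (hind : ∀ i j : ℤ, q E ^ i * q F ^ j = 1 → (p : ℤ) ∣ i ∧ (p : ℤ) ∣ j)
    {t : MulAut G} (ht : t ∈ H) (hte : q (t E) = q E) {a : ℤ} (htf : q (t F) = q E ^ a * q F)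
    (ha : ¬ (p : ℤ) ∣ a) {τ : MulAut G} (hτ : τ ∈ H) (hτe : q (τ E) = q F) :
    ∃ k : ℕ, ((2 * k : ℕ) : ZMod p) = 1 ∧ ∃ h ∈ H, q (h E) = q E ^ 2 ∧ q (h F) = q F ^ k := by
  have congr' : ∀ {h : MulAut G} {i j k l i' j' k' l' : ℤ}, WordRep q E F h i j k l →
      (i : ZMod p) = i' → (j : ZMod p) = j' → (k : ZMod p) = k' → (l : ZMod p) = l' →
      WordRep q E F h i' j' k' l' := by
    intro h i j k l i' j' k' l' r h1 h2 h3 h4
    rw [WordRep, ← zpow_eq_of_zmod_eq he h1, ← zpow_eq_of_zmod_eq hf h2, ← zpow_eq_of_zmod_eq he h3,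
      ← zpow_eq_of_zmod_eq hf h4]
    exact r
  have uniq : ∀ {i j i' j' : ℤ}, q E ^ i * q F ^ j = q E ^ i' * q F ^ j' →
      (i : ZMod p) = i' ∧ (j : ZMod p) = j' := by
    intro i j i' j' h
    have h1 : q E ^ (i - i') * q F ^ (j - j') = 1 := by
      calc q E ^ (i - i') * q F ^ (j - j') = (q E ^ i')⁻¹ * (q E ^ i * q F ^ j) * (q F ^ j')⁻¹ := by group
        _ = 1 := by rw [h]; group
    obtain ⟨hi, hj⟩ := hind _ _ h1
    rw [ZMod.intCast_eq_intCast_iff_dvd_sub, ZMod.intCast_eq_intCast_iff_dvd_sub]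
    exact ⟨dvd_sub_comm.1 hi, dvd_sub_comm.1 hj⟩
  have one : WordRep q E F 1 1 0 0 1 := by simp [WordRep, MulAut.one_apply]
  have rt : WordRep q E F t 1 0 a 1 := by simp [WordRep, hte, htf]
  obtain ⟨c, d, hcd⟩ := hspan (τ F)
  have rτ : WordRep q E F τ 0 1 c d := ⟨by simp [hτe], hcd⟩
  obtain ⟨i, j, hij⟩ := hspan (τ⁻¹ E)
  obtain ⟨k, l, hkl⟩ := hspan (τ⁻¹ F)
  have rτ' : WordRep q E F τ⁻¹ i j k l := ⟨hij, hkl⟩
  have r1 := rτ.comp hcomm (hinv τ hτ) rτ'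
  rw [mul_inv_cancel] at r1
  obtain ⟨hcj, hdj⟩ := uniq (r1.1.symm.trans one.1)
  obtain ⟨hcl, hdl⟩ := uniq (r1.2.symm.trans one.2)
  push_cast at hcj hdj hcl hdl
  simp only [zero_mul, zero_add, one_mul] at hcj hdj hcl hdl
  have hc0 : (c : ZMod p) ≠ 0 := fun h => by simp [h] at hcj
  have hl0 : (l : ZMod p) = 0 := (mul_eq_zero.1 hcl).resolve_left hc0
  have hk1 : (k : ZMod p) = 1 := by simpa [hl0] using hdl
  have hj0 : (j : ZMod p) ≠ 0 := fun h => by simp [h] at hcj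
  have ha0 : (a : ZMod p) ≠ 0 := by rwa [Ne, ZMod.intCast_zmod_eq_zero_iff_dvd]
  have rlow : WordRep q E F (τ * (t * τ⁻¹)) 1 (a * j) 0 1 := by
    refine congr' (rτ.comp hcomm (hinv τ hτ) (rt.comp hcomm (hinv t ht) rτ')) ?_ ?_ ?_ ?_ <;> push_cast
    · linear_combination hcj
    · linear_combination hdj
    · rw [hl0]; ring
    · rw [hl0, hk1]; ring
  have hlow : τ * (t * τ⁻¹) ∈ H := mul_mem hτ (mul_mem ht (inv_mem hτ))
  have upper : ∀ r : ℤ, ∃ h ∈ H, WordRep q E F h 1 0 r 1 := by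
    intro r
    have rpow : ∀ n : ℕ, WordRep q E F (t ^ n) 1 0 (n * a) 1 := by
      intro n
      induction n with
      | zero => simpa using one
      | succ n ih =>
        rw [pow_succ']
        refine congr' (rt.comp hcomm (hinv t ht) ih) ?_ ?_ ?_ ?_ <;> push_cast <;> ring
    refine ⟨t ^ ((r : ZMod p) * (a : ZMod p)⁻¹).val, pow_mem ht _, congr' (rpow _) rfl rfl ?_ rfl⟩
    push_cast
    rw [ZMod.natCast_val, ZMod.cast_id', id, mul_assoc, inv_mul_cancel₀ ha0, mul_one]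
  have lower : ∀ r : ℤ, ∃ h ∈ H, WordRep q E F h 1 r 0 1 := by
    intro r
    have rpow : ∀ n : ℕ, WordRep q E F ((τ * (t * τ⁻¹)) ^ n) 1 (n * (a * j)) 0 1 := by
      intro n
      induction n with
      | zero => simpa using one
      | succ n ih =>
        rw [pow_succ']
        refine congr' (rlow.comp hcomm (hinv _ hlow) ih) ?_ ?_ ?_ ?_ <;> push_cast <;> ring
    refine ⟨(τ * (t * τ⁻¹)) ^ ((r : ZMod p) * ((a : ZMod p) * (j : ZMod p))⁻¹).val, pow_mem hlow _,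
      congr' (rpow _) rfl ?_ rfl rfl⟩
    push_cast
    rw [ZMod.natCast_val, ZMod.cast_id', id, mul_assoc, inv_mul_cancel₀ (mul_ne_zero ha0 hj0), mul_one]
  have h2 : (2 : ZMod p) ≠ 0 := by
    intro h
    have h' : ((2 : ℕ) : ZMod p) = 0 := by exact_mod_cast h
    rw [ZMod.natCast_eq_zero_iff] at h'
    exact hp2 ((Nat.prime_dvd_prime_iff_eq hp.out Nat.prime_two).1 h')
  set n := ((2 : ZMod p)⁻¹).val
  have hn : (2 : ZMod p) * (n : ZMod p) = 1 := by
    rw [ZMod.natCast_val, ZMod.cast_id', id, mul_inv_cancel₀ h2]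
  obtain ⟨g₁, hg₁, rg₁⟩ := lower (-(n : ℤ))
  obtain ⟨g₂, hg₂, rg₂⟩ := upper 1
  obtain ⟨g₃, hg₃, rg₃⟩ := lower 1
  obtain ⟨g₄, hg₄, rg₄⟩ := upper (-(n : ℤ))
  have r := rg₁.comp hcomm (hinv g₁ hg₁) (rg₂.comp hcomm (hinv g₂ hg₂) (rg₃.comp hcomm (hinv g₃ hg₃) rg₄))
  have r' : WordRep q E F (g₁ * (g₂ * (g₃ * g₄))) 2 0 0 (n : ℤ) := by
    refine congr' r ?_ ?_ ?_ ?_ <;> push_cast
    · ring
    · linear_combination (-1 : ZMod p) * hn
    · linear_combination (-1 : ZMod p) * hn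
    · linear_combination ((n : ZMod p) - 1) * hn
  refine ⟨n, by push_cast; exact hn, _, mul_mem hg₁ (mul_mem hg₂ (mul_mem hg₃ hg₄)), ?_, ?_⟩
  · simpa [zpow_two, pow_two] using r'.1
  · simpa using r'.2

end Cfsg.Agent.PGroups
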