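import Cfsg.Agent.PGroups.PolyDiff
import Cfsg.Agent.PGroups.MaxClass
import Cfsg.Agent.PGroups.PCentral
import Cfsg.Agent.PGroups.TransvectionWord
import Cfsg.Agent.PGroups.Extraspecial
import Mathlib.Data.Nat.Choose.Dvd

/-!
A `p`-group of maximal class with an element whose centralizer has order `p ^ 2`: the `p`-th power map sends
the `i`-th layer of the lower central series onto the `(i + p - 1)`-st, and every subgroup is generated by
`p` elements.
-/

set_option autoImplicit false
set_option linter.style.haveILetI false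
set_option linter.unusedSectionVars false

namespace Cfsg.Agent.PGroups

open Subgroup
open scoped commutatorElement

variable {G : Type*} [Group G] [Finite G] {p : ℕ} [hp : Fact p.Prime]

omit hp in
/-- The centralizer of an element does not grow in a quotient. -/
theorem card_centralizer_quotient_le (N : Subgroup G) [N.Normal] (x : G) :
    Nat.card (centralizer ({QuotientGroup.mk' N x} : Set (G ⧸ N))) ≤ Nat.card (centralizer ({x} : Set G)) := by
  set q := QuotientGroup.mk' N
  set D := (centralizer ({q x} : Set (G ⧸ N))).comap q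
  have hmem : ∀ d ∈ D, x⁻¹ * (d * x * d⁻¹) ∈ N := by
    intro d hd
    have h : Commute (q x) (q d) := Subgroup.mem_centralizer_iff.1 hd _ rfl
    rw [← QuotientGroup.eq_one_iff]
    show q (x⁻¹ * (d * x * d⁻¹)) = 1
    simp only [map_mul, map_inv]
    rw [← h.eq, mul_inv_cancel_right, inv_mul_cancel]
  have hmap : D.map q = centralizer ({q x} : Set (G ⧸ N)) :=
    Subgroup.map_comap_eq_self_of_surjective (QuotientGroup.mk'_surjective N) _
  have hND : N ≤ D := fun v hv => by
    show q v ∈ centralizer ({q x} : Set (G ⧸ N))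
    rw [show q v = 1 from (QuotientGroup.eq_one_iff v).2 hv]
    exact one_mem _
  have h1 : Nat.card D = Nat.card (D.map q) * Nat.card N := by
    rw [card_eq_card_map_mul N D, inf_eq_right.2 hND]
  have h2 : Nat.card D ≤ Nat.card (centralizer ({x} : Set G)) * Nat.card N := by
    set C := (centralizer ({x} : Set G)).subgroupOf D
    let φ : D ⧸ C → N := Quotient.lift (fun d : D => (⟨x⁻¹ * (d * x * (d : G)⁻¹), hmem d d.2⟩ : N)) (by
      intro a b hab
      have h : (a⁻¹ * b : D) ∈ C := QuotientGroup.leftRel_apply.1 hab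
      have h' : x * ((a : G)⁻¹ * b) = (a : G)⁻¹ * b * x :=
        (Subgroup.mem_centralizer_iff.1 (Subgroup.mem_subgroupOf.1 h) x rfl)
      apply Subtype.ext
      show x⁻¹ * ((a : G) * x * (a : G)⁻¹) = x⁻¹ * ((b : G) * x * (b : G)⁻¹)
      calc x⁻¹ * ((a : G) * x * (a : G)⁻¹) = x⁻¹ * ((a : G) * (x * ((a : G)⁻¹ * b)) * (b : G)⁻¹) := by group
        _ = _ := by rw [h']; group)
    have hφ : Function.Injective φ := by
      intro a b
      induction a using Quotient.ind with
      | _ a =>
        induction b using Quotient.ind with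
        | _ b =>
          intro hab
          refine Quotient.sound (QuotientGroup.leftRel_apply.2 (Subgroup.mem_subgroupOf.2 ?_))
          refine Subgroup.mem_centralizer_iff.2 fun v hv => ?_
          rw [Set.mem_singleton_iff.1 hv]
          have h : (a : G) * x * (a : G)⁻¹ = (b : G) * x * (b : G)⁻¹ := mul_left_cancel (congrArg Subtype.val hab)
          simp only [Subgroup.coe_mul, Subgroup.coe_inv]
          calc x * ((a : G)⁻¹ * b) = (a : G)⁻¹ * ((a : G) * x * (a : G)⁻¹) * b := by group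
            _ = _ := by rw [h]; group
    rw [Subgroup.card_eq_card_quotient_mul_card_subgroup C, mul_comm]
    refine Nat.mul_le_mul ?_ (Nat.card_le_card_of_injective φ hφ)
    exact Nat.card_le_card_of_injective
      (fun c : C => (⟨((c : D) : G), Subgroup.mem_subgroupOf.1 c.2⟩ : centralizer ({x} : Set G)))
      fun c d h => Subtype.ext (Subtype.ext (congrArg Subtype.val h :))
  rw [h1, hmap] at h2
  exact Nat.le_of_mul_le_mul_right h2 Nat.card_pos

/-- A `p`-group of maximal class with an element whose centralizer has order `p ^ 2`. -/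
structure MaxClassPair (G : Type*) [Group G] (p n : ℕ) (x : G) : Prop where
  card : Nat.card G = p ^ n
  three_le : 3 ≤ n
  cls : (⊤ : Subgroup G).lowerCentralSeries (n - 2) ≠ ⊥
  cent : Nat.card (centralizer ({x} : Set G)) = p ^ 2

namespace MaxClassPair

variable {n : ℕ} {x : G} (H : MaxClassPair G p n x)
include H

theorem lcsFil_eq_bot {i : ℕ} (hi : n ≤ i) : lcsFil G i = ⊥ := by
  haveI := (IsPGroup.of_card H.card).isNilpotent
  refine le_bot_iff.1 ((lcsFil_antitone hi).trans (le_of_eq ?_))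
  rw [lcsFil, Subgroup.lowerCentralSeries_eq_bot_iff_nilpotencyClass_le]
  exact nilpotencyClass_le n G (by have := H.three_le; omega) H.card

theorem card_lcsFil {i : ℕ} (h2 : 2 ≤ i) (hin : i ≤ n) : Nat.card (lcsFil G i) = p ^ (n - i) := by
  have hG := IsPGroup.of_card H.card
  haveI := hG.isNilpotent
  have h3 := H.three_le
  have hlow : ∀ d i : ℕ, i + d = n → 2 ≤ i → p ^ d ≤ Nat.card (lcsFil G i) ∧
      ∀ i', i' + d + 1 = n → 2 ≤ i' → p * Nat.card (lcsFil G i) ≤ Nat.card (lcsFil G i') := by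
    have hstep : ∀ i, 2 ≤ i → i + 1 ≤ n → p * Nat.card (lcsFil G (i + 1)) ≤ Nat.card (lcsFil G i) := by
      intro i hi hin
      have hlt : lcsFil G (i + 1) < lcsFil G i := by
        refine lt_of_le_of_ne (lcsFil_antitone (by omega)) fun h => ?_
        have hstab : ∀ d, lcsFil G (i + d) = lcsFil G i := by
          intro d
          induction d with
          | zero => rfl
          | succ d ih =>
            have e : lcsFil G (i + (d + 1)) = ⁅lcsFil G (i + d), ⊤⁆ := by
              rw [lcsFil, lcsFil, show i + (d + 1) - 1 = i + d - 1 + 1 by omega,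
                Subgroup.lowerCentralSeries_succ]
            have e1 : lcsFil G (i + 1) = ⁅lcsFil G i, ⊤⁆ := by
              rw [lcsFil, lcsFil, show i + 1 - 1 = i - 1 + 1 by omega, Subgroup.lowerCentralSeries_succ]
            rw [e, ih, ← e1, h]
        refine H.cls (le_bot_iff.1 ?_)
        calc (⊤ : Subgroup G).lowerCentralSeries (n - 2) = lcsFil G (n - 1) := by
              rw [lcsFil, show n - 1 - 1 = n - 2 by omega]
          _ ≤ lcsFil G i := lcsFil_antitone (by omega)
          _ = lcsFil G (i + n) := (hstab n).symm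
          _ ≤ ⊥ := (H.lcsFil_eq_bot (by omega)).le
      obtain ⟨b, hb⟩ := IsPGroup.iff_card.1 (hG.to_subgroup (lcsFil G (i + 1)))
      obtain ⟨c, hc⟩ := IsPGroup.iff_card.1 (hG.to_subgroup (lcsFil G i))
      have hcard : Nat.card (lcsFil G (i + 1)) < Nat.card (lcsFil G i) := by
        by_contra hle
        exact hlt.ne (Subgroup.eq_of_le_of_card_ge hlt.le (not_lt.1 hle))
      rw [hb, hc, Nat.pow_lt_pow_iff_right hp.out.one_lt] at hcard
      rw [hb, hc, ← pow_succ']
      exact Nat.pow_le_pow_right hp.out.pos hcard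
    intro d
    induction d with
    | zero =>
      intro i hid hi
      exact ⟨by rw [pow_zero]; exact Nat.card_pos, fun i' hi' hi2 => by
        simpa [show i = i' + 1 by omega] using hstep i' hi2 (by omega)⟩
    | succ d ih =>
      intro i hid hi
      obtain ⟨h1, h2⟩ := ih (i + 1) (by omega) (by omega)
      refine ⟨?_, fun i' hi' hi2 => by simpa [show i = i' + 1 by omega] using hstep i' hi2 (by omega)⟩
      rw [pow_succ']
      exact (Nat.mul_le_mul_left p h1).trans (h2 i (by omega) hi)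
  obtain ⟨c, hc⟩ := IsPGroup.iff_card.1 (hG.to_subgroup (lcsFil G i))
  have htop : Nat.card (lcsFil G 2) ≤ p ^ (n - 2) := by
    rw [lcsFil_two]
    have h1 := (commutator G).card_mul_index
    rw [H.card] at h1
    obtain ⟨j, hj⟩ := hG.index (commutator G)
    obtain ⟨b, hb⟩ := IsPGroup.iff_card.1 (hG.to_subgroup (commutator G))
    rw [hb, hj, ← pow_add] at h1
    have hbj := Nat.pow_right_injective hp.out.two_le h1
    rw [hb]
    refine Nat.pow_le_pow_right hp.out.pos ?_
    by_contra hlt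
    have hjle : (frattini G).index ∣ p := by
      refine (Subgroup.index_dvd_of_le (commutator_le_frattini hG)).trans ?_
      rw [hj]
      exact (Nat.pow_dvd_pow p (by omega : j ≤ 1)).trans (pow_one p).dvd
    haveI : IsCyclic (G ⧸ frattini G) := by
      rcases hp.out.eq_one_or_self_of_dvd _ hjle with h | h <;> rw [Subgroup.index_eq_card] at h
      · haveI := (Nat.card_eq_one_iff_unique.1 h).1
        exact isCyclic_of_subsingleton
      · exact isCyclic_of_prime_card (p := p) h
    haveI : IsCyclic G := isCyclic_of_frattini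
    apply H.cls
    letI : CommGroup G := IsCyclic.commGroup
    refine le_bot_iff.1 ((Subgroup.lowerCentralSeries_antitone _ (by omega : 1 ≤ n - 2)).trans ?_)
    rw [Subgroup.top_lowerCentralSeries_one, commutator_eq_closure, Subgroup.closure_le]
    rintro _ ⟨a, b, rfl⟩
    exact commutatorElement_eq_one_iff_mul_comm.2 (mul_comm a b)
  have hup : ∀ e, 2 + e ≤ n → p ^ e * Nat.card (lcsFil G (2 + e)) ≤ p ^ (n - 2) := by
    intro e
    induction e with
    | zero => intro _; simpa using htop
    | succ e ih =>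
      intro he
      have h1 := (hlow (n - (2 + e) - 1) (2 + (e + 1)) (by omega) (by omega)).2 (2 + e) (by omega) (by omega)
      calc p ^ (e + 1) * Nat.card (lcsFil G (2 + (e + 1))) = p ^ e * (p * Nat.card (lcsFil G (2 + (e + 1)))) := by
            rw [pow_succ, mul_assoc]
        _ ≤ p ^ e * Nat.card (lcsFil G (2 + e)) := Nat.mul_le_mul_left _ h1
        _ ≤ _ := ih (by omega)
  have hge := (hlow (n - i) i (by omega) h2).1
  have hle := hup (i - 2) (by omega)
  rw [show 2 + (i - 2) = i by omega] at hle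
  rw [hc] at hle hge ⊢
  rw [← pow_add, Nat.pow_le_pow_iff_right hp.out.one_lt] at hle
  rw [Nat.pow_le_pow_iff_right hp.out.one_lt] at hge
  rw [show c = n - i by omega]

theorem x_notMem : x ∉ lcsFil G 2 := by
  intro hx
  have h3 := H.three_le
  have hN := H.card_lcsFil (i := 3) (by omega) h3
  haveI := lcsFil_normal (G := G) 3
  have htop : centralizer ({QuotientGroup.mk' (lcsFil G 3) x} : Set (G ⧸ lcsFil G 3)) = ⊤ := by
    rw [eq_top_iff]
    intro g _
    obtain ⟨g, rfl⟩ := QuotientGroup.mk'_surjective _ g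
    refine Subgroup.mem_centralizer_iff.2 fun v hv => ?_
    rw [Set.mem_singleton_iff.1 hv, ← commutatorElement_eq_one_iff_mul_comm,
      ← map_commutatorElement]
    exact (QuotientGroup.eq_one_iff _).2 (commutatorElement_mem_lcsFil hx (j := 1) (by simp [lcsFil_one]))
  have h1 := card_centralizer_quotient_le (lcsFil G 3) x
  rw [htop, Subgroup.card_top, H.cent] at h1
  have h2 := (lcsFil G 3).card_mul_index
  rw [hN, H.card, Subgroup.index_eq_card] at h2
  nth_rw 2 [show n = n - 3 + 3 by omega] at h2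
  rw [pow_add] at h2
  rw [Nat.eq_of_mul_eq_mul_left (pow_pos hp.out.pos _) h2, Nat.pow_le_pow_iff_right hp.out.one_lt] at h1
  omega

theorem center_mem_pow : Commute (x ^ p) x ∧ ∀ g : G, Commute (x ^ p) g := by
  refine ⟨(Commute.refl x).pow_left p, fun g => ?_⟩
  have hG := IsPGroup.of_card H.card
  haveI : Nontrivial G := Finite.one_lt_card_iff_nontrivial.1
    (H.card ▸ Nat.one_lt_pow (by have := H.three_le; omega) hp.out.one_lt)
  set C := centralizer ({x} : Set G)
  have hxC : x ∈ C := Subgroup.mem_centralizer_iff.2 fun v hv => by rw [Set.mem_singleton_iff.1 hv]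
  by_cases hx1 : x ^ p = 1
  · rw [hx1]; exact Commute.one_left g
  obtain ⟨k, hk⟩ := IsPGroup.iff_orderOf.1 hG x
  have hk2 : k ≤ 2 := by
    have h := Subgroup.orderOf_dvd_natCard C hxC
    rw [hk, H.cent] at h
    exact (Nat.pow_dvd_pow_iff_le_right hp.out.one_lt).1 h
  have hk' : k = 2 := by
    by_contra h
    apply hx1
    rw [← orderOf_dvd_iff_pow_eq_one, hk]
    exact (Nat.pow_dvd_pow p (by omega : k ≤ 1)).trans (pow_one p).dvd
  subst hk'
  have hCx : zpowers x = C :=
    Subgroup.eq_of_le_of_card_ge (zpowers_le.2 hxC) (le_of_eq (by rw [Nat.card_zpowers, hk, H.cent]))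
  obtain ⟨z, hz, hzc, hzo⟩ := exists_mem_center_orderOf_eq hG (⊤ : Subgroup G) (fun h => by
    exact not_subsingleton G ⟨fun a b => by
      have ha : a ∈ (⊥ : Subgroup G) := h ▸ mem_top a
      have hb : b ∈ (⊥ : Subgroup G) := h ▸ mem_top b
      rw [Subgroup.mem_bot] at ha hb
      rw [ha, hb]⟩)
  have hzC : z ∈ zpowers x := hCx ▸ Subgroup.center_le_centralizer _ hzc
  obtain ⟨r, rfl⟩ := Subgroup.mem_zpowers_iff.1 hzC
  have h1 : (x ^ r) ^ p = 1 := by rw [← hzo]; exact pow_orderOf_eq_one _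
  rw [← zpow_natCast, ← zpow_mul, ← orderOf_dvd_iff_zpow_eq_one, hk] at h1
  obtain ⟨d, hd⟩ := h1
  have hr : r = p * d := by
    have hp0 : (p : ℤ) ≠ 0 := by exact_mod_cast hp.out.ne_zero
    apply mul_right_cancel₀ hp0
    rw [hd]; push_cast; ring
  subst hr
  have hd0 : ¬ (p : ℤ) ∣ d := by
    rintro ⟨d', rfl⟩
    rw [← mul_assoc, zpow_mul, show ((p : ℤ) * p) = ((p ^ 2 : ℕ) : ℤ) by push_cast; ring, zpow_natCast, ← hk,
      pow_orderOf_eq_one, one_zpow, orderOf_one] at hzo
    exact hp.out.one_lt.ne hzo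
  have hd0' : (d : ZMod p) ≠ 0 := fun h => hd0 ((ZMod.intCast_zmod_eq_zero_iff_dvd d p).1 h)
  set t : ℕ := ((d : ZMod p)⁻¹).val
  have hz' : x ^ p = (x ^ ((p : ℤ) * d)) ^ (t : ℤ) := by
    have hpp : (x ^ p) ^ p = 1 := by rw [← pow_mul, ← sq, ← hk, pow_orderOf_eq_one]
    rw [zpow_mul, ← zpow_mul, zpow_natCast]
    conv_lhs => rw [← zpow_one (x ^ p)]
    refine (zpow_eq_of_zmod_eq hpp ?_)
    push_cast
    rw [ZMod.natCast_zmod_val, mul_inv_cancel₀ hd0']
  rw [hz']
  exact (commute_of_mem_center hzc g).zpow_left _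

/-- Commutation with `x` moves each layer strictly down by one step. -/
theorem engel_step {i : ℕ} (hi : 1 ≤ i) (hin : i + 1 < n) {g : G} (hg : g ∈ lcsFil G i)
    (hg' : g ∉ lcsFil G (i + 1)) (hg1 : i = 1 → g ∉ lcsFil G 2 ⊔ zpowers x) :
    g⁻¹ * (x⁻¹ * g * x) ∈ lcsFil G (i + 1) ∧ g⁻¹ * (x⁻¹ * g * x) ∉ lcsFil G (i + 2) := by
  have hcomm : g⁻¹ * (x⁻¹ * g * x) = ⁅g⁻¹, x⁻¹⁆ := by simp only [commutatorElement_def]; group
  refine ⟨hcomm ▸ commutatorElement_mem_lcsFil (inv_mem hg) (j := 1) (by simp [lcsFil_one]), fun hbad => ?_⟩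
  haveI := lcsFil_normal (G := G) (i + 2)
  set q := QuotientGroup.mk' (lcsFil G (i + 2))
  set C := (centralizer ({q x} : Set (G ⧸ lcsFil G (i + 2)))).comap q
  have hmemC : ∀ v, ⁅v, x⁆ ∈ lcsFil G (i + 2) → v ∈ C := fun v hv => Subgroup.mem_centralizer_iff.2 fun w hw => by
    rw [Set.mem_singleton_iff.1 hw, eq_comm, ← commutatorElement_eq_one_iff_mul_comm, ← map_commutatorElement]
    exact (QuotientGroup.eq_one_iff _).2 hv
  have h1C : lcsFil G (i + 1) ≤ C := fun v hv =>
    hmemC v (lcsFil_antitone le_rfl (commutatorElement_mem_lcsFil hv (j := 1) (by simp [lcsFil_one])))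
  have hgC : g ∈ C := Subgroup.mem_centralizer_iff.2 fun w hw => by
    rw [Set.mem_singleton_iff.1 hw]
    have h : q (g⁻¹ * (x⁻¹ * g * x)) = 1 := (QuotientGroup.eq_one_iff _).2 hbad
    simp only [map_mul, map_inv] at h
    rw [inv_mul_eq_one] at h
    conv_lhs => rw [h]
    group
  have hxC : x ∈ C := hmemC x (by rw [commutatorElement_self]; exact one_mem _)
  have hG := IsPGroup.of_card H.card
  have hlt : ∀ K : Subgroup G, ∀ v, v ∉ K → p * Nat.card K ≤ Nat.card ↑(K ⊔ zpowers v) := by
    intro K v hv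
    have hlt : K < K ⊔ zpowers v := lt_of_le_of_ne le_sup_left fun h =>
      hv (h ▸ Subgroup.mem_sup_right (mem_zpowers v))
    obtain ⟨b, hb⟩ := IsPGroup.iff_card.1 (hG.to_subgroup K)
    obtain ⟨c, hc⟩ := IsPGroup.iff_card.1 (hG.to_subgroup (K ⊔ zpowers v))
    have hcard : Nat.card K < Nat.card ↑(K ⊔ zpowers v) := by
      by_contra hle
      exact hlt.ne (Subgroup.eq_of_le_of_card_ge hlt.le (not_lt.1 hle))
    rw [hb, hc, Nat.pow_lt_pow_iff_right hp.out.one_lt] at hcard
    rw [hb, hc, ← pow_succ']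
    exact Nat.pow_le_pow_right hp.out.pos hcard
  have hbig : p * (p * Nat.card (lcsFil G (i + 1))) ≤ Nat.card C := by
    rcases eq_or_lt_of_le hi with rfl | hi2
    · refine le_trans (Nat.mul_le_mul_left p (hlt _ x H.x_notMem)) ((hlt _ g (hg1 rfl)).trans ?_)
      exact Subgroup.card_le_of_le (sup_le (sup_le h1C (zpowers_le.2 hxC)) (zpowers_le.2 hgC))
    · have hx : x ∉ lcsFil G (i + 1) ⊔ zpowers g := fun h => H.x_notMem
        (lcsFil_antitone (by omega : 2 ≤ i) (sup_le (lcsFil_antitone (by omega)) (zpowers_le.2 hg) h))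
      refine le_trans (Nat.mul_le_mul_left p (hlt _ g hg')) ((hlt _ x hx).trans ?_)
      exact Subgroup.card_le_of_le (sup_le (sup_le h1C (zpowers_le.2 hgC)) (zpowers_le.2 hxC))
  have hC : Nat.card C ≤ p ^ 2 * Nat.card (lcsFil G (i + 2)) := by
    rw [card_eq_card_map_mul (lcsFil G (i + 2)) C,
      inf_eq_right.2 ((lcsFil_antitone (by omega)).trans h1C),
      Subgroup.map_comap_eq_self_of_surjective (QuotientGroup.mk'_surjective _)]
    exact Nat.mul_le_mul_right _ (H.cent ▸ card_centralizer_quotient_le _ x)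
  have h := hbig.trans hC
  rw [H.card_lcsFil (by omega) (by omega), H.card_lcsFil (by omega) (by omega), ← pow_succ', ← pow_succ',
    ← pow_add, Nat.pow_le_pow_iff_right hp.out.one_lt] at h
  omega

theorem engel_iterate {i : ℕ} (hi : 1 ≤ i) {g : G} (hg : g ∈ lcsFil G i)
    (hg' : g ∉ lcsFil G (i + 1)) (hg1 : i = 1 → g ∉ lcsFil G 2 ⊔ zpowers x) :
    ∀ j, i + j < n → engelSeq x g j ∈ lcsFil G (i + j) ∧ engelSeq x g j ∉ lcsFil G (i + j + 1)
  | 0, _ => ⟨hg, hg'⟩
  | j + 1, hj => by
    obtain ⟨h1, h2⟩ := engel_iterate hi hg hg' hg1 j (by omega)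
    refine H.engel_step (i := i + j) (by omega) (by omega) h1 h2 fun (hij : i + j = 1) => ?_
    obtain ⟨rfl, rfl⟩ : i = 1 ∧ j = 0 := by omega
    exact hg1 rfl

omit H in
theorem engel_mem {i : ℕ} {g : G} (hg : g ∈ lcsFil G i) : ∀ j, engelSeq x g j ∈ lcsFil G (i + j)
  | 0 => hg
  | j + 1 => by
    have h := commutatorElement_mem_lcsFil (inv_mem (engel_mem hg j)) (j := 1) (y := x⁻¹)
      (by simp [lcsFil_one])
    have e : engelSeq x g (j + 1) = ⁅(engelSeq x g j)⁻¹, x⁻¹⁆ := by
      simp only [engelSeq, commutatorElement_def]; group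
    rw [e]; exact h

/-- Two elements of the same layer differ by a power. -/
theorem exists_pow_layer {i : ℕ} (hi : 2 ≤ i) (hin : i < n) {e c : G} (he : e ∈ lcsFil G i)
    (he' : e ∉ lcsFil G (i + 1)) (hc : c ∈ lcsFil G i) : ∃ k : ℕ, (e ^ k)⁻¹ * c ∈ lcsFil G (i + 1) := by
  haveI := lcsFil_normal (G := G) (i + 1)
  set q := QuotientGroup.mk' (lcsFil G (i + 1))
  have hM : Nat.card ((lcsFil G i).map q) = p := by
    have h := card_eq_card_map_mul (lcsFil G (i + 1)) (lcsFil G i)
    rw [inf_eq_right.2 (lcsFil_antitone (by omega)), H.card_lcsFil hi (by omega),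
      H.card_lcsFil (by omega) (by omega), show n - i = n - (i + 1) + 1 by omega, pow_succ'] at h
    exact (Nat.eq_of_mul_eq_mul_right (pow_pos hp.out.pos _) h).symm
  have hz := zpowers_eq_of_card_eq hM (Subgroup.mem_map_of_mem q he) fun h => he' ((QuotientGroup.eq_one_iff e).1 h)
  have hc' : q c ∈ zpowers (q e) := hz ▸ Subgroup.mem_map_of_mem q hc
  obtain ⟨k, hk⟩ := ((isOfFinOrder_of_finite (q e)).mem_powers_iff_mem_zpowers).2 hc'
  refine ⟨k, (QuotientGroup.eq_one_iff _).1 ?_⟩
  show q ((e ^ k)⁻¹ * c) = 1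
  rw [map_mul, map_inv, map_pow, ← hk, inv_mul_cancel]

omit [Finite G] hp H in
theorem map_lcsFil_le {i : ℕ} (hi : 1 ≤ i) : ∀ j, 1 ≤ j →
    (lcsFil (lcsFil G i) j).map (lcsFil G i).subtype ≤ lcsFil G (i * j)
  | 0, h => absurd h (by omega)
  | 1, _ => by rw [lcsFil_one, ← MonoidHom.range_eq_map, Subgroup.range_subtype, Nat.mul_one]
  | j + 2, _ => by
    have e : lcsFil (lcsFil G i) (j + 2) = ⁅lcsFil (lcsFil G i) (j + 1), ⊤⁆ :=
      Subgroup.lowerCentralSeries_succ (⊤ : Subgroup (lcsFil G i)) j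
    rw [e, Subgroup.map_commutator, Subgroup.commutator_le, ← MonoidHom.range_eq_map, Subgroup.range_subtype]
    intro a ha b hb
    rw [show i * (j + 2) = i * (j + 1) + i by ring]
    exact commutatorElement_mem_lcsFil (map_lcsFil_le hi (j + 1) (by omega) ha) hb

/-- The `p`-th power map moves the `i`-th layer, `i ≥ 2`, to the `(i + p - 1)`-st, injectively. -/
theorem pow_layer (i : ℕ) (hi : 2 ≤ i) : ∀ c ∈ lcsFil G i,
    c ^ p ∈ lcsFil G (i + p - 1) ∧ (c ∉ lcsFil G (i + 1) → i + p - 1 < n → c ^ p ∉ lcsFil G (i + p)) := by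
  have h2p := hp.out.two_le
  suffices hall : ∀ d i, n ≤ i + d → 2 ≤ i → ∀ c ∈ lcsFil G i,
      c ^ p ∈ lcsFil G (i + p - 1) ∧ (c ∉ lcsFil G (i + 1) → i + p - 1 < n → c ^ p ∉ lcsFil G (i + p)) by
    exact hall n i (by omega) hi
  intro d
  induction d with
  | zero =>
    intro i hid _ c hc
    rw [H.lcsFil_eq_bot (i := i) (by omega), Subgroup.mem_bot] at hc
    subst hc
    exact ⟨by rw [one_pow]; exact one_mem _, fun h => absurd (one_mem _) h⟩
  | succ d ih =>
    intro i hid hi c hc
    by_cases hin : n ≤ i + d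
    · exact ih i hin hi c hc
    have hIH : ∀ v ∈ lcsFil G (i + 1), v ^ p ∈ lcsFil G (i + p) := fun v hv => by
      have h := (ih (i + 1) (by omega) (by omega) v hv).1
      rwa [show i + 1 + p - 1 = i + p by omega] at h
    obtain ⟨g, hg, hg', hg1⟩ : ∃ g, g ∈ lcsFil G (i - 1) ∧ g ∉ lcsFil G i ∧
        (i - 1 = 1 → g ∉ lcsFil G 2 ⊔ zpowers x) := by
      rcases (show i = 2 ∨ 2 ≤ i - 1 by omega) with rfl | hi3
      · obtain ⟨g, -, hg⟩ := SetLike.exists_of_lt (lt_top_iff_ne_top.2 (fun h : lcsFil G 2 ⊔ zpowers x = ⊤ => by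
          have hG := IsPGroup.of_card H.card
          haveI := hG.isNilpotent
          have h1 : zpowers x = ⊤ := frattini_nongenerating (eq_top_iff.2 (h ▸ sup_le
            (((lcsFil_two (G := G)).le.trans (commutator_le_frattini hG)).trans le_sup_right) le_sup_left))
          refine H.x_notMem ?_
          haveI : IsCyclic G := ⟨⟨x, fun g => (h1 ▸ mem_top g : g ∈ zpowers x)⟩⟩
          exfalso
          apply H.cls
          letI : CommGroup G := IsCyclic.commGroup
          refine le_bot_iff.1 ((Subgroup.lowerCentralSeries_antitone _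
            (show 1 ≤ n - 2 by have := H.three_le; omega)).trans ?_)
          rw [Subgroup.top_lowerCentralSeries_one, commutator_eq_closure, Subgroup.closure_le]
          rintro _ ⟨a, b, rfl⟩
          exact commutatorElement_eq_one_iff_mul_comm.2 (mul_comm a b)))
        exact ⟨g, by simp [lcsFil_one], fun h => hg (Subgroup.mem_sup_left h), fun _ => hg⟩
      · have hlt : lcsFil G i < lcsFil G (i - 1) := lt_of_le_of_ne (lcsFil_antitone (by omega)) fun h => by
          have h1 := H.card_lcsFil (i := i) hi (by omega)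
          have h2 := H.card_lcsFil (i := i - 1) hi3 (by omega)
          rw [h, h2] at h1
          have := Nat.pow_right_injective hp.out.two_le h1
          omega
        obtain ⟨g, hg, hg'⟩ := SetLike.exists_of_lt hlt
        exact ⟨g, hg, hg', fun h => by omega⟩
    have hi1 : i - 1 + 1 = i := by omega
    obtain ⟨he, he'⟩ := H.engel_iterate (i := i - 1) (by omega) hg (by rwa [hi1]) hg1 1 (by omega)
    rw [hi1] at he he'
    set e := engelSeq x g 1
    have hep := engel_pow_congr (x := x) (i := i - 1) (by omega) hg (H.center_mem_pow.2 g) (fun v hv => by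
      rw [show i - 1 + 2 = i + 1 by omega] at hv
      rw [show i - 1 + p + 1 = i + p by omega]
      exact hIH v hv)
    rw [show i - 1 + p + 1 = i + p by omega] at hep
    have hE := engel_mem (x := x) hg p
    rw [show i - 1 + p = i + p - 1 by omega] at hE
    have hep1 : e ^ p ∈ lcsFil G (i + p - 1) := by
      have h := mul_mem (lcsFil_antitone (by omega) hep) (inv_mem hE)
      rwa [mul_inv_cancel_right] at h
    have hep2 : i + p - 1 < n → e ^ p ∉ lcsFil G (i + p) := fun hlt h => by
      have h' := mul_mem (inv_mem h) hep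
      rw [inv_mul_cancel_left] at h'
      have h2 := (H.engel_iterate (i := i - 1) (by omega) hg (by rwa [hi1]) hg1 p (by omega)).2
      rw [show i - 1 + p + 1 = i + p by omega] at h2
      exact h2 h'
    obtain ⟨k, hr⟩ := H.exists_pow_layer hi (by omega) he he' hc
    set r := (e ^ k)⁻¹ * c
    have hcer : c = e ^ k * r := by simp [r]
    set M := lcsFil G i
    haveI := lcsFil_normal (G := G) (i + p)
    obtain ⟨u, hu, huse⟩ := hall_petrescu (⟨e ^ k, pow_mem he k⟩ : M) ⟨r, lcsFil_antitone (by omega) hr⟩ p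
      ((lcsFil G (i + p)).subgroupOf M) (fun j hj2 hjp v hv => by
        have hv' : (v : G) ∈ lcsFil G (i * j) := map_lcsFil_le (by omega) j (by omega) ⟨v, hv, rfl⟩
        rw [Subgroup.mem_subgroupOf]
        rcases eq_or_lt_of_le hjp with rfl | hlt
        · refine lcsFil_antitone ?_ (by simpa using hv')
          have := Nat.mul_le_mul (show 2 ≤ i from hi) (show 2 ≤ j from hj2)
          nlinarith
        · obtain ⟨t, ht⟩ := hp.out.dvd_choose_self (k := j) (by omega) hlt
          rw [SubmonoidClass.coe_pow, ht, mul_comm, pow_mul]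
          exact hIH _ (pow_mem (lcsFil_antitone (by nlinarith) hv') t))
    have hcp : c ^ p = (e ^ p) ^ k * (r ^ p * u) := by
      have h := congrArg Subtype.val huse
      simp only [Subgroup.coe_mul, SubmonoidClass.coe_pow] at h
      rw [hcer, h, mul_assoc, ← pow_mul, ← pow_mul, mul_comm k p]
    have hru : r ^ p * (u : G) ∈ lcsFil G (i + p) := mul_mem (hIH r hr) (Subgroup.mem_subgroupOf.1 hu)
    refine ⟨hcp ▸ mul_mem (pow_mem hep1 k) (lcsFil_antitone (by omega) hru), fun hc' hlt h => ?_⟩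
    have hk : (k : ZMod p) ≠ 0 := by
      intro hk0
      obtain ⟨t, ht⟩ := (ZMod.natCast_eq_zero_iff k p).1 hk0
      apply hc'
      rw [hcer, ht, pow_mul]
      exact mul_mem (pow_mem (lcsFil_antitone (by omega) hep1) t) hr
    set t := ((k : ZMod p)⁻¹).val
    have hkt : ∃ b, k * t = 1 + p * b := by
      have h1 : ((k * t : ℕ) : ZMod p) = ((1 : ℕ) : ZMod p) := by
        push_cast; rw [ZMod.natCast_zmod_val, mul_inv_cancel₀ hk]
      rw [ZMod.natCast_eq_natCast_iff', Nat.mod_eq_of_lt hp.out.one_lt] at h1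
      exact ⟨k * t / p, by rw [← h1]; exact (Nat.mod_add_div _ _).symm⟩
    obtain ⟨b, hb⟩ := hkt
    rw [hcp] at h
    have h2 : (e ^ p) ^ k ∈ lcsFil G (i + p) := by
      have := mul_mem h (inv_mem hru)
      rwa [mul_inv_cancel_right] at this
    have h3 := pow_mem h2 t
    rw [← pow_mul (e ^ p), hb, pow_add, pow_one, pow_mul (e ^ p)] at h3
    refine hep2 hlt ?_
    have h4 : (e ^ p) ^ p ∈ lcsFil G (i + p) := hIH _ (lcsFil_antitone (by omega) hep1)
    have := mul_mem h3 (inv_mem (pow_mem h4 b))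
    rwa [mul_inv_cancel_right] at this

theorem pow_iterate_layer {i : ℕ} (hi : 2 ≤ i) {c : G} (hc : c ∈ lcsFil G i) (hc' : c ∉ lcsFil G (i + 1)) :
    ∀ t, i + t * (p - 1) < n →
      c ^ p ^ t ∈ lcsFil G (i + t * (p - 1)) ∧ c ^ p ^ t ∉ lcsFil G (i + t * (p - 1) + 1)
  | 0, _ => by simpa using And.intro hc hc'
  | t + 1, ht => by
    have h2p := hp.out.two_le
    rw [Nat.succ_mul] at ht
    obtain ⟨h1, h2⟩ := pow_iterate_layer hi hc hc' t (by omega)
    obtain ⟨h3, h4⟩ := H.pow_layer _ (le_trans hi (Nat.le_add_right _ _)) _ h1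
    rw [pow_succ, pow_mul, Nat.succ_mul,
      show i + (t * (p - 1) + (p - 1)) = i + t * (p - 1) + p - 1 by omega]
    refine ⟨h3, ?_⟩
    rw [show i + t * (p - 1) + p - 1 + 1 = i + t * (p - 1) + p by omega]
    exact h4 h2 (by omega)

theorem exists_gen_le_two (L : Subgroup G) (hL : L ≤ lcsFil G 2) :
    ∃ T : Finset G, T.card ≤ p - 1 ∧ Subgroup.closure (T : Set G) = L := by
  classical
  have h2p := hp.out.two_le
  let lev : ℕ → ℕ → Prop := fun r i => 2 ≤ i ∧ i % (p - 1) = r ∧ ∃ h ∈ L, h ∈ lcsFil G i ∧ h ∉ lcsFil G (i + 1)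
  let pick : ℕ → G := fun r => if h : ∃ i, lev r i then (Nat.find_spec h).2.2.choose else 1
  refine ⟨(Finset.range (p - 1)).image pick, Finset.card_image_le.trans (Finset.card_range _).le, ?_⟩
  set K := Subgroup.closure (((Finset.range (p - 1)).image pick : Finset G) : Set G)
  refine le_antisymm ((Subgroup.closure_le _).2 ?_) ?_
  · intro v hv
    obtain ⟨r, -, rfl⟩ := Finset.mem_image.1 (Finset.mem_coe.1 hv)
    by_cases h : ∃ i, lev r i
    · simp only [pick, dif_pos h]
      exact (Nat.find_spec h).2.2.choose_spec.1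
    · simp only [pick, dif_neg h]
      exact one_mem L
  suffices hall : ∀ d i, n ≤ i + d → 2 ≤ i → ∀ h ∈ L, h ∈ lcsFil G i → h ∈ K by
    exact fun h hh => hall n 2 (by omega) le_rfl h hh (hL hh)
  intro d
  induction d with
  | zero =>
    intro i hid _ h _ hi
    rw [H.lcsFil_eq_bot (i := i) (by omega), Subgroup.mem_bot] at hi
    exact hi ▸ one_mem K
  | succ d ih =>
    intro i hid h2 h hh hi
    by_cases hin : n ≤ i + d
    · exact ih i hin h2 h hh hi
    by_cases hnext : h ∈ lcsFil G (i + 1)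
    · exact ih (i + 1) (by omega) (by omega) h hh hnext
    have hex : ∃ j, lev (i % (p - 1)) j := ⟨i, h2, rfl, h, hh, hi, hnext⟩
    set i₀ := Nat.find hex
    have hspec := Nat.find_spec hex
    set h₀ := hspec.2.2.choose
    obtain ⟨hh₀, hl₀, hl₀'⟩ := hspec.2.2.choose_spec
    have hle : i₀ ≤ i := Nat.find_min' hex ⟨h2, rfl, h, hh, hi, hnext⟩
    have hK₀ : h₀ ∈ K := by
      refine Subgroup.subset_closure (Finset.mem_coe.2 (Finset.mem_image.2
        ⟨i % (p - 1), Finset.mem_range.2 (Nat.mod_lt _ (by omega)), ?_⟩))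
      simp only [pick, dif_pos hex]
      rfl
    obtain ⟨t, ht⟩ : (p - 1) ∣ i - i₀ := (Nat.modEq_iff_dvd' hle).1 hspec.2.1
    have hti : i₀ + t * (p - 1) = i := by rw [mul_comm, ← ht]; omega
    obtain ⟨he, he'⟩ := H.pow_iterate_layer hspec.1 hl₀ hl₀' t (by omega)
    rw [hti] at he he'
    obtain ⟨k, hk⟩ := H.exists_pow_layer h2 (by omega) he he' hi
    have hmem : (h₀ ^ p ^ t) ^ k ∈ L := pow_mem (pow_mem hh₀ _) k
    have hrest := ih (i + 1) (by omega) (by omega) _ (mul_mem (inv_mem hmem) hh) hk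
    simpa using mul_mem (pow_mem (pow_mem hK₀ (p ^ t)) k) hrest

theorem exists_gen (L : Subgroup G) : ∃ T : Finset G, T.card ≤ p ∧ Subgroup.closure (T : Set G) = L := by
  classical
  have h2p := hp.out.two_le
  have h3 := H.three_le
  have hG := IsPGroup.of_card H.card
  haveI := hG.isNilpotent
  have hγ := H.card_lcsFil (i := 2) le_rfl (by omega)
  have hidx : ∀ K : Subgroup G, lcsFil G 2 < K → K ≠ ⊤ → Nat.card K = p ^ (n - 1) := by
    intro K hK hKt
    obtain ⟨b, hb⟩ := IsPGroup.iff_card.1 (hG.to_subgroup K)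
    have h1 : Nat.card (lcsFil G 2) < Nat.card K := by
      by_contra hle
      exact hK.ne (Subgroup.eq_of_le_of_card_ge hK.le (not_lt.1 hle))
    have h2 : Nat.card K < p ^ n := by
      rw [← H.card]
      exact lt_of_le_of_ne (Subgroup.card_le_card_group K) fun h => hKt (Subgroup.eq_top_of_card_eq K h)
    rw [hb, hγ, Nat.pow_lt_pow_iff_right hp.out.one_lt] at h1
    rw [hb, Nat.pow_lt_pow_iff_right hp.out.one_lt] at h2
    rw [hb, show b = n - 1 by omega]
  by_cases htop : L ⊔ lcsFil G 2 = ⊤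
  · have hLtop : L = ⊤ := frattini_nongenerating
      (eq_top_iff.2 (htop ▸ sup_le_sup_left ((lcsFil_two (G := G)).le.trans (commutator_le_frattini hG)) L))
    obtain ⟨g, hg⟩ : ∃ g, g ∉ lcsFil G 2 ⊔ zpowers x := by
      by_contra hall
      push Not at hall
      have hX : zpowers x = ⊤ := frattini_nongenerating (eq_top_iff.2 fun g _ =>
        (sup_le (((lcsFil_two (G := G)).le.trans (commutator_le_frattini hG)).trans le_sup_right) le_sup_left)
          (hall g))
      have hab : center G = ⊤ := eq_top_iff.2 fun a _ => Subgroup.mem_center_iff.2 fun b => by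
        obtain ⟨i, rfl⟩ := Subgroup.mem_zpowers_iff.1 (hX ▸ mem_top a)
        obtain ⟨j, rfl⟩ := Subgroup.mem_zpowers_iff.1 (hX ▸ mem_top b)
        exact ((Commute.refl x).zpow_zpow j i).eq
      have hC : centralizer ({x} : Set G) = ⊤ := eq_top_iff.2 fun a _ =>
        Subgroup.mem_centralizer_iff.2 fun v _ => (Subgroup.mem_center_iff.1 (hab ▸ mem_top a) v)
      have := H.cent
      rw [hC, Subgroup.card_top, H.card] at this
      have := Nat.pow_right_injective hp.out.two_le this
      omega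
    refine ⟨{x, g}, Finset.card_le_two.trans h2p, hLtop ▸ frattini_nongenerating ?_⟩
    set K := Subgroup.closure ((({x, g} : Finset G)) : Set G) ⊔ frattini G
    by_contra hK
    have hxK : x ∈ K := Subgroup.mem_sup_left (Subgroup.subset_closure (by simp))
    have hγK : lcsFil G 2 ⊔ zpowers x ≤ K := sup_le
      (((lcsFil_two (G := G)).le.trans (commutator_le_frattini hG)).trans le_sup_right) (zpowers_le.2 hxK)
    have hlt : lcsFil G 2 < lcsFil G 2 ⊔ zpowers x := lt_of_le_of_ne le_sup_left fun h =>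
      H.x_notMem (h ▸ Subgroup.mem_sup_right (mem_zpowers x))
    have hne : lcsFil G 2 ⊔ zpowers x ≠ ⊤ := fun h => hg (h ▸ mem_top g)
    have heq := Subgroup.eq_of_le_of_card_ge hγK
      (le_of_eq ((hidx K (hlt.trans_le hγK) hK).trans (hidx _ hlt hne).symm))
    exact hg (heq ▸ Subgroup.mem_sup_left (Subgroup.subset_closure (by simp)))
  · obtain ⟨T₁, hT₁, hT₁L⟩ := H.exists_gen_le_two (L ⊓ lcsFil G 2) inf_le_right
    by_cases hle : L ≤ lcsFil G 2
    · exact ⟨T₁, by omega, by rw [hT₁L, inf_eq_left.2 hle]⟩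
    obtain ⟨h, hh, hh'⟩ := SetLike.not_le_iff_exists.1 hle
    refine ⟨insert h T₁, (Finset.card_insert_le _ _).trans (by omega), ?_⟩
    haveI := lcsFil_normal (G := G) 2
    refine le_antisymm ((Subgroup.closure_le _).2 ?_) fun v hv => ?_
    · intro w hw
      rcases Finset.mem_insert.1 (Finset.mem_coe.1 hw) with rfl | hw
      · exact hh
      · have hw' : w ∈ L ⊓ lcsFil G 2 := hT₁L ▸ Subgroup.subset_closure (Finset.mem_coe.2 hw)
        exact hw'.1
    · have hlt : lcsFil G 2 < lcsFil G 2 ⊔ zpowers h := lt_of_le_of_ne le_sup_left fun he =>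
        hh' (he ▸ Subgroup.mem_sup_right (mem_zpowers h))
      have hle2 : lcsFil G 2 ⊔ zpowers h ≤ L ⊔ lcsFil G 2 :=
        sup_le le_sup_right ((zpowers_le.2 hh).trans le_sup_left)
      have heq := Subgroup.eq_of_le_of_card_ge hle2 (le_of_eq ((hidx _ (hlt.trans_le hle2) htop).trans
        (hidx _ hlt fun he => htop (eq_top_iff.2 (he ▸ hle2))).symm))
      have hv' : v ∈ zpowers h ⊔ lcsFil G 2 := by
        rw [sup_comm, heq]; exact Subgroup.mem_sup_left hv
      obtain ⟨a, ha, w, hw, rfl⟩ := Subgroup.mem_sup_of_normal_right.1 hv'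
      have haL : a ∈ L := zpowers_le.2 hh ha
      have hwL : w ∈ L := by simpa using mul_mem (inv_mem haL) hv
      refine mul_mem (zpowers_le.2 (Subgroup.subset_closure (by simp)) ha) ?_
      refine Subgroup.closure_mono ?_ (hT₁L.ge (Subgroup.mem_inf.2 ⟨hwL, hw⟩))
      exact fun u hu => Finset.mem_coe.2 (Finset.mem_insert_of_mem (Finset.mem_coe.1 hu))

end MaxClassPair

end Cfsg.Agent.PGroups
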