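import Cfsg.Agent.PGroups.MaxClass

/-!
Abelian subgroups of index `p`, Taussky's theorem (`|X : X'| = 4` forces maximal class), and
automorphisms of groups `⟨c⟩⟨y⟩` preserving `⟨c⟩`.
-/

set_option autoImplicit false
set_option linter.style.haveILetI false

namespace Cfsg.Agent.PGroups

open Subgroup
open scoped commutatorElement

universe u

variable {p : ℕ} [hp : Fact p.Prime]

/-- For a nonabelian `p`-group with an abelian subgroup `M` of index `p`, `|G'| |Z(G)| = |M|`. -/
theorem card_commutator_mul_card_center {G : Type*} [Group G] [Finite G] (hG : IsPGroup p G) {M : Subgroup G}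
    (hM : IsMulCommutative M) (hidx : M.index = p) (hna : center G ≠ ⊤) :
    Nat.card (commutator G) * Nat.card (center G) = Nat.card M := by
  haveI hMn := normal_of_index_eq hG hidx
  obtain ⟨x, hx⟩ : ∃ x, x ∉ M := by
    by_contra hall
    push Not at hall
    rw [(eq_top_iff.mpr fun y _ => hall y : M = ⊤), Subgroup.index_top] at hidx
    exact hp.out.one_lt.ne hidx
  have hgen := sup_zpowers_eq_top hG hidx hx
  have hMC : ∀ m ∈ M, ∀ n ∈ M, m * n = n * m := fun m hm n hn => comm_of_isMulCommutative hM hm hn
  let f : M →* G := MonoidHom.mk' (fun m => ⁅x, (m : G)⁆) fun a b => by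
    have h1 : x * (b : G) * x⁻¹ * (b : G)⁻¹ ∈ M := mul_mem (hMn.conj_mem _ b.2 x) (inv_mem b.2)
    have h2 : ⁅x, ((a * b : M) : G)⁆ = ⁅x, (a : G)⁆ * ((a : G) * ⁅x, (b : G)⁆ * (a : G)⁻¹) := by
      simp only [Subgroup.coe_mul, commutatorElement_def]; group
    rw [h2, hMC a a.2 ⁅x, (b : G)⁆ (by rw [commutatorElement_def]; exact h1), mul_inv_cancel_right]
  have hrange : f.range = commutator G := by
    refine le_antisymm ?_ ?_
    · rintro _ ⟨m, rfl⟩
      exact commutator_mem_commutator (mem_top x) (mem_top _)
    · have hle : M ⊔ zpowers x ≤ normalizer (f.range : Set G) := by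
        have hRM : f.range ≤ M := by
          rintro _ ⟨m, rfl⟩
          show ⁅x, (m : G)⁆ ∈ M
          rw [commutatorElement_def]
          exact mul_mem (hMn.conj_mem _ m.2 x) (inv_mem m.2)
        refine sup_le (fun m hm => ?_) (zpowers_le.mpr ?_)
        · refine Subgroup.mem_normalizer_iff.mpr fun h => ⟨fun hh => ?_, fun hh => ?_⟩
          · rwa [hMC m hm h (hRM hh), mul_inv_cancel_right]
          · have hhM : h ∈ M := by
              simpa [mul_assoc] using hMn.conj_mem _ (hRM hh) m⁻¹
            rwa [hMC m hm h hhM, mul_inv_cancel_right] at hh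
        · have hmap : f.range.map (MulAut.conj x).toMonoidHom = f.range := by
            refine Subgroup.eq_of_le_of_card_ge ?_ (le_of_eq
              (Subgroup.card_map_of_injective (MulAut.conj x).injective).symm)
            rintro _ ⟨_, ⟨m, rfl⟩, rfl⟩
            refine ⟨⟨x * m * x⁻¹, hMn.conj_mem _ m.2 x⟩, ?_⟩
            show ⁅x, x * (m : G) * x⁻¹⁆ = x * ⁅x, (m : G)⁆ * x⁻¹
            simp only [commutatorElement_def]; group
          refine Subgroup.mem_normalizer_iff.mpr fun h => ⟨fun hh => ?_, fun hh => ?_⟩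
          · rw [← hmap]; exact ⟨h, hh, rfl⟩
          · rw [← hmap] at hh
            obtain ⟨k, hk, e⟩ := hh
            rwa [(MulAut.conj x).injective e] at hk
      rw [hgen, top_le_iff] at hle
      haveI : f.range.Normal := normalizer_eq_top_iff.mp hle
      have hab : IsMulCommutative ↑(M.map (QuotientGroup.mk' f.range)) := by
        refine isMulCommutative_of_comm ?_
        rintro _ ⟨a, ha, rfl⟩ _ ⟨b, hb, rfl⟩
        rw [← map_mul, ← map_mul, hMC a ha b hb]
      have hcen : QuotientGroup.mk' f.range x ∈ centralizer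
          ((M.map (QuotientGroup.mk' f.range) : Subgroup (G ⧸ f.range)) : Set (G ⧸ f.range)) := by
        refine Subgroup.mem_centralizer_iff.mpr ?_
        rintro _ ⟨m, hm, rfl⟩
        rw [eq_comm, ← commutatorElement_eq_one_iff_mul_comm, ← map_commutatorElement]
        exact (QuotientGroup.eq_one_iff _).mpr ⟨⟨m, hm⟩, rfl⟩
      have htop := isMulCommutative_sup_zpowers hab hcen
      rw [← MonoidHom.map_zpowers, ← Subgroup.map_sup, hgen,
        Subgroup.map_top_of_surjective _ (QuotientGroup.mk'_surjective _)] at htop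
      rw [← Subgroup.Normal.quotient_commutative_iff_commutator_le]
      exact ⟨⟨fun a b => comm_of_isMulCommutative htop (mem_top a) (mem_top b)⟩⟩
  have hZM : center G ≤ M := by
    intro z hz
    by_contra hzM
    have h := sup_zpowers_eq_top hG hidx hzM
    apply hna
    have hab := isMulCommutative_sup_zpowers hM (x := z) (center_le_centralizer _ hz)
    rw [h] at hab
    exact eq_top_iff.mpr fun a _ => Subgroup.mem_center_iff.mpr fun b =>
      comm_of_isMulCommutative hab (mem_top b) (mem_top a)
  have hker : f.ker = (center G).subgroupOf M := by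
    ext m
    rw [MonoidHom.mem_ker, Subgroup.mem_subgroupOf]
    show ⁅x, (m : G)⁆ = 1 ↔ _
    rw [commutatorElement_eq_one_iff_mul_comm]
    refine ⟨fun h => Subgroup.mem_center_iff.mpr fun g => ?_, fun h => Subgroup.mem_center_iff.mp h x⟩
    have hle : M ⊔ zpowers x ≤ centralizer ({(m : G)} : Set G) := by
      refine sup_le (fun a ha => ?_) (zpowers_le.mpr ?_) <;>
        refine Subgroup.mem_centralizer_iff.mpr fun k hk => ?_ <;> rw [Set.mem_singleton_iff.mp hk]
      exacts [hMC _ m.2 a ha, h.symm]
    rw [hgen] at hle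
    exact (Subgroup.mem_centralizer_iff.mp (hle (mem_top g)) _ rfl).symm
  have h1 := f.ker.card_mul_index
  rw [Subgroup.index_ker, hrange, hker, Nat.card_congr (Subgroup.subgroupOfEquivOfLe hZM).toEquiv] at h1
  rw [← h1, mul_comm]

/-- Taussky: a group of order `2 ^ n`, `n ≥ 3`, with `|X : X'| = 4` has maximal class. -/
theorem maxClass_of_index_commutator : ∀ (n : ℕ) (X : Type u) [Group X] [Finite X], 3 ≤ n →
    Nat.card X = 2 ^ n → (commutator X).index = 4 → Group.nilpotencyClass X = n - 1
  | n, X, _, _, hn, hX, hidx => by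
    haveI : Fact (Nat.Prime 2) := ⟨Nat.prime_two⟩
    have hXp := IsPGroup.of_card hX
    haveI := hXp.isNilpotent
    have hcard' : Nat.card (commutator X) = 2 ^ (n - 2) := by
      have h := (commutator X).card_mul_index
      rw [hidx, hX, show n = n - 2 + 2 by omega, pow_add] at h
      exact Nat.eq_of_mul_eq_mul_right (by norm_num) h
    have hna : center X ≠ ⊤ := fun h => by
      rw [← commutator_eq_bot_iff_center_eq_top] at h
      rw [h, Subgroup.card_bot] at hcard'
      exact absurd hcard'.symm (Nat.one_lt_pow (by omega) one_lt_two).ne'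
    rcases hn.lt_or_eq with hn4 | rfl
    · have hne : commutator X ≠ ⊥ := fun h => hna ((commutator_eq_bot_iff_center_eq_top X).mp h)
      obtain ⟨z, hz, hzc, hzo⟩ := exists_mem_center_orderOf_eq hXp _ hne
      haveI : (zpowers z).Normal := normal_of_le_center (zpowers_le.mpr hzc)
      have hcardQ : Nat.card (X ⧸ zpowers z) = 2 ^ (n - 1) := by
        have h := (zpowers z).card_mul_index
        rw [Nat.card_zpowers, hzo, Subgroup.index_eq_card, hX, show n = n - 1 + 1 by omega, pow_succ'] at h
        exact Nat.eq_of_mul_eq_mul_left two_pos h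
      have hidxQ : (commutator (X ⧸ zpowers z)).index = 4 := by
        have hmap : (commutator X).map (QuotientGroup.mk' (zpowers z)) = commutator (X ⧸ zpowers z) := by
          rw [_root_.commutator_def, _root_.commutator_def, Subgroup.map_commutator,
            Subgroup.map_top_of_surjective _ (QuotientGroup.mk'_surjective _)]
        rw [← hmap, Subgroup.index_map_eq _ (QuotientGroup.mk'_surjective _) (by rw [QuotientGroup.ker_mk']; exact zpowers_le.mpr hz),
          hidx]
      have hQc := maxClass_of_index_commutator (n - 1) _ (by omega) hcardQ hidxQ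
      obtain ⟨q, hq⟩ := exists_cyclic_index_two (n - 1) _ (by omega) hcardQ hQc
      obtain ⟨c, rfl⟩ := QuotientGroup.mk'_surjective _ q
      let M := zpowers z ⊔ zpowers c
      have hM : IsMulCommutative M := isMulCommutative_sup_zpowers inferInstance
        (Subgroup.mem_centralizer_iff.mpr fun g hg =>
          (Subgroup.mem_center_iff.mp (zpowers_le.mpr hzc hg) c).symm)
      have hMidx : M.index = 2 := by
        have h1 : M = (zpowers (QuotientGroup.mk' (zpowers z) c)).comap (QuotientGroup.mk' (zpowers z)) := by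
          rw [← MonoidHom.map_zpowers, Subgroup.comap_map_eq, QuotientGroup.ker_mk', sup_comm]
        rw [h1, Subgroup.index_comap_of_surjective _ (QuotientGroup.mk'_surjective _)]
        have h2 := (zpowers (QuotientGroup.mk' (zpowers z) c)).card_mul_index
        rw [Nat.card_zpowers, hq, hcardQ] at h2
        nth_rw 2 [show n - 1 = n - 1 - 1 + 1 by omega] at h2
        rw [pow_succ] at h2
        exact Nat.eq_of_mul_eq_mul_left (by positivity) h2
      have hZ : Nat.card (center X) = 2 := by
        have h1 := card_commutator_mul_card_center hXp hM hMidx hna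
        have h2 := M.card_mul_index
        rw [hMidx, hX, ← h1, hcard', show n = n - 2 + 2 by omega, pow_add] at h2
        have h3 : 2 ^ (n - 2) * (Nat.card (center X) * 2) = 2 ^ (n - 2) * (2 * 2) := by
          rw [← mul_assoc]
          convert h2 using 2
          congr 2
          omega
        have := Nat.eq_of_mul_eq_mul_left (by positivity) h3
        omega
      have hZeq : zpowers z = center X := Subgroup.eq_of_le_of_card_ge (zpowers_le.mpr hzc)
        (by rw [hZ, Nat.card_zpowers, hzo])
      haveI : Nontrivial X := Finite.one_lt_card_iff_nontrivial.mp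
        (hX ▸ Nat.one_lt_pow (by omega) one_lt_two)
      rw [Group.nilpotencyClass_eq_quotient_center_plus_one]
      have hcl : Group.nilpotencyClass (X ⧸ center X) = Group.nilpotencyClass (X ⧸ zpowers z) :=
        le_antisymm
          (Group.nilpotencyClass_le_of_surjective (QuotientGroup.quotientMulEquivOfEq hZeq).toMonoidHom
            (QuotientGroup.quotientMulEquivOfEq hZeq).surjective)
          (Group.nilpotencyClass_le_of_surjective (QuotientGroup.quotientMulEquivOfEq hZeq).symm.toMonoidHom
            (QuotientGroup.quotientMulEquivOfEq hZeq).symm.surjective)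
      rw [hcl, hQc]
      omega
    · have h1 := nilpotencyClass_le (p := 2) 3 X (by norm_num) hX
      have h2 : ¬ Group.nilpotencyClass X ≤ 1 := fun h => by
        rw [← Subgroup.upperCentralSeries_eq_top_iff_nilpotencyClass_le, Subgroup.upperCentralSeries_one] at h
        exact hna h
      omega
  termination_by n => n

/-- In a 2-group of maximal class `|X : X'| = 4`. -/
theorem index_commutator_of_maxClass {X : Type u} [Group X] [Finite X] {n : ℕ} (hn : 3 ≤ n)
    (hX : Nat.card X = 2 ^ n) (hc : Group.nilpotencyClass X = n - 1) : (commutator X).index = 4 := by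
  haveI : Fact (Nat.Prime 2) := ⟨Nat.prime_two⟩
  have hXp := IsPGroup.of_card hX
  obtain ⟨hZ, -, -⟩ := card_center_of_maxClass hn hX hc
  obtain ⟨c, hk⟩ := exists_cyclic_index_two n X hn hX hc
  have hidx : (zpowers c).index = 2 := by
    have h1 := (zpowers c).card_mul_index
    rw [Nat.card_zpowers, hk, hX] at h1
    nth_rw 2 [show n = (n - 1) + 1 by omega] at h1
    rw [pow_succ] at h1
    exact Nat.eq_of_mul_eq_mul_left (by positivity) h1
  have hna : center X ≠ ⊤ := fun h => by
    rw [h, Subgroup.card_top, hX] at hZ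
    exact absurd (Nat.pow_right_injective le_rfl (hZ.trans (pow_one 2).symm)) (by omega)
  have h1 := card_commutator_mul_card_center hXp (M := zpowers c) inferInstance hidx hna
  rw [hZ, Nat.card_zpowers, hk] at h1
  have h2 := (commutator X).card_mul_index
  rw [hX, show n = n - 1 + 1 by omega, pow_succ, ← h1,
    mul_assoc (Nat.card (commutator X)) 2 2] at h2
  exact Nat.eq_of_mul_eq_mul_left Nat.card_pos h2

/-- If `G = ⟨c⟩ ⊔ ⟨y⟩` is a `p`-group and `⟨c⟩` has a `p`-group of automorphisms (order `2 ^ k`, `p = 2`) and is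
invariant under `Aut G`, then `Aut G` is a 2-group. -/
theorem isPGroup_mulAut {G : Type*} [Group G] [Finite G] {c y : G} {k : ℕ} (hk : orderOf c = 2 ^ k)
    (hidx : (zpowers c).index = 2) (hy : y ∉ zpowers c) (hchar : ∀ φ : MulAut G, φ c ∈ zpowers c) :
    IsPGroup 2 (MulAut G) := by
  haveI : Fact (Nat.Prime 2) := ⟨Nat.prime_two⟩
  intro φ
  obtain ⟨r, hr⟩ := Subgroup.mem_zpowers_iff.mp (hchar φ)
  have hiter : ∀ m : ℕ, (φ ^ m) c = c ^ (r ^ m) := by
    intro m
    induction m with
    | zero => simp
    | succ m ih => rw [pow_succ' φ, MulAut.mul_apply, ih, map_zpow, ← hr, ← zpow_mul, ← pow_succ']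
  obtain ⟨e, he⟩ : ∃ e, (φ ^ 2 ^ e) c = c := by
    rcases Nat.eq_zero_or_pos k with rfl | hk1
    · exact ⟨0, by rw [pow_zero, orderOf_eq_one_iff] at hk; simp [hk]⟩
    · have hord : orderOf (φ c) = 2 ^ k := by rw [MulEquiv.orderOf_eq, hk]
      have hodd : ¬ (2 : ℤ) ∣ r := by
        rintro ⟨t, rfl⟩
        have h1 : φ c ^ 2 ^ (k - 1) = 1 := by
          rw [← hr, ← zpow_natCast, ← zpow_mul, zpow_eq_one_iff_dvd hk]
          refine ⟨t, ?_⟩
          push_cast
          nth_rw 2 [show k = (k - 1) + 1 by omega]
          rw [pow_succ]; ring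
        have h2 := orderOf_dvd_of_pow_eq_one h1
        rw [hord, Nat.pow_dvd_pow_iff_le_right one_lt_two] at h2
        omega
      obtain ⟨t, rfl | rfl⟩ : ∃ t, r = 2 * t ∨ r = 2 * t + 1 := ⟨r / 2, by omega⟩
      · exact absurd ⟨t, rfl⟩ hodd
      refine ⟨k, ?_⟩
      have hdvd : ∀ j : ℕ, (2 : ℤ) ^ (j + 1) ∣ (2 * t + 1) ^ 2 ^ j - 1 := by
        intro j
        induction j with
        | zero => exact ⟨t, by ring⟩
        | succ j ih =>
          obtain ⟨a, ha⟩ := ih
          refine ⟨2 ^ j * a * a + a, ?_⟩
          rw [pow_succ 2 j, pow_mul, show (2 * t + 1) ^ 2 ^ j = 2 ^ (j + 1) * a + 1 by linarith]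
          ring
      rw [hiter]
      nth_rw 2 [← zpow_one c]
      rw [eq_comm, zpow_eq_zpow_iff_dvd hk]
      push_cast
      exact (pow_dvd_pow 2 (Nat.le_succ k)).trans (hdvd k)
  set ψ := φ ^ 2 ^ e with hψ
  have hy2 : y ^ 2 ∈ zpowers c := by
    haveI : (zpowers c).Normal := Subgroup.normal_of_index_eq_two hidx
    exact hidx ▸ (zpowers c).pow_index_mem y
  have hgen : zpowers c ⊔ zpowers y = ⊤ := by
    refine Subgroup.eq_top_of_card_eq _ ?_
    haveI : (zpowers c).Normal := Subgroup.normal_of_index_eq_two hidx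
    rw [card_sup_zpowers (p := 2) _ hy hy2, ← hidx, mul_comm, Subgroup.card_mul_index]
  have hψy : y⁻¹ * ψ y ∈ zpowers c := by
    haveI : (zpowers c).Normal := Subgroup.normal_of_index_eq_two hidx
    rw [Subgroup.mul_mem_iff_of_index_two hidx]
    simp only [inv_mem_iff, hy, false_iff]
    intro h
    apply hy
    obtain ⟨i, hi⟩ := Subgroup.mem_zpowers_iff.mp h
    exact ψ.injective (show ψ (c ^ i) = ψ y by rw [map_zpow, he, hi]) ▸ zpow_mem_zpowers c i
  obtain ⟨i, hi⟩ := Subgroup.mem_zpowers_iff.mp hψy
  have hiter2 : ∀ m : ℕ, (ψ ^ m) y = y * c ^ (i * m) := by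
    intro m
    induction m with
    | zero => simp
    | succ m ih =>
      rw [pow_succ' ψ, MulAut.mul_apply, ih, map_mul, map_zpow, he,
        show ψ y = y * c ^ i by rw [hi, mul_inv_cancel_left], mul_assoc, ← zpow_add]
      push_cast
      ring_nf
  refine ⟨e + k, MulEquiv.ext fun g => ?_⟩
  rw [pow_add, pow_mul, ← hψ, MulAut.one_apply]
  have hcfix : (ψ ^ 2 ^ k) c = c := by
    have : ∀ m : ℕ, (ψ ^ m) c = c := fun m => by
      induction m with
      | zero => simp
      | succ m ih => rw [pow_succ' ψ, MulAut.mul_apply, ih, he]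
    exact this _
  have hyfix : (ψ ^ 2 ^ k) y = y := by
    rw [hiter2, mul_eq_left, zpow_eq_one_iff_dvd hk]
    push_cast
    exact dvd_mul_left _ _
  have : (zpowers c ⊔ zpowers y : Subgroup G) ≤ MonoidHom.eqLocus (ψ ^ 2 ^ k : MulAut G).toMonoidHom (MonoidHom.id G) :=
    sup_le (zpowers_le.mpr hcfix) (zpowers_le.mpr hyfix)
  rw [hgen] at this
  exact this (mem_top g)

end Cfsg.Agent.PGroups
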