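import Cfsg.Agent.PGroups.RankTwo
import Cfsg.Agent.PGroups.Extraspecial
import Cfsg.Agent.PGroups.CyclicMaximal
import Cfsg.Agent.PGroups.PCentral

/-!
The `p`-groups (`p` odd) in which the elements of order dividing `p` form a non-abelian subgroup of order
`p ^ 3`: central products of that subgroup with a cyclic group, and their extensions of index `p`.
-/

set_option autoImplicit false
set_option linter.style.haveILetI false

namespace Cfsg.Agent.PGroups

open Subgroup
open scoped commutatorElement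

variable {G : Type*} [Group G] {p : ℕ} [hp : Fact p.Prime]

omit hp in
/-- A coprime power generates the same cyclic group. -/
theorem mem_zpowers_zpow_of_isCoprime {d : G} {m : ℕ} (hd : orderOf d = m) {i : ℤ} (h : IsCoprime i (m : ℤ)) :
    d ∈ zpowers (d ^ i) := by
  obtain ⟨u, v, huv⟩ := h
  refine Subgroup.mem_zpowers_iff.mpr ⟨u, ?_⟩
  rw [← zpow_mul]
  nth_rewrite 2 [← zpow_one d]
  rw [zpow_eq_zpow_iff_dvd hd]
  exact ⟨v, by linarith⟩

/-- In a group of order `p ^ 3`, elements `x`, `y` with `⁅x, y⁆ ≠ 1` generate. -/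
theorem le_closure_pair_of_card_cube [Finite G] (hG : IsPGroup p G) {W : Subgroup G}
    (hW : Nat.card W = p ^ 3) {x y : G} (hx : x ∈ W) (hy : y ∈ W) (hne : ⁅x, y⁆ ≠ 1) :
    W ≤ Subgroup.closure ({x, y} : Set G) := by
  set H := Subgroup.closure ({x, y} : Set G)
  have hHW : H ≤ W := by
    rw [Subgroup.closure_le]
    rintro z (rfl | rfl)
    exacts [hx, hy]
  refine (Subgroup.eq_of_le_of_card_ge hHW ?_).ge
  obtain ⟨j, hj⟩ := IsPGroup.iff_card.mp (hG.to_subgroup H)
  rw [hW, hj]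
  refine Nat.pow_le_pow_right hp.out.pos ?_
  by_contra hlt
  refine hne (commutatorElement_eq_one_iff_mul_comm.mpr ?_)
  have hcomm : ∀ a b : H, a * b = b * a := by
    rcases (show j = 0 ∨ j = 1 ∨ j = 2 by omega) with rfl | rfl | rfl
    · haveI : Subsingleton H := (Nat.card_eq_one_iff_unique.mp (by simpa using hj)).1
      exact fun a b => Subsingleton.elim _ _
    · haveI : IsCyclic H := isCyclic_of_prime_card (p := p) (by simpa using hj)
      letI : CommGroup H := IsCyclic.commGroup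
      exact fun a b => mul_comm a b
    · exact fun a b => (IsPGroup.commutative_of_card_eq_prime_sq hj a b)
  exact congrArg Subtype.val (hcomm ⟨x, Subgroup.subset_closure (by simp)⟩ ⟨y, Subgroup.subset_closure (by simp)⟩)

/-- The structure of `p`-groups whose elements of order dividing `p` form a non-abelian group of order `p ^ 3`. -/
theorem structure_of_omega_cube [Finite G] (hG : IsPGroup p G) (hp2 : p ≠ 2) (W : Subgroup G)
    (hW : ∀ g : G, g ∈ W ↔ g ^ p = 1) (hWc : Nat.card W = p ^ 3)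
    (hWn : ∃ a ∈ W, ∃ b ∈ W, ⁅a, b⁆ ≠ 1) :
    (∃ (n : ℕ) (x y z : G), 3 ≤ n ∧ Nat.card G = p ^ n ∧ Subgroup.closure ({x, y, z} : Set G) = ⊤ ∧
        x ^ p = 1 ∧ y ^ p = 1 ∧ z ^ p ^ (n - 2) = 1 ∧
        x * z = z * x ∧ y * z = z * y ∧ x⁻¹ * y * x = y * z ^ p ^ (n - 3)) ∨
    (∃ (n s : ℕ) (x y z : G), 4 ≤ n ∧ Nat.card G = p ^ n ∧ (s = 1 ∨ ¬ IsSquare (s : ZMod p)) ∧
        Subgroup.closure ({x, y, z} : Set G) = ⊤ ∧ x ^ p = 1 ∧ y ^ p = 1 ∧ z ^ p ^ (n - 2) = 1 ∧
        y * z = z * y ∧ x⁻¹ * y * x = y * z ^ (s * p ^ (n - 3)) ∧ x⁻¹ * z * x = y * z) := by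
  have hpp := hp.out
  haveI hWnorm : W.Normal := ⟨fun a ha g => by
    rw [hW] at ha ⊢; rw [conj_pow, ha]; simp⟩
  -- the centre of `W`
  have hWP := hG.to_subgroup W
  obtain ⟨a₀, ha₀, b₀, hb₀, hab₀⟩ := hWn
  have hZW : Nat.card (center W) = p := by
    obtain ⟨j, hj⟩ := IsPGroup.iff_card.mp (hWP.to_subgroup (center W))
    obtain ⟨i, hi⟩ := hWP.index (center W)
    have h1 := (center W).card_mul_index
    rw [hj, hi, hWc, ← pow_add] at h1
    have h3 : j + i = 3 := Nat.pow_right_injective hpp.two_le h1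
    haveI : Nontrivial W := Finite.one_lt_card_iff_nontrivial.mp (by rw [hWc]; exact Nat.one_lt_pow (by norm_num) hpp.one_lt)
    haveI := hWP.center_nontrivial
    have hj0 : j ≠ 0 := fun h => by
      rw [h, pow_zero, Subgroup.card_eq_one] at hj
      exact (Subgroup.nontrivial_iff_ne_bot _).mp inferInstance hj
    have hi1 : i ≠ 1 := fun h => center_index_ne_prime (G := W) (p := p) (by rw [hi, h, pow_one])
    have hi0 : i ≠ 0 := fun h => by
      rw [h, pow_zero, Subgroup.index_eq_one] at hi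
      refine hab₀ (commutatorElement_eq_one_iff_mul_comm.mpr (congrArg Subtype.val
        (Subgroup.mem_center_iff.mp (hi ▸ mem_top (⟨b₀, hb₀⟩ : W)) ⟨a₀, ha₀⟩)))
    rw [hj, show j = 1 by omega, pow_one]
  have hidxW : (center W).index = p ^ 2 := by
    have h1 := (center W).card_mul_index
    rw [hZW, hWc, pow_succ' p 2] at h1
    exact Nat.eq_of_mul_eq_mul_left hpp.pos h1
  have hExt : Cfsg.IsExtraspecial p W := by
    have hexp : ∀ w : W, w ^ p = 1 := fun w => Subtype.ext ((hW w).mp w.2)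
    have hle : commutator W ≤ center W := commutator_le_of_index_dvd_sq (p := p) (center W) hidxW.dvd
    have hcomm : commutator W = center W := by
      refine Subgroup.eq_of_le_of_card_ge hle ?_
      rw [hZW]
      refine Nat.le_of_dvd Nat.card_pos (dvd_card_of_ne_bot hWP ?_)
      intro h
      have h2 : ⁅(⟨a₀, ha₀⟩ : W), (⟨b₀, hb₀⟩ : W)⁆ ∈ commutator W :=
        commutator_mem_commutator (mem_top _) (mem_top _)
      rw [h, Subgroup.mem_bot] at h2
      exact hab₀ (congrArg Subtype.val h2)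
    refine ⟨⟨hWP, le_antisymm (frattini_le_of_commutator_le (p := p) _ hle fun w => ?_)
      (hcomm ▸ commutator_le_frattini hWP), hcomm⟩, hZW⟩
    rw [hexp w]; exact one_mem _
  set C := centralizer (W : Set G) with hC
  set Z := W ⊓ C with hZdef
  have hZmap : Z = (center W).map W.subtype := by
    ext g
    constructor
    · rintro ⟨hg, hgC⟩
      exact ⟨⟨g, hg⟩, Subgroup.mem_center_iff.mpr fun w => Subtype.ext (Subgroup.mem_centralizer_iff.mp hgC w w.2), rfl⟩
    · rintro ⟨w, hw, rfl⟩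
      exact ⟨w.2, Subgroup.mem_centralizer_iff.mpr fun v hv =>
        congrArg Subtype.val (Subgroup.mem_center_iff.mp hw ⟨v, hv⟩)⟩
  have hZc : Nat.card Z = p := by rw [hZmap, Subgroup.card_map_of_injective W.subtype_injective, hZW]
  -- `C` is cyclic
  haveI hCcyc : IsCyclic C := by
    by_contra hnc
    obtain ⟨A, -, -, hAp, hAc⟩ := exists_normal_elementary_sq (hG.to_subgroup C) hp2 hnc
    have hle : A.map C.subtype ≤ Z := by
      rintro _ ⟨w, hw, rfl⟩
      exact ⟨(hW _).mpr (congrArg Subtype.val (hAp w hw)), w.2⟩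
    have := Subgroup.card_le_of_le hle
    rw [Subgroup.card_map_of_injective C.subtype_injective, hAc, hZc] at this
    exact absurd this (not_le.mpr (by nlinarith [hpp.two_le]))
  obtain ⟨⟨d, hdC⟩, hdgen⟩ := IsCyclic.exists_generator (α := C)
  have hCd : C = zpowers d := by
    refine le_antisymm (fun c hc => ?_) (zpowers_le.mpr hdC)
    obtain ⟨i, hi⟩ := Subgroup.mem_zpowers_iff.mp (hdgen ⟨c, hc⟩)
    exact Subgroup.mem_zpowers_iff.mpr ⟨i, congrArg Subtype.val hi⟩
  obtain ⟨k, hk⟩ : ∃ k, orderOf d = p ^ (k + 1) := by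
    obtain ⟨j, hj⟩ := IsPGroup.iff_orderOf.mp hG d
    rcases j with - | j
    · rw [pow_zero, orderOf_eq_one_iff] at hj
      have h1 : Z ≤ ⊥ := inf_le_right.trans (by rw [hCd, hj, zpowers_one_eq_bot])
      rw [le_bot_iff.mp h1, Subgroup.card_bot] at hZc
      exact absurd hZc hpp.one_lt.ne
    · exact ⟨j, hj⟩
  have hZgen : Z = zpowers (d ^ p ^ k) := by
    refine (zpowers_eq_of_card_eq hZc ⟨(hW _).mpr ?_, pow_mem (hCd ▸ mem_zpowers d) _⟩ ?_).symm
    · rw [← pow_mul, ← pow_succ, ← hk, pow_orderOf_eq_one]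
    · rw [Ne, ← orderOf_dvd_iff_pow_eq_one, hk, Nat.pow_dvd_pow_iff_le_right hpp.one_lt]
      omega
  have hCc : Nat.card C = p ^ (k + 1) := by rw [hCd, Nat.card_zpowers, hk]
  -- the product `W C`
  set qW := QuotientGroup.mk' W
  have hWC : Nat.card ↑(W ⊔ C) = p ^ (k + 3) := by
    have h1 := card_eq_card_map_mul W (W ⊔ C)
    have h2 := card_eq_card_map_mul W C
    rw [inf_eq_right.mpr le_sup_left, Subgroup.map_sup,
      (Subgroup.map_eq_bot_iff W).mpr (QuotientGroup.ker_mk' W).ge, bot_sup_eq, hWc] at h1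
    rw [inf_comm, ← hZdef, hZc, hCc, pow_succ] at h2
    rw [h1, ← Nat.eq_of_mul_eq_mul_right hpp.pos h2, ← pow_add]
  -- elements acting trivially on `W / Z` lie in `W C`
  haveI hZn : Z.Normal := by rw [hZdef]; infer_instance
  set q := QuotientGroup.mk' Z
  haveI : (W.map q).Normal := Subgroup.Normal.map hWnorm _ (QuotientGroup.mk'_surjective Z)
  set K := (centralizer (W.map q : Set (G ⧸ Z))).comap q with hK
  have hKmem : ∀ g : G, g ∈ K ↔ ∀ w ∈ W, ⁅g, w⁆ ∈ Z := by
    intro g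
    rw [hK, Subgroup.mem_comap, Subgroup.mem_centralizer_iff]
    constructor
    · intro h w hw
      rw [← QuotientGroup.eq_one_iff]
      show q ⁅g, w⁆ = 1
      rw [map_commutatorElement, commutatorElement_eq_one_iff_mul_comm]
      exact (h _ ⟨w, hw, rfl⟩).symm
    · rintro h _ ⟨w, hw, rfl⟩
      have h1 : q ⁅g, w⁆ = 1 := (QuotientGroup.eq_one_iff _).mpr (h w hw)
      rw [map_commutatorElement, commutatorElement_eq_one_iff_mul_comm] at h1
      exact h1.symm
  have hKeq : K = W ⊔ C := by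
    refine le_antisymm (fun g hg => ?_) (sup_le (fun g hg => ?_) (fun g hg => ?_))
    · obtain ⟨e, he⟩ := exists_conj_of_trivial_mod_center hExt (MulAut.conjNormal g) fun w => by
        have h1 : ⁅g, (w : G)⁆ ∈ Z := (hKmem g).mp hg w w.2
        rw [hZmap] at h1
        obtain ⟨c, hc, hce⟩ := h1
        have heq : MulAut.conjNormal g w * w⁻¹ = c := by
          apply Subtype.ext
          simpa [MulAut.conjNormal_apply, commutatorElement_def] using hce.symm
        rw [heq]; exact hc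
      rw [show g = (e : G) * ((e : G)⁻¹ * g) by group]
      refine Subgroup.mul_mem_sup e.2 (Subgroup.mem_centralizer_iff.mpr fun w hw => ?_)
      have h1 := congrArg Subtype.val (DFunLike.congr_fun he ⟨w, hw⟩)
      simp only [MulAut.conj_apply, MulAut.conjNormal_apply, Subgroup.coe_mul, Subgroup.coe_inv] at h1
      calc w * ((e : G)⁻¹ * g) = (e : G)⁻¹ * ((e : G) * w * (e : G)⁻¹) * g := by group
        _ = (e : G)⁻¹ * g * w := by rw [h1]; group
    · refine (hKmem g).mpr fun w hw => ?_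
      rw [hZmap]
      exact ⟨⁅(⟨g, hg⟩ : W), ⟨w, hw⟩⁆, commutatorElement_mem_center (isSpecial_commutator_le hExt.1) _ _, rfl⟩
    · refine (hKmem g).mpr fun w hw => ?_
      rw [commutatorElement_eq_one_iff_mul_comm.mpr (Subgroup.mem_centralizer_iff.mp hg w hw).symm]
      exact one_mem _
  obtain ⟨n, hn⟩ := IsPGroup.iff_card.mp hG
  have hWq : Nat.card (W.map q) = p ^ 2 := by
    have h1 := card_eq_card_map_mul Z W
    rw [inf_eq_right.mpr inf_le_left, hZc, hWc, pow_succ] at h1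
    exact (Nat.eq_of_mul_eq_mul_right hpp.pos h1).symm
  have hKi : K.index ≤ p := by
    have h := index_centralizer_le (hG.to_quotient Z) 2 (W.map q) hWq
    rw [hK, Subgroup.index_comap_of_surjective _ (QuotientGroup.mk'_surjective Z)]
    simpa using h
  have hcardG := K.card_mul_index
  rw [hKeq, hWC, hn] at hcardG
  have hconjW : ∀ x : G, ∀ w ∈ W, x⁻¹ * w * x ∈ W := fun x w hw => by
    simpa using hWnorm.conj_mem w hw x⁻¹
  by_cases hKtop : K = ⊤
  · left
    rw [hKeq] at hKtop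
    rw [hKtop, Subgroup.index_top, mul_one] at hcardG
    have hne : a₀⁻¹ * b₀ * a₀ ≠ b₀ := by
      intro h
      refine hab₀ (commutatorElement_eq_one_iff_mul_comm.mpr ?_)
      calc a₀ * b₀ = a₀ * (a₀⁻¹ * b₀ * a₀) := by rw [h]
        _ = b₀ * a₀ := by group
    obtain ⟨c₀, hc₀, hc₀1, hc₀e⟩ : ∃ c₀ ∈ Z, c₀ ≠ 1 ∧ a₀⁻¹ * b₀ * a₀ = b₀ * c₀ := by
      refine ⟨b₀⁻¹ * (a₀⁻¹ * b₀ * a₀), ?_, fun h => hne (inv_mul_eq_one.mp h).symm, by group⟩
      rw [hZmap]
      refine ⟨⁅(⟨b₀, hb₀⟩ : W)⁻¹, (⟨a₀, ha₀⟩ : W)⁻¹⁆,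
        commutatorElement_mem_center (isSpecial_commutator_le hExt.1) _ _, ?_⟩
      simp [commutatorElement_def, mul_assoc]
    rw [hZgen] at hc₀
    obtain ⟨i, hi⟩ := Subgroup.mem_zpowers_iff.mp hc₀
    have hz : d ^ i ∈ C := zpow_mem hdC i
    refine ⟨n, a₀, b₀, d ^ i, ?_, hn, ?_, (hW _).mp ha₀, (hW _).mp hb₀, ?_, ?_, ?_, ?_⟩
    · have := Nat.pow_right_injective hpp.two_le hcardG; omega
    · rw [eq_top_iff, ← hKtop, sup_le_iff]
      refine ⟨(le_closure_pair_of_card_cube hG hWc ha₀ hb₀ hab₀).trans (Subgroup.closure_mono (by simp [Set.subset_def])), ?_⟩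
      rw [hCd, zpowers_le]
      have hcop : IsCoprime i ((p ^ (k + 1) : ℕ) : ℤ) := by
        rw [Nat.cast_pow]
        refine IsCoprime.pow_right ((Nat.prime_iff_prime_int.mp hpp).coprime_iff_not_dvd.mpr ?_).symm
        rintro ⟨j, rfl⟩
        apply hc₀1
        rw [← hi, zpow_mul, zpow_natCast, ← pow_mul, ← pow_succ, ← hk, pow_orderOf_eq_one, one_zpow]
      exact zpowers_le.mpr (Subgroup.subset_closure (by simp)) (mem_zpowers_zpow_of_isCoprime hk hcop)
    · have h3 := Nat.pow_right_injective hpp.two_le hcardG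
      rw [show n - 2 = k + 1 by omega, ← hk, ← zpow_natCast, zpow_comm, zpow_natCast, pow_orderOf_eq_one, one_zpow]
    · exact Subgroup.mem_centralizer_iff.mp hz a₀ ha₀
    · exact Subgroup.mem_centralizer_iff.mp hz b₀ hb₀
    · have h3 := Nat.pow_right_injective hpp.two_le hcardG
      rw [show n - 3 = k by omega, hc₀e, ← hi]
      simp only [← zpow_natCast, ← zpow_mul, mul_comm]
  · right
    have hKp : K.index = p := by
      obtain ⟨j, hj⟩ := hG.index K
      rw [hj] at hKi ⊢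
      have : j ≠ 0 := fun h => hKtop (Subgroup.index_eq_one.mp (by rw [hj, h, pow_zero]))
      have : j ≤ 1 := (Nat.pow_le_pow_iff_right hpp.one_lt).mp (by simpa using hKi)
      rw [show j = 1 by omega, pow_one]
    rw [← hKeq, hKp, ← pow_succ] at hcardG
    have hn4 := Nat.pow_right_injective hpp.two_le hcardG
    obtain ⟨a₁, ha₁⟩ : ∃ a₁, a₁ ∉ K := by
      by_contra h; push Not at h; exact hKtop (eq_top_iff.mpr fun g _ => h g)
    have hZlt : Z < W := lt_of_le_of_ne inf_le_left fun h => by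
      rw [h, hWc] at hZc
      exact absurd (Nat.pow_right_injective hpp.two_le (hZc.trans (pow_one p).symm)) (by norm_num)
    obtain ⟨Y, hYn, hZY, hYW, hYc⟩ := exists_normal_card_mul hG Z W hZlt
    haveI := hYn
    have hYc' : Nat.card Y = p ^ 2 := by rw [hYc, hZc, sq]
    set A := centralizer (Y : Set G) with hA
    haveI hAn : A.Normal := by rw [hA]; infer_instance
    have hYcomm : ∀ u ∈ Y, ∀ v ∈ Y, u * v = v * u := fun u hu v hv => congrArg Subtype.val
      (IsPGroup.commutative_of_card_eq_prime_sq hYc' (⟨u, hu⟩ : Y) ⟨v, hv⟩)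
    have hYA : Y ≤ A := fun u hu => Subgroup.mem_centralizer_iff.mpr fun v hv => hYcomm v hv u hu
    have hYne : Y ≠ W := fun h => by
      rw [h, hWc] at hYc'
      exact absurd (Nat.pow_right_injective hpp.two_le hYc') (by norm_num)
    have hWnA : ¬ W ≤ A := by
      intro h
      have h1 : Y ≤ Z := fun u hu => ⟨hYW hu, Subgroup.mem_centralizer_iff.mpr fun w hw =>
        (Subgroup.mem_centralizer_iff.mp (h hw) u hu).symm⟩
      have := Subgroup.card_le_of_le h1
      rw [hYc', hZc] at this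
      nlinarith [hpp.two_le]
    have hAW : W ⊓ A = Y := by
      refine (Subgroup.eq_of_le_of_card_ge (le_inf hYW hYA) ?_).symm
      obtain ⟨j, hj⟩ := IsPGroup.iff_card.mp (hG.to_subgroup ↑(W ⊓ A))
      rw [hj, hYc']
      refine Nat.pow_le_pow_right hpp.pos ?_
      by_contra h
      refine hWnA (inf_eq_left.mp (Subgroup.eq_of_le_of_card_ge inf_le_left ?_))
      rw [hWc, hj]; exact Nat.pow_le_pow_right hpp.pos (by omega)
    have hAi : A.index ≤ p := by
      have h := index_centralizer_le hG 2 Y hYc'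
      simpa using h
    obtain ⟨a, haA, haK⟩ : ∃ a ∈ A, a ∉ K := by
      by_contra h
      push Not at h
      obtain ⟨w, hw, hwA⟩ := SetLike.not_le_iff_exists.mp hWnA
      refine hwA ((Subgroup.eq_of_le_of_card_ge (show A ≤ K from h) ?_).ge (hKeq ▸ Subgroup.mem_sup_left hw))
      have h1 := A.card_mul_index
      have h2 := K.card_mul_index
      rw [hKp] at h2
      have : Nat.card K * p ≤ Nat.card A * p := by
        rw [h2, ← h1]; exact Nat.mul_le_mul_left _ hAi
      exact Nat.le_of_mul_le_mul_right this hpp.pos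
    have hgenK : K ⊔ zpowers a = ⊤ := sup_zpowers_eq_top hG hKp haK
    have hYa : ∀ u ∈ Y, u * a = a * u := fun u hu => Subgroup.mem_centralizer_iff.mp haA u hu
    obtain ⟨x, hxW, hxY⟩ := SetLike.exists_of_lt (lt_of_le_of_ne hYW hYne)
    have hcomm_mem : ⁅x, a⁆ ∈ Y := by
      rw [← hAW]
      refine ⟨?_, ?_⟩
      · have h := W.mul_mem hxW (hWnorm.conj_mem _ (W.inv_mem hxW) a)
        rwa [show x * (a * x⁻¹ * a⁻¹) = ⁅x, a⁆ by simp only [commutatorElement_def]; group] at h
      · have h := A.mul_mem (hAn.conj_mem a haA x) (A.inv_mem haA)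
        rwa [← commutatorElement_def] at h
    have hap : a ^ p ∈ C := by
      have h1 : a ^ p ∈ W ⊔ C := hKeq ▸ hKp ▸ K.pow_index_mem a
      obtain ⟨w, hw, c, hc, hwc⟩ := Subgroup.mem_sup_of_normal_left.mp h1
      have hcA : c ∈ A := Subgroup.mem_centralizer_iff.mpr fun u hu => Subgroup.mem_centralizer_iff.mp hc u (hYW hu)
      have hwA : w ∈ A := by
        rw [show w = a ^ p * c⁻¹ by rw [← hwc, mul_inv_cancel_right]]
        exact mul_mem (pow_mem haA p) (inv_mem hcA)
      have hwY : w ∈ Y := hAW.le ⟨hw, hwA⟩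
      have hxa : x * a ^ p * x⁻¹ = a ^ p := by
        rw [← conj_pow, show x * a * x⁻¹ = ⁅x, a⁆ * a by simp only [commutatorElement_def]; group,
          (show Commute ⁅x, a⁆ a from hYa _ hcomm_mem).mul_pow, (hW _).mp (hYW hcomm_mem), one_mul]
      have hcx := Subgroup.mem_centralizer_iff.mp hc
      have hxw : x * w = w * x := by
        rw [← hwc] at hxa
        calc x * w = x * (w * c) * x⁻¹ * (x * c⁻¹) := by group
          _ = w * (c * x) * c⁻¹ := by rw [hxa]; group
          _ = w * x := by rw [← hcx x hxW]; group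
      have hwZ : w ∈ C := by
        have hle : Y ⊔ zpowers x ≤ centralizer ({w} : Set G) := by
          refine sup_le (fun u hu => ?_) (zpowers_le.mpr ?_) <;>
            refine Subgroup.mem_centralizer_iff.mpr fun v hv => ?_ <;> rw [Set.mem_singleton_iff.mp hv]
          · exact hYcomm w hwY u hu
          · exact hxw.symm
        have hWle : W ≤ Y ⊔ zpowers x := by
          refine (Subgroup.eq_of_le_of_card_ge (sup_le hYW (zpowers_le.mpr hxW)) ?_).ge
          rw [card_sup_zpowers (p := p) Y hxY (by rw [(hW _).mp hxW]; exact one_mem _), hYc', hWc, pow_succ']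
        exact Subgroup.mem_centralizer_iff.mpr fun v hv =>
          (Subgroup.mem_centralizer_iff.mp (hle (hWle hv)) w rfl).symm
      rw [← hwc]; exact mul_mem hwZ hc
    rw [hCd] at hap
    obtain ⟨r, hr⟩ := Subgroup.mem_zpowers_iff.mp hap
    have hCn : (zpowers d).Normal := by rw [← hCd, hC]; infer_instance
    have hrp : ¬ (p : ℤ) ∣ r := by
      rintro ⟨j, rfl⟩
      obtain ⟨s, hs⟩ := exists_conj_eq_zpow hCn a
      have hse := conj_pow_of_conj_eq_zpow hs p
      rw [show a ^ p * d * (a ^ p)⁻¹ = d by rw [← hr]; group] at hse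
      have hdvd : ((p ^ (k + 1) : ℕ) : ℤ) ∣ s ^ p - 1 := by
        rw [← zpow_eq_one_iff_dvd hk, zpow_sub, zpow_one, ← hse, mul_inv_cancel]
      obtain ⟨-, hs2⟩ := pow_dvd_sub_one hpp hp2 (Nat.le_add_left 1 k) hdvd
      obtain ⟨l, hl⟩ := hs2
      set e := ⁅(d ^ (-j)), a⁆ with he
      have heZ : e ∈ Z := by
        rw [hZgen]
        refine Subgroup.mem_zpowers_iff.mpr ⟨j * l, ?_⟩
        have hconj : a * d ^ j * a⁻¹ = d ^ (s * j) := by rw [← conj_zpow, hs, ← zpow_mul]
        have : e = d ^ ((s - 1) * j) := by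
          rw [he, commutatorElement_def, show d ^ (-j) * a * (d ^ (-j))⁻¹ * a⁻¹ = d ^ (-j) * (a * d ^ j * a⁻¹) by
            group, hconj, ← zpow_add]
          congr 1; ring
        rw [this, hl, Nat.add_sub_cancel, ← zpow_natCast, ← zpow_mul]
        congr 1; ring
      have hZcen : ∀ u ∈ Z, Commute u a := fun u hu => hYa u (hZY hu)
      have hZd : ∀ u ∈ Z, Commute u (d ^ (-j)) := fun u hu => by
        have hu' : u ∈ zpowers d := hCd ▸ hu.2
        obtain ⟨i, rfl⟩ := Subgroup.mem_zpowers_iff.mp hu'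
        exact (Commute.refl d).zpow_zpow i (-j)
      have hmul : d ^ (-j) * a = a * d ^ (-j) * e := by
        rw [mul_assoc a, ← ((hZd e heZ).eq), ← mul_assoc, ← (hZcen e heZ).eq, he, commutatorElement_def]
        group
      have hpow := mul_pow_of_commute hmul (hZcen e heZ) (hZd e heZ) p
      obtain ⟨t, ht⟩ : p ∣ p.choose 2 :=
        hpp.dvd_choose_self two_ne_zero (lt_of_le_of_ne hpp.two_le (Ne.symm hp2))
      rw [ht, pow_mul, (hW e).mp heZ.1, one_pow, mul_one, ← hr, ← zpow_natCast (d ^ (-j)), ← zpow_mul,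
        ← zpow_add, show (p : ℤ) * j + -j * p = 0 by ring, zpow_zero] at hpow
      have hmemW : a * d ^ (-j) ∈ W := (hW _).mpr hpow
      refine haK ?_
      rw [hKeq, show a = a * d ^ (-j) * d ^ j by group]
      exact Subgroup.mul_mem_sup hmemW (hCd ▸ zpow_mem (mem_zpowers d) j)
    have hCa : C ≤ zpowers a := by
      rw [hCd, zpowers_le]
      obtain ⟨u, v, huv⟩ : IsCoprime r ((p ^ (k + 1) : ℕ) : ℤ) := by
        rw [Nat.cast_pow]
        exact IsCoprime.pow_right ((Nat.prime_iff_prime_int.mp hpp).coprime_iff_not_dvd.mpr hrp).symm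
      have h := mem_zpowers_zpow_of_isCoprime hk ⟨u, v, huv⟩
      rw [hr] at h
      exact zpowers_le.mpr (pow_mem (mem_zpowers a) p) h
    -- the parameters
    set y := x⁻¹ * a * x * a⁻¹ with hy
    have hyY : y ∈ Y := by
      have : y = x⁻¹ * ⁅x, a⁆⁻¹ * x⁻¹⁻¹ := by simp only [hy, commutatorElement_def]; group
      rw [this]; exact hYn.conj_mem _ (Y.inv_mem hcomm_mem) x⁻¹
    have hyZ : y ∉ Z := by
      intro h
      refine haK ((hKmem a).mpr fun w hw => ?_)
      have hWle : W ≤ Y ⊔ zpowers x := by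
        refine (Subgroup.eq_of_le_of_card_ge (sup_le hYW (zpowers_le.mpr hxW)) ?_).ge
        rw [card_sup_zpowers (p := p) Y hxY (by rw [(hW _).mp hxW]; exact one_mem _), hYc', hWc, pow_succ']
      have h1 : ⁅a, x⁆ ∈ Z := by
        have : ⁅a, x⁆ = x * y * x⁻¹ := by simp only [hy, commutatorElement_def]; group
        rw [this]; exact hZn.conj_mem y h x
      have hle : Y ⊔ zpowers x ≤ (centralizer ({q a} : Set (G ⧸ Z))).comap q := by
        refine sup_le (fun u hu => ?_) (zpowers_le.mpr ?_) <;>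
          refine Subgroup.mem_centralizer_iff.mpr fun v hv => ?_ <;> rw [Set.mem_singleton_iff.mp hv]
        · rw [← map_mul, ← map_mul, hYa u hu]
        · rw [← commutatorElement_eq_one_iff_mul_comm, ← map_commutatorElement]
          exact (QuotientGroup.eq_one_iff _).mpr h1
      rw [← QuotientGroup.eq_one_iff]
      show q ⁅a, w⁆ = 1
      rw [map_commutatorElement, commutatorElement_eq_one_iff_mul_comm]
      exact Subgroup.mem_centralizer_iff.mp (hle (hWle hw)) _ rfl
    have hxy : ⁅x, y⁆ ≠ 1 := by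
      intro h
      have hxyc := commutatorElement_eq_one_iff_mul_comm.mp h
      have hle : Subgroup.closure ({x, y} : Set G) ≤ centralizer ({y} : Set G) := by
        rw [Subgroup.closure_le]
        rintro v (rfl | rfl) <;> refine Subgroup.mem_centralizer_iff.mpr fun w hw => ?_ <;>
          rw [Set.mem_singleton_iff.mp hw]
        exact hxyc.symm
      refine hyZ ⟨hYW hyY, Subgroup.mem_centralizer_iff.mpr fun v hv => ?_⟩
      have hWle : W ≤ Y ⊔ zpowers x := by
        refine (Subgroup.eq_of_le_of_card_ge (sup_le hYW (zpowers_le.mpr hxW)) ?_).ge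
        rw [card_sup_zpowers (p := p) Y hxY (by rw [(hW _).mp hxW]; exact one_mem _), hYc', hWc, pow_succ']
      have hle2 : Y ⊔ zpowers x ≤ centralizer ({y} : Set G) := by
        refine sup_le (fun u hu => ?_) (zpowers_le.mpr ?_) <;>
          refine Subgroup.mem_centralizer_iff.mpr fun v hv => ?_ <;> rw [Set.mem_singleton_iff.mp hv]
        · exact hYcomm y hyY u hu
        · exact hxyc.symm
      exact (Subgroup.mem_centralizer_iff.mp (hle2 (hWle hv)) y rfl).symm
    obtain ⟨c₀, hc₀Z, hc₀e⟩ : ∃ c₀ ∈ Z, x⁻¹ * y * x = y * c₀ := by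
      refine ⟨y⁻¹ * (x⁻¹ * y * x), ?_, by group⟩
      rw [hZmap]
      refine ⟨⁅(⟨y, hYW hyY⟩ : W)⁻¹, (⟨x, hxW⟩ : W)⁻¹⁆,
        commutatorElement_mem_center (isSpecial_commutator_le hExt.1) _ _, ?_⟩
      simp [commutatorElement_def, mul_assoc]
    have hZW' : ∀ u ∈ Z, ∀ w ∈ W, u * w = w * u := fun u hu w hw =>
      (Subgroup.mem_centralizer_iff.mp hu.2 w hw).symm
    have hZa : ∀ u ∈ Z, u * a = a * u := fun u hu => hYa u (hZY hu)
    have hconj : ∀ i : ℕ, (x ^ i)⁻¹ * y * x ^ i = y * c₀ ^ i ∧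
        (x ^ i)⁻¹ * a * x ^ i = y ^ i * c₀ ^ i.choose 2 * a := by
      intro i
      induction i with
      | zero => simp
      | succ i ih =>
        have hcx : ∀ m : ℕ, x⁻¹ * c₀ ^ m * x = c₀ ^ m := fun m => by
          rw [mul_assoc, hZW' _ (pow_mem hc₀Z m) x hxW, inv_mul_cancel_left]
        refine ⟨?_, ?_⟩
        · calc (x ^ (i + 1))⁻¹ * y * x ^ (i + 1) = x⁻¹ * ((x ^ i)⁻¹ * y * x ^ i) * x := by group
            _ = x⁻¹ * y * x * (x⁻¹ * c₀ ^ i * x) := by rw [ih.1]; group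
            _ = y * c₀ ^ (i + 1) := by rw [hc₀e, hcx, mul_assoc, ← pow_succ']
        · have hyc : ∀ m : ℕ, y ^ i * c₀ ^ m = c₀ ^ m * y ^ i := fun m =>
            (hZW' _ (pow_mem hc₀Z m) _ (pow_mem (hYW hyY) i)).symm
          calc (x ^ (i + 1))⁻¹ * a * x ^ (i + 1) = x⁻¹ * ((x ^ i)⁻¹ * a * x ^ i) * x := by group
            _ = (x⁻¹ * y * x) ^ i * (x⁻¹ * c₀ ^ i.choose 2 * x) * (x⁻¹ * a * x) := by
              rw [ih.2, show x⁻¹ * y * x = x⁻¹ * y * x⁻¹⁻¹ by group, conj_pow]; group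
            _ = y ^ i * c₀ ^ i * c₀ ^ i.choose 2 * (y * a) := by
              rw [hc₀e, (show Commute y c₀ from (hZW' c₀ hc₀Z y (hYW hyY)).symm).mul_pow, hcx,
                show x⁻¹ * a * x = y * a by rw [hy]; group]
            _ = y ^ (i + 1) * c₀ ^ (i + 1).choose 2 * a := by
              rw [mul_assoc _ (c₀ ^ i) (c₀ ^ i.choose 2), ← pow_add, Nat.choose_succ_succ' i 1, Nat.choose_one_right,
                mul_assoc (y ^ i), ← mul_assoc _ y, hZW' _ (pow_mem hc₀Z _) y (hYW hyY), pow_succ]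
              group
    -- normalise the parameter
    obtain ⟨i₀, hi₀⟩ : ∃ i₀ : ℤ, (d ^ r) ^ (p ^ k) = (d ^ p ^ k) ^ i₀ :=
      ⟨r, by rw [← zpow_natCast, ← zpow_natCast d, zpow_comm]⟩
    have hzlast : zpowers (a ^ p ^ (k + 1)) = Z := by
      refine zpowers_eq_of_card_eq hZc ?_ ?_
      · rw [hZgen, pow_succ', pow_mul, ← hr, hi₀]; exact zpow_mem (mem_zpowers _) _
      · rw [pow_succ', pow_mul, ← hr, Ne, ← zpow_natCast, ← zpow_mul, zpow_eq_one_iff_dvd hk]
        intro h
        push_cast at h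
        rw [pow_succ'] at h
        exact hrp ((mul_dvd_mul_iff_right (pow_ne_zero k (Int.natCast_ne_zero.mpr hpp.pos.ne'))).mp h)
    obtain ⟨s₀, hs₀⟩ : ∃ s₀ : ℕ, c₀ = (a ^ p ^ (k + 1)) ^ s₀ := by
      have h1 : c₀ ∈ zpowers (a ^ p ^ (k + 1)) := hzlast ▸ hc₀Z
      obtain ⟨s₀, hs₀⟩ := ((isOfFinOrder_of_finite (a ^ p ^ (k + 1))).mem_powers_iff_mem_zpowers).mpr h1
      exact ⟨s₀, hs₀.symm⟩
    have hs₀0 : (s₀ : ZMod p) ≠ 0 := by
      rw [Ne, ZMod.natCast_eq_zero_iff]
      rintro ⟨t, rfl⟩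
      apply hxy
      have hap1 : (a ^ p ^ (k + 1)) ^ p = 1 := (hW _).mp (hzlast ▸ mem_zpowers (a ^ p ^ (k + 1))).1
      rw [pow_mul, hap1, one_pow] at hs₀
      rw [hs₀, mul_one] at hc₀e
      rw [commutatorElement_eq_one_iff_mul_comm]
      calc x * y = x * (x⁻¹ * y * x) := by rw [hc₀e]
        _ = y * x := by group
    obtain ⟨s, i, hs, hsi, hi0⟩ : ∃ s i : ℕ, (s = 1 ∨ ¬ IsSquare (s : ZMod p)) ∧
        ((i * i * s₀ : ℕ) : ZMod p) = (s : ZMod p) ∧ (i : ZMod p) ≠ 0 := by
      by_cases hsq : IsSquare (s₀ : ZMod p)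
      · obtain ⟨t, ht⟩ := hsq
        have ht0 : t ≠ 0 := fun h => hs₀0 (by rw [ht, h, mul_zero])
        refine ⟨1, (t⁻¹).val, Or.inl rfl, ?_, ?_⟩
        · push_cast
          rw [ZMod.natCast_val, ZMod.cast_id', id, ht]
          field_simp
        · rw [ZMod.natCast_val, ZMod.cast_id', id]; exact inv_ne_zero ht0
      · exact ⟨s₀, 1, Or.inr hsq, by simp, by simp⟩
    set y' := y ^ i * c₀ ^ i.choose 2 with hy'
    have hy'Y : y' ∈ Y := mul_mem (pow_mem hyY i) (pow_mem (hZY hc₀Z) _)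
    obtain ⟨j, hj⟩ : ∃ j : ℕ, x = (x ^ i) ^ j := by
      refine ⟨((i : ZMod p)⁻¹).val, ?_⟩
      rw [← pow_mul]
      conv_lhs => rw [← pow_one x]
      rw [pow_eq_pow_iff_modEq, orderOf_eq_prime ((hW _).mp hxW) (fun h => hxY (h ▸ one_mem _)),
        ← ZMod.natCast_eq_natCast_iff]
      push_cast
      rw [ZMod.natCast_val, ZMod.cast_id', id, mul_inv_cancel₀ hi0]
    refine ⟨n, s, x ^ i, y', a, by omega, hn, hs, ?_, ?_, (hW _).mp (hYW hy'Y), ?_, hYa _ hy'Y, ?_, ?_⟩
    · rw [eq_top_iff, ← hgenK, hKeq]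
      set H := Subgroup.closure ({x ^ i, y', a} : Set G)
      have hx1 : x ∈ H := hj ▸ pow_mem (Subgroup.subset_closure (by simp)) j
      have ha1 : a ∈ H := Subgroup.subset_closure (by simp)
      refine sup_le (sup_le ?_ (hCa.trans (zpowers_le.mpr ha1))) (zpowers_le.mpr ha1)
      refine (le_closure_pair_of_card_cube hG hWc hxW (hYW hyY) hxy).trans ((Subgroup.closure_le _).mpr ?_)
      rintro v (rfl | rfl)
      · exact hx1
      · exact mul_mem (mul_mem (mul_mem (inv_mem hx1) ha1) hx1) (inv_mem ha1)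
    · rw [← pow_mul, mul_comm, pow_mul, (hW _).mp hxW, one_pow]
    · rw [show n - 2 = k + 2 by omega, pow_succ', pow_mul, ← hr, ← zpow_natCast, zpow_comm, zpow_natCast, ← hk,
        pow_orderOf_eq_one, one_zpow]
    · have hcx : (x ^ i)⁻¹ * c₀ ^ i.choose 2 * x ^ i = c₀ ^ i.choose 2 := by
        rw [mul_assoc, hZW' _ (pow_mem hc₀Z _) _ (pow_mem hxW i), inv_mul_cancel_left]
      rw [hy', show (x ^ i)⁻¹ * (y ^ i * c₀ ^ i.choose 2) * x ^ i =
          ((x ^ i)⁻¹ * y * (x ^ i)⁻¹⁻¹) ^ i * ((x ^ i)⁻¹ * c₀ ^ i.choose 2 * x ^ i) by rw [conj_pow]; group,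
        inv_inv, (hconj i).1, hcx, (show Commute y (c₀ ^ i) from
          (hZW' _ (pow_mem hc₀Z _) y (hYW hyY)).symm).mul_pow, ← pow_mul c₀, mul_assoc, mul_assoc, ← pow_add,
        show n - 3 = k + 1 by omega, mul_comm s (p ^ (k + 1)), pow_mul a]
      congr 1
      rw [add_comm, pow_add]
      congr 1
      rw [hs₀, ← pow_mul, mul_comm s₀, pow_eq_pow_iff_modEq]
      have hord : orderOf (a ^ p ^ (k + 1)) = p := by rw [← Nat.card_zpowers, hzlast, hZc]
      rw [hord, ← ZMod.natCast_eq_natCast_iff, hsi]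
    · exact (hconj i).2

end Cfsg.Agent.PGroups
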