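import Mathlib.GroupTheory.Nilpotent
import Mathlib.Data.Nat.Choose.Basic
import Mathlib.Algebra.BigOperators.Group.List.Basic

/-!
The Hall–Petrescu identity, proved with polynomial sequences in a filtered group: a sequence
`f : ℕ → G` has level `i` when its `j`-th difference takes values in the `(i + j)`-th term of the
filtration; such sequences form groups, compatible with commutators.
-/

set_option autoImplicit false

namespace Cfsg.Agent.PGroups

open Subgroup
open scoped commutatorElement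

variable {G : Type*} [Group G]

/-- Three subgroups lemma modulo a normal subgroup. -/
theorem commutator_commutator_le_of_rotate {A B C : Subgroup G} (N : Subgroup G) [N.Normal]
    (h1 : ⁅⁅B, C⁆, A⁆ ≤ N) (h2 : ⁅⁅C, A⁆, B⁆ ≤ N) : ⁅⁅A, B⁆, C⁆ ≤ N := by
  have hker : ∀ K : Subgroup G, K.map (QuotientGroup.mk' N) = ⊥ ↔ K ≤ N := fun K => by
    rw [Subgroup.map_eq_bot_iff, QuotientGroup.ker_mk']
  rw [← hker, Subgroup.map_commutator, Subgroup.map_commutator]
  refine commutator_commutator_eq_bot_of_rotate ?_ ?_ <;>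
    rw [← Subgroup.map_commutator, ← Subgroup.map_commutator, hker] <;> assumption

/-- `⁅γ i, γ j⁆ ≤ γ (i + j + 1)` (indices from `0`). -/
theorem commutator_lowerCentralSeries_le : ∀ j i : ℕ,
    ⁅(⊤ : Subgroup G).lowerCentralSeries i, (⊤ : Subgroup G).lowerCentralSeries j⁆ ≤
      (⊤ : Subgroup G).lowerCentralSeries (i + j + 1)
  | 0, i => le_rfl
  | j + 1, i => by
    refine (commutator_comm_le _ _).trans ?_
    rw [Subgroup.lowerCentralSeries_succ _ j]
    refine commutator_commutator_le_of_rotate _ ?_ ?_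
    · refine (commutator_mono (commutator_comm_le _ _) le_rfl).trans ?_
      have h := commutator_lowerCentralSeries_le j (i + 1)
      rwa [show i + 1 + j + 1 = i + (j + 1) + 1 by omega, Subgroup.lowerCentralSeries_succ] at h
    · refine (commutator_mono (commutator_lowerCentralSeries_le j i) le_rfl).trans ?_
      rw [← Subgroup.lowerCentralSeries_succ, show i + j + 1 + 1 = i + (j + 1) + 1 by omega]

/-- The filtration `⊤, ⊤, γ₂, γ₃, …`. -/
def lcsFil (G : Type*) [Group G] (i : ℕ) : Subgroup G :=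
  (⊤ : Subgroup G).lowerCentralSeries (i - 1)

theorem lcsFil_antitone {i j : ℕ} (h : i ≤ j) : lcsFil G j ≤ lcsFil G i :=
  Subgroup.lowerCentralSeries_antitone _ (by omega)

theorem lcsFil_zero : lcsFil G 0 = ⊤ := rfl

theorem lcsFil_one : lcsFil G 1 = ⊤ := rfl

theorem lcsFil_two : lcsFil G 2 = commutator G := rfl

theorem commutatorElement_mem_lcsFil {i j : ℕ} {x y : G} (hx : x ∈ lcsFil G i) (hy : y ∈ lcsFil G j) :
    ⁅x, y⁆ ∈ lcsFil G (i + j) :=
  Subgroup.lowerCentralSeries_antitone _ (by omega)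
    (commutator_lowerCentralSeries_le (j - 1) (i - 1) (commutator_mem_commutator hx hy))

/-- The difference of a sequence. -/
def seqDiff (f : ℕ → G) : ℕ → G := fun n => (f n)⁻¹ * f (n + 1)

/-- Sequences whose `j`-th differences, for `j ≤ m`, take values in the `(i + j)`-th term. -/
def PolyLevel : ℕ → ℕ → (ℕ → G) → Prop
  | 0, i, f => ∀ n, f n ∈ lcsFil G i
  | m + 1, i, f => (∀ n, f n ∈ lcsFil G i) ∧ PolyLevel m (i + 1) (seqDiff f)

theorem PolyLevel.values {m i : ℕ} {f : ℕ → G} (h : PolyLevel m i f) (n : ℕ) : f n ∈ lcsFil G i := by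
  cases m with
  | zero => exact h n
  | succ m => exact h.1 n

theorem PolyLevel.of_succ : ∀ {m i : ℕ} {f : ℕ → G}, PolyLevel (m + 1) i f → PolyLevel m i f
  | 0, _, _, h => h.1
  | _ + 1, _, _, h => ⟨h.1, PolyLevel.of_succ h.2⟩

theorem PolyLevel.mono : ∀ {m i j : ℕ} {f : ℕ → G}, j ≤ i → PolyLevel m i f → PolyLevel m j f
  | 0, _, _, _, hji, h => fun n => lcsFil_antitone hji (h n)
  | _ + 1, _, _, _, hji, h =>
    ⟨fun n => lcsFil_antitone hji (h.1 n), PolyLevel.mono (Nat.succ_le_succ hji) h.2⟩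

theorem polyLevel_one : ∀ (m i : ℕ), PolyLevel (G := G) m i (fun _ => 1)
  | 0, _ => fun _ => one_mem _
  | m + 1, i => ⟨fun _ => one_mem _, by
      rw [show seqDiff (fun _ : ℕ => (1 : G)) = fun _ => 1 by funext n; simp [seqDiff]]
      exact polyLevel_one m (i + 1)⟩

theorem polyLevel_closed (m : ℕ) :
    (∀ {i : ℕ} {f g : ℕ → G}, PolyLevel m i f → PolyLevel m i g → PolyLevel m i (fun n => f n * g n)) ∧
    (∀ {i : ℕ} {f : ℕ → G}, PolyLevel m i f → PolyLevel m i (fun n => (f n)⁻¹)) ∧
    (∀ {i j : ℕ} {f g : ℕ → G}, PolyLevel m i f → PolyLevel m j g →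
      PolyLevel m (i + j) (fun n => ⁅f n, g n⁆)) := by
  induction m with
  | zero =>
    exact ⟨fun hf hg n => mul_mem (hf n) (hg n), fun hf n => inv_mem (hf n),
      fun hf hg n => commutatorElement_mem_lcsFil (hf n) (hg n)⟩
  | succ m ih =>
    obtain ⟨hmul, hinv, hbr⟩ := ih
    -- conjugation preserves the level
    have hconj : ∀ {i j : ℕ} {x h : ℕ → G}, PolyLevel m i x → PolyLevel m j h →
        PolyLevel m i (fun n => h n * x n * (h n)⁻¹) := by
      intro i j x h hx hh
      have e : (fun n => h n * x n * (h n)⁻¹) = fun n => ⁅h n, x n⁆ * x n := by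
        funext n; simp only [commutatorElement_def]; group
      rw [e]
      exact hmul ((hbr hh hx).mono (Nat.le_add_left i j)) hx
    refine ⟨fun {i f g} hf hg => ⟨fun n => mul_mem (hf.1 n) (hg.1 n), ?_⟩,
      fun {i f} hf => ⟨fun n => inv_mem (hf.1 n), ?_⟩,
      fun {i j f g} hf hg => ⟨fun n => commutatorElement_mem_lcsFil (hf.1 n) (hg.1 n), ?_⟩⟩
    · have e : seqDiff (fun n => f n * g n) =
          fun n => ((g n)⁻¹ * seqDiff f n * ((g n)⁻¹)⁻¹) * seqDiff g n := by
        funext n; simp only [seqDiff]; group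
      rw [e]
      exact hmul (hconj hf.2 (hinv hg.of_succ)) hg.2
    · have e : seqDiff (fun n => (f n)⁻¹) = fun n => f n * (seqDiff f n)⁻¹ * (f n)⁻¹ := by
        funext n; simp only [seqDiff]; group
      rw [e]
      exact hconj (hinv hf.2) hf.of_succ
    · have e : seqDiff (fun n => ⁅f n, g n⁆) = fun n =>
          ⁅f n, g n⁆⁻¹ * (f n * ⁅seqDiff f n, g n * seqDiff g n⁆ * (f n)⁻¹) * ⁅f n, g n⁆⁻¹⁻¹ *
            (g n * ⁅f n, seqDiff g n⁆ * (g n)⁻¹) := by
        funext n; simp only [seqDiff, commutatorElement_def]; group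
      rw [e]
      have hu := hf.2
      have hv := hg.2
      have hgv : PolyLevel m j (fun n => g n * seqDiff g n) :=
        hmul hg.of_succ (hv.mono (Nat.le_succ j))
      refine hmul ?_ ?_
      · refine (hconj (hconj (hbr hu hgv) hf.of_succ) (hinv (hbr hf.of_succ hg.of_succ))).mono (by omega)
      · exact (hconj (hbr hf.of_succ hv) hg.of_succ).mono (by omega)

theorem PolyLevel.mul {m i : ℕ} {f g : ℕ → G} (hf : PolyLevel m i f) (hg : PolyLevel m i g) :
    PolyLevel m i (fun n => f n * g n) :=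
  (polyLevel_closed m).1 hf hg

theorem PolyLevel.inv {m i : ℕ} {f : ℕ → G} (hf : PolyLevel m i f) :
    PolyLevel m i (fun n => (f n)⁻¹) :=
  (polyLevel_closed m).2.1 hf

/-- Binomial sequences. -/
theorem polyLevel_choose : ∀ (m i j : ℕ) {c : G}, c ∈ lcsFil G (i + j) →
    PolyLevel m i (fun n => c ^ n.choose j)
  | 0, i, j, _, hc => fun n => pow_mem (lcsFil_antitone (Nat.le_add_right i j) hc) _
  | m + 1, i, 0, c, hc => by
    refine ⟨fun n => pow_mem (lcsFil_antitone (Nat.le_add_right i 0) hc) _, ?_⟩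
    rw [show seqDiff (fun n => c ^ n.choose 0) = fun _ => 1 by funext n; simp [seqDiff]]
    exact polyLevel_one _ _
  | m + 1, i, j + 1, c, hc => by
    refine ⟨fun n => pow_mem (lcsFil_antitone (Nat.le_add_right i (j + 1)) hc) _, ?_⟩
    rw [show seqDiff (fun n => c ^ n.choose (j + 1)) = fun n => c ^ n.choose j by
      funext n
      rw [seqDiff, Nat.choose_succ_succ', add_comm (n.choose j), pow_add, inv_mul_cancel_left]]
    exact polyLevel_choose m (i + 1) j (by rwa [show i + 1 + j = i + (j + 1) by omega])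

theorem polyLevel_pow (m : ℕ) (a : G) : PolyLevel m 0 (fun n => a ^ n) := by
  have h := polyLevel_choose m 0 1 (c := a) (by simp [lcsFil])
  simpa using h

/-- A sequence vanishing below `j` takes a value in the `j`-th term at `j`. -/
theorem PolyLevel.mem_of_vanish : ∀ {j i : ℕ} {f : ℕ → G}, PolyLevel j i f → (∀ k < j, f k = 1) →
    f j ∈ lcsFil G (i + j)
  | 0, _, _, h, _ => h 0
  | j + 1, i, f, h, hv => by
    have hz : ∀ k < j, seqDiff f k = 1 := fun k hk => by
      rw [seqDiff, hv k (by omega), hv (k + 1) (by omega), inv_one, one_mul]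
    have := PolyLevel.mem_of_vanish h.2 hz
    rw [seqDiff, hv j (by omega), inv_one, one_mul, show i + 1 + j = i + (j + 1) by omega] at this
    exact this

/-- Hall–Petrescu: the value at `n` of a polynomial sequence vanishing at `0` and `1` lies in any
subgroup containing the `C(n, j)`-th powers of the elements of the `j`-th term, for `2 ≤ j ≤ n`. -/
theorem PolyLevel.mem_of_choose_pow {f : ℕ → G} (hf : ∀ m, PolyLevel m 0 f) (h0 : f 0 = 1)
    (h1 : f 1 = 1) (n : ℕ) (K : Subgroup G)
    (hK : ∀ j, 2 ≤ j → j ≤ n → ∀ c ∈ lcsFil G j, c ^ n.choose j ∈ K) : f n ∈ K := by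
  have key : ∀ j, j ≤ n + 1 → 2 ≤ j → ∃ g : ℕ → G, (∀ m, PolyLevel m 0 g) ∧ (∀ k < j, g k = 1) ∧
      ∃ u ∈ K, f n = u * g n := by
    intro j
    induction j with
    | zero => intro _ h; omega
    | succ j ih =>
      intro hjn h2
      rcases (show j = 1 ∨ 2 ≤ j by omega) with rfl | hj
      · refine ⟨f, hf, fun k hk => ?_, 1, one_mem _, (one_mul _).symm⟩
        rcases (show k = 0 ∨ k = 1 by omega) with rfl | rfl
        exacts [h0, h1]
      obtain ⟨g, hg, hgv, u, hu, hue⟩ := ih (by omega) hj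
      have hc : g j ∈ lcsFil G (0 + j) := (hg j).mem_of_vanish hgv
      refine ⟨fun k => (g j ^ k.choose j)⁻¹ * g k, fun m => (polyLevel_choose m 0 j hc).inv.mul (hg m),
        fun k hk => ?_, u * g j ^ n.choose j, mul_mem hu (hK j hj (by omega) _ (by simpa using hc)), ?_⟩
      · show (g j ^ k.choose j)⁻¹ * g k = 1
        rcases (show k < j ∨ k = j by omega) with h | rfl
        · rw [Nat.choose_eq_zero_of_lt h, hgv k h]; simp
        · simp
      · show f n = u * g j ^ n.choose j * ((g j ^ n.choose j)⁻¹ * g n)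
        rw [hue]; group
  rcases (show n = 0 ∨ n = 1 ∨ 2 ≤ n + 1 ∧ 2 ≤ n by omega) with rfl | rfl | ⟨h2, -⟩
  · rw [h0]; exact one_mem _
  · rw [h1]; exact one_mem _
  obtain ⟨g, -, hgv, u, hu, hue⟩ := key (n + 1) le_rfl h2
  rw [hue, hgv n (by omega), mul_one]
  exact hu

/-- Hall–Petrescu: `(a b) ^ n ≡ a ^ n b ^ n` modulo a normal subgroup containing the `C(n, j)`-th powers
of the elements of the `j`-th term of the lower central series, for `2 ≤ j ≤ n`. -/
theorem hall_petrescu (a b : G) (n : ℕ) (K : Subgroup G) [K.Normal]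
    (hK : ∀ j, 2 ≤ j → j ≤ n → ∀ c ∈ lcsFil G j, c ^ n.choose j ∈ K) :
    ∃ u ∈ K, (a * b) ^ n = a ^ n * b ^ n * u := by
  let f : ℕ → G := fun k => (a ^ k)⁻¹ * (a * b) ^ k * (b ^ k)⁻¹
  have hf : ∀ m, PolyLevel m 0 f := fun m =>
    ((polyLevel_pow m a).inv.mul (polyLevel_pow m (a * b))).mul (polyLevel_pow m b).inv
  have h : f n ∈ K := PolyLevel.mem_of_choose_pow hf (by simp [f]) (by simp [f]) n K hK
  refine ⟨(b ^ n)⁻¹ * f n * b ^ n, by simpa using Subgroup.Normal.conj_mem ‹_› _ h (b ^ n)⁻¹, ?_⟩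
  simp only [f]; group

end Cfsg.Agent.PGroups
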