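import Cfsg.Agent.PGroups.GroupRingCert

set_option autoImplicit false
set_option maxRecDepth 40000

namespace Cfsg.Agent.PGroups.GRC

/-- relation -/
def n5A4 : List (ℕ × alternatingGroup (Fin 5)) :=
  [(1, el 5 []), (1, el 5 [123]), (1, el 5 [132]), (1, el 5 [32,12]), (1, el 5 [12]), (1, el 5 [13]), (1, el 5 [21]), (1, el 5 [23]), (1, el 5 [123,12]), (1, el 5 [31]), (1, el 5 [32]), (1, el 5 [13,12])]

/-- relation -/
def n5V4 : List (ℕ × alternatingGroup (Fin 5)) :=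
  [(1, el 5 []), (1, el 5 [32,12]), (1, el 5 [123,12]), (1, el 5 [13,12])]

/-- relation -/
def n5St : List (ℕ × alternatingGroup (Fin 5)) :=
  [(2, el 5 [234]), (2, el 5 [243]), (3, el 5 [143,123]), (2, el 5 [123]), (2, el 5 [124]), (2, el 5 [132]), (2, el 5 [134]), (3, el 5 [234,123]), (2, el 5 [142]), (2, el 5 [143]), (3, el 5 [124,123]), (3, el 5 [43,13]), (3, el 5 [32,12]), (3, el 5 [42,12]), (2, el 5 [12]), (2, el 5 [13]), (2, el 5 [14]), (2, el 5 [21]), (3, el 5 [43,23]), (2, el 5 [23]), (2, el 5 [24]), (3, el 5 [123,12]), (3, el 5 [124,12]), (2, el 5 [31]), (2, el 5 [32]), (2, el 5 [34]), (3, el 5 [234,23]), (3, el 5 [13,12]), (3, el 5 [134,13]), (2, el 5 [41]), (2, el 5 [42]), (2, el 5 [43]), (3, el 5 [24,23]), (3, el 5 [14,12]), (3, el 5 [14,13])]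

/-- relation -/
def n5Sgn : List (ℕ × alternatingGroup (Fin 5)) :=
  [(1, el 5 []), (1, el 5 [234]), (1, el 5 [243]), (4, el 5 [43,13]), (4, el 5 [32,12]), (4, el 5 [42,12])]

/-- relation -/
def n5N : List (ℕ × alternatingGroup (Fin 5)) :=
  [(3, el 5 []), (1, el 5 [34,12]), (1, el 5 [234,12]), (1, el 5 [234,13]), (1, el 5 [143,21]), (1, el 5 [43,21]), (1, el 5 [123,14]), (1, el 5 [124,31]), (1, el 5 [134,12]), (1, el 5 [123,24]), (1, el 5 [243,21]), (1, el 5 [134,32]), (1, el 5 [142,13])]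

/-- relation -/
def n5NS : List (ℕ × alternatingGroup (Fin 5)) :=
  [(3, el 5 []), (3, el 5 [234]), (3, el 5 [243]), (4, el 5 [143,123]), (4, el 5 [123]), (4, el 5 [124]), (4, el 5 [132]), (4, el 5 [134]), (4, el 5 [234,123]), (4, el 5 [142]), (4, el 5 [143]), (4, el 5 [124,123]), (2, el 5 [43,13]), (2, el 5 [32,12]), (2, el 5 [42,12]), (1, el 5 [12]), (1, el 5 [34,12]), (1, el 5 [43,12]), (1, el 5 [234,12]), (1, el 5 [13]), (1, el 5 [24,13]), (1, el 5 [243,12]), (1, el 5 [14]), (1, el 5 [234,13]), (1, el 5 [21]), (1, el 5 [134,21]), (1, el 5 [143,21]), (4, el 5 [43,23]), (4, el 5 [23]), (4, el 5 [24]), (3, el 5 [123,12]), (3, el 5 [34,21]), (3, el 5 [124,13]), (2, el 5 [124,12]), (2, el 5 [43,21]), (2, el 5 [123,14]), (1, el 5 [234,21]), (1, el 5 [31]), (1, el 5 [124,31]), (4, el 5 [32]), (4, el 5 [34]), (4, el 5 [234,23]), (2, el 5 [134,12]), (2, el 5 [13,12]), (2, el 5 [123,24]), (3, el 5 [42,31]), (3, el 5 [132,14]), (3, el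 5 [134,13]), (1, el 5 [243,21]), (1, el 5 [41]), (1, el 5 [234,31]), (4, el 5 [42]), (4, el 5 [43]), (4, el 5 [24,23]), (3, el 5 [143,12]), (3, el 5 [14,12]), (3, el 5 [124,23]), (2, el 5 [134,32]), (2, el 5 [142,13]), (2, el 5 [14,13])]

/-- relation -/
def n5NNS : List (ℕ × alternatingGroup (Fin 5)) :=
  [(2, el 5 []), (2, el 5 [234]), (2, el 5 [243]), (1, el 5 [143,123]), (1, el 5 [123]), (1, el 5 [124]), (1, el 5 [132]), (1, el 5 [134]), (1, el 5 [234,123]), (1, el 5 [142]), (1, el 5 [143]), (1, el 5 [124,123]), (3, el 5 [43,13]), (3, el 5 [32,12]), (3, el 5 [42,12]), (4, el 5 [12]), (4, el 5 [34,12]), (4, el 5 [43,12]), (4, el 5 [234,12]), (4, el 5 [13]), (4, el 5 [24,13]), (4, el 5 [243,12]), (4, el 5 [14]), (4, el 5 [234,13]), (4, el 5 [21]), (4, el 5 [134,21]), (4, el 5 [143,21]), (1, el 5 [43,23]), (1, el 5 [23]), (1, el 5 [24]), (4, el 5 [234,21]), (4, el 5 [31]), (4, el 5 [124,31]), (1, el 5 [32]), (1, el 5 [34]), (1,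 el 5 [234,23]), (4, el 5 [243,21]), (4, el 5 [41]), (4, el 5 [234,31]), (1, el 5 [42]), (1, el 5 [43]), (1, el 5 [24,23])]

/-- relation -/
def n5Tri : List (ℕ × alternatingGroup (Fin 5)) :=
  [(1, el 5 []), (1, el 5 [12]), (1, el 5 [21])]

/-- relation -/
def n5Inv : List (ℕ × alternatingGroup (Fin 5)) :=
  [(1, el 5 [143,123]), (1, el 5 [234,123]), (1, el 5 [124,123]), (1, el 5 [43,13]), (1, el 5 [32,12]), (1, el 5 [42,12]), (1, el 5 [43,23]), (1, el 5 [123,12]), (1, el 5 [124,12]), (1, el 5 [234,23]), (1, el 5 [13,12]), (1, el 5 [134,13]), (1, el 5 [24,23]), (1, el 5 [14,12]), (1, el 5 [14,13])]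

/-- relation -/
def n5Thr : List (ℕ × alternatingGroup (Fin 5)) :=
  [(1, el 5 [234]), (1, el 5 [243]), (1, el 5 [123]), (1, el 5 [124]), (1, el 5 [132]), (1, el 5 [134]), (1, el 5 [142]), (1, el 5 [143]), (1, el 5 [12]), (1, el 5 [13]), (1, el 5 [14]), (1, el 5 [21]), (1, el 5 [23]), (1, el 5 [24]), (1, el 5 [31]), (1, el 5 [32]), (1, el 5 [34]), (1, el 5 [41]), (1, el 5 [42]), (1, el 5 [43])]

theorem nS_spec : isZero (pcode 5) 5 12 (mulL n5N n5Sgn ++ mulL [(4, 1)] (n5NS)) = true := by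
  decide +kernel

theorem nnS_spec : isZero (pcode 5) 5 12 (mulL n5N n5NS ++ mulL [(4, 1)] (n5NNS)) = true := by
  decide +kernel

theorem nnnS_spec : isZero (pcode 5) 5 12 (mulL n5N n5NNS) = true := by
  decide +kernel

theorem sgn_sgn : isZero (pcode 5) 5 12 (mulL n5Sgn n5Sgn ++ mulL [(4, 1)] (n5Sgn)) = true := by
  decide +kernel

theorem rot_sgn : isZero (pcode 5) 5 12 (mulL [(1, el 5 [234])] n5Sgn ++ mulL [(4, 1)] (n5Sgn)) = true := by
  decide +kernel

theorem swap_sgn : isZero (pcode 5) 5 12 (mulL [(1, el 5 [32,12])] n5Sgn ++ n5Sgn) = true := by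
  decide +kernel

theorem sgn_nS : isZero (pcode 5) 5 12 (mulL n5Sgn n5NS ++ mulL [(4, 1)] (n5NS)) = true := by
  decide +kernel

theorem rot_nS : isZero (pcode 5) 5 12 (mulL [(1, el 5 [234])] n5NS ++ mulL [(4, 1)] (n5NS)) = true := by
  decide +kernel

theorem swap_nS : isZero (pcode 5) 5 12 (mulL [(1, el 5 [32,12])] n5NS ++ n5NS) = true := by
  decide +kernel

theorem sgn_nnS : isZero (pcode 5) 5 12 (mulL n5Sgn n5NNS ++ mulL [(4, 1)] (n5NNS)) = true := by
  decide +kernel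

theorem rot_nnS : isZero (pcode 5) 5 12 (mulL [(1, el 5 [234])] n5NNS ++ mulL [(4, 1)] (n5NNS)) = true := by
  decide +kernel

theorem swap_nnS : isZero (pcode 5) 5 12 (mulL [(1, el 5 [32,12])] n5NNS ++ n5NNS) = true := by
  decide +kernel

theorem st_inv : isZero (pcode 5) 5 12 (mulL n5St n5Inv ++ mulL [(2, 1)] n5St) = true := by
  decide +kernel

theorem st_thr : isZero (pcode 5) 5 12 (mulL n5St n5Thr ++ mulL [(4, 1)] (n5St)) = true := by
  decide +kernel

/-- certificate -/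
def certV : List (ℕ × alternatingGroup (Fin 5) × ℕ × alternatingGroup (Fin 5)) :=
  [(2, el 5 [], 0, el 5 [])]

theorem certV_spec : isZero (pcode 5) 5 12 (n5V4 ++ mulL [(4, 1)] (mulL n5St n5V4) ++ mulL [(4, 1)] (combo [n5A4] certV)) = true := by
  decide +kernel

/-- certificate -/
def certTri : List (ℕ × alternatingGroup (Fin 5) × ℕ × alternatingGroup (Fin 5)) :=
  [(2, el 5 [], 0, el 5 [234]),
   (2, el 5 [], 0, el 5 [243]),
   (2, el 5 [], 0, el 5 []),
   (4, el 5 [234], 0, el 5 []),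
   (4, el 5 [234], 0, el 5 [243]),
   (4, el 5 [234], 0, el 5 [234]),
   (3, el 5 [234], 0, el 5 [142]),
   (3, el 5 [243], 0, el 5 []),
   (3, el 5 [243], 0, el 5 [243]),
   (3, el 5 [243], 0, el 5 [234]),
   (2, el 5 [124], 0, el 5 [142]),
   (1, el 5 [124], 0, el 5 [243]),
   (1, el 5 [124], 0, el 5 [234]),
   (1, el 5 [243], 0, el 5 [142]),
   (4, el 5 [], 0, el 5 [142]),
   (1, el 5 [124], 0, el 5 [])]

/-- certificate -/
def certTriN : List (ℕ × alternatingGroup (Fin 5)) :=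
  [(3, el 5 []), (3, el 5 [143,123]), (1, el 5 [132])]

theorem certTri_spec : isZero (pcode 5) 5 12 (mulL n5Tri n5Sgn ++ mulL [(4, 1)] (combo [n5A4] certTri ++ mulL certTriN n5NS)) = true := by
  decide +kernel

/-- magic square certificate -/
def certMagic : List (ℕ × alternatingGroup (Fin 5)) :=
  [(3, el 5 []), (4, el 5 [43,13]), (3, el 5 [134]), (2, el 5 [132]), (3, el 5 [143,123]), (2, el 5 [124]), (3, el 5 [243])]

theorem certMagic_spec : keysZero 5 5 ((certMagic.flatMap fun t => (List.finRange 5).map fun i : Fin 5 =>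
    (t.1, 5 * i.val + ((t.2 : Equiv.Perm (Fin 5)) i).val)) ++ [(4, 0), (1, 1), (1, 5), (4, 6)]) = true := by
  decide +kernel

/-- all elements -/
def all5 : List (alternatingGroup (Fin 5)) :=
  [el 5 [], el 5 [234], el 5 [243], el 5 [143,123], el 5 [123], el 5 [124], el 5 [132], el 5 [134], el 5 [234,123], el 5 [142], el 5 [143], el 5 [124,123], el 5 [43,13], el 5 [32,12], el 5 [42,12], el 5 [12], el 5 [34,12], el 5 [43,12], el 5 [234,12], el 5 [13], el 5 [24,13], el 5 [243,12], el 5 [14], el 5 [234,13], el 5 [21], el 5 [134,21], el 5 [143,21], el 5 [43,23], el 5 [23], el 5 [24], el 5 [123,12], el 5 [34,21], el 5 [124,13], el 5 [124,12], el 5 [43,21], el 5 [123,14], el 5 [234,21], el 5 [31], el 5 [124,31], el 5 [32], el 5 [34], el 5 [234,23], el 5 [134,12], el 5 [13,12], el 5 [123,24], el 5 [42,31], el 5 [132,14], el 5 [134,13], el 5 [243,21], el 5 [41], el 5 [234,31], el 5 [42], el 5 [43], el 5 [24,23], el 5 [143,12], el 5 [14,12],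 el 5 [124,23], el 5 [134,32], el 5 [142,13], el 5 [14,13]]

end Cfsg.Agent.PGroups.GRC
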