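import Cfsg.Agent.PGroups.GroupRingCert

set_option autoImplicit false
set_option maxRecDepth 60000

namespace Cfsg.Agent.PGroups.GRC

/-- relation -/
def n6A4 : List (ℕ × alternatingGroup (Fin 6)) :=
  [(1, el 6 []), (1, el 6 [123]), (1, el 6 [132]), (1, el 6 [32,12]), (1, el 6 [12]), (1, el 6 [13]), (1, el 6 [21]), (1, el 6 [23]), (1, el 6 [123,12]), (1, el 6 [31]), (1, el 6 [32]), (1, el 6 [13,12])]

/-- relation -/
def n6St : List (ℕ × alternatingGroup (Fin 6)) :=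
  [(2, el 6 [234]), (2, el 6 [243]), (3, el 6 [143,123]), (2, el 6 [123]), (2, el 6 [124]), (2, el 6 [132]), (2, el 6 [134]), (3, el 6 [234,123]), (2, el 6 [142]), (2, el 6 [143]), (3, el 6 [124,123]), (3, el 6 [43,13]), (3, el 6 [32,12]), (3, el 6 [42,12]), (2, el 6 [12]), (2, el 6 [13]), (2, el 6 [14]), (2, el 6 [21]), (3, el 6 [43,23]), (2, el 6 [23]), (2, el 6 [24]), (3, el 6 [123,12]), (3, el 6 [124,12]), (2, el 6 [31]), (2, el 6 [32]), (2, el 6 [34]), (3, el 6 [234,23]), (3, el 6 [13,12]), (3, el 6 [134,13]), (2, el 6 [41]), (2, el 6 [42]), (2, el 6 [43]), (3, el 6 [24,23]), (3, el 6 [14,12]), (3, el 6 [14,13])]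

/-- relation -/
def n6Sgn : List (ℕ × alternatingGroup (Fin 6)) :=
  [(1, el 6 []), (1, el 6 [234]), (1, el 6 [243]), (4, el 6 [43,13]), (4, el 6 [32,12]), (4, el 6 [42,12])]

/-- relation -/
def n6Six : List (ℕ × alternatingGroup (Fin 6)) :=
  [(1, el 6 []), (1, el 6 [254,234]), (1, el 6 [153,123]), (1, el 6 [354,123]), (1, el 6 [245,132]), (1, el 6 [234,123]), (1, el 6 [234,135]), (1, el 6 [245,124]), (1, el 6 [135,134]), (1, el 6 [253,124]), (1, el 6 [54,14]), (1, el 6 [32,12]), (1, el 6 [345,12]), (1, el 6 [43,12]), (1, el 6 [235,12]), (1, el 6 [254,13]), (1, el 6 [35,14]), (1, el 6 [253,14]), (1, el 6 [234,15]), (1, el 6 [245,14]), (1, el 6 [354,21]), (1, el 6 [153,21]), (1, el 6 [43,23]), (1, el 6 [345,23]), (1, el 6 [135,24]), (1, el 6 [134,25]), (1, el 6 [45,21]), (1, el 6 [123,14]), (1, el 6 [125,12]), (1, el 6 [154,23]), (1, el 6 [234,21]), (1, el 6 [245,31]), (1, el 6 [254,32]), (1, el 6 [235,23]), (1, el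 6 [124,35]), (1, el 6 [125,34]), (1, el 6 [145,32]), (1, el 6 [134,13]), (1, el 6 [132,15]), (1, el 6 [54,31]), (1, el 6 [235,41]), (1, el 6 [125,41]), (1, el 6 [345,34]), (1, el 6 [243,25]), (1, el 6 [14,12]), (1, el 6 [123,45]), (1, el 6 [134,32]), (1, el 6 [145,13]), (1, el 6 [153,42]), (1, el 6 [152,43]), (1, el 6 [345,41]), (1, el 6 [243,51]), (1, el 6 [235,34]), (1, el 6 [25,24]), (1, el 6 [154,12]), (1, el 6 [125,23]), (1, el 6 [132,54]), (1, el 6 [15,13]), (1, el 6 [143,52]), (1, el 6 [142,53])]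

/-- relation -/
def n6V4 : List (ℕ × alternatingGroup (Fin 6)) :=
  [(1, el 6 []), (1, el 6 [32,12]), (1, el 6 [123,12]), (1, el 6 [13,12])]

/-- certificate -/
def certV4 : List (ℕ × alternatingGroup (Fin 6) × ℕ × alternatingGroup (Fin 6)) :=
  [(3, el 6 [145,123], 0, el 6 [354,132]), (3, el 6 [235,124], 0, el 6 [153,142]), (1, el 6 [354,123], 0, el 6 [243]), (4, el 6 [235,234], 0, el 6 [354,132]),
   (1, el 6 [34,12], 0, el 6 []), (4, el 6 [345,234], 0, el 6 [153,142]), (1, el 6 [345,124], 0, el 6 [153,142]), (1, el 6 [132], 0, el 6 [345]),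
   (1, el 6 [235,124], 0, el 6 [345,132]), (4, el 6 [235,124], 0, el 6 [345]), (3, el 6 [345,132], 0, el 6 [345]), (3, el 6 [234,123], 0, el 6 [354]),
   (2, el 6 [235,14], 0, el 6 []), (3, el 6 [245,14], 0, el 6 [354]), (2, el 6 [235,14], 0, el 6 [354]), (2, el 6 [234,125], 0, el 6 [354,132]),
   (4, el 6 [345,234], 0, el 6 [354,132]), (1, el 6 [235,234], 0, el 6 [345,142]), (3, el 6 [235,123], 0, el 6 [243]), (1, el 6 [234,125], 0, el 6 [345,142]),
   (1, el 6 [235,124], 0, el 6 [354,132]), (1, el 6 [125], 0, el 6 [345,142]), (1, el 6 [54,13], 0, el 6 [345]), (1, el 6 [345,124], 0, el 6 [354,132]),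
   (3, el 6 [234,125], 0, el 6 []), (3, el 6 [254,132], 0, el 6 [345]), (2, el 6 [235,142], 0, el 6 [354]), (4, el 6 [135,124], 0, el 6 []),
   (3, el 6 [132], 0, el 6 []), (1, el 6 [345,124], 0, el 6 [345,132]), (3, el 6 [154,123], 0, el 6 [345,132]), (4, el 6 [354,123], 0, el 6 [345]),
   (4, el 6 [245], 0, el 6 [354]), (4, el 6 [254], 0, el 6 [153,142]), (2, el 6 [354,132], 0, el 6 []), (3, el 6 [152], 0, el 6 [345]),
   (1, el 6 [354], 0, el 6 [354]), (1, el 6 [154,123], 0, el 6 [153,142]), (1, el 6 [345,124], 0, el 6 [345,234]), (1, el 6 [153,142], 0, el 6 []),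
   (3, el 6 [345,234], 0, el 6 [253]), (1, el 6 [154,132], 0, el 6 [345]), (2, el 6 [254], 0, el 6 [253]), (4, el 6 [235,234], 0, el 6 [253]),
   (4, el 6 [253,14], 0, el 6 []), (3, el 6 [145,132], 0, el 6 []), (1, el 6 [345,234], 0, el 6 [243]), (1, el 6 [235,134], 0, el 6 [354]),
   (3, el 6 [254], 0, el 6 [243]), (4, el 6 [235,142], 0, el 6 [345]), (1, el 6 [234,35,12], 0, el 6 [354]), (2, el 6 [245,132], 0, el 6 [345]),
   (4, el 6 [45,12], 0, el 6 []), (2, el 6 [345,134], 0, el 6 [354]), (4, el 6 [235,124], 0, el 6 []), (4, el 6 [54,12], 0, el 6 []),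
   (3, el 6 [245,123], 0, el 6 []), (4, el 6 [345,132], 0, el 6 [354]), (2, el 6 [243], 0, el 6 [354]), (4, el 6 [235], 0, el 6 [354]),
   (3, el 6 [254,132], 0, el 6 []), (3, el 6 [135,124], 0, el 6 [345,142]), (3, el 6 [152], 0, el 6 []), (1, el 6 [25,14], 0, el 6 [354]),
   (4, el 6 [24,13], 0, el 6 []), (1, el 6 [154,124], 0, el 6 [354]), (2, el 6 [35,14], 0, el 6 [345]), (2, el 6 [135], 0, el 6 []),
   (1, el 6 [25,13], 0, el 6 [354]), (4, el 6 [253], 0, el 6 [345,142]), (4, el 6 [243], 0, el 6 []), (3, el 6 [245,123], 0, el 6 [354]),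
   (1, el 6 [243,125], 0, el 6 []), (3, el 6 [135], 0, el 6 [243]), (3, el 6 [235,134], 0, el 6 []), (4, el 6 [124], 0, el 6 []),
   (1, el 6 [154,134], 0, el 6 [253]), (2, el 6 [135,124], 0, el 6 [354,132]), (1, el 6 [235,124], 0, el 6 [243]), (2, el 6 [254,123], 0, el 6 [354]),
   (3, el 6 [235,34,12], 0, el 6 []), (4, el 6 [234], 0, el 6 []), (2, el 6 [235,234], 0, el 6 []), (4, el 6 [234], 0, el 6 [243]),
   (4, el 6 [134,25], 0, el 6 [354]), (2, el 6 [123], 0, el 6 [253]), (4, el 6 [145,123], 0, el 6 [354]), (3, el 6 [254], 0, el 6 []),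
   (4, el 6 [345,234], 0, el 6 [345]), (3, el 6 [125], 0, el 6 []), (2, el 6 [345,123], 0, el 6 [253]), (1, el 6 [154], 0, el 6 [354]),
   (1, el 6 [345], 0, el 6 [253]), (4, el 6 [143], 0, el 6 [354]), (4, el 6 [145,123], 0, el 6 [253]), (2, el 6 [124,123], 0, el 6 [345]),
   (3, el 6 [125,123], 0, el 6 [354]), (3, el 6 [345,132], 0, el 6 []), (1, el 6 [125], 0, el 6 [354,132]), (2, el 6 [34,12], 0, el 6 [354]),
   (1, el 6 [345,134], 0, el 6 [345]), (2, el 6 [24,13], 0, el 6 [354]), (1, el 6 [245,124], 0, el 6 [354]), (1, el 6 [145,123], 0, el 6 [243]),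
   (2, el 6 [234,125], 0, el 6 [243]), (1, el 6 [345,34,12], 0, el 6 [345]), (3, el 6 [35,12], 0, el 6 [345]), (1, el 6 [], 0, el 6 [243]),
   (4, el 6 [354], 0, el 6 [243]), (4, el 6 [54,13], 0, el 6 []), (1, el 6 [234], 0, el 6 [345,234]), (2, el 6 [45,13], 0, el 6 [345]),
   (3, el 6 [142], 0, el 6 [354]), (3, el 6 [243], 0, el 6 [345]), (1, el 6 [254], 0, el 6 [345]), (1, el 6 [134,25], 0, el 6 []),
   (3, el 6 [124,123], 0, el 6 []), (1, el 6 [245,132], 0, el 6 []), (2, el 6 [154,123], 0, el 6 [243]), (4, el 6 [245,132], 0, el 6 [354]),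
   (1, el 6 [345,123], 0, el 6 [243]), (2, el 6 [345], 0, el 6 [243]), (3, el 6 [234], 0, el 6 [253]), (1, el 6 [253], 0, el 6 [253]),
   (2, el 6 [154,123], 0, el 6 []), (3, el 6 [234,35,12], 0, el 6 [345]), (2, el 6 [125,34,12], 0, el 6 []), (4, el 6 [135,124], 0, el 6 [354]),
   (4, el 6 [], 0, el 6 [253]), (4, el 6 [245,124], 0, el 6 [345]), (4, el 6 [143], 0, el 6 []), (1, el 6 [45,12], 0, el 6 [345]),
   (2, el 6 [153,142], 0, el 6 [354]), (4, el 6 [154,124], 0, el 6 [243]), (3, el 6 [234,35,12], 0, el 6 []), (4, el 6 [243,15], 0, el 6 []),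
   (1, el 6 [124], 0, el 6 [354]), (2, el 6 [235,34,12], 0, el 6 [354]), (1, el 6 [154,124], 0, el 6 [253]), (4, el 6 [234], 0, el 6 [153,142]),
   (1, el 6 [254], 0, el 6 [345,234]), (3, el 6 [153,142], 0, el 6 [345]), (2, el 6 [235,123], 0, el 6 [354]), (4, el 6 [134], 0, el 6 []),
   (3, el 6 [135,134], 0, el 6 [354]), (2, el 6 [253,14], 0, el 6 [354]), (3, el 6 [25,14], 0, el 6 []), (4, el 6 [345,123], 0, el 6 [345]),
   (1, el 6 [125,123], 0, el 6 []), (3, el 6 [235,234], 0, el 6 [354]), (4, el 6 [345], 0, el 6 []), (1, el 6 [142], 0, el 6 []),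
   (2, el 6 [235], 0, el 6 [345]), (4, el 6 [345,134], 0, el 6 []), (1, el 6 [145,132], 0, el 6 [354]), (1, el 6 [145,132], 0, el 6 [253]),
   (4, el 6 [235], 0, el 6 [243]), (2, el 6 [124,35,12], 0, el 6 [354]), (4, el 6 [234,135], 0, el 6 []), (3, el 6 [134], 0, el 6 [345]),
   (2, el 6 [154,132], 0, el 6 [243]), (4, el 6 [354], 0, el 6 [345,234]), (3, el 6 [35,14], 0, el 6 []), (3, el 6 [145,123], 0, el 6 [345]),
   (3, el 6 [143,123], 0, el 6 [345]), (1, el 6 [124], 0, el 6 [153,142]), (3, el 6 [254,132], 0, el 6 [354]), (3, el 6 [25,13], 0, el 6 []),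
   (4, el 6 [154,123], 0, el 6 [354]), (1, el 6 [125], 0, el 6 [243]), (2, el 6 [125], 0, el 6 [253]), (4, el 6 [235,142], 0, el 6 []),
   (3, el 6 [14], 0, el 6 [354]), (3, el 6 [245,132], 0, el 6 [243]), (1, el 6 [124], 0, el 6 [345,132]), (1, el 6 [45,13], 0, el 6 [354]),
   (4, el 6 [], 0, el 6 [345,132]), (1, el 6 [142], 0, el 6 [345]), (1, el 6 [35,14], 0, el 6 [354]), (4, el 6 [345,123], 0, el 6 []),
   (1, el 6 [354], 0, el 6 [345]), (2, el 6 [345,234], 0, el 6 []), (4, el 6 [154,132], 0, el 6 [354]), (2, el 6 [145], 0, el 6 [345]),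
   (4, el 6 [345], 0, el 6 [345]), (3, el 6 [153,123], 0, el 6 [345]), (1, el 6 [135,124], 0, el 6 [345]), (4, el 6 [234,125], 0, el 6 [253]),
   (3, el 6 [345,234], 0, el 6 [345,234]), (4, el 6 [234], 0, el 6 [354]), (4, el 6 [354,123], 0, el 6 [354]), (1, el 6 [345,14], 0, el 6 []),
   (3, el 6 [254,123], 0, el 6 [345]), (3, el 6 [143,123], 0, el 6 [253]), (3, el 6 [253,124], 0, el 6 []), (4, el 6 [245], 0, el 6 [253]),
   (2, el 6 [234,125], 0, el 6 [354]), (4, el 6 [253,124], 0, el 6 [354]), (1, el 6 [125,124], 0, el 6 []), (3, el 6 [125,14], 0, el 6 []),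
   (1, el 6 [154,134], 0, el 6 [243]), (3, el 6 [145,132], 0, el 6 [243]), (1, el 6 [254,234], 0, el 6 [354,132]), (1, el 6 [345,14], 0, el 6 [354]),
   (3, el 6 [123], 0, el 6 []), (2, el 6 [354,132], 0, el 6 [354]), (2, el 6 [153], 0, el 6 []), (2, el 6 [254,234], 0, el 6 [345]),
   (2, el 6 [253], 0, el 6 [354]), (2, el 6 [134], 0, el 6 [354]), (3, el 6 [152], 0, el 6 [354]), (2, el 6 [345,142], 0, el 6 [354]),
   (3, el 6 [243,125], 0, el 6 [345]), (3, el 6 [123], 0, el 6 [345]), (4, el 6 [123], 0, el 6 [354]), (2, el 6 [235,234], 0, el 6 [345]),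
   (1, el 6 [34,12], 0, el 6 [345]), (1, el 6 [45,12], 0, el 6 [354]), (1, el 6 [345], 0, el 6 [354,132]), (3, el 6 [153,123], 0, el 6 [354]),
   (3, el 6 [], 0, el 6 [354]), (2, el 6 [54,32,12], 0, el 6 []), (1, el 6 [234,123], 0, el 6 [345]), (2, el 6 [135], 0, el 6 [354]),
   (3, el 6 [245,143], 0, el 6 []), (4, el 6 [234,135], 0, el 6 [345]), (4, el 6 [345], 0, el 6 [345,142]), (3, el 6 [254,234], 0, el 6 [253]),
   (3, el 6 [143,123], 0, el 6 [354]), (3, el 6 [245], 0, el 6 [345]), (1, el 6 [354], 0, el 6 [253]), (4, el 6 [253], 0, el 6 []),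
   (3, el 6 [245], 0, el 6 [243]), (2, el 6 [54,13], 0, el 6 [354]), (2, el 6 [254,234], 0, el 6 [354]), (2, el 6 [235], 0, el 6 []),
   (1, el 6 [145,123], 0, el 6 [345,142]), (1, el 6 [253], 0, el 6 [243]), (2, el 6 [235,134], 0, el 6 [345]), (1, el 6 [154,124], 0, el 6 []),
   (4, el 6 [243], 0, el 6 [243]), (4, el 6 [235,124], 0, el 6 [345,234]), (4, el 6 [135,134], 0, el 6 []), (2, el 6 [125,124], 0, el 6 [354]),
   (3, el 6 [14], 0, el 6 []), (4, el 6 [153,123], 0, el 6 [243]), (1, el 6 [153,123], 0, el 6 [253]), (4, el 6 [235,123], 0, el 6 []),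
   (2, el 6 [354], 0, el 6 []), (1, el 6 [154,134], 0, el 6 [354]), (4, el 6 [124,35,12], 0, el 6 []), (2, el 6 [125,124], 0, el 6 [345]),
   (4, el 6 [35,34,12], 0, el 6 [354]), (3, el 6 [125], 0, el 6 [354]), (4, el 6 [234], 0, el 6 [345]), (2, el 6 [234,125], 0, el 6 [345]),
   (1, el 6 [354], 0, el 6 [345,132]), (2, el 6 [235,124], 0, el 6 [354]), (1, el 6 [254], 0, el 6 [345,132]), (1, el 6 [124,123], 0, el 6 [354]),
   (1, el 6 [245], 0, el 6 [354,132]), (1, el 6 [345,124], 0, el 6 [345]), (1, el 6 [345], 0, el 6 [354]), (3, el 6 [145], 0, el 6 []),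
   (4, el 6 [135], 0, el 6 [253]), (4, el 6 [243], 0, el 6 [345,234]), (1, el 6 [125,14], 0, el 6 [354]), (3, el 6 [154,123], 0, el 6 [345]),
   (3, el 6 [124], 0, el 6 [345]), (3, el 6 [154,134], 0, el 6 [345])]

theorem certV4_spec : isZero (pcode 6) 5 16 (combo [n6V4] certV4 ++ [(4, 1)]) = true := by
  decide +kernel

/-- certificate -/
def certSt : List (ℕ × alternatingGroup (Fin 6) × ℕ × alternatingGroup (Fin 6)) :=
  [(4, el 6 [145,21], 1, el 6 []), (1, el 6 [235,124], 0, el 6 [153,142]), (3, el 6 [345], 0, el 6 [345,234]), (1, el 6 [235], 0, el 6 [345,132]),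
   (4, el 6 [354,12], 1, el 6 []), (4, el 6 [235,234], 0, el 6 [253]), (4, el 6 [254,234], 0, el 6 [253]), (4, el 6 [154,123], 1, el 6 []),
   (3, el 6 [35,12], 0, el 6 [243]), (4, el 6 [354,123], 1, el 6 []), (3, el 6 [132], 1, el 6 []), (3, el 6 [243], 0, el 6 [243]),
   (2, el 6 [54,34,12], 1, el 6 []), (2, el 6 [254,234], 0, el 6 [345,234]), (1, el 6 [35,12], 1, el 6 []), (4, el 6 [135,42,12], 1, el 6 []),
   (2, el 6 [54,12], 0, el 6 [354]), (1, el 6 [235], 1, el 6 []), (2, el 6 [154,132], 1, el 6 []), (3, el 6 [345,234], 0, el 6 [243]),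
   (3, el 6 [123], 1, el 6 []), (1, el 6 [125], 0, el 6 [345]), (2, el 6 [235], 0, el 6 [345,142]), (2, el 6 [254,234], 1, el 6 [354]),
   (1, el 6 [], 0, el 6 [354]), (1, el 6 [124,53,13], 1, el 6 []), (4, el 6 [253], 0, el 6 [243]), (2, el 6 [154,134], 1, el 6 [354]),
   (4, el 6 [53,12], 1, el 6 []), (3, el 6 [345,31], 1, el 6 []), (1, el 6 [243,21], 1, el 6 []), (3, el 6 [253], 0, el 6 [354,132]),
   (2, el 6 [243], 0, el 6 [345]), (1, el 6 [135,24], 1, el 6 []), (2, el 6 [143,123], 1, el 6 [354]), (1, el 6 [245,31], 1, el 6 []),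
   (3, el 6 [254], 0, el 6 [253]), (1, el 6 [254], 0, el 6 []), (2, el 6 [345,124], 0, el 6 [345,234]), (2, el 6 [124], 0, el 6 [253]),
   (4, el 6 [345,123], 1, el 6 []), (2, el 6 [254], 0, el 6 [345,234]), (3, el 6 [], 0, el 6 [243]), (4, el 6 [123,45,12], 1, el 6 []),
   (4, el 6 [235,21], 1, el 6 []), (1, el 6 [345,234], 0, el 6 [345,132]), (3, el 6 [345], 0, el 6 [243]), (4, el 6 [345,21], 1, el 6 []),
   (2, el 6 [142], 1, el 6 []), (3, el 6 [145,31], 1, el 6 []), (1, el 6 [245,32,12], 1, el 6 []), (4, el 6 [145,123], 0, el 6 [354]),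
   (3, el 6 [345], 0, el 6 [345,142]), (1, el 6 [243], 0, el 6 [345,234]), (4, el 6 [234,35,12], 1, el 6 []), (3, el 6 [234], 0, el 6 [153,142]),
   (2, el 6 [145,123], 0, el 6 [253]), (2, el 6 [234], 0, el 6 []), (3, el 6 [245], 0, el 6 [345,142]), (3, el 6 [234,125], 0, el 6 [253]),
   (2, el 6 [135,124], 0, el 6 [345,132]), (1, el 6 [152], 1, el 6 []), (1, el 6 [41], 1, el 6 []), (3, el 6 [54,12], 0, el 6 [354,132]),
   (2, el 6 [253], 0, el 6 [345,234]), (4, el 6 [234], 0, el 6 [253]), (3, el 6 [124], 0, el 6 [243]), (4, el 6 [34,12], 0, el 6 []),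
   (1, el 6 [234,35,12], 0, el 6 []), (1, el 6 [154,123], 0, el 6 [345,142]), (1, el 6 [245,12], 1, el 6 []), (3, el 6 [345,234], 0, el 6 [354,132]),
   (1, el 6 [154,123], 0, el 6 [354]), (3, el 6 [124], 0, el 6 [354]), (3, el 6 [345,234], 0, el 6 [153,142]), (2, el 6 [345,234], 0, el 6 [253]),
   (4, el 6 [245], 0, el 6 [345,132]), (4, el 6 [345], 0, el 6 []), (4, el 6 [32,12], 1, el 6 []), (3, el 6 [35,14], 1, el 6 []),
   (3, el 6 [345,234,12], 1, el 6 []), (4, el 6 [124], 0, el 6 []), (2, el 6 [154,123], 0, el 6 [345,132]), (2, el 6 [154,123], 0, el 6 [253]),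
   (2, el 6 [345,124], 0, el 6 [153,142]), (4, el 6 [234,12], 1, el 6 []), (1, el 6 [354], 0, el 6 [345]), (4, el 6 [24,13], 1, el 6 []),
   (4, el 6 [235], 0, el 6 [345]), (2, el 6 [345], 0, el 6 [253]), (3, el 6 [345,124], 0, el 6 [253]), (2, el 6 [132,54,14], 1, el 6 []),
   (1, el 6 [21], 1, el 6 []), (2, el 6 [234], 1, el 6 [354]), (4, el 6 [235], 0, el 6 []), (2, el 6 [243], 0, el 6 [253]),
   (2, el 6 [145,132], 1, el 6 []), (4, el 6 [125], 0, el 6 [253]), (1, el 6 [245], 0, el 6 [354]), (1, el 6 [134,21], 1, el 6 []),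
   (4, el 6 [354,132], 1, el 6 []), (4, el 6 [234], 0, el 6 [354,132]), (2, el 6 [235,124], 0, el 6 [345,132]), (3, el 6 [253], 0, el 6 [354]),
   (4, el 6 [12], 1, el 6 []), (4, el 6 [354], 0, el 6 [345,142]), (1, el 6 [245,132], 1, el 6 []), (1, el 6 [345,124], 0, el 6 [243]),
   (4, el 6 [125], 0, el 6 [243]), (4, el 6 [253], 0, el 6 []), (4, el 6 [125], 0, el 6 [354,132]), (2, el 6 [235,234], 0, el 6 []),
   (2, el 6 [345,132], 1, el 6 [354]), (2, el 6 [], 1, el 6 [354]), (2, el 6 [145,123], 1, el 6 [354]), (1, el 6 [154,123], 0, el 6 []),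
   (3, el 6 [135,21], 1, el 6 []), (3, el 6 [254,234], 0, el 6 [345]), (4, el 6 [124], 1, el 6 []), (1, el 6 [345,124], 0, el 6 []),
   (2, el 6 [243], 1, el 6 []), (1, el 6 [135,124], 0, el 6 [354]), (4, el 6 [235,12], 1, el 6 []), (4, el 6 [345,124], 0, el 6 [345,132]),
   (3, el 6 [135,124], 0, el 6 [253]), (3, el 6 [235,124], 0, el 6 [345,234]), (2, el 6 [35,34,12], 0, el 6 [243]), (2, el 6 [245], 1, el 6 [354]),
   (4, el 6 [234], 0, el 6 [345]), (1, el 6 [125], 0, el 6 [345,132]), (3, el 6 [234], 0, el 6 [243]), (3, el 6 [254,234], 0, el 6 []),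
   (4, el 6 [235,124], 1, el 6 []), (2, el 6 [43,12], 1, el 6 []), (2, el 6 [245], 0, el 6 [345,234]), (1, el 6 [245], 0, el 6 [253]),
   (3, el 6 [254], 0, el 6 [345,132]), (4, el 6 [235,234], 0, el 6 [354,132]), (4, el 6 [245], 0, el 6 [345]), (1, el 6 [235,234], 0, el 6 [345,132]),
   (1, el 6 [345,34,12], 0, el 6 []), (3, el 6 [154,123], 0, el 6 [345]), (1, el 6 [53,13], 1, el 6 []), (3, el 6 [234], 0, el 6 [345,142]),
   (4, el 6 [254,132], 1, el 6 []), (3, el 6 [135,124], 0, el 6 [243]), (1, el 6 [], 0, el 6 [345,142]), (2, el 6 [124], 0, el 6 [354,132]),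
   (3, el 6 [245], 0, el 6 []), (4, el 6 [234], 0, el 6 [345,132]), (2, el 6 [345,134], 1, el 6 []), (4, el 6 [134,25], 0, el 6 []),
   (2, el 6 [245,132], 1, el 6 [354]), (4, el 6 [235,42,12], 1, el 6 []), (3, el 6 [243], 0, el 6 []), (4, el 6 [354], 0, el 6 [345,132]),
   (4, el 6 [125], 1, el 6 []), (1, el 6 [245], 1, el 6 []), (2, el 6 [124], 0, el 6 [153,142]), (4, el 6 [], 0, el 6 [354,132]),
   (3, el 6 [34,12], 0, el 6 [354,132]), (3, el 6 [135,124,12], 1, el 6 []), (3, el 6 [245,13], 1, el 6 []), (3, el 6 [354], 0, el 6 [253]),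
   (1, el 6 [123,54,14], 1, el 6 []), (2, el 6 [345], 0, el 6 [354]), (4, el 6 [45,12], 0, el 6 [243]), (2, el 6 [345,132], 1, el 6 []),
   (2, el 6 [134], 1, el 6 [354]), (2, el 6 [54,14], 1, el 6 []), (1, el 6 [35,24], 1, el 6 []), (2, el 6 [254], 0, el 6 [345,142]),
   (1, el 6 [54,12], 0, el 6 []), (2, el 6 [43,13], 1, el 6 []), (3, el 6 [235,124], 0, el 6 [345,142]), (2, el 6 [345,123], 1, el 6 [354]),
   (3, el 6 [145,123], 0, el 6 [345,234]), (2, el 6 [234,125], 0, el 6 [354]), (3, el 6 [345], 0, el 6 [345,132]), (3, el 6 [125], 0, el 6 [345,142]),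
   (1, el 6 [], 0, el 6 [345]), (4, el 6 [254,234], 0, el 6 [354]), (1, el 6 [135], 1, el 6 []), (3, el 6 [143], 1, el 6 []),
   (2, el 6 [254,13], 1, el 6 []), (2, el 6 [145], 1, el 6 []), (1, el 6 [234,125], 0, el 6 [354,132]), (4, el 6 [35,34,12], 0, el 6 []),
   (3, el 6 [154,124], 1, el 6 []), (2, el 6 [235,142], 1, el 6 []), (2, el 6 [254], 0, el 6 [243]), (3, el 6 [245,21], 1, el 6 []),
   (2, el 6 [124], 0, el 6 [345]), (2, el 6 [], 0, el 6 []), (3, el 6 [345], 1, el 6 [354]), (4, el 6 [234], 0, el 6 [345,234]),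
   (1, el 6 [254,234], 0, el 6 [354,132]), (1, el 6 [345,234], 0, el 6 [345,234]), (2, el 6 [145,123], 0, el 6 [345]), (1, el 6 [354], 0, el 6 [354,132]),
   (4, el 6 [145,123], 0, el 6 []), (2, el 6 [13], 1, el 6 []), (1, el 6 [234], 0, el 6 [354]), (2, el 6 [154,123], 0, el 6 [153,142]),
   (3, el 6 [254], 0, el 6 [153,142]), (1, el 6 [345,34,12], 1, el 6 []), (4, el 6 [235,234], 0, el 6 [345]), (1, el 6 [235,34,12], 0, el 6 [354,132]),
   (3, el 6 [243], 0, el 6 [354,132]), (3, el 6 [154,31], 1, el 6 []), (1, el 6 [235,124], 0, el 6 [354]), (4, el 6 [254], 0, el 6 [354]),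
   (1, el 6 [234,123], 1, el 6 []), (4, el 6 [234,125], 0, el 6 []), (2, el 6 [145], 1, el 6 [354]), (2, el 6 [254], 0, el 6 [354,132]),
   (1, el 6 [254,234,12], 1, el 6 []), (1, el 6 [], 0, el 6 [253]), (3, el 6 [354,21], 1, el 6 []), (1, el 6 [254,234], 1, el 6 []),
   (3, el 6 [235], 0, el 6 [243]), (2, el 6 [345,234], 0, el 6 [345]), (3, el 6 [54,12], 1, el 6 []), (2, el 6 [143], 1, el 6 [354]),
   (3, el 6 [243], 0, el 6 [345,132]), (1, el 6 [254,234], 0, el 6 [345,132]), (1, el 6 [45,13], 1, el 6 []), (4, el 6 [235,34,12], 0, el 6 [354]),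
   (1, el 6 [245], 0, el 6 [243]), (3, el 6 [134], 1, el 6 []), (1, el 6 [254], 0, el 6 [345]), (3, el 6 [345,124], 0, el 6 [345]),
   (3, el 6 [235,234], 0, el 6 [243]), (2, el 6 [253], 0, el 6 [345,132]), (1, el 6 [34,12], 0, el 6 [354]), (4, el 6 [345,124], 0, el 6 [345,142]),
   (3, el 6 [125], 0, el 6 []), (4, el 6 [45,23], 1, el 6 []), (2, el 6 [34,12], 1, el 6 []), (2, el 6 [145,123], 0, el 6 [345,142]),
   (3, el 6 [345,32,12], 1, el 6 []), (2, el 6 [25,13], 1, el 6 []), (2, el 6 [234,125], 0, el 6 [243]), (4, el 6 [245], 0, el 6 [354,132]),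
   (3, el 6 [354], 1, el 6 []), (1, el 6 [235], 0, el 6 [354]), (3, el 6 [345,124], 0, el 6 [354]), (2, el 6 [], 0, el 6 [345,234]),
   (2, el 6 [153,123], 1, el 6 []), (4, el 6 [235], 0, el 6 [253]), (2, el 6 [124], 0, el 6 [345,132]), (2, el 6 [243], 1, el 6 [354]),
   (3, el 6 [345,234], 0, el 6 [354]), (3, el 6 [345,124], 0, el 6 [354,132]), (4, el 6 [], 0, el 6 [345,132]), (3, el 6 [235,34,12], 0, el 6 []),
   (4, el 6 [45,12], 1, el 6 []), (1, el 6 [254,234], 0, el 6 [345,142]), (2, el 6 [235,234], 0, el 6 [345,142]), (3, el 6 [354], 0, el 6 [354]),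
   (3, el 6 [124], 0, el 6 [345,234]), (2, el 6 [243], 0, el 6 [354]), (2, el 6 [345], 0, el 6 [354,132]), (2, el 6 [253], 0, el 6 [345,142]),
   (3, el 6 [153,142], 1, el 6 []), (4, el 6 [125], 0, el 6 [354]), (2, el 6 [345,234], 0, el 6 []), (3, el 6 [243,125], 1, el 6 []),
   (1, el 6 [154,123], 0, el 6 [243]), (3, el 6 [354], 0, el 6 [243]), (1, el 6 [354], 0, el 6 []), (3, el 6 [125,13], 1, el 6 []),
   (2, el 6 [254,234], 0, el 6 [243]), (2, el 6 [235,123], 1, el 6 [])]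

theorem certSt_spec : isZero (pcode 6) 5 16 (combo [n6A4, n6St] certSt ++ [(4, 1)]) = true := by
  decide +kernel

/-- certificate -/
def certSix : List (ℕ × alternatingGroup (Fin 6) × ℕ × alternatingGroup (Fin 6)) :=
  [(2, el 6 [154,124], 1, el 6 [123]), (2, el 6 [124], 0, el 6 [153,142]), (2, el 6 [345,142], 1, el 6 [143,123]), (1, el 6 [245], 0, el 6 [345,132]),
   (2, el 6 [145,123], 0, el 6 [345]), (1, el 6 [154,124], 1, el 6 [354,123]), (2, el 6 [153,123], 1, el 6 [354,123]), (1, el 6 [145,123], 0, el 6 [243]),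
   (3, el 6 [142], 1, el 6 [154,124]), (2, el 6 [245,12], 1, el 6 [123]), (1, el 6 [354], 0, el 6 [354]), (2, el 6 [345], 0, el 6 [253]),
   (4, el 6 [152], 1, el 6 [354,123]), (1, el 6 [235,234], 0, el 6 [345]), (4, el 6 [235,12], 1, el 6 [354,123]), (3, el 6 [45,12], 0, el 6 [243]),
   (3, el 6 [345,142], 1, el 6 [153,123]), (2, el 6 [354], 0, el 6 [345,142]), (2, el 6 [354,12], 1, el 6 [354]), (1, el 6 [142], 1, el 6 [123]),
   (1, el 6 [132], 1, el 6 [123]), (1, el 6 [234,125], 0, el 6 [345,132]), (4, el 6 [], 0, el 6 []), (3, el 6 [234,35,12], 0, el 6 []),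
   (2, el 6 [235,142], 1, el 6 []), (4, el 6 [34,12], 0, el 6 [354,132]), (1, el 6 [254,132], 1, el 6 [354]), (3, el 6 [235,234], 0, el 6 [243]),
   (1, el 6 [234], 0, el 6 [153,142]), (2, el 6 [254], 0, el 6 [253]), (1, el 6 [354], 2, el 6 [345]), (3, el 6 [345,132], 1, el 6 [354,123]),
   (4, el 6 [345,132], 1, el 6 []), (3, el 6 [154,123], 0, el 6 [354]), (1, el 6 [245,12], 1, el 6 [154,124]), (2, el 6 [354,12], 1, el 6 [354,123]),
   (2, el 6 [125], 0, el 6 [345,132]), (4, el 6 [245,12], 1, el 6 [354]), (4, el 6 [245,12], 1, el 6 [354,123]), (3, el 6 [54,12], 0, el 6 [354]),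
   (4, el 6 [34,12], 0, el 6 []), (4, el 6 [132], 1, el 6 [143,123]), (3, el 6 [345], 1, el 6 [354]), (4, el 6 [345,12], 1, el 6 []),
   (1, el 6 [132], 1, el 6 [354]), (4, el 6 [124], 0, el 6 []), (3, el 6 [345,132], 1, el 6 [154,124]), (4, el 6 [354], 0, el 6 [354,132]),
   (4, el 6 [], 0, el 6 [354]), (2, el 6 [254,132], 1, el 6 [123]), (1, el 6 [345,12], 1, el 6 [154,124]), (3, el 6 [235,142], 1, el 6 [143,123]),
   (2, el 6 [154,124], 1, el 6 [153,123]), (2, el 6 [345,234], 0, el 6 [345,132]), (1, el 6 [235,12], 1, el 6 [345]), (1, el 6 [124], 0, el 6 [345]),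
   (2, el 6 [354], 1, el 6 [354]), (4, el 6 [12], 1, el 6 [345]), (2, el 6 [125], 0, el 6 [253]), (1, el 6 [], 0, el 6 [253]),
   (3, el 6 [345], 0, el 6 [345,234]), (1, el 6 [153,123], 1, el 6 [143,123]), (3, el 6 [254,234,12], 1, el 6 [123]), (4, el 6 [143,123], 1, el 6 []),
   (3, el 6 [234], 2, el 6 [243]), (3, el 6 [234], 0, el 6 [345]), (2, el 6 [235,124], 0, el 6 [345,234]), (1, el 6 [234], 0, el 6 [345,142]),
   (4, el 6 [235], 0, el 6 [354]), (2, el 6 [243], 0, el 6 [243]), (1, el 6 [345,234], 0, el 6 []), (1, el 6 [125], 0, el 6 [345,142]),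
   (3, el 6 [12], 1, el 6 []), (2, el 6 [125], 0, el 6 [345]), (2, el 6 [253,12], 1, el 6 [123]), (4, el 6 [345,12], 1, el 6 [354,123]),
   (2, el 6 [135,124], 0, el 6 [345,234]), (3, el 6 [345,142], 1, el 6 [123]), (2, el 6 [345], 1, el 6 []), (2, el 6 [], 1, el 6 [345]),
   (4, el 6 [], 0, el 6 [345,142]), (2, el 6 [135,124], 0, el 6 [354]), (1, el 6 [153,123], 1, el 6 [153,123]), (1, el 6 [153,123], 1, el 6 [154,124]),
   (1, el 6 [345], 1, el 6 [345]), (3, el 6 [153,123], 1, el 6 []), (3, el 6 [345,132], 1, el 6 [153,123]), (4, el 6 [124], 0, el 6 [354]),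
   (4, el 6 [254], 0, el 6 [345,142]), (3, el 6 [354,132], 1, el 6 [154,124]), (2, el 6 [253], 0, el 6 [253]), (2, el 6 [235,124], 0, el 6 []),
   (2, el 6 [345,234], 0, el 6 [253]), (1, el 6 [234,125], 0, el 6 []), (2, el 6 [145,123], 0, el 6 [345,234]), (2, el 6 [235], 0, el 6 [345,142]),
   (3, el 6 [235,34,12], 0, el 6 [354,132]), (4, el 6 [], 0, el 6 [345,132]), (4, el 6 [243], 0, el 6 [253]), (2, el 6 [152], 1, el 6 [153,123]),
   (1, el 6 [234], 0, el 6 [354,132]), (3, el 6 [345,124], 0, el 6 []), (2, el 6 [], 1, el 6 []), (2, el 6 [234], 0, el 6 [354]),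
   (3, el 6 [253], 0, el 6 [345,234]), (4, el 6 [], 0, el 6 [345,234]), (2, el 6 [345,234], 2, el 6 [243]), (1, el 6 [235,124], 0, el 6 [345,142]),
   (2, el 6 [254,132], 1, el 6 []), (1, el 6 [135,124], 0, el 6 [345,132]), (2, el 6 [54,12], 0, el 6 [354,132]), (3, el 6 [234], 0, el 6 []),
   (4, el 6 [143,123], 1, el 6 [354,123]), (1, el 6 [124], 0, el 6 [345,234]), (3, el 6 [253], 0, el 6 [354,132]), (1, el 6 [345,132], 1, el 6 [345]),
   (4, el 6 [235,234], 0, el 6 [345,234]), (3, el 6 [235,142], 1, el 6 [345]), (3, el 6 [145,123], 0, el 6 []), (3, el 6 [235], 0, el 6 [243]),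
   (1, el 6 [235,124], 0, el 6 [153,142]), (4, el 6 [243], 0, el 6 [345,132]), (2, el 6 [253], 0, el 6 [243]), (3, el 6 [153,123], 1, el 6 [345]),
   (4, el 6 [125], 0, el 6 [345,234]), (2, el 6 [154,123], 0, el 6 []), (2, el 6 [345,34,12], 0, el 6 [354,132]), (1, el 6 [245,12], 1, el 6 [153,123]),
   (4, el 6 [253], 0, el 6 [345,142]), (4, el 6 [345,124], 0, el 6 [354]), (4, el 6 [132], 1, el 6 [345]), (4, el 6 [345], 0, el 6 [354,132]),
   (3, el 6 [132], 1, el 6 []), (1, el 6 [253], 0, el 6 [354]), (3, el 6 [235], 2, el 6 [345]), (4, el 6 [234,35,12], 0, el 6 [243]),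
   (1, el 6 [234,125], 0, el 6 [345,142]), (1, el 6 [235], 0, el 6 [345]), (2, el 6 [354], 1, el 6 [345]), (4, el 6 [235,12], 1, el 6 [143,123]),
   (4, el 6 [143,123], 1, el 6 [153,123]), (2, el 6 [143,123], 1, el 6 [345]), (1, el 6 [254,132], 1, el 6 [143,123]), (1, el 6 [235,234], 0, el 6 [345,142]),
   (3, el 6 [235,124], 0, el 6 [354]), (4, el 6 [235,234], 0, el 6 []), (1, el 6 [54,12], 0, el 6 []), (3, el 6 [35,34,12], 0, el 6 []),
   (3, el 6 [143,123], 1, el 6 [154,124]), (2, el 6 [354], 1, el 6 []), (2, el 6 [34,12], 0, el 6 [354]), (2, el 6 [124], 0, el 6 [253]),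
   (4, el 6 [135,124], 0, el 6 [345]), (4, el 6 [124], 0, el 6 [354,132]), (3, el 6 [234,125], 0, el 6 [253]), (2, el 6 [], 0, el 6 [153,142]),
   (4, el 6 [154,123], 0, el 6 [354,132]), (3, el 6 [154,123], 0, el 6 [253]), (2, el 6 [254,234,12], 1, el 6 []), (1, el 6 [245], 0, el 6 [345]),
   (2, el 6 [234,12], 1, el 6 []), (3, el 6 [245,132], 1, el 6 [354]), (1, el 6 [345,12], 1, el 6 [354]), (4, el 6 [345,34,12], 0, el 6 [354]),
   (3, el 6 [235], 0, el 6 [345,234]), (2, el 6 [345], 0, el 6 []), (3, el 6 [152], 1, el 6 [123]), (4, el 6 [345,124], 0, el 6 [345]),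
   (4, el 6 [354], 0, el 6 [345,234]), (1, el 6 [243], 0, el 6 [345,234]), (2, el 6 [235,142], 1, el 6 [154,124]), (4, el 6 [245,132], 1, el 6 [153,123]),
   (3, el 6 [235,12], 1, el 6 [354]), (4, el 6 [153,123], 1, el 6 [354]), (2, el 6 [235], 0, el 6 [345,132]), (1, el 6 [345], 2, el 6 [354]),
   (3, el 6 [125], 0, el 6 [354,132]), (3, el 6 [243], 0, el 6 [354]), (4, el 6 [243], 0, el 6 [345,142]), (3, el 6 [245], 0, el 6 [345,142]),
   (3, el 6 [345,124], 0, el 6 [243]), (2, el 6 [12], 1, el 6 [154,124]), (3, el 6 [154,124], 1, el 6 [154,124]), (2, el 6 [132], 1, el 6 [154,124]),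
   (4, el 6 [235,142], 1, el 6 [354,123]), (2, el 6 [245,132], 1, el 6 [154,124]), (3, el 6 [354,12], 1, el 6 [153,123]), (2, el 6 [235,142], 1, el 6 [153,123]),
   (1, el 6 [154,123], 0, el 6 [243]), (4, el 6 [245], 0, el 6 [345,234]), (2, el 6 [354], 0, el 6 []), (3, el 6 [235], 2, el 6 []),
   (3, el 6 [235], 2, el 6 [354]), (2, el 6 [154,124], 1, el 6 [354]), (2, el 6 [235,234], 2, el 6 [253]), (4, el 6 [345,132], 1, el 6 [143,123]),
   (3, el 6 [254,234], 0, el 6 [354]), (1, el 6 [234,125], 0, el 6 [354]), (1, el 6 [235,34,12], 0, el 6 [354]), (4, el 6 [235], 0, el 6 []),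
   (4, el 6 [235], 0, el 6 [354,132]), (2, el 6 [345,234], 0, el 6 [345]), (3, el 6 [124], 0, el 6 [345,132]), (4, el 6 [245,132], 1, el 6 [354,123]),
   (1, el 6 [254,234], 0, el 6 [243]), (4, el 6 [143,123], 1, el 6 [123]), (4, el 6 [345,124], 0, el 6 [345,142]), (4, el 6 [354], 0, el 6 [253]),
   (1, el 6 [235,234], 0, el 6 [253]), (3, el 6 [135,124], 0, el 6 [345,142]), (3, el 6 [245,132], 1, el 6 [143,123]), (3, el 6 [234], 2, el 6 []),
   (1, el 6 [245], 0, el 6 [354,132]), (3, el 6 [234], 2, el 6 [354]), (1, el 6 [254], 0, el 6 [354,132]), (4, el 6 [254,234], 0, el 6 [345]),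
   (1, el 6 [], 0, el 6 [345]), (3, el 6 [], 0, el 6 [243]), (4, el 6 [154,123], 0, el 6 [345]), (3, el 6 [125], 0, el 6 [243]),
   (4, el 6 [245,12], 1, el 6 []), (2, el 6 [154,123], 0, el 6 [345,132]), (1, el 6 [235,124], 0, el 6 [243]), (1, el 6 [254,234], 0, el 6 [345,234]),
   (3, el 6 [235,234], 0, el 6 [345,132]), (3, el 6 [254], 0, el 6 [153,142]), (4, el 6 [245], 0, el 6 [243]), (1, el 6 [254,234], 0, el 6 []),
   (3, el 6 [234], 0, el 6 [345,132]), (4, el 6 [254], 0, el 6 [243]), (1, el 6 [], 2, el 6 []), (1, el 6 [235,234], 0, el 6 [354,132]),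
   (4, el 6 [234], 0, el 6 [253]), (3, el 6 [243], 0, el 6 [153,142]), (2, el 6 [345,124], 0, el 6 [253]), (3, el 6 [345,142], 1, el 6 [354,123]),
   (4, el 6 [345,124], 0, el 6 [354,132]), (1, el 6 [35,12], 0, el 6 []), (3, el 6 [235], 0, el 6 [253]), (3, el 6 [234], 2, el 6 [345]),
   (3, el 6 [235], 2, el 6 [253]), (4, el 6 [235,124], 0, el 6 [345,132]), (4, el 6 [254,234], 0, el 6 [345,132]), (3, el 6 [345], 2, el 6 [345]),
   (3, el 6 [], 0, el 6 [354,132]), (4, el 6 [235,34,12], 0, el 6 []), (4, el 6 [345], 0, el 6 [345,132]), (3, el 6 [132], 1, el 6 [153,123]),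
   (4, el 6 [345,234], 0, el 6 [345,142]), (4, el 6 [245], 0, el 6 [253]), (3, el 6 [154,124], 1, el 6 [143,123]), (2, el 6 [254,234], 0, el 6 [354,132]),
   (3, el 6 [254,234,12], 1, el 6 [154,124]), (3, el 6 [234,12], 1, el 6 [154,124]), (4, el 6 [245], 0, el 6 [354]), (2, el 6 [345,124], 0, el 6 [345,234]),
   (3, el 6 [254], 0, el 6 []), (4, el 6 [134,25], 0, el 6 []), (1, el 6 [354,12], 1, el 6 [143,123]), (1, el 6 [354], 0, el 6 [153,142]),
   (4, el 6 [354,12], 1, el 6 [345]), (1, el 6 [345,234], 0, el 6 [354]), (3, el 6 [254,132], 1, el 6 [153,123]), (4, el 6 [135,124], 0, el 6 [243]),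
   (2, el 6 [235,124], 0, el 6 [354,132]), (2, el 6 [243], 0, el 6 [354,132]), (2, el 6 [354], 0, el 6 [243]), (4, el 6 [345], 0, el 6 [345,142]),
   (2, el 6 [345,34,12], 0, el 6 []), (3, el 6 [354], 2, el 6 [354]), (3, el 6 [354], 2, el 6 []), (4, el 6 [254], 0, el 6 [354]),
   (3, el 6 [154,123], 0, el 6 [153,142]), (3, el 6 [35,34,12], 0, el 6 [243]), (4, el 6 [142], 1, el 6 [143,123]), (2, el 6 [], 1, el 6 [354]),
   (1, el 6 [345,234], 0, el 6 [345,234]), (2, el 6 [145,123], 0, el 6 [354,132]), (4, el 6 [243], 0, el 6 [345]), (4, el 6 [254], 0, el 6 [345]),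
   (3, el 6 [], 2, el 6 [354]), (3, el 6 [], 2, el 6 [345]), (4, el 6 [354,132], 1, el 6 [143,123]), (3, el 6 [154,124], 1, el 6 []),
   (2, el 6 [234], 0, el 6 [345,234]), (3, el 6 [345], 2, el 6 []), (2, el 6 [345,234], 0, el 6 [354,132]), (1, el 6 [12], 1, el 6 [143,123]),
   (1, el 6 [125], 0, el 6 []), (1, el 6 [254,234], 0, el 6 [345,142])]

theorem certSix_spec : isZero (pcode 6) 5 16 (combo [n6A4, n6Sgn, n6Six] certSix ++ [(4, 1)]) = true := by
  decide +kernel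

end Cfsg.Agent.PGroups.GRC
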