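import Cfsg.Agent.PGroups.AltFiveCert
import Cfsg.Agent.PGroups.AltSixCert

set_option autoImplicit false
set_option maxRecDepth 60000

namespace Cfsg.Agent.PGroups.GRC

/-- product of alternating groups on the two parts of a splitting -/
def sumHom {a b n : ℕ} (e : Fin a ⊕ Fin b ≃ Fin n) :
    alternatingGroup (Fin a) × alternatingGroup (Fin b) →* alternatingGroup (Fin n) :=
  MonoidHom.codRestrict
    (e.permCongrHom.toMonoidHom.comp ((Equiv.Perm.sumCongrHom (Fin a) (Fin b)).comp
      (((alternatingGroup (Fin a)).subtype).prodMap ((alternatingGroup (Fin b)).subtype))))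
    (alternatingGroup (Fin n)) fun x => by
      rw [Equiv.Perm.mem_alternatingGroup]
      obtain ⟨⟨s, hs⟩, ⟨t, ht⟩⟩ := x
      rw [Equiv.Perm.mem_alternatingGroup] at hs ht
      simp [Equiv.permCongrHom, Equiv.Perm.sign_permCongr, Equiv.Perm.sign_sumCongr, hs, ht]

theorem sumHom_injective {a b n : ℕ} (e : Fin a ⊕ Fin b ≃ Fin n) : Function.Injective (sumHom e) := by
  rintro ⟨⟨s, hs⟩, ⟨t, ht⟩⟩ ⟨⟨s', hs'⟩, ⟨t', ht'⟩⟩ h
  have h1 := e.permCongrHom.injective (congrArg Subtype.val h)
  have h2 := Equiv.Perm.sumCongrHom_injective h1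
  simp only [MonoidHom.prodMap, Prod.ext_iff] at h2
  exact Prod.ext (Subtype.ext h2.1) (Subtype.ext h2.2)

/-- inclusion of the stabiliser of the last of six points -/
def incl56 : alternatingGroup (Fin 5) →* alternatingGroup (Fin 6) :=
  (sumHom (finSumFinEquiv (m := 5) (n := 1))).comp (MonoidHom.inl _ _)

/-- mapping of formal combinations -/
def mapL {G H : Type*} (f : G → H) (L : List (ℕ × G)) : List (ℕ × H) := L.map fun x => (x.1, f x.2)

/-- code of a pair -/
def code55 (x : alternatingGroup (Fin 5) × alternatingGroup (Fin 5)) : ℕ :=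
  pcode 5 x.1 + 3125 * pcode 5 x.2

theorem pcode5_lt (x : alternatingGroup (Fin 5)) : pcode 5 x < 3125 :=
  (finFunctionFinEquiv (fun i => (x : Equiv.Perm (Fin 5)) i)).isLt.trans_le (by norm_num)

theorem code55_injective : Function.Injective code55 := by
  intro x y h
  have h1 := pcode5_lt x.1
  have h2 := pcode5_lt y.1
  unfold code55 at h
  exact Prod.ext (pcode_injective 5 (by omega)) (pcode_injective 5 (by omega))

theorem incl_A4 : isZero (pcode 6) 5 16 (mapL incl56 n5A4 ++ mulL [(4, 1)] n6A4) = true := by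
  decide +kernel

theorem incl_St : isZero (pcode 6) 5 16 (mapL incl56 n5St ++ mulL [(4, 1)] n6St) = true := by
  decide +kernel

theorem incl_Sgn : isZero (pcode 6) 5 16 (mapL incl56 n5Sgn ++ mulL [(4, 1)] n6Sgn) = true := by
  decide +kernel

theorem incl_V4 : isZero (pcode 6) 5 16 (mapL incl56 n5V4 ++ mulL [(4, 1)] n6V4) = true := by
  decide +kernel

/-- an involution of a transitive subgroup of order sixty -/
def g6a : alternatingGroup (Fin 6) := el 6 [254,234]

/-- an element of order three of the same subgroup -/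
def g6b : alternatingGroup (Fin 6) := el 6 [345,12]

theorem g6_rels : g6a * g6a = 1 ∧ g6b ^ 3 = 1 ∧ (g6a * g6b) ^ 5 = 1 ∧ g6a ≠ 1 := by decide +kernel

theorem six_fix_a : isZero (pcode 6) 5 16 (mulL [(1, g6a)] n6Six ++ mulL [(4, 1)] n6Six) = true := by
  decide +kernel

theorem six_fix_b : isZero (pcode 6) 5 16 (mulL [(1, g6b)] n6Six ++ mulL [(4, 1)] n6Six) = true := by
  decide +kernel

/-- first generator of the alternating group of degree five -/
def g5a : alternatingGroup (Fin 5) := el 5 [32, 12]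

/-- second generator of the alternating group of degree five -/
def g5b : alternatingGroup (Fin 5) := el 5 [24]

theorem g5_rels : g5a * g5a = 1 ∧ g5b ^ 3 = 1 ∧ (g5a * g5b) ^ 5 = 1 ∧ g5a ≠ 1 := by decide +kernel

/-- the diagonal combination -/
def nDiag : List (ℕ × alternatingGroup (Fin 5) × alternatingGroup (Fin 5)) :=
  all5.map fun g => (1, g, g)

theorem diag_fix_a : isZero code55 5 24 (mulL [(1, (g5a, g5a))] nDiag ++ mulL [(4, 1)] nDiag) = true := by
  decide +kernel

theorem diag_fix_b : isZero code55 5 24 (mulL [(1, (g5b, g5b))] nDiag ++ mulL [(4, 1)] nDiag) = true := by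
  decide +kernel

theorem diag_classes : isZero code55 5 24
    (combo [nDiag] (all5.map fun a => (1, ((a, 1) : alternatingGroup (Fin 5) × alternatingGroup (Fin 5)),
        0, ((a⁻¹, 1) : alternatingGroup (Fin 5) × alternatingGroup (Fin 5)))) ++
      mulL (mapL (fun x => (x, 1)) n5Inv) (mapL (fun x => (1, x)) n5Inv) ++
      mulL [(2, 1)] (mulL (mapL (fun x => (x, 1)) n5Thr) (mapL (fun x => (1, x)) n5Thr))) = true := by
  decide +kernel

theorem mem_all5 : ∀ a : alternatingGroup (Fin 5), a ∈ all5 := by decide +kernel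

theorem n5A4_fix : ∀ a ∈ all5, (a : Equiv.Perm (Fin 5)) 4 = 4 →
    isZero (pcode 5) 5 12 (mulL [(1, a)] n5A4 ++ mulL [(4, 1)] n5A4) = true := by
  decide +kernel

theorem n5A4_mem : ∀ x ∈ n5A4, (x.2 : Equiv.Perm (Fin 5)) 4 = 4 := by decide +kernel

theorem n5V4_mem : ∀ x ∈ n5V4, (x.2 : Equiv.Perm (Fin 5)) 4 = 4 := by decide +kernel

theorem n5V4_sq : isZero (pcode 5) 5 12 (mulL n5V4 n5V4 ++ n5V4) = true := by decide +kernel

theorem stab_zero_one : ∀ a ∈ all5, (a : Equiv.Perm (Fin 5)) 0 = 0 → (a : Equiv.Perm (Fin 5)) 1 = 1 →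
    a = 1 ∨ a = el 5 [234] ∨ a = el 5 [234] * el 5 [234] := by
  decide +kernel

/-- transversal of the stabiliser of the last point -/
def rep5 : Fin 5 → alternatingGroup (Fin 5) :=
  ![el 5 [401], el 5 [410], el 5 [421], el 5 [431], 1]

theorem rep5_spec : ∀ i, (rep5 i : Equiv.Perm (Fin 5)) 4 = i := by decide +kernel

theorem two_transitive : ∀ i j : Fin 5, i ≠ j →
    ∃ a ∈ all5, (a : Equiv.Perm (Fin 5)) 0 = i ∧ (a : Equiv.Perm (Fin 5)) 1 = j := by
  decide +kernel

theorem three_transitive : ∀ i j k : Fin 5, i ≠ j → j ≠ k → i ≠ k →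
    ∃ a ∈ all5, (a : Equiv.Perm (Fin 5)) 0 = i ∧ (a : Equiv.Perm (Fin 5)) 1 = j ∧
      (a : Equiv.Perm (Fin 5)) 2 = k := by
  decide +kernel

end Cfsg.Agent.PGroups.GRC
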