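import Cfsg.Agent.PGroups.AltNineCert

/-!
Every nonzero module over `F_2[A₉]` has a nonzero vector fixed by `A₅` or by a Hurwitz group.
-/

set_option autoImplicit false

namespace Cfsg.Agent.PGroups.AltNine

open GRC

/-- conjugation by a transposition outside the alternating group -/
def twist : alternatingGroup (Fin 9) →* alternatingGroup (Fin 9) :=
  (MulAut.conjNormal (H := alternatingGroup (Fin 9)) (Equiv.swap (6 : Fin 9) 7)).toMonoidHom

/-- images under the twist as words -/
def twistWords : List (List ℕ) := [[0], [1], [2], [3, 2], [4], [5, 4, 2, 0], [6]]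

theorem twist_spec : ((sylGens ++ [parElt1]).map fun k => pcode 9 (twist k)) =
    twistWords.map (fun w => pcode 9 (kel (sylGens ++ [parElt2]) w)) := by decide +kernel

/-- how a Sylow generator permutes the cosets in a minimal overgroup -/
def exTab : List (List (List (ℕ × List ℕ))) :=
  [[[(0, [0]), (1, [4, 2]), (2, [4])], [(0, [1]), (2, [5, 3]), (1, [5, 1])],
    [(0, [2]), (1, [4, 0]), (2, [4, 2, 0])], [(0, [3]), (2, [3]), (1, [3])],
    [(0, [4]), (1, [0]), (2, [4, 2])], [(0, [5]), (1, [3, 1]), (2, [5, 3, 1])]],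
   [[(0, [0]), (1, [1, 0]), (2, [1])], [(0, [1]), (1, [0]), (2, [1, 0])],
    [(0, [2]), (1, [3, 2]), (2, [3])], [(0, [3]), (1, [2]), (2, [3, 2])],
    [(0, [4]), (2, [4, 3, 1]), (1, [3, 1, 4])], [(0, [5]), (1, [5]), (2, [5])]],
   [[(0, [0]), (1, [1, 0]), (2, [1])], [(0, [1]), (1, [0]), (2, [1, 0])],
    [(0, [2]), (1, [3]), (2, [3, 2])], [(0, [3]), (1, [3, 2]), (2, [2])],
    [(0, [4]), (2, [3, 4, 1]), (1, [1, 4, 3])], [(0, [5]), (2, [5]), (1, [5])]]]

/-- check of the coset table of one overgroup -/
def exCheck (g : alternatingGroup (Fin 9)) (tab : List (List (ℕ × List ℕ))) : Bool :=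
  (tab.length == sylGens.length) && (List.range 6).all fun i =>
    let r := tab.getD i []
    decide ((r.map Prod.fst).Perm [0, 1, 2]) &&
      ((List.range 3).map fun j => pcode 9 (sylGens.getD i 1 * g ^ j)) ==
        r.map (fun t => pcode 9 (g ^ t.1 * kel sylGens t.2))

theorem exCheck_spec : exCheck parElt0 (exTab.getD 0 []) = true ∧
    exCheck parElt1 (exTab.getD 1 []) = true ∧ exCheck parElt2 (exTab.getD 2 []) = true := by
  decide +kernel

theorem parElt_cube : parElt0 * parElt0 * parElt0 = 1 ∧ parElt1 * parElt1 * parElt1 = 1 ∧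
    parElt2 * parElt2 * parElt2 = 1 := by decide +kernel

/-- conjugates along the series of the Sylow subgroup -/
def serWords : List (List (List ℕ)) :=
  [[], [[0]], [[0], [1]], [[0], [1], [2]], [[0], [1, 0], [2], [3, 2]], [[2], [3], [0], [1], [4]]]

theorem ser_spec : ∀ k < 6, pcode 9 (sylGens.getD k 1 * sylGens.getD k 1) = pcode 9 (1 : alternatingGroup (Fin 9)) ∧
    ((sylGens.take k).map fun r => pcode 9 (r * sylGens.getD k 1)) =
      (serWords.getD k []).map (fun w => pcode 9 (sylGens.getD k 1 * kel (sylGens.take k) w)) := by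
  decide +kernel

theorem sylGens_length : sylGens.length = 6 := rfl

variable {V : Type*} [AddCommGroup V] (ρ : alternatingGroup (Fin 9) →* AddMonoid.End V)

theorem rho_mul (a b : alternatingGroup (Fin 9)) (v : V) : ρ (a * b) v = ρ a (ρ b v) := by
  rw [map_mul]; rfl

/-- fixed by the Sylow subgroup -/
def FixS (v : V) : Prop := ∀ k ∈ sylGens, ρ k v = v

/-- the sum over a minimal overgroup -/
def psum (g : alternatingGroup (Fin 9)) (v : V) : V := v + ρ g v + ρ (g * g) v

theorem psum_fixed {g : alternatingGroup (Fin 9)} {tab : List (List (ℕ × List ℕ))}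
    (hg : g * g * g = 1) (h : exCheck g tab = true) {v : V} (hv : FixS ρ v) :
    ∀ k ∈ sylGens ++ [g], ρ k (psum ρ g v) = psum ρ g v := by
  have hsum : psum ρ g v = ([0, 1, 2].map fun j => ρ (g ^ j) v).sum := by
    simp [psum, pow_succ, add_assoc]
  intro k hk
  rw [List.mem_append, List.mem_singleton] at hk
  rcases hk with hk | rfl
  · obtain ⟨i, hi, rfl⟩ := List.getElem_of_mem hk
    simp only [exCheck, Bool.and_eq_true, List.all_eq_true, List.mem_range, decide_eq_true_eq,
      beq_iff_eq] at h
    obtain ⟨hperm, hcode⟩ := h.2 i (by simpa [sylGens_length] using hi)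
    rw [List.getD_eq_getElem _ _ hi] at hcode
    have heq : ((List.range 3).map fun j => sylGens[i] * g ^ j) =
        (tab.getD i []).map (fun t => g ^ t.1 * kel sylGens t.2) :=
      (List.map_injective_iff.mpr (pcode_injective 9)) (by
        simpa [List.map_map, Function.comp_def] using hcode)
    rw [hsum, map_list_sum, List.map_map]
    calc ([0, 1, 2].map ((fun x => ρ sylGens[i] x) ∘ fun j => ρ (g ^ j) v)).sum
        = (((List.range 3).map fun j => sylGens[i] * g ^ j).map fun x => ρ x v).sum := by
          rw [List.map_map]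
          simp [List.range_succ, Function.comp_def, rho_mul, add_assoc]
      _ = (((tab.getD i []).map Prod.fst).map fun j => ρ (g ^ j) v).sum := by
          rw [heq, List.map_map, List.map_map]
          congr 1
          refine List.map_congr_left fun t _ => ?_
          rw [Function.comp_apply, Function.comp_apply, rho_mul, kel_fixed ρ sylGens hv]
      _ = _ := (hperm.map _).sum_eq
  · simp only [psum, map_add, ← rho_mul]
    rw [← mul_assoc, hg, map_one]
    show _ + _ + v = _
    abel

variable (h2 : ∀ v : V, 2 • v = 0)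

include h2

theorem exists_fixS [Nontrivial V] : ∃ v, v ≠ 0 ∧ FixS ρ v := by
  have key : ∀ k ≤ 6, ∃ v, v ≠ 0 ∧ ∀ r ∈ sylGens.take k, ρ r v = v := by
    intro k hk
    induction k with
    | zero => obtain ⟨v, hv⟩ := exists_ne (0 : V); exact ⟨v, hv, by simp⟩
    | succ k ih =>
      obtain ⟨v, hv, hfix⟩ := ih (by omega)
      obtain ⟨hsq, hconj⟩ := ser_spec k (by omega)
      have hlt : k < sylGens.length := by rw [sylGens_length]; omega
      rw [List.getD_eq_getElem _ _ hlt] at hsq hconj
      have hsq' := pcode_injective 9 hsq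
      have hs : ∀ r ∈ sylGens.take k, ρ r (ρ sylGens[k] v) = ρ sylGens[k] v := by
        intro r hr
        obtain ⟨i, hi, rfl⟩ := List.getElem_of_mem hr
        have e := congrArg (fun L => L[i]?) hconj
        simp only [List.getElem?_map, List.getElem?_eq_getElem hi, Option.map_some] at e
        obtain ⟨w, -, hw⟩ := Option.map_eq_some_iff.mp e.symm
        rw [← rho_mul, ← pcode_injective 9 hw, rho_mul, kel_fixed ρ _ hfix]
      rw [← List.take_concat_get' sylGens k hlt]
      by_cases h : v + ρ sylGens[k] v = 0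
      · refine ⟨v, hv, fun r hr => ?_⟩
        rw [List.mem_append, List.mem_singleton] at hr
        rcases hr with hr | rfl
        · exact hfix r hr
        · exact (eq_of_add_zero h2 h).symm
      · refine ⟨_, h, fun r hr => ?_⟩
        rw [List.mem_append, List.mem_singleton] at hr
        rw [map_add]
        rcases hr with hr | rfl
        · rw [hfix r hr, hs r hr]
        · rw [← rho_mul, hsq', map_one]
          show _ + v = _
          rw [add_comm]
  obtain ⟨v, hv, h⟩ := key 6 le_rfl
  exact ⟨v, hv, fun r hr => h r (by rwa [List.take_of_length_le sylGens_length.le])⟩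

theorem eq_zero_of_parOne (hρ : Free2 ρ) {u : V} (hu : ∀ k ∈ sylGens ++ [parElt1], ρ k u = u) :
    u = 0 :=
  orbitCheck_spec ρ h2 hρ parOne_tables parOne_rows parOne_extra parOne_zero hu
    (fun g hg => absurd hg List.not_mem_nil)

theorem eq_zero_of_parTwo (hρ : Free2 ρ) {u : V} (hu : ∀ k ∈ sylGens ++ [parElt2], ρ k u = u) :
    u = 0 := by
  have hinj : Function.Injective twist := MulEquiv.injective _
  refine eq_zero_of_parOne (ρ.comp twist) h2 ?_ fun k hk => ?_
  · intro a b ha hb hab hne v hva hvb
    refine hρ (twist a) (twist b) (by rw [← map_mul, ha, map_one])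
      (by rw [← map_mul, ← map_mul, hb, map_one]) ?_ (fun e => hne (hinj (e.trans (map_one _).symm)))
      v hva hvb
    rcases hab with h | h
    · exact Or.inl (by rw [← map_mul, ← map_pow, h, map_one])
    · exact Or.inr (by rw [← map_mul, ← map_pow, h, map_one])
  · obtain ⟨i, hi, rfl⟩ := List.getElem_of_mem hk
    have e := congrArg (fun L => L[i]?) twist_spec
    simp only [List.getElem?_map, List.getElem?_eq_getElem hi, Option.map_some] at e
    obtain ⟨w, -, hw⟩ := Option.map_eq_some_iff.mp e.symm
    show ρ (twist _) u = u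
    rw [← pcode_injective 9 hw, kel_fixed ρ _ hu]

/-- the main result -/
theorem eq_zero_of_free (hρ : Free2 ρ) (v : V) : v = 0 := by
  by_contra hne
  have : Nontrivial V := ⟨v, 0, hne⟩
  obtain ⟨w, hw, hfix⟩ := exists_fixS ρ h2
  refine hw ?_
  obtain ⟨c0, c1, c2⟩ := exCheck_spec
  obtain ⟨e0, e1, e2⟩ := parElt_cube
  have z1 : ∀ u, FixS ρ u → psum ρ parElt1 u = 0 := fun u hu =>
    eq_zero_of_parOne ρ h2 hρ (psum_fixed ρ e1 c1 hu)
  have z2 : ∀ u, FixS ρ u → psum ρ parElt2 u = 0 := fun u hu =>
    eq_zero_of_parTwo ρ h2 hρ (psum_fixed ρ e2 c2 hu)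
  have z0 : psum ρ parElt0 w = 0 := by
    have hf := psum_fixed ρ e0 c0 hfix
    have hS : FixS ρ (psum ρ parElt0 w) := fun k hk => hf k (List.mem_append_left _ hk)
    refine orbitCheck_spec ρ h2 hρ parZero_tables parZero_rows parZero_extra parZero_zero hf ?_
    intro g hg
    simp only [parZeroData, List.mem_cons, List.not_mem_nil, or_false] at hg
    rcases hg with rfl | rfl
    · exact z1 _ hS
    · exact z2 _ hS
  refine orbitCheck_spec ρ h2 hρ borel_tables borel_rows borel_extra borel_zero hfix ?_
  intro g hg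
  simp only [borelData, List.mem_cons, List.not_mem_nil, or_false] at hg
  rcases hg with rfl | rfl | rfl
  · exact z0
  · exact z1 w hfix
  · exact z2 w hfix

end Cfsg.Agent.PGroups.AltNine
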