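import Cfsg.Agent.PGroups.AltTenModule

/-!
The homomorphisms needed to apply `AltTen.eq_zero_of_free` to the alternating group of degree ten.
-/

set_option autoImplicit false
set_option maxRecDepth 20000

namespace Cfsg.Agent.PGroups.AltTen

open GRC

/-- two halves of ten points -/
def phi : alternatingGroup (Fin 5) × alternatingGroup (Fin 5) →* alternatingGroup (Fin 10) :=
  sumHom (finSumFinEquiv (m := 5) (n := 5))

/-- splitting of ten points as four and six, the six starting with the fifth point shifted -/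
def e46 : Fin 4 ⊕ Fin 6 ≃ Fin 10 :=
  (Equiv.sumCongr (Equiv.refl (Fin 4)) (finRotate 6)).trans finSumFinEquiv

/-- the alternating group on the last six points -/
def psi : alternatingGroup (Fin 6) →* alternatingGroup (Fin 10) :=
  (sumHom e46).comp (MonoidHom.inr _ _)

/-- elements of the alternating group of degree four -/
def all4 : List (alternatingGroup (Fin 4)) :=
  [1, el 4 [12], el 4 [21], el 4 [13], el 4 [31], el 4 [23], el 4 [32], el 4 [123], el 4 [132],
    el 4 [32, 12], el 4 [13, 23], el 4 [21, 31]]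

theorem phi_left_spec : ∀ a ∈ all5, (a : Equiv.Perm (Fin 5)) 4 = 4 →
    ∃ b ∈ all4, pcode 10 (phi (a, 1)) = pcode 10 (sumHom e46 (b, 1)) := by decide +kernel

theorem phi_right_spec : ∀ a ∈ all5, pcode 10 (phi (1, a)) = pcode 10 (psi (incl56 a)) := by
  decide +kernel

/-- interchange of the two point stabilisers -/
def swapHalves : alternatingGroup (Fin 10) :=
  ⟨Equiv.swap 0 5 * Equiv.swap 1 6 * (Equiv.swap 2 7 * Equiv.swap 3 8), by
    simp [Equiv.Perm.mem_alternatingGroup, Equiv.Perm.sign_swap, show (0 : Fin 10) ≠ 5 by decide,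
      show (1 : Fin 10) ≠ 6 by decide, show (2 : Fin 10) ≠ 7 by decide,
      show (3 : Fin 10) ≠ 8 by decide]⟩

theorem swapHalves_spec : ∀ a ∈ all5, (a : Equiv.Perm (Fin 5)) 4 = 4 →
    pcode 10 (swapHalves * phi (a, 1)) = pcode 10 (phi (1, a) * swapHalves) := by decide +kernel

/-- every nonzero module over `F_5[A₁₀]` has a nonzero vector fixed by `A₅` -/
theorem eq_zero_of_free_ten {V : Type*} [AddCommGroup V] (h5 : ∀ v : V, 5 • v = 0)
    (ρ : alternatingGroup (Fin 10) →* AddMonoid.End V) (hρ : Free ρ) (v : V) : v = 0 := by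
  refine eq_zero_of_free phi ρ h5 hρ (sumHom_injective _) psi
    (fun x y h => congrArg Prod.snd (sumHom_injective e46 h))
    (fun x => pcode_injective 10 (phi_right_spec x (mem_all5 x))) ?_ swapHalves
    (fun a ha => pcode_injective 10 (swapHalves_spec a (mem_all5 a) ha)) v
  intro a ha y
  obtain ⟨b, -, hb⟩ := phi_left_spec a (mem_all5 a) ha
  rw [pcode_injective 10 hb]
  show sumHom e46 (b, 1) * sumHom e46 (1, y) = sumHom e46 (1, y) * sumHom e46 (b, 1)
  rw [← map_mul, ← map_mul, Prod.mk_mul_mk, Prod.mk_mul_mk, mul_one, one_mul, mul_one, one_mul]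

end Cfsg.Agent.PGroups.AltTen
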