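import Cfsg.Agent.PGroups.AltGlueCert
import Mathlib.Tactic.LinearCombination

/-!
Every nonzero module over `F_5[A₁₀]` has a nonzero vector fixed by a subgroup isomorphic to `A₅`.
The proof is arranged for an abstract group `G` receiving `A₅ × A₅` and `A₆`.
-/

set_option autoImplicit false

open scoped BigOperators

namespace Cfsg.Agent.PGroups.AltTen

open GRC

variable {G : Type*} [Group G] {V : Type*} [AddCommGroup V]

/-- only the zero vector is fixed by a subgroup generated as `A₅` -/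
def Free (ρ : G →* AddMonoid.End V) : Prop :=
  ∀ a b : G, a * a = 1 → b ^ 3 = 1 → (a * b) ^ 5 = 1 → a ≠ 1 →
    ∀ v, ρ a v = v → ρ b v = v → v = 0

theorem rho_mul (ρ : G →* AddMonoid.End V) (a b : G) (v : V) : ρ (a * b) v = ρ a (ρ b v) := by
  rw [map_mul]; rfl

theorem rho_one (ρ : G →* AddMonoid.End V) (v : V) : ρ 1 v = v := by
  rw [map_one]; rfl

theorem rho_inj (ρ : G →* AddMonoid.End V) (a : G) {v : V} (h : ρ a v = 0) : v = 0 := by
  have := congrArg (ρ a⁻¹) h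
  rwa [← rho_mul, inv_mul_cancel, rho_one, map_zero] at this

theorem ev_mapL {H : Type*} [Group H] (ρ : G →* AddMonoid.End V) (f : H →* G) (L : List (ℕ × H))
    (v : V) : ev ρ (mapL f L) v = ev (ρ.comp f) L v := by
  simp [ev, mapL, List.map_map, Function.comp_def]

theorem ev_congr {H : Type*} [Group H] (ρ₁ ρ₂ : H →* AddMonoid.End V) (L : List (ℕ × H))
    (h : ∀ x ∈ L, ∀ v, ρ₁ x.2 v = ρ₂ x.2 v) (v : V) : ev ρ₁ L v = ev ρ₂ L v := by
  unfold ev
  congr 1
  exact List.map_congr_left fun x hx => by rw [h x hx v]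

theorem map_ev {H : Type*} [Group H] (ρ₁ ρ₂ : H →* AddMonoid.End V) (t : AddMonoid.End V) (L : List (ℕ × H))
    (h : ∀ x ∈ L, ∀ v, t (ρ₁ x.2 v) = ρ₂ x.2 (t v)) (v : V) :
    t (ev ρ₁ L v) = ev ρ₂ L (t v) := by
  induction L with
  | nil => simp
  | cons x L ih =>
    rw [ev_cons, ev_cons, map_add, map_nsmul, h x List.mem_cons_self,
      ih fun y hy => h y (List.mem_cons_of_mem _ hy)]

theorem ev_neg {H : Type*} [Group H] (ρ : H →* AddMonoid.End V) (h5 : ∀ v : V, 5 • v = 0)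
    {code : H → ℕ} (hc : Function.Injective code) {d : ℕ} {L K : List (ℕ × H)}
    (h : isZero code 5 d (L ++ mulL [(4, 1)] K) = true) (v : V) : ev ρ L v = ev ρ K v := by
  have := ev_eq_zero ρ hc h5 h v
  rw [ev_append, ev_mulL, ev_cons, ev_nil, add_zero, rho_one] at this
  have e := h5 (ev ρ K v)
  rw [show (5 : ℕ) = 4 + 1 from rfl, add_nsmul, one_nsmul] at e
  calc ev ρ L v = ev ρ L v + (4 • ev ρ K v + ev ρ K v) := by rw [e, add_zero]
    _ = ev ρ K v := by rw [← add_assoc, this, zero_add]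

theorem split_five (h5 : ∀ v : V, 5 • v = 0) (a b : ℕ) (h : a + b = 5) (x : V) :
    a • x + b • x = 0 := by
  rw [← add_nsmul, h]
  exact h5 x

theorem split_four (h5 : ∀ v : V, 5 • v = 0) (x : V) : 4 • x + x = 0 := by
  simpa using split_five h5 4 1 rfl x

theorem eq_zero_of_four (h5 : ∀ v : V, 5 • v = 0) {v : V} (h : 4 • v = 0) : v = 0 := by
  have e := split_four h5 v
  rw [h, zero_add] at e
  exact e

variable (Φ : alternatingGroup (Fin 5) × alternatingGroup (Fin 5) →* G) (ρ : G →* AddMonoid.End V)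

/-- the left action -/
def rL : alternatingGroup (Fin 5) →* AddMonoid.End V := ρ.comp (Φ.comp (MonoidHom.inl _ _))

/-- the right action -/
def rR : alternatingGroup (Fin 5) →* AddMonoid.End V := ρ.comp (Φ.comp (MonoidHom.inr _ _))

theorem rL_rR (x y : alternatingGroup (Fin 5)) (v : V) :
    rL Φ ρ x (rR Φ ρ y v) = ρ (Φ (x, y)) v := by
  show ρ (Φ (x, 1)) (ρ (Φ (1, y)) v) = _
  rw [← rho_mul, ← map_mul, Prod.mk_mul_mk, mul_one, one_mul]

theorem rR_rL (x y : alternatingGroup (Fin 5)) (v : V) :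
    rR Φ ρ y (rL Φ ρ x v) = ρ (Φ (x, y)) v := by
  show ρ (Φ (1, y)) (ρ (Φ (x, 1)) v) = _
  rw [← rho_mul, ← map_mul, Prod.mk_mul_mk, mul_one, one_mul]

theorem rL_rR_comm (x y : alternatingGroup (Fin 5)) (v : V) :
    rL Φ ρ x (rR Φ ρ y v) = rR Φ ρ y (rL Φ ρ x v) := by rw [rL_rR, rR_rL]

theorem ev_comm (L K : List (ℕ × alternatingGroup (Fin 5))) (y : V) :
    ev (rL Φ ρ) L (ev (rR Φ ρ) K y) = ev (rR Φ ρ) K (ev (rL Φ ρ) L y) := by
  induction K with
  | nil => simp [ev_zero]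
  | cons k K ih =>
    rw [ev_cons, ev_cons, ev_add, ev_nsmul, ih]
    congr 2
    exact (map_ev (rL Φ ρ) (rL Φ ρ) (rR Φ ρ k.2) L
      (fun z _ u => (rL_rR_comm Φ ρ z.2 k.2 u).symm) y).symm

/-- fixed by the left stabiliser of the last point -/
def FixL (v : V) : Prop :=
  ∀ a : alternatingGroup (Fin 5), (a : Equiv.Perm (Fin 5)) 4 = 4 → rL Φ ρ a v = v

/-- fixed by the right stabiliser of the last point -/
def FixR (v : V) : Prop :=
  ∀ a : alternatingGroup (Fin 5), (a : Equiv.Perm (Fin 5)) 4 = 4 → rR Φ ρ a v = v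

/-- translates of a vector along the transversal -/
def tr (r : alternatingGroup (Fin 5) →* AddMonoid.End V) (v : V) (i : Fin 5) : V := r (rep5 i) v

theorem tr_smul {r : alternatingGroup (Fin 5) →* AddMonoid.End V} {v : V}
    (hv : ∀ a : alternatingGroup (Fin 5), (a : Equiv.Perm (Fin 5)) 4 = 4 → r a v = v)
    (a : alternatingGroup (Fin 5)) (i : Fin 5) :
    r a (tr r v i) = tr r v ((a : Equiv.Perm (Fin 5)) i) := by
  unfold tr
  have h := hv ((rep5 ((a : Equiv.Perm (Fin 5)) i))⁻¹ * a * rep5 i) (by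
    simp only [Subgroup.coe_mul, Subgroup.coe_inv, Equiv.Perm.mul_apply, rep5_spec]
    rw [Equiv.Perm.inv_eq_iff_eq, rep5_spec])
  have h' := congrArg (r (rep5 ((a : Equiv.Perm (Fin 5)) i))) h
  rw [← rho_mul r, ← mul_assoc, mul_inv_cancel_left, rho_mul r] at h'
  exact h'

theorem tr_four (r : alternatingGroup (Fin 5) →* AddMonoid.End V) (v : V) : tr r v 4 = v := by
  show r 1 v = v
  exact rho_one r v

/-- magic square lemma -/
theorem magic (h5 : ∀ v : V, 5 • v = 0) (A : Fin 5 → Fin 5 → V)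
    (h : ∀ π : alternatingGroup (Fin 5), ∑ i, A i ((π : Equiv.Perm (Fin 5)) i) = 0) :
    A 0 0 + A 1 1 = A 0 1 + A 1 0 := by
  let g : ℕ → V := fun k => A (Fin.ofNat 5 (k / 5)) (Fin.ofNat 5 k)
  have hg : ∀ i j : Fin 5, g (5 * i.val + j.val) = A i j := by
    intro i j
    simp only [g]
    congr 1 <;> apply Fin.ext <;> simp [Fin.val_ofNat] <;> omega
  have hs := sum_eq_zero_of_keysZero h5 _ g certMagic_spec
  rw [List.map_append, List.sum_append] at hs
  have h0 : ∀ C : List (ℕ × alternatingGroup (Fin 5)), ((C.flatMap fun t =>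
      (List.finRange 5).map fun i : Fin 5 =>
        (t.1, 5 * i.val + ((t.2 : Equiv.Perm (Fin 5)) i).val)).map fun x => x.1 • g x.2).sum = 0 := by
    intro C
    induction C with
    | nil => simp
    | cons t C ih =>
      rw [List.flatMap_cons, List.map_append, List.sum_append, ih, add_zero, List.map_map]
      simp only [Function.comp_def, hg]
      rw [← Fin.sum_univ_def, ← Finset.smul_sum, h, smul_zero]
  rw [h0, zero_add] at hs
  have e := hg 0 0; have e1 := hg 0 1; have e5 := hg 1 0; have e6 := hg 1 1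
  simp only [Fin.val_zero, Fin.val_one, Nat.mul_zero, Nat.zero_add, Nat.mul_one, Nat.add_zero] at e e1 e5 e6
  simp only [List.map_cons, List.map_nil, List.sum_cons, List.sum_nil, add_zero, one_nsmul] at hs
  rw [show (5 + 1 : ℕ) = 6 from rfl] at e6
  rw [e, e1, e5, e6] at hs
  have f0 := split_four h5 (A 0 0); have f1 := split_four h5 (A 1 1)
  linear_combination (norm := abel) -hs + f0 + f1

/-- an equivariant family on ordered pairs -/
structure IsPairFamily (r : alternatingGroup (Fin 5) →* AddMonoid.End V) (E : Fin 5 → Fin 5 → V) :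
    Prop where
  smul : ∀ b j k, r b (E j k) =
    E ((b : Equiv.Perm (Fin 5)) j) ((b : Equiv.Perm (Fin 5)) k)
  add : ∀ i j k, E i j + E j k = E i k

theorem g5a_apply : ((g5a : alternatingGroup (Fin 5)) : Equiv.Perm (Fin 5)) 0 = 1 ∧
    ((g5a : alternatingGroup (Fin 5)) : Equiv.Perm (Fin 5)) 1 = 0 := by decide +kernel

theorem c012_apply : ((el 5 [12] : alternatingGroup (Fin 5)) : Equiv.Perm (Fin 5)) 0 = 1 ∧
    ((el 5 [12] : alternatingGroup (Fin 5)) : Equiv.Perm (Fin 5)) 1 = 2 ∧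
    ((el 5 [12] : alternatingGroup (Fin 5)) : Equiv.Perm (Fin 5)) 2 = 0 := by decide +kernel

theorem tri_spec : isZero (pcode 5) 5 12 ([(1, 1), (1, el 5 [12]), (1, el 5 [12] * el 5 [12])] ++
    mulL [(4, 1)] n5Tri) = true := by decide +kernel

theorem exists_pairFamily (r : alternatingGroup (Fin 5) →* AddMonoid.End V) (h5 : ∀ v : V, 5 • v = 0)
    {x : V} (hc : r (el 5 [234]) x = x) (hs : r g5a x = -x) (htri : ev r n5Tri x = 0) :
    ∃ E, IsPairFamily r E ∧ E 0 1 = x ∧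
      ∀ j k, E j k = 0 ∨ ∃ b, E j k = r b x := by
  have hcc : ∀ h : alternatingGroup (Fin 5), (h : Equiv.Perm (Fin 5)) 0 = 0 →
      (h : Equiv.Perm (Fin 5)) 1 = 1 → r h x = x := by
    intro h h0 h1
    rcases stab_zero_one h (mem_all5 h) h0 h1 with rfl | rfl | rfl
    · exact rho_one r x
    · exact hc
    · rw [rho_mul, hc, hc]
  choose s hs' using fun p : {p : Fin 5 × Fin 5 // p.1 ≠ p.2} => two_transitive p.1.1 p.1.2 p.2
  let E : Fin 5 → Fin 5 → V := fun j k => if h : j ≠ k then r (s ⟨(j, k), h⟩) x else 0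
  have hEdef : ∀ b : alternatingGroup (Fin 5),
      E ((b : Equiv.Perm (Fin 5)) 0) ((b : Equiv.Perm (Fin 5)) 1) = r b x := by
    intro b
    have hne : (b : Equiv.Perm (Fin 5)) 0 ≠ (b : Equiv.Perm (Fin 5)) 1 := by simp
    simp only [E, dif_pos hne]
    obtain ⟨-, e0, e1⟩ := hs' ⟨((b : Equiv.Perm (Fin 5)) 0, (b : Equiv.Perm (Fin 5)) 1), hne⟩
    set t := s ⟨((b : Equiv.Perm (Fin 5)) 0, (b : Equiv.Perm (Fin 5)) 1), hne⟩
    have ht := hcc (b⁻¹ * t)
      (by simp only [Subgroup.coe_mul, Subgroup.coe_inv, Equiv.Perm.mul_apply, e0]; simp)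
      (by simp only [Subgroup.coe_mul, Subgroup.coe_inv, Equiv.Perm.mul_apply, e1]; simp)
    have h := congrArg (r b) ht
    rw [← rho_mul r, mul_inv_cancel_left] at h
    exact h
  have hjj : ∀ j, E j j = 0 := fun j => dif_neg (not_not.mpr rfl)
  have hsmul : ∀ b j k, r b (E j k) =
      E ((b : Equiv.Perm (Fin 5)) j) ((b : Equiv.Perm (Fin 5)) k) := by
    intro b j k
    by_cases h : j = k
    · rw [h, hjj, hjj, map_zero]
    · obtain ⟨c, -, rfl, rfl⟩ := two_transitive j k h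
      rw [hEdef, ← rho_mul r, ← hEdef (b * c), Subgroup.coe_mul, Equiv.Perm.mul_apply,
        Equiv.Perm.mul_apply]
  have h01 : E 0 1 = x := by
    have e := hEdef 1
    rw [rho_one r x] at e
    simpa using e
  have hanti : ∀ j k, E k j = -E j k := by
    intro j k
    by_cases h : j = k
    · rw [h, hjj, neg_zero]
    · obtain ⟨c, -, rfl, rfl⟩ := two_transitive j k h
      have e1 := hEdef (c * g5a)
      rw [Subgroup.coe_mul, Equiv.Perm.mul_apply, Equiv.Perm.mul_apply, g5a_apply.1,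
        g5a_apply.2, rho_mul r, hs, map_neg, ← hEdef c] at e1
      exact e1
  obtain ⟨v0, v1, v2⟩ := c012_apply
  have h012 : E 0 1 + E 1 2 + E 2 0 = 0 := by
    have e1 := hsmul (el 5 [12]) 0 1
    have e2 := hsmul (el 5 [12]) 1 2
    rw [v0, v1] at e1
    rw [v1, v2] at e2
    rw [h01] at e1
    rw [← e1, ← rho_mul r] at e2
    rw [h01, ← e1, ← e2]
    have := ev_neg r h5 (pcode_injective 5) tri_spec x
    rw [htri, ev_cons, ev_cons, ev_cons, ev_nil, add_zero, one_nsmul, one_nsmul, one_nsmul,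
      rho_one] at this
    rw [add_assoc]
    exact this
  refine ⟨E, ⟨hsmul, ?_⟩, h01, fun j k => ?_⟩
  · intro i j k
    by_cases hij : i = j
    · subst hij; rw [hjj, zero_add]
    by_cases hjk : j = k
    · subst hjk; rw [hjj, add_zero]
    by_cases hik : i = k
    · subst hik; rw [hjj, hanti i j, add_neg_cancel]
    obtain ⟨c, -, rfl, rfl, rfl⟩ := three_transitive i j k hij hjk hik
    have e := congrArg (r c) h012
    rw [map_add, map_add, map_zero, hsmul, hsmul, hsmul] at e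
    rw [hanti ((c : Equiv.Perm (Fin 5)) 2) ((c : Equiv.Perm (Fin 5)) 0)]
    exact eq_neg_of_add_eq_zero_left e
  · by_cases h : j = k
    · exact Or.inl (by rw [h, hjj])
    · obtain ⟨c, -, rfl, rfl⟩ := two_transitive j k h
      exact Or.inr ⟨c, hEdef c⟩

section
variable (h5 : ∀ v : V, 5 • v = 0) (hρ : Free ρ) (hΦ : Function.Injective Φ)

include hρ hΦ

theorem free_left {v : V} (h : ∀ a, rL Φ ρ a v = v) : v = 0 := by
  refine hρ (Φ (g5a, 1)) (Φ (g5b, 1)) ?_ ?_ ?_ ?_ v (h _) (h _)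
  · rw [← map_mul, Prod.mk_mul_mk, g5_rels.1, mul_one, ← Prod.one_eq_mk, map_one]
  · rw [← map_pow, Prod.pow_mk, g5_rels.2.1, one_pow, ← Prod.one_eq_mk, map_one]
  · rw [← map_mul, ← map_pow, Prod.mk_mul_mk, Prod.pow_mk, g5_rels.2.2.1, mul_one, one_pow,
      ← Prod.one_eq_mk, map_one]
  · intro e
    exact g5_rels.2.2.2 (congrArg Prod.fst (hΦ (e.trans (map_one Φ).symm)))

theorem free_right {v : V} (h : ∀ a, rR Φ ρ a v = v) : v = 0 := by
  refine hρ (Φ (1, g5a)) (Φ (1, g5b)) ?_ ?_ ?_ ?_ v (h _) (h _)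
  · rw [← map_mul, Prod.mk_mul_mk, g5_rels.1, mul_one, ← Prod.one_eq_mk, map_one]
  · rw [← map_pow, Prod.pow_mk, g5_rels.2.1, one_pow, ← Prod.one_eq_mk, map_one]
  · rw [← map_mul, ← map_pow, Prod.mk_mul_mk, Prod.pow_mk, g5_rels.2.2.1, mul_one, one_pow,
      ← Prod.one_eq_mk, map_one]
  · intro e
    exact g5_rels.2.2.2 (congrArg Prod.snd (hΦ (e.trans (map_one Φ).symm)))

theorem free_diag (θ : alternatingGroup (Fin 5) →* alternatingGroup (Fin 5)) {v : V}
    (ha : ρ (Φ (g5a, θ g5a)) v = v) (hb : ρ (Φ (g5b, θ g5b)) v = v) : v = 0 := by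
  refine hρ _ _ ?_ ?_ ?_ ?_ v ha hb
  · rw [← map_mul, Prod.mk_mul_mk, ← map_mul, g5_rels.1, map_one, ← Prod.one_eq_mk, map_one]
  · rw [← map_pow, Prod.pow_mk, ← map_pow, g5_rels.2.1, map_one, ← Prod.one_eq_mk, map_one]
  · rw [← map_mul, ← map_pow, Prod.mk_mul_mk, Prod.pow_mk, ← map_mul, ← map_pow,
      g5_rels.2.2.1, map_one, ← Prod.one_eq_mk, map_one]
  · intro e
    exact g5_rels.2.2.2 (congrArg Prod.fst (hΦ (e.trans (map_one Φ).symm)))

theorem sum_left_eq_zero {v : V} (hv : FixL Φ ρ v) : ∑ i, tr (rL Φ ρ) v i = 0 := by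
  refine free_left Φ ρ hρ hΦ fun a => ?_
  rw [map_sum]
  exact Fintype.sum_equiv (a : Equiv.Perm (Fin 5)) _ _ fun i => tr_smul hv a i

include h5

/-- if all left translates agree on two points, the vector vanishes -/
theorem eq_zero_of_two_left {v : V} (hv : FixL Φ ρ v)
    (h : tr (rL Φ ρ) v 0 = tr (rL Φ ρ) v 1) : v = 0 := by
  have hall : ∀ i j : Fin 5, i ≠ j → tr (rL Φ ρ) v i = tr (rL Φ ρ) v j := by
    intro i j hij
    obtain ⟨a, -, rfl, rfl⟩ := two_transitive i j hij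
    rw [← tr_smul hv, ← tr_smul hv, h]
  refine free_left Φ ρ hρ hΦ fun a => ?_
  conv_lhs => rw [← tr_four (rL Φ ρ) v, tr_smul hv]
  by_cases e : (a : Equiv.Perm (Fin 5)) 4 = 4
  · rw [e, tr_four]
  · rw [hall _ _ e, tr_four]

theorem norm_right_eq_zero {v : V} (hv : FixL Φ ρ v) : ev (rR Φ ρ) n5A4 v = 0 := by
  set w := ev (rR Φ ρ) n5A4 v with hw
  have hwR : FixR Φ ρ w := by
    intro a ha
    rw [hw, ← ev_single (rR Φ ρ) a, ← ev_mulL]
    exact ev_neg _ h5 (pcode_injective 5) (n5A4_fix a (mem_all5 a) ha) v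
  have hwL : FixL Φ ρ w := by
    intro a ha
    rw [hw]
    conv_rhs => rw [← hv a ha]
    exact map_ev (rR Φ ρ) (rR Φ ρ) (rL Φ ρ a) n5A4 (fun x _ u => rL_rR_comm Φ ρ a x.2 u) v
  let M : Fin 5 → Fin 5 → V := fun i j => tr (rL Φ ρ) (tr (rR Φ ρ) w j) i
  have hfixj : ∀ j, FixL Φ ρ (tr (rR Φ ρ) w j) := by
    intro j a ha
    show rL Φ ρ a (rR Φ ρ (rep5 j) w) = rR Φ ρ (rep5 j) w
    rw [rL_rR_comm, hwL a ha]
  have hM : ∀ a b i j, ρ (Φ (a, b)) (M i j) =
      M ((a : Equiv.Perm (Fin 5)) i) ((b : Equiv.Perm (Fin 5)) j) := by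
    intro a b i j
    show ρ (Φ (a, b)) (tr (rL Φ ρ) _ i) = _
    rw [← rR_rL, tr_smul (hfixj j)]
    show rR Φ ρ b (rL Φ ρ (rep5 _) _) = _
    rw [← rL_rR_comm, tr_smul hwR]
    rfl
  have hz : ∀ π : alternatingGroup (Fin 5), ∑ i, M i ((π : Equiv.Perm (Fin 5)) i) = 0 := by
    intro π
    have hfix : ∀ a, ρ (Φ (a, π * a * π⁻¹)) (∑ i, M i ((π : Equiv.Perm (Fin 5)) i)) =
        ∑ i, M i ((π : Equiv.Perm (Fin 5)) i) := by
      intro a
      rw [map_sum]
      refine Fintype.sum_equiv (a : Equiv.Perm (Fin 5)) _ _ fun i => ?_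
      rw [hM]
      simp [Equiv.Perm.mul_apply]
    exact free_diag Φ ρ hρ hΦ (MulAut.conj π).toMonoidHom (hfix g5a) (hfix g5b)
  have hm := magic h5 M hz
  -- the difference of two left translates is fixed on the right
  have hd : ∀ j, M 0 j - M 1 j = M 0 0 - M 1 0 := by
    have h01 : M 0 1 - M 1 1 = M 0 0 - M 1 0 := by linear_combination (norm := abel) -hm
    have hall : ∀ j k : Fin 5, j ≠ k → M 0 j - M 1 j = M 0 k - M 1 k := by
      intro j k hjk
      obtain ⟨b, -, rfl, rfl⟩ := two_transitive j k hjk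
      have e := congrArg (ρ (Φ (1, b))) h01
      simp only [map_sub, hM, OneMemClass.coe_one, Equiv.Perm.one_apply] at e
      exact e.symm
    intro j
    by_cases e : j = 0
    · rw [e]
    · exact hall j 0 e
  have hd0 : M 0 0 - M 1 0 = 0 := by
    refine free_right Φ ρ hρ hΦ fun b => ?_
    rw [map_sub]
    show ρ (Φ (1, b)) (M 0 0) - ρ (Φ (1, b)) (M 1 0) = _
    rw [hM, hM]
    simpa using hd _
  have hw0 : tr (rR Φ ρ) w 0 = 0 :=
    eq_zero_of_two_left Φ ρ h5 hρ hΦ (hfixj 0) (sub_eq_zero.mp hd0)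
  exact rho_inj (rR Φ ρ) _ hw0

theorem sign_key {x : V} (hx : FixL Φ ρ x) (hN : ev (rR Φ ρ) n5N x = 0)
    (hS : ev (rR Φ ρ) n5Sgn x = x) (hc : rR Φ ρ (el 5 [234]) x = x)
    (hs : rR Φ ρ g5a x = -x) : x = 0 := by
  have hNS : ev (rR Φ ρ) n5NS x = 0 := by
    rw [← ev_neg _ h5 (pcode_injective 5) nS_spec x, ev_mulL, hS, hN]
  have htri : ev (rR Φ ρ) n5Tri x = 0 := by
    conv_lhs => rw [← hS, ← ev_mulL]
    rw [ev_neg _ h5 (pcode_injective 5) certTri_spec x, ev_append, ev_mulL, hNS, ev_zero,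
      add_zero]
    refine ev_combo_eq_zero _ _ _ (FixL Φ ρ) ?_ ?_ hx
    · intro g u hu a ha
      rw [rL_rR_comm, hu a ha]
    · intro K hK u hu
      rw [List.mem_singleton] at hK
      rw [hK]
      exact norm_right_eq_zero Φ ρ h5 hρ hΦ hu
  obtain ⟨E, hE, hE01, hEb⟩ := exists_pairFamily (rR Φ ρ) h5 hc hs htri
  have hEfix : ∀ j k, FixL Φ ρ (E j k) := by
    intro j k a ha
    rcases hEb j k with h | ⟨b, h⟩
    · rw [h, map_zero]
    · rw [h, rL_rR_comm, hx a ha]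
  let A : Fin 5 → Fin 5 → V := fun i j => tr (rL Φ ρ) (E j 4) i
  have hsum : ∀ c, ∑ i, tr (rL Φ ρ) (E c 4) i = 0 := fun c =>
    sum_left_eq_zero Φ ρ hρ hΦ (hEfix c 4)
  have hdiff : ∀ i j c, tr (rL Φ ρ) (E j c) i = A i j - tr (rL Φ ρ) (E c 4) i := by
    intro i j c
    simp only [A, tr]
    rw [← hE.add j c 4, map_add, add_sub_cancel_right]
  have hterm : ∀ a b i j, ρ (Φ (a, b)) (A i j) = tr (rL Φ ρ)
      (E ((b : Equiv.Perm (Fin 5)) j) ((b : Equiv.Perm (Fin 5)) 4))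
      ((a : Equiv.Perm (Fin 5)) i) := by
    intro a b i j
    rw [← rR_rL]
    simp only [A]
    rw [tr_smul (hEfix j 4)]
    show rR Φ ρ b (rL Φ ρ (rep5 _) _) = _
    rw [← rL_rR_comm, hE.smul]
    rfl
  have hzero : ∀ π : alternatingGroup (Fin 5), ∑ i, A i ((π : Equiv.Perm (Fin 5)) i) = 0 := by
    intro π
    have hfix : ∀ a, ρ (Φ (a, π * a * π⁻¹)) (∑ i, A i ((π : Equiv.Perm (Fin 5)) i)) =
        ∑ i, A i ((π : Equiv.Perm (Fin 5)) i) := by
      intro a
      rw [map_sum]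
      calc ∑ i, ρ (Φ (a, π * a * π⁻¹)) (A i ((π : Equiv.Perm (Fin 5)) i))
          = ∑ i, tr (rL Φ ρ) (E ((π : Equiv.Perm (Fin 5)) i)
              (((π * a * π⁻¹ : alternatingGroup (Fin 5)) : Equiv.Perm (Fin 5)) 4)) i := by
            refine Fintype.sum_equiv (a : Equiv.Perm (Fin 5)) _ _ fun i => ?_
            rw [hterm]
            simp [Equiv.Perm.mul_apply]
        _ = _ := by
            rw [Finset.sum_congr rfl fun i _ => hdiff i _ _, Finset.sum_sub_distrib, hsum, sub_zero]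
    exact free_diag Φ ρ hρ hΦ (MulAut.conj π).toMonoidHom (hfix g5a) (hfix g5b)
  have hm := magic h5 A hzero
  have h01 : tr (rL Φ ρ) (E 0 1) 0 = tr (rL Φ ρ) (E 0 1) 1 := by
    have d0 := hdiff 0 0 1
    have d1 := hdiff 1 0 1
    simp only [A] at hm d0 d1
    linear_combination (norm := abel) d0 - d1 + hm
  rw [← hE01]
  exact eq_zero_of_two_left Φ ρ h5 hρ hΦ (hEfix 0 1) h01

theorem sign_right_eq_zero {v : V} (hv : FixL Φ ρ v) : ev (rR Φ ρ) n5Sgn v = 0 := by
  have hLfix : ∀ (L : List (ℕ × alternatingGroup (Fin 5))) (u : V), FixL Φ ρ u →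
      FixL Φ ρ (ev (rR Φ ρ) L u) := by
    intro L u hu a ha
    rw [map_ev (rR Φ ρ) (rR Φ ρ) (rL Φ ρ a) L (fun x _ y => rL_rR_comm Φ ρ a x.2 y) u, hu a ha]
  have key := fun x => sign_key Φ ρ h5 hρ hΦ (x := x)
  have hprops : ∀ L, isZero (pcode 5) 5 12 (mulL n5Sgn L ++ mulL [(4, 1)] L) = true →
      isZero (pcode 5) 5 12 (mulL [(1, el 5 [234])] L ++ mulL [(4, 1)] L) = true →
      isZero (pcode 5) 5 12 (mulL [(1, g5a)] L ++ L) = true →
      ev (rR Φ ρ) n5N (ev (rR Φ ρ) L v) = 0 → ev (rR Φ ρ) L v = 0 := by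
    intro L h1 h2 h3 h4
    refine key _ (hLfix L v hv) h4 ?_ ?_ ?_
    · rw [← ev_mulL]; exact ev_neg _ h5 (pcode_injective 5) h1 v
    · rw [← ev_single (rR Φ ρ), ← ev_mulL]; exact ev_neg _ h5 (pcode_injective 5) h2 v
    · rw [← ev_single (rR Φ ρ), ← ev_mulL]
      have := ev_eq_zero (rR Φ ρ) (pcode_injective 5) h5 h3 v
      rw [ev_append] at this
      exact eq_neg_of_add_eq_zero_left this
  have hNN : ev (rR Φ ρ) n5NNS v = 0 := hprops _ sgn_nnS rot_nnS swap_nnS (by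
    rw [← ev_mulL]; exact ev_eq_zero _ (pcode_injective 5) h5
      (show isZero (pcode 5) 5 12 (mulL n5N n5NNS) = true from nnnS_spec) v)
  have hN : ev (rR Φ ρ) n5NS v = 0 := hprops _ sgn_nS rot_nS swap_nS (by
    rw [← ev_mulL, ev_neg _ h5 (pcode_injective 5) nnS_spec v, hNN])
  exact hprops _ sgn_sgn rot_sgn swap_sgn (by
    rw [← ev_mulL, ev_neg _ h5 (pcode_injective 5) nS_spec v, hN])

variable (Ψ : alternatingGroup (Fin 6) →* G) (hΨ : Function.Injective Ψ)
  (hincl : ∀ x, Φ (1, x) = Ψ (incl56 x))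
  (hcomm : ∀ a : alternatingGroup (Fin 5), (a : Equiv.Perm (Fin 5)) 4 = 4 →
    ∀ y, Φ (a, 1) * Ψ y = Ψ y * Φ (a, 1))

include hincl

theorem ev_six {L : List (ℕ × alternatingGroup (Fin 5))} {L' : List (ℕ × alternatingGroup (Fin 6))}
    (h : isZero (pcode 6) 5 16 (mapL incl56 L ++ mulL [(4, 1)] L') = true) (v : V) :
    ev (ρ.comp Ψ) L' v = ev (rR Φ ρ) L v := by
  rw [← ev_neg (ρ.comp Ψ) h5 (pcode_injective 6) h v, ev_mapL]
  refine ev_congr _ _ _ (fun x _ u => ?_) v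
  show ρ (Ψ (incl56 x.2)) u = ρ (Φ (1, x.2)) u
  rw [hincl]

include hΨ hcomm

theorem fixL_eq_zero {v : V} (hv : FixL Φ ρ v) : v = 0 := by
  have hinv : ∀ g u, FixL Φ ρ u → FixL Φ ρ ((ρ.comp Ψ) g u) := by
    intro g u hu a ha
    show ρ (Φ (a, 1)) (ρ (Ψ g) u) = ρ (Ψ g) u
    rw [← rho_mul, hcomm a ha g, rho_mul]
    exact congrArg (ρ (Ψ g)) (hu a ha)
  have hR : ∀ K ∈ [n6A4, n6Sgn, n6Six], ∀ u, FixL Φ ρ u → ev (ρ.comp Ψ) K u = 0 := by
    intro K hK u hu
    simp only [List.mem_cons, List.not_mem_nil, or_false] at hK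
    rcases hK with rfl | rfl | rfl
    · rw [ev_six Φ ρ h5 hρ hΦ Ψ hincl incl_A4]
      exact norm_right_eq_zero Φ ρ h5 hρ hΦ hu
    · rw [ev_six Φ ρ h5 hρ hΦ Ψ hincl incl_Sgn]
      exact sign_right_eq_zero Φ ρ h5 hρ hΦ hu
    · obtain ⟨r1, r2, r3, r4⟩ := g6_rels
      refine hρ (Ψ g6a) (Ψ g6b) ?_ ?_ ?_ ?_ _ ?_ ?_
      · rw [← map_mul, r1, map_one]
      · rw [← map_pow, r2, map_one]
      · rw [← map_mul, ← map_pow, r3, map_one]
      · exact fun e => r4 (hΨ (e.trans (map_one Ψ).symm))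
      · show (ρ.comp Ψ) g6a _ = _
        rw [← ev_single (ρ.comp Ψ), ← ev_mulL]
        exact ev_neg _ h5 (pcode_injective 6) six_fix_a u
      · show (ρ.comp Ψ) g6b _ = _
        rw [← ev_single (ρ.comp Ψ), ← ev_mulL]
        exact ev_neg _ h5 (pcode_injective 6) six_fix_b u
  have h := ev_eq_zero (ρ.comp Ψ) (pcode_injective 6) h5 certSix_spec v
  rw [ev_append, ev_combo_eq_zero (ρ.comp Ψ) _ _ (FixL Φ ρ) hinv hR hv, zero_add, ev_cons, ev_nil,
    add_zero, rho_one] at h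
  exact eq_zero_of_four h5 h

variable (τ : G) (hτ : ∀ a : alternatingGroup (Fin 5), (a : Equiv.Perm (Fin 5)) 4 = 4 →
    τ * Φ (a, 1) = Φ (1, a) * τ)

include hτ

set_option maxHeartbeats 800000 in
/-- the main result -/
theorem eq_zero_of_free (v : V) : v = 0 := by
  have hnL : ∀ x, ev (rL Φ ρ) n5A4 x = 0 := fun x =>
    fixL_eq_zero Φ ρ h5 hρ hΦ Ψ hΨ hincl hcomm (fun a ha => by
      rw [← ev_single (rL Φ ρ), ← ev_mulL]
      exact ev_neg _ h5 (pcode_injective 5) (n5A4_fix a (mem_all5 a) ha) x)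
  have htr : ∀ L : List (ℕ × alternatingGroup (Fin 5)),
      (∀ x ∈ L, (x.2 : Equiv.Perm (Fin 5)) 4 = 4) → ∀ y,
      ρ τ (ev (rL Φ ρ) L y) = ev (rR Φ ρ) L (ρ τ y) := fun L hL y =>
    map_ev _ _ (ρ τ) L (fun x hx u => by
      show ρ τ (ρ (Φ (x.2, 1)) u) = ρ (Φ (1, x.2)) (ρ τ u)
      rw [← rho_mul, hτ _ (hL x hx), rho_mul]) y
  have hsurj : ∀ x, ρ τ (ρ τ⁻¹ x) = x := fun x => by rw [← rho_mul, mul_inv_cancel, rho_one]
  have hnR : ∀ x, ev (rR Φ ρ) n5A4 x = 0 := fun x => by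
    rw [← hsurj x, ← htr _ n5A4_mem, hnL, map_zero]
  -- the tensor square of the Steinberg module does not occur
  have hD : ∀ x, 4 • ev (rL Φ ρ) n5St (ev (rR Φ ρ) n5St x) = 0 := by
    intro x
    have hx := ev_eq_zero (ρ.comp Φ) code55_injective h5 diag_classes
      (ev (rL Φ ρ) n5St (ev (rR Φ ρ) n5St x))
    rw [ev_append, ev_append, ev_combo_eq_zero (ρ.comp Φ) _ _ (fun _ => True) (fun _ _ _ => trivial)
      (fun K hK u _ => by
        rw [List.mem_singleton] at hK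
        subst hK
        refine free_diag Φ ρ hρ hΦ (MonoidHom.id _) ?_ ?_
        · show (ρ.comp Φ) (g5a, g5a) _ = _
          rw [← ev_single (ρ.comp Φ), ← ev_mulL]
          exact ev_neg _ h5 code55_injective diag_fix_a u
        · show (ρ.comp Φ) (g5b, g5b) _ = _
          rw [← ev_single (ρ.comp Φ), ← ev_mulL]
          exact ev_neg _ h5 code55_injective diag_fix_b u) trivial, zero_add,
      ev_mulL, ev_mulL, ev_mulL, ev_cons, ev_nil, add_zero, rho_one] at hx
    rw [show (fun x : alternatingGroup (Fin 5) => ((x, 1) :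
        alternatingGroup (Fin 5) × alternatingGroup (Fin 5))) = MonoidHom.inl _ _ from rfl,
      show (fun x : alternatingGroup (Fin 5) => ((1, x) :
        alternatingGroup (Fin 5) × alternatingGroup (Fin 5))) = MonoidHom.inr _ _ from rfl,
      ev_mapL, ev_mapL, ev_mapL, ev_mapL] at hx
    change ev (rL Φ ρ) n5Inv (ev (rR Φ ρ) n5Inv _) +
      2 • ev (rL Φ ρ) n5Thr (ev (rR Φ ρ) n5Thr _) = 0 at hx
    have hcm := ev_comm Φ ρ
    have hST : ∀ (r : alternatingGroup (Fin 5) →* AddMonoid.End V) y,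
        ev r n5St (ev r n5Inv y) = 3 • ev r n5St y ∧ ev r n5St (ev r n5Thr y) = ev r n5St y := by
      intro r y
      refine ⟨?_, ?_⟩
      · have e := ev_eq_zero r (pcode_injective 5) h5 st_inv y
        rw [ev_append, ev_mulL, ev_mulL, ev_cons, ev_nil, add_zero, rho_one] at e
        have f := split_five h5 2 3 rfl (ev r n5St y)
        linear_combination (norm := abel) e - f
      · rw [← ev_mulL]; exact ev_neg r h5 (pcode_injective 5) st_thr y
    -- apply the two idempotents once more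
    have h1 := congrArg (fun y => ev (rL Φ ρ) n5St (ev (rR Φ ρ) n5St y)) hx
    simp only [ev_add, ev_nsmul, ev_zero] at h1
    rw [← hcm n5Inv n5St, (hST (rL Φ ρ) _).1, (hST (rR Φ ρ) _).1,
      ← hcm n5Thr n5St, (hST (rL Φ ρ) _).2, (hST (rR Φ ρ) _).2] at h1
    simp only [ev_nsmul] at h1
    set y := ev (rL Φ ρ) n5St (ev (rR Φ ρ) n5St (ev (rL Φ ρ) n5St (ev (rR Φ ρ) n5St x))) with hy
    have hid : ∀ (r : alternatingGroup (Fin 5) →* AddMonoid.End V) z,
        ev r n5St (ev r n5St z) = ev r n5St z := fun r z => by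
      rw [← ev_mulL]
      exact ev_neg r h5 (pcode_injective 5) (show isZero (pcode 5) 5 12
        (mulL n5St n5St ++ mulL [(4, 1)] n5St) = true by decide +kernel) z
    have hyx : y = ev (rL Φ ρ) n5St (ev (rR Φ ρ) n5St x) := by
      rw [hy, ← hcm n5St n5St, hid, hid]
    rw [hyx] at h1
    have f := h5 (ev (rL Φ ρ) n5St (ev (rR Φ ρ) n5St x))
    have h0 : ev (rL Φ ρ) n5St (ev (rR Φ ρ) n5St x) = 0 := by
      linear_combination (norm := abel) h1 - f - f
    rw [h0, nsmul_zero]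
  -- fixed vectors of a four-group on the left vanish
  have hW : ∀ x, ev (rL Φ ρ) n5V4 x = 0 := by
    intro x
    set w := ev (rL Φ ρ) n5V4 x with hwdef
    have hw4 : ev (rL Φ ρ) n5V4 w = 4 • w := by
      have e := ev_eq_zero (rL Φ ρ) (pcode_injective 5) h5 n5V4_sq x
      rw [ev_append, ev_mulL] at e
      have f := split_four h5 w
      linear_combination (norm := abel) e - f
    have hP : ∀ g u, ev (rL Φ ρ) n5V4 u = 4 • u →
        ev (rL Φ ρ) n5V4 ((ρ.comp Ψ) g u) = 4 • (ρ.comp Ψ) g u := by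
      intro g u hu
      rw [← map_nsmul, ← hu]
      exact (map_ev (rL Φ ρ) (rL Φ ρ) ((ρ.comp Ψ) g) n5V4 (fun z hz y => by
        show ρ (Ψ g) (ρ (Φ (z.2, 1)) y) = ρ (Φ (z.2, 1)) (ρ (Ψ g) y)
        rw [← rho_mul, ← hcomm _ (n5V4_mem z hz) g, rho_mul]) u).symm
    have hR : ∀ K ∈ [n6A4, n6St], ∀ u, ev (rL Φ ρ) n5V4 u = 4 • u → ev (ρ.comp Ψ) K u = 0 := by
      intro K hK u hu
      simp only [List.mem_cons, List.not_mem_nil, or_false] at hK
      rcases hK with rfl | rfl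
      · rw [ev_six Φ ρ h5 hρ hΦ Ψ hincl incl_A4]
        exact hnR u
      · rw [ev_six Φ ρ h5 hρ hΦ Ψ hincl incl_St]
        have e := ev_eq_zero (rL Φ ρ) (pcode_injective 5) h5 certV_spec u
        rw [ev_append, ev_append, ev_mulL, ev_mulL, ev_mulL, ev_cons, ev_nil, add_zero, rho_one,
          ev_cons, ev_nil, add_zero, rho_one, ev_combo_eq_zero (rL Φ ρ) _ _ (fun _ => True)
            (fun _ _ _ => trivial) (fun K hK y _ => by
              rw [List.mem_singleton] at hK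
              subst hK
              exact hnL y) trivial, smul_zero, add_zero, hu, ev_nsmul] at e
        -- `u` is in the Steinberg block on the left
        have hu1 : ev (rL Φ ρ) n5St u = u := by
          apply eq_of_sub_eq_zero
          apply eq_zero_of_four h5
          rw [smul_sub, sub_eq_zero]
          have f := split_four h5 (4 • ev (rL Φ ρ) n5St u)
          linear_combination (norm := abel) f - e
        have hd := eq_zero_of_four h5 (hD u)
        conv_lhs => rw [← hu1]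
        rw [← hd]
        rw [ev_comm]
    have h := ev_eq_zero (ρ.comp Ψ) (pcode_injective 6) h5 certSt_spec w
    rw [ev_append, ev_combo_eq_zero (ρ.comp Ψ) _ _ _ hP hR hw4, zero_add, ev_cons, ev_nil,
      add_zero, rho_one] at h
    exact eq_zero_of_four h5 h
  have hR : ∀ K ∈ [n6V4], ∀ u, True → ev (ρ.comp Ψ) K u = 0 := by
    intro K hK u _
    rw [List.mem_singleton] at hK
    subst hK
    rw [ev_six Φ ρ h5 hρ hΦ Ψ hincl incl_V4, ← hsurj u, ← htr _ n5V4_mem, hW, map_zero]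
  have h := ev_eq_zero (ρ.comp Ψ) (pcode_injective 6) h5 certV4_spec v
  rw [ev_append, ev_combo_eq_zero (ρ.comp Ψ) _ _ (fun _ => True) (fun _ _ _ => trivial) hR trivial,
    zero_add, ev_cons, ev_nil, add_zero, rho_one] at h
  exact eq_zero_of_four h5 h

end

end Cfsg.Agent.PGroups.AltTen
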