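import Cfsg.Agent.FusionSys.Saturated
import Cfsg.Agent.PGroups.TransvectionWord

/-!
A power trick for saturated fusion systems: a central element of order `p` that spans all `p ^ m`-th powers
is not fused to a different element centralized by one of its `p ^ m`-th roots.
-/

set_option autoImplicit false

namespace Cfsg.Agent.PGroups

open Subgroup Cfsg Cfsg.FusionSystem
open Cfsg.Agent.FusionSys

variable {Ω : Type*} [Group Ω] {S : Subgroup Ω} {F : FusionSystem S} {p : ℕ}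

theorem isMap_map_zpow {P : Subgroup Ω} {f : Ω → Ω} (hf : IsMap F P f) {v : Ω} (hv : v ∈ P) (i : ℤ) :
    f (v ^ i) = f v ^ i := by
  cases i with
  | ofNat n => simpa using hf.map_pow hv n
  | negSucc n => rw [zpow_negSucc, zpow_negSucc, hf.map_inv (pow_mem hv _), hf.map_pow hv]

theorem exists_inverse_mod [hp : Fact p.Prime] {i : ℤ} (hi : ¬ (p : ℤ) ∣ i) :
    ∃ t : ℕ, (i : ZMod p) * (t : ZMod p) = 1 :=
  ⟨((i : ZMod p)⁻¹).val, by
    rw [ZMod.natCast_zmod_val, mul_inv_cancel₀ (fun h => hi ((ZMod.intCast_zmod_eq_zero_iff_dvd i p).1 h))]⟩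

theorem zpow_pow_inverse {c : Ω} (hc : c ^ p = 1) {i : ℤ} {t : ℕ} (h : (i : ZMod p) * (t : ZMod p) = 1) :
    (c ^ i) ^ t = c := by
  rw [← zpow_natCast (c ^ i), ← zpow_mul, zpow_eq_of_zmod_eq hc (j := 1) (by push_cast; exact h), zpow_one]

theorem not_dvd_of_zpow_ne_one {c : Ω} (hc : c ^ p = 1) {i : ℤ} (h : c ^ i ≠ 1) : ¬ (p : ℤ) ∣ i := by
  rintro ⟨d, rfl⟩
  exact h (by rw [zpow_mul, zpow_natCast, hc, one_zpow])

variable [Finite S] [hp : Fact p.Prime]

omit hp in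
theorem isFullyNormalized_of_conj_mem {P : Subgroup Ω} (hP : P ≤ S)
    (hn : ∀ g ∈ S, ∀ u ∈ P, g * u * g⁻¹ ∈ P) : F.IsFullyNormalized P := by
  haveI := finite_of_le hP
  haveI := finite_of_le (S := S) (P := normalizerIn S P) normalizerIn_le
  exact ⟨hP, fun Q _ => Subgroup.card_le_of_le fun g hg => ⟨hg.1, mem_normalizer_of_maps (hn g hg.1)⟩⟩

theorem receptive_zpowers_of_central (hS : IsPGroup p S) (hF : F.IsSaturated p) {z : Ω} (hzS : z ∈ S)
    (hz : ∀ g ∈ S, Commute z g) : F.IsReceptive (zpowers z) := by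
  refine receptive_of_isFullyNormalized hS hF (isFullyNormalized_of_conj_mem (zpowers_le.2 hzS) ?_)
  intro g hg u hu
  obtain ⟨i, rfl⟩ := Subgroup.mem_zpowers_iff.1 hu
  rw [← ((hz g hg).zpow_left i).eq, mul_inv_cancel_right]
  exact zpow_mem (mem_zpowers z) i

theorem map_mem_zpowers_of_root (hS : IsPGroup p S) (hF : F.IsSaturated p) {z u : Ω} {m : ℕ}
    (hzS : z ∈ S) (hz : ∀ g ∈ S, Commute z g) (hzp : z ^ p = 1) (hz1 : z ≠ 1)
    (hpow : ∀ g ∈ S, g ^ p ^ m ∈ zpowers z) (hu : u ∈ S) (huz : u ^ p ^ m = z) {f : Ω → Ω}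
    (hf : IsMap F (zpowers z) f) (hc : Commute u (f z)) : f z ∈ zpowers z := by
  obtain ⟨g, hg, hgf, -⟩ := hf.isIso.exists_symm
  set Q := imgSub f (zpowers z)
  have hfzQ : f z ∈ Q := hf.mem_imgSub.2 ⟨z, mem_zpowers z, rfl⟩
  have hQc : ∀ v ∈ Q, v * u = u * v := by
    intro v hv
    obtain ⟨w, hw, rfl⟩ := hf.mem_imgSub.1 hv
    obtain ⟨i, rfl⟩ := Subgroup.mem_zpowers_iff.1 hw
    rw [isMap_map_zpow hf (mem_zpowers z)]
    exact (hc.zpow_right i).symm.eq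
  obtain ⟨ψ, hψ, he⟩ := receptive_extend (receptive_zpowers_of_central hS hF hzS hz) hg (N := zpowers u)
    (fun v hv => hg.isMap.inExt_of_centralizes (mem_centralizerIn.2 ⟨zpowers_le.2 hu hv, fun w hw => by
      obtain ⟨i, rfl⟩ := Subgroup.mem_zpowers_iff.1 hv
      exact (Commute.zpow_right (hQc w hw) i).eq⟩))
  have hup : u ∈ zpowers u ⊔ Q := Subgroup.mem_sup_left (mem_zpowers u)
  have hzm : z ∈ zpowers u ⊔ Q := huz ▸ pow_mem hup _
  obtain ⟨i, hi⟩ : ψ z ∈ zpowers z := by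
    rw [← huz, hψ.map_pow hup, huz]
    exact hpow _ (hψ.mem_S hup)
  have hi' : z ^ i = ψ z := hi
  have hne : ¬ (p : ℤ) ∣ i := not_dvd_of_zpow_ne_one hzp fun h =>
    hz1 (hψ.injOn hzm (one_mem _) (by rw [← hi', h, hψ.map_one]))
  obtain ⟨t, ht⟩ := exists_inverse_mod hne
  have h1 : ψ (z ^ t) = z := by rw [hψ.map_pow hzm, ← hi', zpow_pow_inverse hzp ht]
  rw [hψ.injOn (Subgroup.mem_sup_right hfzQ) (pow_mem hzm t)
    (((he _ hfzQ).trans (hgf z (mem_zpowers z))).trans h1.symm)]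
  exact pow_mem (mem_zpowers z) t

end Cfsg.Agent.PGroups
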