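import Cfsg.Agent.PGroups.IrrDegree
import Cfsg.Agent.PGroups.NormalSq
import Cfsg.Agent.PGroups.TwoGroups
import Mathlib.FieldTheory.Finite.Basic
import Mathlib.GroupTheory.Solvable
import Mathlib.LinearAlgebra.Dimension.Constructions

/-!
Derived length of `p`-groups of linear maps in coprime characteristic: over a field with `q` elements
the `j`-th derived subgroup of a `p`-group acts trivially on every space of dimension below
`e * p ^ j`, `e` the order of `q` modulo `p`.
-/

set_option autoImplicit false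
set_option linter.style.haveILetI false
set_option linter.unusedSectionVars false

namespace Cfsg.Agent.PGroups.DerivedLength

open Subgroup IrrDegree
open scoped commutatorElement

/-- The derived series of a subgroup, inside the ambient group. -/
def ser {G : Type*} [Group G] (H : Subgroup G) : ℕ → Subgroup G
  | 0 => H
  | j + 1 => ⁅ser H j, ser H j⁆

section Ser

variable {G : Type*} [Group G]

theorem ser_mono {A B : Subgroup G} (h : A ≤ B) : ∀ j, ser A j ≤ ser B j
  | 0 => h
  | j + 1 => Subgroup.commutator_mono (ser_mono h j) (ser_mono h j)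

theorem ser_shift (H : Subgroup G) : ∀ j, ser H (j + 1) = ser ⁅H, H⁆ j
  | 0 => rfl
  | j + 1 => by
    show ⁅ser H (j + 1), ser H (j + 1)⁆ = _
    rw [ser_shift H j]
    rfl

theorem ser_le (H : Subgroup G) : ∀ j, ser H j ≤ H
  | 0 => le_rfl
  | j + 1 => (Subgroup.commutator_mono (ser_le H j) (ser_le H j)).trans H.commutator_le_self

theorem conj_ser (H : Subgroup G) (j : ℕ) {h x : G} (hh : h ∈ H) (hx : x ∈ ser H j) :
    h⁻¹ * x * h ∈ ser H j := by
  have key : ∀ j, (ser H j).map (MulAut.conj h⁻¹).toMonoidHom ≤ ser H j := by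
    intro j
    induction j with
    | zero =>
      rintro _ ⟨y, hy, rfl⟩
      show h⁻¹ * y * h⁻¹⁻¹ ∈ H
      rw [inv_inv]
      exact H.mul_mem (H.mul_mem (H.inv_mem hh) hy) hh
    | succ j ih =>
      show Subgroup.map _ ⁅ser H j, ser H j⁆ ≤ _
      rw [Subgroup.map_commutator]
      exact Subgroup.commutator_mono ih ih
  have := key j ⟨x, hx, rfl⟩
  simpa using this

theorem ser_top : ∀ j, ser (⊤ : Subgroup G) j = derivedSeries G j
  | 0 => rfl
  | j + 1 => by
    show ⁅ser ⊤ j, ser ⊤ j⁆ = _
    rw [ser_top j]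
    rfl

theorem map_ser {G' : Type*} [Group G'] (f : G →* G') (H : Subgroup G) :
    ∀ j, (ser H j).map f = ser (H.map f) j
  | 0 => rfl
  | j + 1 => by
    show Subgroup.map f ⁅ser H j, ser H j⁆ = _
    rw [Subgroup.map_commutator, map_ser f H j]
    rfl

end Ser

variable {K V G : Type*} [Field K] [AddCommGroup V] [Module K V] [Group G] [Finite G]
variable {ρ : G →* Module.End K V} {p : ℕ} [hp : Fact p.Prime]

/-- The fixed space of a subgroup. -/
def fix (ρ : G →* Module.End K V) (D : Subgroup G) : Submodule K V where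
  carrier := {v | ∀ x ∈ D, ρ x v = v}
  zero_mem' x _ := map_zero _
  add_mem' {u v} hu hv x hx := by rw [map_add, hu x hx, hv x hx]
  smul_mem' c v hv x hx := by rw [map_smul, hv x hx]

theorem fix_inv (H : Subgroup G) (D : Subgroup G)
    (hD : ∀ h ∈ H, ∀ x ∈ D, h⁻¹ * x * h ∈ D) : Inv ρ H (fix ρ D) := by
  intro h hh v hv x hx
  have h1 := hv _ (hD h hh x hx)
  calc ρ x (ρ h v) = ρ h (ρ (h⁻¹ * x * h) v) := by
        rw [← apply_mul, ← apply_mul]; congr 2; group
    _ = ρ h v := by rw [h1]

theorem pow_fix {x : G} {v : V} (h : ρ x v = v) : ∀ m : ℕ, ρ (x ^ m) v = v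
  | 0 => by rw [pow_zero, map_one]; rfl
  | m + 1 => by rw [pow_succ, apply_mul, h, pow_fix h m]

theorem mem_fix_zpowers {x : G} {v : V} (h : ρ x v = v) : v ∈ fix ρ (zpowers x) := by
  intro y hy
  obtain ⟨i, rfl⟩ := (Submonoid.mem_powers_iff _ _).mp ((isOfFinOrder_of_finite x).mem_powers_iff_mem_zpowers.mpr hy)
  exact pow_fix h i

/-- `∑ ρ (x ^ m)` over `m < p` lands in the fixed vectors of `x`. -/
theorem sum_pow_fix {x : G} (hx : x ^ p = 1) (v : V) :
    ρ x (∑ m ∈ Finset.range p, ρ (x ^ m) v) = ∑ m ∈ Finset.range p, ρ (x ^ m) v := by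
  have h : ∑ m ∈ Finset.range p, ρ (x ^ (m + 1)) v = ∑ m ∈ Finset.range p, ρ (x ^ m) v := by
    have h1 := Finset.sum_range_succ' (fun m => ρ (x ^ m) v) p
    have h2 := Finset.sum_range_succ (fun m => ρ (x ^ m) v) p
    rw [hx] at h2
    simp only [pow_zero] at h1
    rw [h1] at h2
    exact add_right_cancel h2
  rw [map_sum]
  conv_rhs => rw [← h]
  exact Finset.sum_congr rfl fun m _ => by rw [pow_succ', apply_mul]

variable [FiniteDimensional K V]

/-- A faithful irreducible `p`-group with a normal elementary abelian subgroup of order `p ^ 2` is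
imprimitive. -/
theorem exists_block (hpK : (p : K) ≠ 0) (hG : IsPGroup p G) (hinj : Function.Injective ρ)
    (hirr : Simple ρ (⊤ : Subgroup G) ⊤) {E : Subgroup G} (hEn : E.Normal)
    (hE : IsMulCommutative E) (hEp : ∀ a ∈ E, a ^ p = 1) (hEc : Nat.card E = p ^ 2) :
    ∃ (M : Subgroup G) (W : Submodule K V), M.index = p ∧ W ≠ ⊥ ∧ Inv ρ M W ∧
      p * Module.finrank K W ≤ Module.finrank K V := by
  classical
  have hcomm : ∀ a ∈ E, ∀ b ∈ E, Commute a b := fun a ha b hb =>
    comm_of_isMulCommutative hE ha hb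
  have hEbot : E ≠ ⊥ := fun h => by
    rw [h, Subgroup.card_bot] at hEc
    exact (Nat.one_lt_pow two_ne_zero hp.out.one_lt).ne hEc
  obtain ⟨z, hzE, hz1⟩ :=
    (Subgroup.bot_or_exists_ne_one (E ⊓ center G)).resolve_left (inf_center_ne_bot hG E hEbot)
  have hzfix : ∀ v, ρ z v = v → v = 0 := by
    intro v hv
    by_contra hv0
    have hinv : Inv ρ ⊤ (fix ρ (zpowers z)) := fix_inv ⊤ _ fun g _ x hx => by
      obtain ⟨i, rfl⟩ := mem_zpowers_iff.mp hx
      have hc : z ^ i ∈ center G := (center G).zpow_mem hzE.2 i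
      rw [mul_assoc, ← mem_center_iff.mp hc g, inv_mul_cancel_left]
      exact zpow_mem_zpowers z i
    have hvmem : v ∈ fix ρ (zpowers z) := mem_fix_zpowers hv
    have htop := (hirr.min _ le_top hinv).resolve_left fun h => hv0 (by
      rw [h, Submodule.mem_bot] at hvmem; exact hvmem)
    refine hz1 (hinj (LinearMap.ext fun w => ?_))
    have hw : w ∈ fix ρ (zpowers z) := htop ▸ Submodule.mem_top
    rw [map_one]
    exact hw z (mem_zpowers z)
  have hzp : z ^ p = 1 := hEp z hzE.1
  have hzo : orderOf z = p := orderOf_eq_prime hzp hz1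
  -- an element with fixed vectors
  obtain ⟨e, heE, hez, v0, hv0, hev0⟩ : ∃ e ∈ E, e ∉ zpowers z ∧ ∃ v, v ≠ 0 ∧ ρ e v = v := by
    obtain ⟨e0, he0, he0z⟩ : ∃ e0 ∈ E, e0 ∉ zpowers z := by
      by_contra! h
      have := Subgroup.card_le_of_le (show E ≤ zpowers z from h)
      rw [hEc, Nat.card_zpowers, hzo] at this
      nlinarith [hp.out.two_le]
    by_contra! hno
    obtain ⟨v, -, hv⟩ := (Submodule.ne_bot_iff _).mp hirr.ne_bot
    have hm : ∀ m, e0 * z ^ m ∉ zpowers z := fun m h =>
      he0z ((Subgroup.mul_mem_cancel_right _ (pow_mem (mem_zpowers z) m)).mp h)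
    have hmE : ∀ m, e0 * z ^ m ∈ E := fun m => mul_mem he0 (pow_mem hzE.1 m)
    have hzero : ∀ m, ∑ l ∈ Finset.range p, ρ ((e0 * z ^ m) ^ l) v = 0 := by
      intro m
      by_contra h
      exact hno _ (hmE m) (hm m) _ h (sum_pow_fix (hEp _ (hmE m)) v)
    have hsum : ∑ m ∈ Finset.range p, ∑ l ∈ Finset.range p, ρ ((e0 * z ^ m) ^ l) v = 0 :=
      Finset.sum_eq_zero fun m _ => hzero m
    rw [Finset.sum_comm] at hsum
    have hl : ∀ l ∈ Finset.range p, l ≠ 0 →
        ∑ m ∈ Finset.range p, ρ ((e0 * z ^ m) ^ l) v = 0 := by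
      intro l hl hl0
      have h1 : ∀ m, ρ ((e0 * z ^ m) ^ l) v = ρ (e0 ^ l) (ρ ((z ^ l) ^ m) v) := fun m => by
        rw [(hcomm _ he0 _ (pow_mem hzE.1 m)).mul_pow, ← pow_mul, mul_comm, pow_mul, apply_mul]
      simp only [h1, ← map_sum]
      have hfix := sum_pow_fix (ρ := ρ) (p := p) (x := z ^ l) (by rw [← pow_mul, mul_comm, pow_mul, hzp, one_pow]) v
      obtain ⟨j, hj⟩ := exists_pow_eq_self_of_coprime (x := z) (n := l) (by
        rw [hzo]
        exact ((hp.out.coprime_iff_not_dvd).mpr
          (Nat.not_dvd_of_pos_of_lt (Nat.pos_of_ne_zero hl0) (Finset.mem_range.mp hl))).symm)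
      have h2 : ∑ m ∈ Finset.range p, ρ ((z ^ l) ^ m) v = 0 := hzfix _ (by
        have := pow_fix hfix j
        rwa [hj] at this)
      rw [h2, map_zero]
    rw [Finset.sum_eq_single_of_mem 0 (Finset.mem_range.mpr hp.out.pos) hl] at hsum
    simp only [pow_zero, map_one, Module.End.one_apply, Finset.sum_const, Finset.card_range] at hsum
    rw [← Nat.cast_smul_eq_nsmul K] at hsum
    exact hv ((smul_eq_zero.mp hsum).resolve_left hpK)
  haveI := hEn
  -- `E = ⟨z, e⟩`
  have hgenE : zpowers z ⊔ zpowers e = E := by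
    refine Subgroup.eq_of_le_of_card_ge (sup_le (zpowers_le.mpr hzE.1) (zpowers_le.mpr heE)) ?_
    haveI : (zpowers z).Normal := normal_of_le_center (zpowers_le.mpr hzE.2)
    rw [card_sup_zpowers (p := p) _ hez (by rw [hEp e heE]; exact one_mem _), hEc, Nat.card_zpowers,
      hzo, sq]
  -- conjugates of `e`
  set M := centralizer ({e} : Set G) with hM
  have hnc : M ≠ ⊤ := by
    intro h
    have hinv : Inv ρ ⊤ (fix ρ (zpowers e)) := fix_inv ⊤ _ fun g _ x hx => by
      obtain ⟨i, rfl⟩ := mem_zpowers_iff.mp hx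
      have hge : Commute g e := mem_centralizer_singleton_iff.mp (h ▸ mem_top g : g ∈ M)
      rw [mul_assoc, ← (hge.zpow_right i).eq, inv_mul_cancel_left]
      exact zpow_mem_zpowers e i
    have hv0m : v0 ∈ fix ρ (zpowers e) := mem_fix_zpowers hev0
    have htop := (hirr.min _ le_top hinv).resolve_left fun h' => hv0 (by
      rw [h', Submodule.mem_bot] at hv0m; exact hv0m)
    have he1 : e = 1 := hinj (LinearMap.ext fun w => by
      rw [map_one]
      exact (htop ▸ Submodule.mem_top : w ∈ fix ρ (zpowers e)) e (mem_zpowers e))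
    exact hez (he1 ▸ one_mem _)
  haveI hzn : (zpowers z).Normal := normal_of_le_center (zpowers_le.mpr hzE.2)
  have hcen : zpowers z ≤ center G := zpowers_le.mpr hzE.2
  have hcq : ∀ g : G, ⁅g, e⁆ ∈ zpowers z := fun g =>
    commutatorElement_mem_of_card hG (zpowers_le.mpr hzE.1)
      (by rw [hEc, Nat.card_zpowers, hzo, sq]) heE g
  have hMidx : M.index = p := by
    obtain ⟨k, hk⟩ := hG.index M
    have hle : M.index ≤ p := by
      have hconj : ∀ g : G, ∃ w ∈ zpowers z, g * e * g⁻¹ = e * w := fun g => by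
        refine ⟨e⁻¹ * ⁅g, e⁆ * e, ?_, by simp [commutatorElement_def, mul_assoc]⟩
        rw [mem_center_iff.mp (hcen (hcq g)) e⁻¹, inv_mul_cancel_right]
        exact hcq g
      rw [Subgroup.index, ← hzo, ← Nat.card_zpowers]
      refine Nat.card_le_card_of_injective (fun c : G ⧸ M =>
        (⟨e⁻¹ * (c.out * e * c.out⁻¹), by
          obtain ⟨w, hw, he⟩ := hconj c.out
          rw [he, inv_mul_cancel_left]
          exact hw⟩ : zpowers z)) fun c c' h => ?_
      have h1 : c.out * e * c.out⁻¹ = c'.out * e * c'.out⁻¹ :=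
        mul_left_cancel (congrArg Subtype.val h)
      rw [← QuotientGroup.out_eq' c, ← QuotientGroup.out_eq' c', QuotientGroup.eq]
      show c.out⁻¹ * c'.out ∈ centralizer ({e} : Set G)
      rw [mem_centralizer_singleton_iff]
      calc c.out⁻¹ * c'.out * e = c.out⁻¹ * (c'.out * e * c'.out⁻¹) * c'.out := by group
        _ = e * (c.out⁻¹ * c'.out) := by rw [← h1]; group
    rw [hk] at hle ⊢
    have hk0 : k ≠ 0 := fun h0 => hnc (by rw [← Subgroup.index_eq_one, hk, h0, pow_zero])
    have : k ≤ 1 := by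
      by_contra hk2
      have := Nat.pow_le_pow_right hp.out.pos (show 2 ≤ k by omega)
      nlinarith [hp.out.two_le]
    rw [show k = 1 by omega, pow_one]
  have hMn : M.Normal := normal_of_index_eq hG hMidx
  set W := fix ρ (zpowers e) with hW
  have hWinv : Inv ρ M W := fix_inv M _ fun g hg x hx => by
    obtain ⟨i, rfl⟩ := mem_zpowers_iff.mp hx
    have hge : Commute g e := mem_centralizer_singleton_iff.mp hg
    rw [mul_assoc, ← (hge.zpow_right i).eq, inv_mul_cancel_left]
    exact zpow_mem_zpowers e i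
  refine ⟨M, W, hMidx, fun h => ?_, hWinv, ?_⟩
  · have hv0m : v0 ∈ W := mem_fix_zpowers hev0
    rw [h, Submodule.mem_bot] at hv0m
    exact hv0 hv0m
  obtain ⟨g, hg⟩ : ∃ g, g ∉ M := by
    by_contra! h
    exact hnc (eq_top_iff.mpr fun x _ => h x)
  let Φ : (Fin p → W) →ₗ[K] V :=
    { toFun := fun w => ∑ i : Fin p, ρ (g ^ (i : ℕ)) (w i)
      map_add' := fun a b => by simp [Finset.sum_add_distrib, map_add]
      map_smul' := fun c a => by simp [Finset.smul_sum, map_smul] }
  suffices hinjΦ : Function.Injective Φ by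
    have h := LinearMap.finrank_le_finrank_of_injective hinjΦ
    rwa [Module.finrank_pi_fintype, Finset.sum_const, Finset.card_univ, Fintype.card_fin,
      smul_eq_mul] at h
  rw [← LinearMap.ker_eq_bot, Submodule.eq_bot_iff]
  intro w hw
  rw [LinearMap.mem_ker] at hw
  funext j
  refine Subtype.ext ?_
  let ei : Fin p → G := fun i => g ^ (i : ℕ) * e * (g ^ (i : ℕ))⁻¹
  have heiE : ∀ i, ei i ∈ E := fun i => hEn.conj_mem e heE _
  have heifix : ∀ i, ρ (ei i) (ρ (g ^ (i : ℕ)) (w i)) = ρ (g ^ (i : ℕ)) (w i) := by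
    intro i
    rw [← apply_mul, show ei i * g ^ (i : ℕ) = g ^ (i : ℕ) * e by simp [ei], apply_mul,
      (w i).2 e (mem_zpowers e)]
  have hπ : ∀ i, i ≠ j → ∑ m ∈ Finset.range p, ρ (ei j ^ m) (ρ (g ^ (i : ℕ)) (w i)) = 0 := by
    intro i hij
    set u := ∑ m ∈ Finset.range p, ρ (ei j ^ m) (ρ (g ^ (i : ℕ)) (w i))
    have h1 : ρ (ei j) u = u := sum_pow_fix (hEp _ (heiE j)) _
    have h2 : ρ (ei i) u = u := by
      rw [map_sum]
      refine Finset.sum_congr rfl fun m _ => ?_
      rw [← apply_mul, ((hcomm _ (heiE i) _ (heiE j)).pow_right m).eq, apply_mul, heifix]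
    refine hzfix u ?_
    have hd : ei i * (ei j)⁻¹ ≠ 1 := by
      intro h
      rw [mul_inv_eq_one] at h
      refine hij (Fin.ext ?_)
      by_contra hne
      have hcase : ∀ a b : ℕ, a < b → b < p →
          g ^ a * e * (g ^ a)⁻¹ ≠ g ^ b * e * (g ^ b)⁻¹ := by
        intro a b hab hb he'
        obtain ⟨r, rfl⟩ : ∃ r, b = a + r := ⟨b - a, by omega⟩
        have hr : g ^ r ∈ M := by
          rw [hM, mem_centralizer_singleton_iff]
          rw [pow_add, mul_inv_rev, show g ^ a * g ^ r * e * ((g ^ r)⁻¹ * (g ^ a)⁻¹) =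
            g ^ a * (g ^ r * e * (g ^ r)⁻¹) * (g ^ a)⁻¹ by group] at he'
          have h3 : e = g ^ r * e * (g ^ r)⁻¹ := mul_left_cancel (mul_right_cancel he')
          conv_rhs => rw [h3]
          group
        have hgp : g ^ p ∈ M := hMidx ▸ M.pow_index_mem g
        apply hg
        rw [← QuotientGroup.eq_one_iff] at hgp hr ⊢
        rw [QuotientGroup.mk_pow] at hgp hr
        have := (pow_gcd_eq_one (a := (g : G ⧸ M))).mpr ⟨hgp, hr⟩
        rwa [(hp.out.coprime_iff_not_dvd.mpr
          (Nat.not_dvd_of_pos_of_lt (by omega) (by omega))).gcd_eq_one, pow_one] at this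
      rcases lt_or_gt_of_ne hne with h' | h'
      · exact hcase _ _ h' j.2 h
      · exact hcase _ _ h' i.2 h.symm
    have hdz : ei i * (ei j)⁻¹ ∈ zpowers z := by
      have hc : ∀ k : Fin p, e⁻¹ * ei k ∈ zpowers z := fun k => by
        have hn := hcq (g ^ (k : ℕ))
        have hzc : ⁅g ^ (k : ℕ), e⁆ ∈ center G := hcen hn
        have e1 : e⁻¹ * ei k = e⁻¹ * ⁅g ^ (k : ℕ), e⁆ * e := by
          simp [ei, commutatorElement_def, mul_assoc]
        rw [e1, mem_center_iff.mp hzc e⁻¹, inv_mul_cancel_right]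
        exact hn
      have := mul_mem (hc i) (inv_mem (hc j))
      have e2 : e⁻¹ * ei i * (e⁻¹ * ei j)⁻¹ = ei i * (ei j)⁻¹ := by
        rw [mul_inv_rev, inv_inv, mul_assoc, ← mul_assoc (ei i), ← mul_assoc,
          (hcomm _ (inv_mem heE) _ (mul_mem (heiE i) (inv_mem (heiE j)))).eq, inv_mul_cancel_right]
      rwa [e2] at this
    have hd1 : ρ (ei i * (ei j)⁻¹) u = u := by
      have h3 : ρ (ei j)⁻¹ u = u := by
        have := apply_inv_apply (ρ := ρ) (ei j) u
        rwa [h1] at this
      rw [apply_mul, h3, h2]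
    obtain ⟨a, ha⟩ : z ∈ zpowers (ei i * (ei j)⁻¹) := by
      rw [Subgroup.eq_of_le_of_card_ge (zpowers_le.mpr hdz) (by
        rw [Nat.card_zpowers, Nat.card_zpowers, hzo,
          orderOf_eq_prime (hEp _ (mul_mem (heiE i) (inv_mem (heiE j)))) hd])]
      exact mem_zpowers z
    obtain ⟨m, hm⟩ : ∃ m : ℕ, (ei i * (ei j)⁻¹) ^ m = z := by
      obtain ⟨m, -, hm⟩ := Finset.mem_image.mp
        ((isOfFinOrder_of_finite _).mem_zpowers_iff_mem_range_orderOf.mp ⟨a, ha⟩)
      exact ⟨m, hm⟩
    rw [← hm]
    exact pow_fix hd1 m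
  have hsum : ∑ m ∈ Finset.range p, ρ (ei j ^ m) (Φ w) = 0 := by
    rw [hw]; simp
  simp only [show Φ w = ∑ i : Fin p, ρ (g ^ (i : ℕ)) (w i) from rfl, map_sum] at hsum
  rw [Finset.sum_comm, Finset.sum_eq_single j (fun i _ hij => hπ i hij)
    (fun h => absurd (Finset.mem_univ j) h)] at hsum
  simp only [pow_fix (heifix j), Finset.sum_const, Finset.card_range,
    ← Nat.cast_smul_eq_nsmul K] at hsum
  have h0 := (smul_eq_zero.mp hsum).resolve_left hpK
  exact apply_injective (ρ := ρ) (g ^ (j : ℕ)) (by rw [h0]; simp)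

variable {U : Submodule K V} {H : Subgroup G}

/-- The pointwise stabilizer of a submodule. -/
def fixer (ρ : G →* Module.End K V) (U : Submodule K V) : Subgroup G where
  carrier := {x | ∀ v ∈ U, ρ x v = v}
  one_mem' v _ := by rw [map_one]; rfl
  mul_mem' {a b} ha hb v hv := by rw [apply_mul, hb v hv, ha v hv]
  inv_mem' {a} ha v hv := by
    have := apply_inv_apply (ρ := ρ) a v
    rwa [ha v hv] at this

/-- The action of `H` on an invariant submodule, as units. -/
noncomputable def act (hU : Inv ρ H U) : H →* (Module.End K U)ˣ :=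
  MonoidHom.toHomUnits
    { toFun := fun h => (ρ (h : G)).restrict fun v hv => hU h h.2 v hv
      map_one' := LinearMap.ext fun v => Subtype.ext (by simp)
      map_mul' := fun a b => LinearMap.ext fun v => Subtype.ext (by simp) }

theorem act_apply (hU : Inv ρ H U) (h : H) (v : U) :
    ((((act hU h : (Module.End K U)ˣ) : Module.End K U) v : U) : V) = ρ (h : G) v := rfl

theorem mem_fixer_of_act (hU : Inv ρ H U) {h : H} (h1 : act hU h = 1) : (h : G) ∈ fixer ρ U :=
  fun v hv => by rw [← act_apply hU h ⟨v, hv⟩, h1]; rfl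

variable [Fintype K]

/-- A nontrivial irreducible `p`-group needs dimension at least the order of `q` modulo `p`. -/
theorem order_le_finrank (hU : Simple ρ H U) (hH : IsPGroup p H)
    (hnt : ¬ H ≤ fixer ρ U) : orderOf (Fintype.card K : ZMod p) ≤ Module.finrank K U := by
  classical
  letI : MulAction H U :=
    { smul := fun h v => ⟨ρ (h : G) v, hU.inv h h.2 v v.2⟩
      one_smul := fun v => Subtype.ext (by show ρ 1 (v : V) = v; rw [map_one]; rfl)
      mul_smul := fun a b v => Subtype.ext (apply_mul (ρ := ρ) (a : G) b v) }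
  haveI : Finite U := Module.finite_of_finite K
  have h0 : U ⊓ fix ρ H = ⊥ := by
    refine (hU.min _ inf_le_left (hU.inv.inf (fix_inv H H fun h hh x hx =>
      H.mul_mem (H.mul_mem (H.inv_mem hh) hx) hh))).resolve_right fun h => hnt ?_
    intro x hx v hv
    exact (inf_eq_left.mp h hv) x hx
  have hfix : Nat.card (MulAction.fixedPoints H U) = 1 := by
    rw [Nat.card_eq_one_iff_unique]
    refine ⟨⟨fun a b => ?_⟩, ⟨⟨0, fun h => Subtype.ext (map_zero (ρ (h : G)))⟩⟩⟩
    have key : ∀ c : MulAction.fixedPoints H U, ((c : U) : V) = 0 := fun c => by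
      have h1 : ((c : U) : V) ∈ U ⊓ fix ρ H :=
        ⟨(c : U).2, fun x hx => congrArg Subtype.val (c.2 ⟨x, hx⟩)⟩
      rw [h0, Submodule.mem_bot] at h1
      exact h1
    exact Subtype.ext (Subtype.ext ((key a).trans (key b).symm))
  have hmod := hH.card_modEq_card_fixedPoints U
  rw [hfix, Module.natCard_eq_pow_finrank (K := K) (V := U), Nat.card_eq_fintype_card (α := K)] at hmod
  have hcast := (ZMod.natCast_eq_natCast_iff _ _ _).mpr hmod
  rw [Nat.cast_pow, Nat.cast_one] at hcast
  haveI : Nontrivial U := Submodule.nontrivial_iff_ne_bot.mpr hU.ne_bot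
  exact Nat.le_of_dvd Module.finrank_pos (orderOf_dvd_of_pow_eq_one hcast)

theorem card_ne_zero (hpq : ¬ p ∣ Fintype.card K) : (p : K) ≠ 0 := fun h => by
  obtain ⟨r, hr⟩ := CharP.exists K
  obtain ⟨n, hrp, hn⟩ := FiniteField.card K r
  rw [CharP.cast_eq_zero_iff K r, Nat.prime_dvd_prime_iff_eq hrp hp.out] at h
  exact hpq (by rw [hn, h]; exact dvd_pow_self p n.ne_zero)

theorem order_eq_one (hp2 : p = 2) (hpq : ¬ p ∣ Fintype.card K) :
    orderOf (Fintype.card K : ZMod p) = 1 := by
  subst hp2
  rw [orderOf_eq_one_iff]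
  have h : (Fintype.card K : ZMod 2) ≠ 0 := by rwa [ne_eq, ZMod.natCast_eq_zero_iff]
  generalize (Fintype.card K : ZMod 2) = a at h ⊢
  revert h
  decide +revert

/-- The `j`-th derived subgroup fixes every irreducible space of dimension below `e * p ^ j`. -/
theorem ser_le_fixer (hpq : ¬ p ∣ Fintype.card K) : ∀ (j : ℕ) {H : Subgroup G}
    {U : Submodule K V}, IsPGroup p H → Simple ρ H U →
    Module.finrank K U < orderOf (Fintype.card K : ZMod p) * p ^ j → ser H j ≤ fixer ρ U := by
  classical
  intro j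
  induction j with
  | zero =>
    intro H U hH hU hlt
    rw [pow_zero, mul_one] at hlt
    by_contra hnt
    exact absurd (order_le_finrank hU hH hnt) (not_le.mpr hlt)
  | succ j ih =>
    intro H U hH hU hlt
    set σ := act hU.inv with hσ
    haveI : Finite (Module.End K U) := Module.finite_of_finite K
    let ρ' : σ.range →* Module.End K U := (Units.coeHom (Module.End K U)).comp σ.range.subtype
    have hinj : Function.Injective ρ' := fun a b h => Subtype.ext (Units.ext h)
    have hP : IsPGroup p σ.range := hH.of_surjective σ.rangeRestrict σ.rangeRestrict_surjective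
    haveI : Nontrivial U := Submodule.nontrivial_iff_ne_bot.mpr hU.ne_bot
    have hirr : Simple ρ' (⊤ : Subgroup σ.range) ⊤ := by
      refine ⟨top_ne_bot, fun _ _ _ _ => Submodule.mem_top, fun W _ hW => ?_⟩
      have hWinv : Inv ρ H (W.map U.subtype) := by
        rintro h hh _ ⟨v, hv, rfl⟩
        exact ⟨_, hW ⟨σ ⟨h, hh⟩, _, rfl⟩ (mem_top _) v hv, rfl⟩
      rcases hU.min _ (Submodule.map_subtype_le _ _) hWinv with h | h
      · refine Or.inl ((Submodule.eq_bot_iff _).mpr fun v hv => Subtype.ext ?_)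
        exact (Submodule.eq_bot_iff _).mp h _ ⟨v, hv, rfl⟩
      · refine Or.inr (eq_top_iff.mpr fun v _ => ?_)
        have h2 : (v : V) ∈ W.map U.subtype := by rw [h]; exact v.2
        obtain ⟨v', hv', he⟩ := h2
        exact Subtype.ext he ▸ hv'
    by_cases hsq : ∃ E : Subgroup σ.range, E.Normal ∧ IsMulCommutative E ∧ (∀ a ∈ E, a ^ p = 1) ∧
        Nat.card E = p ^ 2
    · obtain ⟨E, hEn, hE, hEp, hEc⟩ := hsq
      obtain ⟨M', W, hidx, hW0, hWinv, hWdim⟩ :=
        exists_block (card_ne_zero hpq) hP hinj hirr hEn hE hEp hEc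
      haveI := normal_of_index_eq hP hidx
      set M := (M'.comap σ.rangeRestrict).map H.subtype with hM
      have hcomm : ⁅H, H⁆ ≤ M := by
        refine Subgroup.commutator_le.mpr fun a ha b hb => ⟨⁅(⟨a, ha⟩ : H), ⟨b, hb⟩⁆, ?_, ?_⟩
        · rw [SetLike.mem_coe, Subgroup.mem_comap, map_commutatorElement]
          haveI : IsCyclic (σ.range ⧸ M') := isCyclic_of_prime_card (p := p)
            (by rw [← Subgroup.index_eq_card, hidx])
          have hle : commutator σ.range ≤ M' :=
            (Subgroup.Normal.quotient_commutative_iff_commutator_le).mp inferInstance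
          exact hle (commutator_mem_commutator (mem_top _) (mem_top _))
        · exact map_commutatorElement H.subtype _ _
      have hMinv : Inv ρ M (W.map U.subtype) := by
        rintro _ ⟨h, hh, rfl⟩ _ ⟨v, hv, rfl⟩
        exact ⟨_, hWinv (σ.rangeRestrict h) hh v hv, rfl⟩
      obtain ⟨U', hU'W, hU'⟩ := exists_simple (W := W.map U.subtype) (fun h => hW0
        ((Submodule.eq_bot_iff _).mpr fun v hv =>
          Subtype.ext ((Submodule.eq_bot_iff _).mp h _ ⟨v, hv, rfl⟩))) hMinv
      have hdim : Module.finrank K U' < orderOf (Fintype.card K : ZMod p) * p ^ j := by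
        have h1 := Submodule.finrank_mono hU'W
        rw [Submodule.finrank_map_subtype_eq] at h1
        refine Nat.lt_of_mul_lt_mul_left (a := p) ?_
        calc p * Module.finrank K U' ≤ p * Module.finrank K W := Nat.mul_le_mul_left _ h1
          _ ≤ Module.finrank K U := hWdim
          _ < _ := hlt
          _ = p * (orderOf (Fintype.card K : ZMod p) * p ^ j) := by rw [pow_succ]; ring
      have hM' := ih (hH.to_le ((map_subtype_le _ : M ≤ H))) hU' hdim
      have hle : ser H (j + 1) ≤ fixer ρ U' := by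
        rw [ser_shift]
        exact (ser_mono hcomm j).trans hM'
      set X := U ⊓ fix ρ (ser H (j + 1)) with hX
      have hX0 : X ≠ ⊥ := fun h => hU'.ne_bot (eq_bot_iff.mpr (h ▸ le_inf
        (hU'W.trans (Submodule.map_subtype_le _ _)) fun v hv x hx => hle hx v hv))
      have hXU : X = U := (hU.min _ inf_le_left (hU.inv.inf (fix_inv H _ fun h hh x hx =>
        conj_ser H (j + 1) hh hx))).resolve_left hX0
      intro x hx v hv
      exact (inf_eq_left.mp hXU hv) x hx
    · have key : (∀ a b : σ.range, Commute a b) → ser H (j + 1) ≤ fixer ρ U := by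
        intro hab
        refine ((ser_shift H j).le.trans (ser_le _ j)).trans (Subgroup.commutator_le.mpr fun a ha b hb => ?_)
        have e : σ ⁅(⟨a, ha⟩ : H), ⟨b, hb⟩⁆ = 1 := by
          rw [map_commutatorElement, commutatorElement_eq_one_iff_commute]
          exact congrArg Subtype.val (hab ⟨_, ⟨a, ha⟩, rfl⟩ ⟨_, ⟨b, hb⟩, rfl⟩)
        have := mem_fixer_of_act hU.inv e
        rwa [show ((⁅(⟨a, ha⟩ : H), ⟨b, hb⟩⁆ : H) : G) = ⁅a, b⁆ from
          map_commutatorElement H.subtype _ _] at this
      by_cases hp2 : p = 2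
      · have hnA : ∀ A : Subgroup σ.range, A.Normal → IsMulCommutative A → IsCyclic A := by
          intro A hAn hA
          by_contra hAc
          let W : Subgroup σ.range :=
            { carrier := {a | a ∈ A ∧ a ^ p = 1}
              one_mem' := ⟨one_mem _, one_pow p⟩
              mul_mem' := fun {a b} ha hb => ⟨mul_mem ha.1 hb.1, by
                rw [(show Commute a b from comm_of_isMulCommutative hA ha.1 hb.1).mul_pow, ha.2, hb.2,
                  one_mul]⟩
              inv_mem' := fun {a} ha => ⟨inv_mem ha.1, by rw [inv_pow, ha.2, inv_one]⟩ }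
          haveI hWn : W.Normal := ⟨fun a ha g =>
            ⟨hAn.conj_mem a ha.1 g, by rw [conj_pow, ha.2, mul_one, mul_inv_cancel]⟩⟩
          have hW : p ^ 2 ≤ Nat.card W := by
            by_contra hlt'
            obtain ⟨m, hm⟩ := IsPGroup.iff_card.mp (hP.to_subgroup W)
            refine hAc (isCyclic_of_small_omega hP hA W (fun a ha hap => ⟨ha, hap⟩) ?_)
            rw [hm] at hlt' ⊢
            refine (Nat.pow_le_pow_right hp.out.pos (?_ : m ≤ 1)).trans (pow_one p).le
            by_contra h2
            exact hlt' (Nat.pow_le_pow_right hp.out.pos (by omega))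
          obtain ⟨B, hBn, hBW, hB⟩ := exists_normal_card_le hP W 2 hW
          exact hsq ⟨B, hBn, isMulCommutative_of_comm fun x hx y hy =>
            comm_of_isMulCommutative hA (hBW hx).1 (hBW hy).1, fun a ha => (hBW ha).2, hB⟩
        by_cases hc : IsCyclic σ.range
        · exact key fun a b => (IsMulCommutative.is_comm (M := σ.range)).comm a b
        obtain ⟨k, c, y, hck, hcard, hy, hcase⟩ :=
          structure_of_normal_abelian_cyclic (hp2 ▸ hP) hc hnA
        rcases j with _ | j
        · refine key fun a b => hinj ?_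
          have hd : Module.finrank K U = 1 := by
            rw [zero_add, pow_one, order_eq_one hp2 hpq, one_mul, hp2] at hlt
            have : 0 < Module.finrank K U := Module.finrank_pos
            omega
          obtain ⟨v, hv⟩ := exists_ne (0 : U)
          have hv' := (finrank_eq_one_iff_of_nonzero' v hv).mp hd
          rw [map_mul, map_mul]
          refine LinearMap.ext fun w => ?_
          obtain ⟨t, rfl⟩ := hv' w
          obtain ⟨ca, hca⟩ := hv' (ρ' a v)
          obtain ⟨cb, hcb⟩ := hv' (ρ' b v)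
          simp only [Module.End.mul_apply, map_smul]
          rw [← hca, ← hcb, map_smul, map_smul, ← hca, ← hcb]
          simp only [smul_smul]
          congr 1
          ring
        · have hCidx : (zpowers c).index = p := by
            have h := Subgroup.card_mul_index (zpowers c)
            rw [Nat.card_zpowers, hck, hcard, pow_succ] at h
            rw [hp2]
            exact Nat.eq_of_mul_eq_mul_left (by positivity) h
          haveI := normal_of_index_eq hP hCidx
          haveI : IsCyclic (σ.range ⧸ zpowers c) := isCyclic_of_prime_card (p := p)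
            (by rw [← Subgroup.index_eq_card, hCidx])
          have hle : commutator σ.range ≤ zpowers c :=
            (Subgroup.Normal.quotient_commutative_iff_commutator_le).mp inferInstance
          have h1 : ser H 1 ≤ ((zpowers c).comap σ.rangeRestrict).map H.subtype := by
            refine Subgroup.commutator_le.mpr fun a ha b hb => ⟨⁅(⟨a, ha⟩ : H), ⟨b, hb⟩⁆, ?_, ?_⟩
            · rw [SetLike.mem_coe, Subgroup.mem_comap, map_commutatorElement]
              exact hle (commutator_mem_commutator (mem_top _) (mem_top _))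
            · exact map_commutatorElement H.subtype _ _
          have h2 : ser H 2 ≤ fixer ρ U := by
            refine Subgroup.commutator_le.mpr fun a ha b hb => ?_
            obtain ⟨a', ha', rfl⟩ := h1 ha
            obtain ⟨b', hb', rfl⟩ := h1 hb
            have hab : Commute (σ.rangeRestrict a') (σ.rangeRestrict b') :=
              congrArg Subtype.val ((IsMulCommutative.is_comm (M := zpowers c)).comm ⟨_, ha'⟩ ⟨_, hb'⟩)
            have e : σ ⁅a', b'⁆ = 1 := by
              rw [map_commutatorElement, commutatorElement_eq_one_iff_commute]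
              exact congrArg Subtype.val hab
            have := mem_fixer_of_act hU.inv e
            rwa [show ((⁅a', b'⁆ : H) : G) = ⁅(a' : G), (b' : G)⁆ from
              map_commutatorElement H.subtype _ _] at this
          have hser : ∀ i, ser H (i + 2) ≤ ser H 2 := fun i => by
            induction i with
            | zero => exact le_rfl
            | succ i ihi => exact (Subgroup.commutator_le_self (ser H (i + 2))).trans ihi
          exact (hser j).trans h2
      · by_cases hc : IsCyclic σ.range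
        · exact key fun a b => (IsMulCommutative.is_comm (M := σ.range)).comm a b
        · exact absurd (exists_normal_elementary_sq hP hp2 hc) hsq

/-- Coprime `p`-groups act trivially once they fix every irreducible constituent. -/
theorem ser_le_fixer_all (hpq : ¬ p ∣ Fintype.card K) (hH : IsPGroup p H) (j : ℕ)
    (hlt : Module.finrank K V < orderOf (Fintype.card K : ZMod p) * p ^ j) :
    ser H j ≤ fixer ρ ⊤ := by
  classical
  have hC : Inv ρ H (fix ρ (ser H j)) := fix_inv H _ fun h hh x hx => conj_ser H j hh hx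
  set C := fix ρ (ser H j) with hCdef
  suffices hCtop : C = ⊤ from fun x hx v _ => (hCtop ▸ Submodule.mem_top : v ∈ C) x hx
  by_contra hne
  obtain ⟨π0, hπ0⟩ := C.subtype.exists_leftInverse_of_injective C.ker_subtype
  let pr : Module.End K V := C.subtype ∘ₗ π0
  have hpr : ∀ v ∈ C, pr v = v := fun v hv =>
    congrArg Subtype.val (congrArg (fun f : C →ₗ[K] C => f ⟨v, hv⟩) hπ0)
  letI := Fintype.ofFinite H
  have hN : (Fintype.card H : K) ≠ 0 := by
    obtain ⟨m, hm⟩ := IsPGroup.iff_card.mp hH
    rw [Fintype.card_eq_nat_card, hm, Nat.cast_pow]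
    exact pow_ne_zero _ (card_ne_zero hpq)
  let π : Module.End K V := (Fintype.card H : K)⁻¹ • ∑ h : H, ρ (h : G) * pr * ρ (h : G)⁻¹
  have hπC : ∀ v ∈ C, π v = v := by
    intro v hv
    have e : ∀ h : H, (ρ (h : G) * pr * ρ (h : G)⁻¹) v = v := fun h => by
      rw [Module.End.mul_apply, Module.End.mul_apply, hpr _ (hC _ (H.inv_mem h.2) v hv),
        apply_apply_inv]
    simp only [π, LinearMap.smul_apply, LinearMap.sum_apply, e, Finset.sum_const, Finset.card_univ]
    rw [← Nat.cast_smul_eq_nsmul K, smul_smul, inv_mul_cancel₀ hN, one_smul]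
  have hπmem : ∀ v, π v ∈ C := fun v => by
    simp only [π, LinearMap.smul_apply, LinearMap.sum_apply]
    exact C.smul_mem _ (C.sum_mem fun h _ => hC _ h.2 _ (π0 _).2)
  have hY : Inv ρ H (LinearMap.ker π) := by
    intro g hg v hv
    have e : π * ρ g = ρ g * π := by
      simp only [π, smul_mul_assoc, mul_smul_comm, Finset.sum_mul, Finset.mul_sum]
      congr 1
      refine Fintype.sum_equiv (Equiv.mulLeft (⟨g, hg⟩⁻¹ : H)) _ _ fun h => ?_
      simp only [Equiv.coe_mulLeft, Subgroup.coe_mul, Subgroup.coe_inv]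
      rw [mul_inv_rev, inv_inv, map_mul ρ g⁻¹ (h : G), map_mul ρ (h : G)⁻¹ g, ← mul_assoc (ρ g),
        ← mul_assoc (ρ g), ← mul_assoc (ρ g) (ρ g⁻¹), ← map_mul ρ g g⁻¹, mul_inv_cancel, map_one,
        one_mul, mul_assoc (ρ (h : G) * pr)]
    rw [LinearMap.mem_ker, ← Module.End.mul_apply, e, Module.End.mul_apply, LinearMap.mem_ker.mp hv,
      map_zero]
  have hY0 : LinearMap.ker π ≠ ⊥ := fun h => hne (eq_top_iff.mpr fun v _ => by
    have h1 : v - π v ∈ LinearMap.ker π := by
      rw [LinearMap.mem_ker, map_sub, hπC _ (hπmem v), sub_self]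
    rw [h, Submodule.mem_bot, sub_eq_zero] at h1
    exact h1 ▸ hπmem v)
  obtain ⟨U, hUY, hU⟩ := exists_simple hY0 hY
  obtain ⟨u, hu, hu0⟩ := (Submodule.ne_bot_iff U).mp hU.ne_bot
  have hfix := ser_le_fixer hpq j hH hU ((Submodule.finrank_le U).trans_lt hlt)
  exact hu0 (by rw [← hπC u fun x hx => hfix hx u hu]; exact LinearMap.mem_ker.mp (hUY hu))

end Cfsg.Agent.PGroups.DerivedLength
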