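import Cfsg.Agent.PGroups.Basic
import Mathlib.LinearAlgebra.Eigenspace.Triangularizable
import Mathlib.LinearAlgebra.FreeModule.Finite.Matrix
import Mathlib.LinearAlgebra.FiniteDimensional.Lemmas
import Mathlib.RepresentationTheory.Basic
import Mathlib.RingTheory.Artinian.Module

/-!
The dimension of an irreducible representation of a `q`-group over an algebraically closed field
is a power of `q`, whatever the characteristic.
-/

set_option autoImplicit false
set_option linter.style.haveILetI false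
set_option linter.unusedSectionVars false

namespace Cfsg.Agent.PGroups.IrrDegree

open Subgroup

variable {K V G : Type*} [Field K] [AddCommGroup V] [Module K V] [Group G] [Finite G]
variable {ρ : G →* Module.End K V}

/-- `W` is invariant under the elements of `H`. -/
def Inv (ρ : G →* Module.End K V) (H : Subgroup G) (W : Submodule K V) : Prop :=
  ∀ h ∈ H, ∀ v ∈ W, ρ h v ∈ W

theorem apply_mul (a b : G) (v : V) : ρ (a * b) v = ρ a (ρ b v) := by
  rw [map_mul]; rfl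

theorem apply_inv_apply (a : G) (v : V) : ρ a⁻¹ (ρ a v) = v := by
  rw [← apply_mul, inv_mul_cancel, map_one]; rfl

theorem apply_apply_inv (a : G) (v : V) : ρ a (ρ a⁻¹ v) = v := by
  rw [← apply_mul, mul_inv_cancel, map_one]; rfl

theorem apply_injective (a : G) : Function.Injective (ρ a) :=
  Function.LeftInverse.injective (apply_inv_apply a)

/-- The stabilizer of a submodule. -/
def stab (ρ : G →* Module.End K V) (W : Submodule K V) : Subgroup G where
  carrier := {h | ∀ v ∈ W, ρ h v ∈ W}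
  one_mem' v hv := by rw [map_one]; exact hv
  mul_mem' {a b} ha hb v hv := by rw [apply_mul]; exact ha _ (hb v hv)
  inv_mem' {a} ha v hv := by
    have hpow : ∀ i : ℕ, ∀ w ∈ W, ρ (a ^ i) w ∈ W := by
      intro i
      induction i with
      | zero => intro w hw; rw [pow_zero, map_one]; exact hw
      | succ i ih => intro w hw; rw [pow_succ', apply_mul]; exact ha _ (ih w hw)
    have e : a⁻¹ = a ^ (orderOf a - 1) := by
      refine inv_eq_of_mul_eq_one_left ?_
      rw [← pow_succ, Nat.sub_add_cancel (orderOf_pos a), pow_orderOf_eq_one]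
    rw [e]
    exact hpow _ v hv

theorem inv_iff_le_stab {H : Subgroup G} {W : Submodule K V} : Inv ρ H W ↔ H ≤ stab ρ W := Iff.rfl

theorem Inv.inf {H : Subgroup G} {A B : Submodule K V} (ha : Inv ρ H A) (hb : Inv ρ H B) :
    Inv ρ H (A ⊓ B) :=
  fun h hh v hv => ⟨ha h hh v hv.1, hb h hh v hv.2⟩

theorem Inv.sup {H : Subgroup G} {A B : Submodule K V} (ha : Inv ρ H A) (hb : Inv ρ H B) :
    Inv ρ H (A ⊔ B) := by
  intro h hh v hv
  obtain ⟨a, ha', b, hb', rfl⟩ := Submodule.mem_sup.mp hv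
  rw [map_add]
  exact Submodule.add_mem_sup (ha h hh a ha') (hb h hh b hb')

theorem Inv.finsetSup {ι : Type*} {H : Subgroup G} (s : Finset ι) (T : ι → Submodule K V)
    (h : ∀ i ∈ s, Inv ρ H (T i)) : Inv ρ H (s.sup T) := by
  classical
  induction s using Finset.induction_on with
  | empty =>
    intro a _ v hv
    rw [Finset.sup_empty, Submodule.mem_bot] at hv
    rw [hv, map_zero, Finset.sup_empty]
    exact zero_mem _
  | insert i s _ ih =>
    rw [Finset.sup_insert]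
    exact (h i (Finset.mem_insert_self _ _)).sup (ih fun j hj => h j (Finset.mem_insert_of_mem hj))

/-- A minimal nonzero invariant submodule. -/
structure Simple (ρ : G →* Module.End K V) (H : Subgroup G) (W : Submodule K V) : Prop where
  ne_bot : W ≠ ⊥
  inv : Inv ρ H W
  min : ∀ U ≤ W, Inv ρ H U → U = ⊥ ∨ U = W

theorem exists_simple [FiniteDimensional K V] {H : Subgroup G} {W : Submodule K V} (h0 : W ≠ ⊥)
    (hW : Inv ρ H W) : ∃ U ≤ W, Simple ρ H U := by
  obtain ⟨U, hUle, hUmin⟩ :=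
    exists_minimal_le_of_wellFoundedLT (fun U : Submodule K V => U ≠ ⊥ ∧ Inv ρ H U) W ⟨h0, hW⟩
  refine ⟨U, hUle, hUmin.prop.1, hUmin.prop.2, fun X hX hXinv => ?_⟩
  rcases eq_or_ne X ⊥ with h | h
  · exact Or.inl h
  · exact Or.inr (le_antisymm hX (hUmin.le_of_le ⟨h, hXinv⟩ hX))

section Step

variable {M : Subgroup G} {U : Submodule K V} (hU : Simple ρ M U)

/-- Commutes with the action of `M`. -/
def Equiv' (f : U →ₗ[K] V) : Prop :=
  ∀ (m : G) (hm : m ∈ M) (u : U), f ⟨ρ m u, hU.inv m hm u u.2⟩ = ρ m (f u)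

/-- The translate of a submodule. -/
def tr (ρ : G →* Module.End K V) (U : Submodule K V) (a : G) : Submodule K V := U.map (ρ a)

theorem tr_inv (hU : Simple ρ M U) {a : G} (ha : ∀ m ∈ M, a⁻¹ * m * a ∈ M) :
    Inv ρ M (tr ρ U a) := by
  rintro m hm _ ⟨u, hu, rfl⟩
  refine ⟨ρ (a⁻¹ * m * a) u, hU.inv _ (ha m hm) u hu, ?_⟩
  rw [← apply_mul, ← apply_mul]
  congr 1
  group

theorem tr_simple (hU : Simple ρ M U) {a : G} (ha : ∀ m ∈ M, a⁻¹ * m * a ∈ M)
    (ha' : ∀ m ∈ M, a * m * a⁻¹ ∈ M) : Simple ρ M (tr ρ U a) := by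
  refine ⟨fun h => hU.ne_bot ?_, tr_inv hU ha, fun X hX hXinv => ?_⟩
  · rw [Submodule.eq_bot_iff] at h ⊢
    intro u hu
    exact apply_injective a (by rw [h _ ⟨u, hu, rfl⟩, map_zero])
  have h1 : X.map (ρ a⁻¹) ≤ U := by
    rintro _ ⟨x, hx, rfl⟩
    obtain ⟨u, hu, rfl⟩ := hX hx
    rwa [apply_inv_apply]
  have h2 : Inv ρ M (X.map (ρ a⁻¹)) := by
    rintro m hm _ ⟨x, hx, rfl⟩
    refine ⟨ρ (a * m * a⁻¹) x, hXinv _ (ha' m hm) x hx, ?_⟩
    rw [← apply_mul, ← apply_mul]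
    congr 1
    group
  rcases hU.min _ h1 h2 with h | h
  · refine Or.inl ((Submodule.eq_bot_iff X).mpr fun x hx => ?_)
    have : ρ a⁻¹ x = 0 := (Submodule.eq_bot_iff _).mp h _ ⟨x, hx, rfl⟩
    exact apply_injective a⁻¹ (by rw [this, map_zero])
  · refine Or.inr (le_antisymm hX ?_)
    rintro _ ⟨u, hu, rfl⟩
    rw [← h] at hu
    obtain ⟨x, hx, rfl⟩ := hu
    rwa [apply_apply_inv]

variable [FiniteDimensional K V]

/-- An invariant map to a translate forces `W` to have the dimension of `U`. -/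
theorem finrank_eq_of_hom [IsAlgClosed K] {H : Subgroup G} {W : Submodule K V} (hW : Simple ρ H W)
    (hMH : M ≤ H) (hUW : U ≤ W) {a : G} (haH : a ∈ H) (hgen : H ≤ M ⊔ zpowers a)
    (hca : ∀ m ∈ M, a⁻¹ * m * a ∈ M) (hca' : ∀ m ∈ M, a * m * a⁻¹ ∈ M) (φ : U →ₗ[K] V)
    (hφ : Equiv' hU φ) (hφr : ∀ u, φ u ∈ tr ρ U a) (hφ0 : φ ≠ 0) :
    Module.finrank K W = Module.finrank K U := by
  have hker : ∀ f : U →ₗ[K] V, Equiv' hU f → f ≠ 0 → Function.Injective f := by
    intro f hf hf0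
    rw [← LinearMap.ker_eq_bot]
    have hXle : (LinearMap.ker f).map U.subtype ≤ U := Submodule.map_subtype_le _ _
    have hXinv : Inv ρ M ((LinearMap.ker f).map U.subtype) := by
      rintro m hm _ ⟨u, hu, rfl⟩
      refine ⟨⟨ρ m u, hU.inv m hm u u.2⟩, ?_, rfl⟩
      show f _ = 0
      rw [hf m hm u, LinearMap.mem_ker.mp hu, map_zero]
    rcases hU.min _ hXle hXinv with h | h
    · rw [Submodule.eq_bot_iff] at h ⊢
      exact fun u hu => Subtype.ext (h _ ⟨u, hu, rfl⟩)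
    · refine absurd (LinearMap.ext fun u => ?_) hf0
      have hu : (u : V) ∈ (LinearMap.ker f).map U.subtype := by rw [h]; exact u.2
      obtain ⟨u', hu', he⟩ := hu
      rw [← Subtype.ext he]
      exact hu'
  have hψm : ∀ u : U, (ρ a⁻¹ ∘ₗ φ) u ∈ U := fun u => by
    obtain ⟨v, hv, he⟩ := hφr u
    show ρ a⁻¹ (φ u) ∈ U
    rwa [← he, apply_inv_apply]
  let ψ : U →ₗ[K] U := (ρ a⁻¹ ∘ₗ φ).codRestrict U hψm
  have hψc : ∀ u, (ψ u : V) = ρ a⁻¹ (φ u) := fun u => rfl
  have hψinj : Function.Injective ψ := fun u u' h => by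
    refine hker φ hφ hφ0 ?_
    exact apply_injective a⁻¹ (congrArg Subtype.val h)
  have hψsurj : Function.Surjective ψ := LinearMap.surjective_of_injective hψinj
  let HS : Submodule K (U →ₗ[K] V) :=
    { carrier := {f | Equiv' hU f ∧ ∀ u, f u ∈ W}
      add_mem' := fun {f g} hf hg => ⟨fun m hm u => by
        show f _ + g _ = ρ m (f u + g u)
        rw [hf.1 m hm u, hg.1 m hm u, map_add], fun u => W.add_mem (hf.2 u) (hg.2 u)⟩
      zero_mem' := ⟨fun m _ u => by simp, fun u => W.zero_mem⟩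
      smul_mem' := fun c f hf => ⟨fun m hm u => by
        show c • f _ = ρ m (c • f u)
        rw [hf.1 m hm u, map_smul], fun u => W.smul_mem c (hf.2 u)⟩ }
  let T : (U →ₗ[K] V) →ₗ[K] (U →ₗ[K] V) :=
    { toFun := fun f => ρ a ∘ₗ f ∘ₗ ψ
      map_add' := fun f g => LinearMap.ext fun u => map_add (ρ a) _ _
      map_smul' := fun c f => LinearMap.ext fun u => map_smul (ρ a) c _ }
  have hTmem : ∀ f ∈ HS, T f ∈ HS := by
    rintro f ⟨hf, hfW⟩
    refine ⟨fun m hm u => ?_, fun u => hW.inv a haH _ (hfW _)⟩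
    have hψeq : ψ ⟨ρ m u, hU.inv m hm u u.2⟩ =
        ⟨ρ (a⁻¹ * m * a) (ψ u), hU.inv _ (hca m hm) _ (ψ u).2⟩ := by
      refine Subtype.ext ?_
      show ρ a⁻¹ (φ ⟨ρ m u, _⟩) = ρ (a⁻¹ * m * a) (ρ a⁻¹ (φ u))
      rw [hφ m hm u, ← apply_mul, ← apply_mul]
      congr 2
      group
    show ρ a (f (ψ ⟨ρ m u, _⟩)) = ρ m (ρ a (f (ψ u)))
    rw [hψeq, hf _ (hca m hm), ← apply_mul, ← apply_mul]
    congr 2
    group
  have hincl : U.subtype ∈ HS := ⟨fun m hm u => rfl, fun u => hUW u.2⟩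
  haveI : Nontrivial HS := ⟨⟨⟨_, hincl⟩, 0, fun h => hU.ne_bot (by
    rw [Submodule.eq_bot_iff]
    intro u hu
    exact congrArg (fun f : HS => (f : U →ₗ[K] V) ⟨u, hu⟩) h)⟩⟩
  obtain ⟨μ, hμ⟩ := Module.End.exists_eigenvalue (T.restrict hTmem)
  obtain ⟨⟨f, hfE, hfW⟩, hf, hf0'⟩ := hμ.exists_hasEigenvector
  have hf0 : f ≠ 0 := fun h => hf0' (Subtype.ext h)
  have hTf : T f = μ • f := congrArg Subtype.val (Module.End.mem_eigenspace_iff.mp hf)
  have hRinv : H ≤ stab ρ (LinearMap.range f) := by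
    refine hgen.trans (sup_le (fun m hm => ?_) (zpowers_le.mpr ?_))
    · rintro _ ⟨u, rfl⟩
      exact ⟨⟨ρ m u, hU.inv m hm u u.2⟩, hfE m hm u⟩
    · rintro _ ⟨u, rfl⟩
      obtain ⟨u', rfl⟩ := hψsurj u
      exact ⟨μ • u', (map_smul f μ u').trans (congrArg (fun F : U →ₗ[K] V => F u') hTf).symm⟩
  have hR : LinearMap.range f = W := by
    refine (hW.min _ ?_ hRinv).resolve_left fun h => hf0 (LinearMap.range_eq_bot.mp h)
    rintro _ ⟨u, rfl⟩
    exact hfW u
  rw [← hR, LinearMap.finrank_range_of_inj (hker f hfE hf0)]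

/-- Without such maps the translates are independent. -/
theorem not_le_sup_tr {H : Subgroup G} (hnorm : ∀ a ∈ H, ∀ m ∈ M, a⁻¹ * m * a ∈ M)
    (hB : ∀ a ∈ H, a ∉ M → ∀ φ : U →ₗ[K] V, Equiv' hU φ → (∀ u, φ u ∈ tr ρ U a) → φ = 0)
    (s : Finset G) : (∀ i ∈ s, i ∈ H) → (∀ i ∈ s, ∀ j ∈ s, i ≠ j → i⁻¹ * j ∉ M) →
    (∀ j ∈ H, (∀ i ∈ s, i⁻¹ * j ∉ M) → ¬ tr ρ U j ≤ s.sup (tr ρ U)) ∧
      Module.finrank K (s.sup (tr ρ U) : Submodule K V) = s.card * Module.finrank K U := by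
  classical
  have hsim : ∀ a ∈ H, Simple ρ M (tr ρ U a) := fun a ha =>
    tr_simple hU (hnorm a ha) fun m hm => by
      simpa using hnorm a⁻¹ (H.inv_mem ha) m hm
  induction s using Finset.induction_on with
  | empty =>
    intro _ _
    refine ⟨fun j hj _ h => (hsim j hj).ne_bot ?_, ?_⟩
    · rwa [Finset.sup_empty, le_bot_iff] at h
    · simp
  | insert i s his ih =>
    intro hsH hsep
    obtain ⟨ih1, ih2⟩ := ih (fun a ha => hsH a (Finset.mem_insert_of_mem ha))
      (fun a ha b hb => hsep a (Finset.mem_insert_of_mem ha) b (Finset.mem_insert_of_mem hb))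
    have hiH := hsH i (Finset.mem_insert_self _ _)
    set S := s.sup (tr ρ U) with hS
    have hSinv : Inv ρ M S := Inv.finsetSup s _ fun a ha =>
      (hsim a (hsH a (Finset.mem_insert_of_mem ha))).inv
    have hnle : ¬ tr ρ U i ≤ S := ih1 i hiH fun a ha =>
      hsep a (Finset.mem_insert_of_mem ha) i (Finset.mem_insert_self _ _) fun h => his (h ▸ ha)
    have hint : tr ρ U i ⊓ S = ⊥ := ((hsim i hiH).min _ inf_le_left
      ((hsim i hiH).inv.inf hSinv)).resolve_right fun h => hnle (inf_eq_left.mp h)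
    rw [Finset.sup_insert, Finset.card_insert_of_notMem his]
    refine ⟨fun j hjH hj hle => ?_, ?_⟩
    · have hinj : LinearMap.ker (S.mkQ ∘ₗ (tr ρ U i).subtype) = ⊥ := by
        rw [Submodule.eq_bot_iff]
        intro v hv
        have h1 : (v : V) ∈ tr ρ U i ⊓ S := ⟨v.2, (Submodule.Quotient.mk_eq_zero S).mp hv⟩
        rw [hint, Submodule.mem_bot] at h1
        exact Subtype.ext h1
      obtain ⟨L, hL⟩ := (S.mkQ ∘ₗ (tr ρ U i).subtype).exists_leftInverse_of_injective hinj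
      let π : V →ₗ[K] V := (tr ρ U i).subtype ∘ₗ L ∘ₗ S.mkQ
      have hπ : ∀ v ∈ tr ρ U i, ∀ w ∈ S, π (v + w) = v := by
        intro v hv w hw
        show ((L (S.mkQ (v + w)) : tr ρ U i) : V) = v
        rw [map_add, (Submodule.Quotient.mk_eq_zero S).mpr hw |> (fun h => show S.mkQ w = 0 from h),
          add_zero]
        exact congrArg Subtype.val (congrArg (fun F : tr ρ U i →ₗ[K] tr ρ U i => F ⟨v, hv⟩) hL)
      let f : U →ₗ[K] V := ρ j⁻¹ ∘ₗ π ∘ₗ ρ j ∘ₗ U.subtype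
      have hmem : ∀ u : U, ρ j u ∈ tr ρ U i ⊔ S := fun u => hle ⟨u, u.2, rfl⟩
      have hfeq : Equiv' hU f := by
        intro m hm u
        obtain ⟨v, hv, w, hw, hvw⟩ := Submodule.mem_sup.mp (hmem u)
        have hm' : j * m * j⁻¹ ∈ M := by simpa using hnorm j⁻¹ (H.inv_mem hjH) m hm
        show ρ j⁻¹ (π (ρ j (ρ m u))) = ρ m (ρ j⁻¹ (π (ρ j u)))
        have e : ρ j (ρ m u) = ρ (j * m * j⁻¹) v + ρ (j * m * j⁻¹) w := by
          rw [← map_add, hvw, ← apply_mul, ← apply_mul]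
          congr 2
          group
        rw [e, hπ _ ((hsim i hiH).inv _ hm' v hv) _ (hSinv _ hm' w hw), ← hvw, hπ v hv w hw,
          ← apply_mul, ← apply_mul]
        congr 2
        group
      have hfr : ∀ u, f u ∈ tr ρ U (j⁻¹ * i) := by
        intro u
        obtain ⟨v, ⟨v', hv', rfl⟩, w, hw, hvw⟩ := Submodule.mem_sup.mp (hmem u)
        refine ⟨v', hv', ?_⟩
        show ρ (j⁻¹ * i) v' = ρ j⁻¹ (π (ρ j u))
        rw [← hvw, hπ _ ⟨v', hv', rfl⟩ w hw, apply_mul]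
      have hf0 := hB _ (H.mul_mem (H.inv_mem hjH) hiH) (fun h => hj i (Finset.mem_insert_self _ _)
        (by simpa using M.inv_mem h)) f hfeq hfr
      refine ih1 j hjH (fun a ha => hj a (Finset.mem_insert_of_mem ha)) ?_
      rintro _ ⟨u, hu, rfl⟩
      obtain ⟨v, hv, w, hw, hvw⟩ := Submodule.mem_sup.mp (hmem ⟨u, hu⟩)
      have h0 : ρ j⁻¹ v = 0 := by
        have h0 : ρ j⁻¹ (π (ρ j u)) = 0 :=
          congrArg (fun F : U →ₗ[K] V => F ⟨u, hu⟩) hf0
        rwa [← hvw, hπ v hv w hw] at h0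
      have hv0 : v = 0 := apply_injective j⁻¹ (by rw [h0, map_zero])
      rw [← hvw, hv0, zero_add]
      exact hw
    · have h := Submodule.finrank_sup_add_finrank_inf_eq (tr ρ U i) S
      have htr : Module.finrank K (tr ρ U i) = Module.finrank K U :=
        ((Submodule.equivMapOfInjective (ρ i) (apply_injective i) U).finrank_eq).symm
      rw [hint, finrank_bot, add_zero, htr, ih2] at h
      rw [h, add_mul, one_mul, add_comm]

end Step

/-- Irreducible representations of `q`-groups have `q`-power dimension. -/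
theorem exists_finrank_eq_pow [IsAlgClosed K] [FiniteDimensional K V] {q : ℕ} [Fact q.Prime]
    {H : Subgroup G} (hH : IsPGroup q H) {W : Submodule K V} (hW : Simple ρ H W) :
    ∃ b, Module.finrank K W = q ^ b := by
  classical
  induction H using (InvImage.wf (fun H : Subgroup G => Nat.card H) Nat.lt_wfRel.wf).induction
    generalizing W with
  | _ H ih =>
  rcases eq_or_ne H ⊥ with rfl | hne
  · obtain ⟨v, hv, hv0⟩ := (Submodule.ne_bot_iff W).mp hW.ne_bot
    refine ⟨0, ?_⟩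
    have h : Submodule.span K {v} = W := by
      refine (hW.min _ (Submodule.span_singleton_le_iff_mem _ _ |>.mpr hv) ?_).resolve_left
        (by simp [hv0])
      intro h hh w hw
      rw [mem_bot.mp hh, map_one]
      exact hw
    rw [← h, finrank_span_singleton hv0, pow_zero]
  haveI : Nontrivial H := (Subgroup.nontrivial_iff_ne_bot H).mpr hne
  obtain ⟨M', hM'⟩ : ∃ M' : Subgroup H, IsCoatom M' :=
    (eq_top_or_exists_le_coatom (⊥ : Subgroup H)).elim (fun h => absurd h bot_ne_top)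
      (fun ⟨M', h, _⟩ => ⟨M', h⟩)
  haveI := PGroups.normal_of_isCoatom hH hM'
  have hidx := PGroups.index_eq_of_isCoatom hH hM'
  set M := M'.map H.subtype with hM
  have hMH : M ≤ H := map_subtype_le _
  have hmem : ∀ {a : G} (ha : a ∈ H), a ∈ M ↔ (⟨a, ha⟩ : H) ∈ M' := fun {a} ha => by
    rw [hM, mem_map]
    exact ⟨fun ⟨b, hb, he⟩ => by rwa [show (⟨a, ha⟩ : H) = b from Subtype.ext he.symm],
      fun h => ⟨_, h, rfl⟩⟩
  have hnorm : ∀ a ∈ H, ∀ m ∈ M, a⁻¹ * m * a ∈ M := by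
    intro a ha m hm
    have hmH := hMH hm
    have := (inferInstance : M'.Normal).conj_mem' _ ((hmem hmH).mp hm) ⟨a, ha⟩
    exact (hmem (H.mul_mem (H.mul_mem (H.inv_mem ha) hmH) ha)).mpr this
  have hgen : ∀ a ∈ H, a ∉ M → H ≤ M ⊔ zpowers a := by
    intro a ha haM h hh
    have htop : M' ⊔ zpowers ⟨a, ha⟩ = ⊤ := hM'.2 _ (lt_of_le_of_ne le_sup_left fun e => haM
      ((hmem ha).mpr (e ▸ (le_sup_right : zpowers _ ≤ M' ⊔ _) (mem_zpowers _))))
    have h1 : (⟨h, hh⟩ : H) ∈ M' ⊔ zpowers ⟨a, ha⟩ := htop ▸ mem_top _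
    have h2 := mem_map_of_mem H.subtype h1
    rwa [Subgroup.map_sup, MonoidHom.map_zpowers] at h2
  have hlt : Nat.card M < Nat.card H := by
    rw [hM, Subgroup.card_subtype, ← Subgroup.card_mul_index M', hidx]
    exact lt_mul_of_one_lt_right Nat.card_pos (Fact.out : q.Prime).one_lt
  obtain ⟨U, hUW, hU⟩ := exists_simple (H := M) hW.ne_bot (fun m hm => hW.inv m (hMH hm))
  obtain ⟨c, hc⟩ := ih M hlt (hH.to_le hMH) hU
  by_cases hA : ∃ a ∈ H, a ∉ M ∧ ∃ φ : U →ₗ[K] V, Equiv' hU φ ∧ (∀ u, φ u ∈ tr ρ U a) ∧ φ ≠ 0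
  · obtain ⟨a, haH, haM, φ, hφ, hφr, hφ0⟩ := hA
    refine ⟨c, ?_⟩
    rw [finrank_eq_of_hom hU hW hMH hUW haH (hgen a haH haM) (hnorm a haH)
      (fun m hm => by simpa using hnorm a⁻¹ (H.inv_mem haH) m hm) φ hφ hφr hφ0, hc]
  push Not at hA
  obtain ⟨g', hg'⟩ : ∃ g' : H, g' ∉ M' := by
    by_contra! h
    exact hM'.1 (eq_top_iff.mpr fun x _ => h x)
  have hgH : (g' : G) ∈ H := g'.2
  have hgM : (g' : G) ∉ M := fun h => hg' ((hmem hgH).mp h)
  have hgq : g' ^ q ∈ M' := hidx ▸ M'.pow_index_mem g'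
  have hqk : ∀ k : ℕ, 0 < k → k < q → g' ^ k ∉ M' := by
    intro k hk hkq hmem'
    apply hg'
    rw [← QuotientGroup.eq_one_iff] at hgq hmem' ⊢
    rw [QuotientGroup.mk_pow] at hgq hmem'
    have hgcd := (pow_gcd_eq_one (a := (g' : H ⧸ M'))).mpr ⟨hgq, hmem'⟩
    rwa [((Fact.out : q.Prime).coprime_iff_not_dvd.mpr (Nat.not_dvd_of_pos_of_lt hk hkq)).gcd_eq_one,
      pow_one] at hgcd
  set s := (Finset.range q).image (fun i => (g' : G) ^ i) with hs
  have hsH : ∀ i ∈ s, i ∈ H := by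
    intro i hi
    obtain ⟨k, -, rfl⟩ := Finset.mem_image.mp hi
    exact H.pow_mem hgH k
  have hd : ∀ k l : ℕ, k < l → l < q → ((g' : G) ^ k)⁻¹ * (g' : G) ^ l ∉ M := by
    intro k l hkl hlq h
    have e : ((g' : G) ^ k)⁻¹ * (g' : G) ^ l = (g' : G) ^ (l - k) := by
      rw [inv_mul_eq_iff_eq_mul, ← pow_add, Nat.add_sub_cancel' hkl.le]
    rw [e] at h
    exact hqk (l - k) (by omega) (by omega) ((hmem (H.pow_mem hgH _)).mp h)
  have hsep : ∀ i ∈ s, ∀ j ∈ s, i ≠ j → i⁻¹ * j ∉ M := by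
    intro i hi j hj hij
    obtain ⟨k, hk, rfl⟩ := Finset.mem_image.mp hi
    obtain ⟨l, hl, rfl⟩ := Finset.mem_image.mp hj
    rw [Finset.mem_range] at hk hl
    rcases lt_trichotomy k l with h | rfl | h
    · exact hd k l h hl
    · exact absurd rfl hij
    · intro hm
      exact hd l k h hk (by simpa using M.inv_mem hm)
  have hcard : s.card = q := by
    rw [hs, Finset.card_image_of_injOn, Finset.card_range]
    intro k hk l hl hkl
    simp only [Finset.coe_range, Set.mem_Iio] at hk hl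
    simp only at hkl
    rcases lt_trichotomy k l with h | h | h
    · exact absurd (by rw [hkl, inv_mul_cancel]; exact one_mem M) (hd k l h hl)
    · exact h
    · exact absurd (by rw [hkl, inv_mul_cancel]; exact one_mem M) (hd l k h hk)
  obtain ⟨-, hdim⟩ := not_le_sup_tr hU hnorm hA s hsH hsep
  have hSW : s.sup (tr ρ U) ≤ W := Finset.sup_le fun i hi => by
    rintro _ ⟨u, hu, rfl⟩
    exact hW.inv i (hsH i hi) u (hUW hu)
  have hSinv : H ≤ stab ρ (s.sup (tr ρ U)) := by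
    refine (hgen _ hgH hgM).trans (sup_le (Inv.finsetSup s _ fun i hi => tr_inv hU (hnorm i (hsH i hi)))
      (zpowers_le.mpr ?_))
    have key : (s.sup (tr ρ U)).map (ρ g') ≤ s.sup (tr ρ U) := by
      rw [Submodule.map_le_iff_le_comap, Finset.sup_le_iff]
      intro i hi
      obtain ⟨k, hk, rfl⟩ := Finset.mem_image.mp hi
      rw [Finset.mem_range] at hk
      rintro _ ⟨u, hu, rfl⟩
      rw [Submodule.mem_comap]
      rw [← apply_mul, ← pow_succ']
      rcases Nat.lt_or_ge (k + 1) q with h | h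
      · exact Finset.le_sup (f := tr ρ U) (Finset.mem_image.mpr ⟨k + 1, Finset.mem_range.mpr h, rfl⟩)
          ⟨u, hu, rfl⟩
      · have hgqM : (g' : G) ^ (k + 1) ∈ M := by
          rw [show k + 1 = q by omega]
          exact ⟨_, hgq, rfl⟩
        refine Finset.le_sup (f := tr ρ U)
          (Finset.mem_image.mpr ⟨0, Finset.mem_range.mpr (Fact.out : q.Prime).pos, rfl⟩)
          ⟨ρ ((g' : G) ^ (k + 1)) u, hU.inv _ hgqM u hu, ?_⟩
        rw [pow_zero, map_one]; rfl
    exact fun v hv => key ⟨v, hv, rfl⟩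
  have hWeq : s.sup (tr ρ U) = W := by
    refine (hW.min _ hSW hSinv).resolve_left fun h => ?_
    rw [h, finrank_bot, hcard, hc] at hdim
    exact (mul_ne_zero (Fact.out : q.Prime).ne_zero (pow_ne_zero _ (Fact.out : q.Prime).ne_zero)) hdim.symm
  refine ⟨c + 1, ?_⟩
  rw [← hWeq, hdim, hcard, hc, pow_succ']

end Cfsg.Agent.PGroups.IrrDegree
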