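import Cfsg.Agent.H71.NilpotentCommutant
import Cfsg.Agent.PGroups.IrrDegree
import Mathlib.LinearAlgebra.Trace
import Mathlib.LinearAlgebra.Eigenspace.Triangularizable
import Mathlib.LinearAlgebra.Eigenspace.Zero

/-!
`x` of `p`-power order acting semiregularly on the non-central part of a normal `q`-subgroup `Q`
with absolutely irreducible image: every trace-zero endomorphism fixed by `x` is a norm, so in
characteristic `p` the trace-zero part of `End V` is free over `⟨x⟩`, and
`(dim V)² + |x| - 1 = |x| · dim C(x)`.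
-/

set_option autoImplicit false
set_option linter.style.haveILetI false
set_option linter.unusedSectionVars false

namespace Cfsg.Agent.PGroups.FreeEnd

open Finset

variable {K V G : Type*} [Field K] [AddCommGroup V] [Module K V] [Group G] [Finite G]
variable {ρ : G →* Module.End K V}

/-- Conjugation on `End V`. -/
def Ad (ρ : G →* Module.End K V) : G →* Module.End K (Module.End K V) where
  toFun g := LinearMap.mulLeft K (ρ g) ∘ₗ LinearMap.mulRight K (ρ g⁻¹)
  map_one' := LinearMap.ext fun f => by simp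
  map_mul' a b := LinearMap.ext fun f => by simp [mul_assoc]

theorem Ad_apply (g : G) (f : Module.End K V) : Ad ρ g f = ρ g * f * ρ g⁻¹ := by
  simp [Ad, mul_assoc]

theorem Ad_apply_map (g u : G) : Ad ρ g (ρ u) = ρ (g * u * g⁻¹) := by
  rw [Ad_apply, ← map_mul, ← map_mul]

/-- The fixed points of conjugation form the commutant. -/
theorem Ad_eq_self_iff (g : G) (f : Module.End K V) : Ad ρ g f = f ↔ Commute (ρ g) f := by
  rw [Ad_apply]
  constructor
  · intro h
    show ρ g * f = f * ρ g
    conv_rhs => rw [← h, mul_assoc (ρ g * f), ← map_mul, inv_mul_cancel, map_one, mul_one]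
  · intro h
    rw [h.eq, mul_assoc, ← map_mul, mul_inv_cancel, map_one, mul_one]

variable [FiniteDimensional K V]

theorem trace_Ad (g : G) (f : Module.End K V) :
    LinearMap.trace K V (Ad ρ g f) = LinearMap.trace K V f := by
  rw [Ad_apply, mul_assoc, LinearMap.trace_mul_comm, mul_assoc, ← map_mul, inv_mul_cancel, map_one,
    mul_one]

/-- In characteristic `p`: `1 + X + ⋯ + X ^ (p ^ n - 1) = (X - 1) ^ (p ^ n - 1)`. -/
theorem sum_pow_eq {A : Type*} [Ring A] [Algebra K A] {p : ℕ} [Fact p.Prime] [CharP K p] (n : ℕ)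
    (T : A) : ∑ i ∈ range (p ^ n), T ^ i = (T - 1) ^ (p ^ n - 1) ∧
      (T - 1) ^ p ^ n = T ^ p ^ n - 1 := by
  haveI : CharP (Polynomial K) p := inferInstance
  have hpoly : ((Polynomial.X : Polynomial K) - 1) ^ (p ^ n - 1) =
      ∑ i ∈ range (p ^ n), Polynomial.X ^ i := by
    refine mul_right_cancel₀ (b := (Polynomial.X : Polynomial K) - 1)
      (Polynomial.X_sub_C_ne_zero 1) ?_
    rw [geom_sum_mul, ← pow_succ, Nat.sub_add_cancel (Nat.one_le_pow _ _ (Fact.out : p.Prime).pos),
      sub_pow_char_pow, one_pow]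
  have hpoly2 : ((Polynomial.X : Polynomial K) - 1) ^ p ^ n = Polynomial.X ^ p ^ n - 1 := by
    rw [sub_pow_char_pow, one_pow]
  exact ⟨by simpa using (congrArg (Polynomial.aeval T) hpoly).symm,
    by simpa using congrArg (Polynomial.aeval T) hpoly2⟩

/-- Schur's lemma. -/
theorem exists_eq_smul_one [IsAlgClosed K] [Nontrivial V] {Q : Subgroup G}
    (hQ : IrrDegree.Simple ρ Q ⊤) {T : Module.End K V} (hT : ∀ u ∈ Q, Commute T (ρ u)) :
    ∃ c : K, T = c • 1 := by
  obtain ⟨μ, hμ⟩ := Module.End.exists_eigenvalue T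
  refine ⟨μ, LinearMap.ext fun v => ?_⟩
  have hinv : IrrDegree.Inv ρ Q (T.eigenspace μ) := by
    intro u hu w hw
    rw [Module.End.mem_eigenspace_iff] at hw ⊢
    have h := congrArg (fun f : Module.End K V => f w) (hT u hu).eq
    simp only [Module.End.mul_apply, hw, map_smul] at h
    exact h
  have htop := (hQ.min _ le_top hinv).resolve_left hμ
  have hv : v ∈ T.eigenspace μ := htop ▸ Submodule.mem_top
  rw [Module.End.mem_eigenspace_iff] at hv
  simpa using hv

theorem trace_smulRight' (φ : Module.Dual K V) (v : V) :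
    LinearMap.trace K V (φ.smulRight v) = φ v := by
  let b := Module.finBasis K V
  rw [LinearMap.trace_eq_matrix_trace K b, Matrix.trace]
  conv_rhs => rw [← b.sum_repr v, map_sum]
  exact Finset.sum_congr rfl fun i _ => by
    simp [Matrix.diag, LinearMap.toMatrix_apply, mul_comm]

variable [IsAlgClosed K] [Nontrivial V] {Q : Subgroup G}

/-- The orthogonality relation for an irreducible representation of `Q`, as an expansion. -/
theorem smul_eq_sum (hQ : IrrDegree.Simple ρ Q ⊤) (hd : (Module.finrank K V : K) ≠ 0)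
    [Fintype G] [DecidablePred (· ∈ Q)] (A : Module.End K V) :
    ((Nat.card Q : K) / Module.finrank K V) • A =
      ∑ u ∈ univ.filter (· ∈ Q), LinearMap.trace K V (ρ u⁻¹ * A) • ρ u := by
  set S := univ.filter (· ∈ Q) with hS
  have hmem : ∀ u, u ∈ S ↔ u ∈ Q := fun u => by simp [hS]
  have hcard : S.card = Nat.card Q := by
    rw [Nat.card_eq_fintype_card, Fintype.card_subtype]
  have htw : ∀ B : Module.End K V, ∑ u ∈ S, ρ u * B * ρ u⁻¹ =
      ((Nat.card Q : K) / Module.finrank K V * LinearMap.trace K V B) • 1 := by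
    intro B
    obtain ⟨c, hc⟩ := exists_eq_smul_one hQ (T := ∑ u ∈ S, ρ u * B * ρ u⁻¹) (fun g hg => by
      show (∑ u ∈ S, _) * ρ g = ρ g * ∑ u ∈ S, _
      rw [Finset.sum_mul, Finset.mul_sum]
      refine Finset.sum_nbij' (fun u => g⁻¹ * u) (fun u => g * u) ?_ ?_ ?_ ?_ ?_
      · intro u hu
        exact (hmem _).mpr (Q.mul_mem (Q.inv_mem hg) ((hmem u).mp hu))
      · intro u hu
        exact (hmem _).mpr (Q.mul_mem hg ((hmem u).mp hu))
      · intro u _; simp
      · intro u _; simp
      · intro u _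
        have e1 : ρ g * ρ (g⁻¹ * u) = ρ u := by rw [← map_mul, mul_inv_cancel_left]
        have e2 : ρ (g⁻¹ * u)⁻¹ = ρ u⁻¹ * ρ g := by rw [← map_mul, mul_inv_rev, inv_inv]
        rw [← mul_assoc (ρ g), ← mul_assoc (ρ g), e1, e2, ← mul_assoc])
    have ht : ((Nat.card Q : K) * LinearMap.trace K V B) = c * Module.finrank K V := by
      have h := congrArg (LinearMap.trace K V) hc
      rw [map_sum, map_smul, LinearMap.trace_one, smul_eq_mul,
        Finset.sum_congr rfl fun u _ => (Ad_apply (ρ := ρ) u B) ▸ trace_Ad u B, Finset.sum_const,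
        hcard, nsmul_eq_mul] at h
      exact h
    rw [hc]
    congr 1
    rw [div_mul_eq_mul_div, ht, mul_div_assoc, div_self hd, mul_one]
  refine LinearMap.ext fun v => ?_
  let b := Module.finBasis K V
  have htr : ∀ f : Module.End K V, LinearMap.trace K V f = ∑ i, b.coord i (f (b i)) := fun f => by
    rw [LinearMap.trace_eq_matrix_trace K b, Matrix.trace]
    exact Finset.sum_congr rfl fun i _ => by simp [Matrix.diag, LinearMap.toMatrix_apply]
  have hone : ∀ (φ : Module.Dual K V) (w : V), ∑ u ∈ S, φ (ρ u⁻¹ w) • ρ u v =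
      ((Nat.card Q : K) / Module.finrank K V * φ v) • w := by
    intro φ w
    have h := congrArg (fun f : Module.End K V => f w) (htw (φ.smulRight v))
    rw [trace_smulRight'] at h
    simpa [LinearMap.sum_apply, map_smul] using h
  simp only [LinearMap.smul_apply, LinearMap.sum_apply, htr, Finset.sum_smul]
  rw [Finset.sum_comm]
  simp only [Module.End.mul_apply, hone]
  conv_lhs => rw [← b.sum_repr v, map_sum, Finset.smul_sum]
  exact Finset.sum_congr rfl fun i _ => by
    rw [map_smul, smul_smul, Module.Basis.coord_apply]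

/-- A trace-zero endomorphism fixed by `x` is a norm. -/
theorem exists_norm_eq (hQ : IrrDegree.Simple ρ Q ⊤) (hQn : Q.Normal)
    (hd : (Module.finrank K V : K) ≠ 0) (hcardQ : (Nat.card Q : K) ≠ 0) (x : G)
    (hreg : ∀ u ∈ Q, u ∉ Subgroup.center G → ∀ i, 0 < i → i < orderOf x → x ^ i * u ≠ u * x ^ i)
    {A : Module.End K V} (hA : Ad ρ x A = A) (htr : LinearMap.trace K V A = 0) :
    ∃ B, ∑ i ∈ range (orderOf x), Ad ρ (x ^ i) B = A := by
  classical
  let _ := Fintype.ofFinite G
  set P := orderOf x with hP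
  have hP0 : 0 < P := orderOf_pos x
  let S := univ.filter fun u => u ∈ Q ∧ u ∉ Subgroup.center G
  have hmemS : ∀ u, u ∈ S ↔ u ∈ Q ∧ u ∉ Subgroup.center G := fun u => by simp [S]
  let a : G → K := fun u => LinearMap.trace K V (ρ u⁻¹ * A)
  have hexp : ((Nat.card Q : K) / Module.finrank K V) • A = ∑ u ∈ S, a u • ρ u := by
    rw [smul_eq_sum hQ hd A]
    refine (Finset.sum_subset (fun u hu => by simp [((hmemS u).mp hu).1]) fun u hu hu' => ?_).symm
    have huQ : u ∈ Q := by simpa using hu
    have huc : u⁻¹ ∈ Subgroup.center G := by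
      refine (Subgroup.center G).inv_mem ?_
      by_contra h
      exact hu' ((hmemS u).mpr ⟨huQ, h⟩)
    obtain ⟨c, hc⟩ := exists_eq_smul_one hQ (T := ρ u⁻¹) fun g _ => by
      show ρ u⁻¹ * ρ g = ρ g * ρ u⁻¹
      rw [← map_mul, ← map_mul, Subgroup.mem_center_iff.mp huc g]
    rw [hc, smul_mul_assoc, one_mul, map_smul, htr, smul_zero, zero_smul]
  let cj : ℕ → G → G := fun i u => (x ^ i)⁻¹ * u * x ^ i
  have hcjS : ∀ i, ∀ u ∈ S, cj i u ∈ S := by
    intro i u hu
    obtain ⟨hu1, hu2⟩ := (hmemS u).mp hu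
    refine (hmemS _).mpr ⟨hQn.conj_mem' _ hu1 _, fun h => hu2 ?_⟩
    have h' := (inferInstance : (Subgroup.center G).Normal).conj_mem _ h (x ^ i)
    have e : x ^ i * cj i u * (x ^ i)⁻¹ = u := by simp [cj, mul_assoc]
    rwa [e] at h'
  have hAi : ∀ i : ℕ, Ad ρ (x ^ i) A = A := by
    intro i
    induction i with
    | zero => rw [pow_zero, map_one]; rfl
    | succ i ih => rw [pow_succ, map_mul, Module.End.mul_apply, hA, ih]
  have ha : ∀ i u, a (cj i u) = a u := by
    intro i u
    have e : (cj i u)⁻¹ = (x ^ i)⁻¹ * u⁻¹ * x ^ i := by simp [cj, mul_assoc]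
    show LinearMap.trace K V (ρ (cj i u)⁻¹ * A) = LinearMap.trace K V (ρ u⁻¹ * A)
    rw [e, map_mul ρ, map_mul ρ]
    conv_rhs => rw [← hAi i, Ad_apply, ← mul_assoc, ← mul_assoc, LinearMap.trace_mul_comm]
    simp only [mul_assoc]
  let orb : G → Set G := fun u => Set.range fun i : ℕ => cj i u
  have horb : ∀ i u, orb (cj i u) = orb u := by
    intro i u
    have hc2 : ∀ k, cj k (cj i u) = cj (i + k) u := fun k => by
      simp [cj, pow_add, mul_assoc]
    ext v
    constructor
    · rintro ⟨j, rfl⟩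
      exact ⟨i + j, (hc2 j).symm⟩
    · rintro ⟨j, rfl⟩
      refine ⟨j + (P - 1) * i, ?_⟩
      simp only
      have e : i + (j + (P - 1) * i) = j + P * i := by
        obtain ⟨m, hm⟩ : ∃ m, P = m + 1 := ⟨P - 1, by omega⟩
        rw [hm, Nat.add_sub_cancel]; ring
      rw [hc2, e]
      show (x ^ (j + P * i))⁻¹ * u * x ^ (j + P * i) = _
      rw [pow_add, pow_mul, pow_orderOf_eq_one, one_pow, mul_one]
  let pick : Set G → G := fun s => if h : s.Nonempty then h.some else 1
  let w : G → K := fun u => if u = pick (orb u) then 1 else 0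
  have hw : ∀ u ∈ S, ∑ i ∈ range P, w (cj i u) = 1 := by
    intro u hu
    have hne : (orb u).Nonempty := ⟨_, 0, rfl⟩
    obtain ⟨k, hk⟩ : pick (orb u) ∈ orb u := by
      simp only [pick, dif_pos hne]
      exact hne.some_mem
    have hk' : cj (k % P) u = pick (orb u) := by
      rw [← hk]
      show (x ^ (k % P))⁻¹ * u * x ^ (k % P) = (x ^ k)⁻¹ * u * x ^ k
      rw [pow_mod_orderOf]
    rw [Finset.sum_eq_single (k % P)]
    · simp only [w, horb, if_pos hk']
    · intro i hi hne'
      simp only [w, horb]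
      rw [if_neg]
      intro h
      rw [← hk'] at h
      rw [Finset.mem_range] at hi
      have hkP : k % P < P := Nat.mod_lt _ hP0
      obtain ⟨hu1, hu2⟩ := (hmemS u).mp hu
      have key : ∀ m l, m < l → l < P → cj l u ≠ cj m u := by
        intro m l hml hl he
        refine hreg u hu1 hu2 (l - m) (by omega) (by omega) ?_
        obtain ⟨r, rfl⟩ : ∃ r, l = r + m := ⟨l - m, by omega⟩
        rw [Nat.add_sub_cancel]
        simp only [cj, pow_add, mul_inv_rev, mul_assoc] at he
        have h2 := mul_left_cancel he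
        rw [← mul_assoc, ← mul_assoc] at h2
        have h3 := mul_right_cancel h2
        rw [mul_assoc, inv_mul_eq_iff_eq_mul] at h3
        exact h3.symm
      rcases lt_or_gt_of_ne hne' with h' | h'
      · exact key i _ h' hkP h.symm
      · exact key _ i h' hi h
    · intro h
      exact absurd (Finset.mem_range.mpr (Nat.mod_lt _ hP0)) h
  refine ⟨((Nat.card Q : K) / Module.finrank K V)⁻¹ • ∑ u ∈ S, (w u * a u) • ρ u, ?_⟩
  have key : ∑ i ∈ range P, Ad ρ (x ^ i) (∑ u ∈ S, (w u * a u) • ρ u) = ∑ v ∈ S, a v • ρ v := by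
    have h1 : ∀ i, Ad ρ (x ^ i) (∑ u ∈ S, (w u * a u) • ρ u) =
        ∑ v ∈ S, (w (cj i v) * a v) • ρ v := by
      intro i
      rw [map_sum]
      refine Finset.sum_nbij' (fun u => x ^ i * u * (x ^ i)⁻¹) (fun v => cj i v) ?_ ?_ ?_ ?_ ?_
      · intro u hu
        obtain ⟨hu1, hu2⟩ := (hmemS u).mp hu
        refine (hmemS _).mpr ⟨hQn.conj_mem _ hu1 _, fun h => hu2 ?_⟩
        have h' := (inferInstance : (Subgroup.center G).Normal).conj_mem' _ h (x ^ i)
        simpa [mul_assoc] using h'
      · intro v hv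
        exact hcjS i v hv
      · intro u _; simp [cj, mul_assoc]
      · intro u _; simp [cj, mul_assoc]
      · intro u _
        have e : cj i (x ^ i * u * (x ^ i)⁻¹) = u := by simp [cj, mul_assoc]
        rw [map_smul, Ad_apply_map]
        congr 1
        rw [e, ← ha i (x ^ i * u * (x ^ i)⁻¹), e]
    simp only [h1]
    rw [Finset.sum_comm]
    refine Finset.sum_congr rfl fun v hv => ?_
    rw [← Finset.sum_smul, ← Finset.sum_mul, hw v hv, one_mul]
  simp only [map_smul]
  rw [← Finset.smul_sum, key, ← hexp, smul_smul,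
    inv_mul_cancel₀ (div_ne_zero hcardQ hd), one_smul]

/-- The Jordan blocks of `L` have size `P` on the kernel of `τ`, plus one fixed line. -/
theorem finrank_add_eq {E : Type*} [AddCommGroup E] [Module K E] [FiniteDimensional K E] {P : ℕ}
    (L : Module.End K E) (τ : E →ₗ[K] K) (e : E) (hL : L ^ P = 0) (hP : 0 < P) (he : L e = 0)
    (hτe : τ e ≠ 0) (hτL : ∀ y, τ (L y) = 0)
    (hfix : LinearMap.ker L ⊓ LinearMap.ker τ ≤ LinearMap.range (L ^ (P - 1))) :
    Module.finrank K E + (P - 1) = P * Module.finrank K (LinearMap.ker L) := by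
  set F := LinearMap.ker L with hF
  set F0 := F ⊓ LinearMap.ker τ with hF0
  have hf : Module.finrank K F0 + 1 = Module.finrank K F := by
    have h := LinearMap.finrank_range_add_finrank_ker (τ.domRestrict F)
    have hr : LinearMap.range (τ.domRestrict F) = ⊤ := by
      rw [LinearMap.range_eq_top]
      exact fun c => ⟨(c / τ e) • ⟨e, he⟩, by simp [div_mul_cancel₀ _ hτe]⟩
    have hk : (LinearMap.ker (τ.domRestrict F)).map F.subtype = F0 := by
      ext y
      constructor
      · rintro ⟨u, hu, rfl⟩; exact ⟨u.2, hu⟩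
      · rintro ⟨h1, h2⟩; exact ⟨⟨y, h1⟩, h2, rfl⟩
    rw [hr, finrank_top, Module.finrank_self, ← Submodule.finrank_map_subtype_eq, hk] at h
    omega
  let r : ℕ → ℕ := fun j => Module.finrank K (LinearMap.range (L ^ j))
  have hstep : ∀ j, r j = r (j + 1) + Module.finrank K (F ⊓ LinearMap.range (L ^ j) : Submodule K E) := by
    intro j
    set W := LinearMap.range (L ^ j)
    have h := LinearMap.finrank_range_add_finrank_ker (L.domRestrict W)
    have hr : LinearMap.range (L.domRestrict W) = LinearMap.range (L ^ (j + 1)) := by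
      ext y
      constructor
      · rintro ⟨⟨_, z, rfl⟩, rfl⟩; exact ⟨z, by rw [pow_succ']; rfl⟩
      · rintro ⟨z, rfl⟩; exact ⟨⟨_, z, rfl⟩, by rw [pow_succ']; rfl⟩
    have hk : (LinearMap.ker (L.domRestrict W)).map W.subtype = F ⊓ W := by
      ext y
      constructor
      · rintro ⟨u, hu, rfl⟩; exact ⟨hu, u.2⟩
      · rintro ⟨h1, h2⟩; exact ⟨⟨y, h2⟩, h1, rfl⟩
    rw [hr, ← Submodule.finrank_map_subtype_eq, hk] at h
    exact h.symm
  have hmid : ∀ j, 1 ≤ j → j ≤ P - 1 → F ⊓ LinearMap.range (L ^ j) = F0 := by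
    intro j h1 h2
    refine le_antisymm ?_ (le_inf inf_le_left ?_)
    · intro y hy
      refine ⟨hy.1, ?_⟩
      obtain ⟨i, rfl⟩ : ∃ i, j = i + 1 := ⟨j - 1, by omega⟩
      obtain ⟨z, rfl⟩ := hy.2
      rw [SetLike.mem_coe, LinearMap.mem_ker, pow_succ', Module.End.mul_apply]
      exact hτL _
    · refine hfix.trans ?_
      rintro _ ⟨z, rfl⟩
      exact ⟨(L ^ (P - 1 - j)) z, by rw [← Module.End.mul_apply, ← pow_add, Nat.add_sub_cancel' h2]⟩
  have hdown : ∀ k, k ≤ P - 1 → r (P - k) = k * Module.finrank K F0 := by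
    intro k
    induction k with
    | zero => intro _; simp [r, hL]
    | succ k ih =>
      intro hk
      have e : P - k = P - (k + 1) + 1 := by omega
      rw [hstep, ← e, ih (by omega), hmid _ (by omega) (by omega), add_mul, one_mul]
  have h0 : r 0 = Module.finrank K E := by
    show Module.finrank K (LinearMap.range (L ^ 0)) = _
    rw [pow_zero, Module.End.one_eq_id, LinearMap.range_id, finrank_top]
  have h1 := hdown (P - 1) le_rfl
  rw [show P - (P - 1) = 1 by omega] at h1
  have h00 := hstep 0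
  rw [h0, h1, pow_zero, Module.End.one_eq_id, LinearMap.range_id, inf_top_eq] at h00
  obtain ⟨m, rfl⟩ : ∃ m, P = m + 1 := ⟨P - 1, by omega⟩
  rw [Nat.add_sub_cancel] at h00 ⊢
  rw [h00, ← hf]
  ring

/-- The dimension of the commutant of `x`. -/
theorem sq_add_eq {p q n : ℕ} [Fact p.Prime] [CharP K p] [Fact q.Prime] (hpq : p ≠ q)
    (hQq : IsPGroup q Q) (hQ : IrrDegree.Simple ρ Q ⊤) (hQn : Q.Normal) {x : G}
    (hx : orderOf x = p ^ n)
    (hreg : ∀ u ∈ Q, u ∉ Subgroup.center G → ∀ i, 0 < i → i < orderOf x → x ^ i * u ≠ u * x ^ i) :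
    Module.finrank K V * Module.finrank K V + (p ^ n - 1) =
      p ^ n * Module.finrank K (H71.commutant (ρ x - 1)) := by
  have hp : p.Prime := Fact.out
  have hq : q.Prime := Fact.out
  have hnd : ¬ p ∣ q := fun h => hpq ((Nat.prime_dvd_prime_iff_eq hp hq).mp h)
  have hqk : ∀ j, ((q ^ j : ℕ) : K) ≠ 0 := by
    intro j h
    rw [CharP.cast_eq_zero_iff K p] at h
    exact hnd (hp.dvd_of_dvd_pow h)
  obtain ⟨b, hb⟩ := IrrDegree.exists_finrank_eq_pow hQq hQ
  rw [finrank_top] at hb
  have hd : (Module.finrank K V : K) ≠ 0 := hb ▸ hqk b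
  obtain ⟨c, hc⟩ := IsPGroup.iff_card.mp hQq
  have hcard : (Nat.card Q : K) ≠ 0 := hc ▸ hqk c
  obtain ⟨hsum, hsub⟩ := sum_pow_eq (K := K) (p := p) n (Ad ρ x)
  have hcom : LinearMap.ker (Ad ρ x - 1) = H71.commutant (ρ x - 1) := by
    ext f
    rw [LinearMap.mem_ker, LinearMap.sub_apply, Module.End.one_apply, sub_eq_zero, Ad_eq_self_iff,
      H71.mem_commutant]
    exact ⟨fun h => h.sub_left (Commute.one_left f),
      fun h => by simpa using h.add_left (Commute.one_left f)⟩
  have h := finrank_add_eq (P := p ^ n) (Ad ρ x - 1) (LinearMap.trace K V) 1 ?_ (pow_pos hp.pos n)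
    ?_ ?_ ?_ ?_
  · rw [Module.finrank_linearMap, hcom] at h
    exact h
  · rw [hsub, ← map_pow, ← hx, pow_orderOf_eq_one, map_one, sub_self]
  · rw [LinearMap.sub_apply, Module.End.one_apply, sub_eq_zero, Ad_eq_self_iff]
    exact Commute.one_right _
  · rwa [LinearMap.trace_one]
  · intro y
    rw [LinearMap.sub_apply, Module.End.one_apply, map_sub, trace_Ad, sub_self]
  · rintro A ⟨hA1, hA2⟩
    rw [SetLike.mem_coe, LinearMap.mem_ker, LinearMap.sub_apply, Module.End.one_apply,
      sub_eq_zero] at hA1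
    obtain ⟨B, hB⟩ := exists_norm_eq hQ hQn hd hcard x hreg hA1 hA2
    refine ⟨B, ?_⟩
    rw [← hsum, LinearMap.sum_apply, ← hB, hx]
    simp only [← map_pow]

end Cfsg.Agent.PGroups.FreeEnd
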