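import Mathlib.GroupTheory.SpecificGroups.Alternating
import Mathlib.Algebra.Module.Basic
import Mathlib.Algebra.BigOperators.Fin
import Mathlib.Data.List.GetD
import Mathlib.Tactic.Abel

/-!
Kernel-checkable identities in group rings `(ZMod p)[G]`, acting on an abelian group of exponent `p`:
coefficients are accumulated in a binary trie indexed by an injective code of the group elements.
-/

namespace Cfsg.Agent.PGroups.GRC

/-- binary trie of coefficients -/
inductive Acc where
  | emp : Acc
  | nd : ℕ → Acc → Acc → Acc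

/-- add `c` at key `k` (depth `d`) -/
def Acc.add : ℕ → Acc → ℕ → ℕ → Acc
  | 0, .emp, _, c => .nd c .emp .emp
  | 0, .nd e l r, _, c => .nd (e + c) l r
  | d + 1, .emp, k, c =>
    if k % 2 = 0 then .nd 0 (Acc.add d .emp (k / 2) c) .emp else .nd 0 .emp (Acc.add d .emp (k / 2) c)
  | d + 1, .nd e l r, k, c =>
    if k % 2 = 0 then .nd e (Acc.add d l (k / 2) c) r else .nd e l (Acc.add d r (k / 2) c)

/-- all coefficients divisible by `p` -/
def Acc.zero (p : ℕ) : Acc → Bool
  | .emp => true
  | .nd e l r => (e % p == 0) && Acc.zero p l && Acc.zero p r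

/-- value of a trie -/
def Acc.val {M : Type*} [AddCommMonoid M] : Acc → (ℕ → M) → M
  | .emp, _ => 0
  | .nd e l r, g => e • g 0 + Acc.val l (fun k => g (2 * k)) + Acc.val r (fun k => g (2 * k + 1))

theorem Acc.val_add {M : Type*} [AddCommMonoid M] :
    ∀ (d : ℕ) (t : Acc) (k c : ℕ) (g : ℕ → M), k < 2 ^ d →
      (Acc.add d t k c).val g = t.val g + c • g k := by
  intro d
  induction d with
  | zero =>
    intro t k c g hk
    obtain rfl : k = 0 := by simpa using hk
    cases t with
    | emp => simp [Acc.add, Acc.val]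
    | nd e l r => simp [Acc.add, Acc.val, add_nsmul]; abel
  | succ d ih =>
    intro t k c g hk
    have hk2 : k / 2 < 2 ^ d := by rw [pow_succ] at hk; omega
    rcases Nat.even_or_odd k with ⟨j, hj⟩ | ⟨j, hj⟩
    · have h0 : k % 2 = 0 := by omega
      have e : 2 * (k / 2) = k := by omega
      cases t with
      | emp => simp [Acc.add, h0, Acc.val, ih _ _ _ _ hk2, e]
      | nd a l r => simp [Acc.add, h0, Acc.val, ih _ _ _ _ hk2, e]; abel
    · have h0 : ¬ k % 2 = 0 := by omega
      have e : 2 * (k / 2) + 1 = k := by omega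
      cases t with
      | emp => simp [Acc.add, h0, Acc.val, ih _ _ _ _ hk2, e]
      | nd a l r => simp [Acc.add, h0, Acc.val, ih _ _ _ _ hk2, e]; abel

theorem Acc.val_eq_zero {M : Type*} [AddCommMonoid M] {p : ℕ} (hp : ∀ m : M, p • m = 0) :
    ∀ (t : Acc) (g : ℕ → M), t.zero p = true → t.val g = 0 := by
  intro t
  induction t with
  | emp => intros; rfl
  | nd e l r ihl ihr =>
    intro g h
    simp only [Acc.zero, Bool.and_eq_true, beq_iff_eq] at h
    obtain ⟨q, rfl⟩ := Nat.dvd_of_mod_eq_zero h.1.1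
    simp [Acc.val, mul_comm p q, mul_nsmul', hp, ihl _ h.1.2, ihr _ h.2]

/-- the keys and coefficients of a list vanish mod `p` -/
def keysZero (p d : ℕ) (L : List (ℕ × ℕ)) : Bool :=
  L.all (fun x => decide (x.2 < 2 ^ d)) && (L.foldl (fun t x => Acc.add d t x.2 x.1) .emp).zero p

theorem sum_eq_zero_of_keysZero {M : Type*} [AddCommMonoid M] {p d : ℕ} (hp : ∀ m : M, p • m = 0)
    (L : List (ℕ × ℕ)) (g : ℕ → M) (h : keysZero p d L = true) :
    (L.map fun x => x.1 • g x.2).sum = 0 := by
  simp only [keysZero, Bool.and_eq_true, List.all_eq_true, decide_eq_true_eq] at h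
  have key : ∀ (L : List (ℕ × ℕ)) (t : Acc), (∀ x ∈ L, x.2 < 2 ^ d) →
      (L.foldl (fun t x => Acc.add d t x.2 x.1) t).val g = t.val g + (L.map fun x => x.1 • g x.2).sum := by
    intro L
    induction L with
    | nil => intros; simp
    | cons a L ih =>
      intro t hL
      rw [List.foldl_cons, ih _ (fun x hx => hL x (List.mem_cons_of_mem _ hx)),
        Acc.val_add _ _ _ _ _ (hL a List.mem_cons_self), List.map_cons, List.sum_cons, add_assoc]
  have := key L .emp h.1
  rw [Acc.val_eq_zero hp _ _ h.2] at this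
  simpa [Acc.val] using this.symm

variable {G : Type*} [Group G] {V : Type*} [AddCommGroup V]

/-- action of a formal combination of group elements -/
def ev (ρ : G →* AddMonoid.End V) (L : List (ℕ × G)) (v : V) : V :=
  (L.map fun x => x.1 • ρ x.2 v).sum

/-- product of formal combinations -/
def mulL (L K : List (ℕ × G)) : List (ℕ × G) :=
  L.flatMap fun x => K.map fun y => (x.1 * y.1, x.2 * y.2)

@[simp] theorem ev_nil (ρ : G →* AddMonoid.End V) (v : V) : ev ρ [] v = 0 := rfl

theorem ev_cons (ρ : G →* AddMonoid.End V) (x : ℕ × G) (L : List (ℕ × G)) (v : V) :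
    ev ρ (x :: L) v = x.1 • ρ x.2 v + ev ρ L v := by simp [ev]

theorem ev_append (ρ : G →* AddMonoid.End V) (L K : List (ℕ × G)) (v : V) :
    ev ρ (L ++ K) v = ev ρ L v + ev ρ K v := by simp [ev]

theorem ev_single (ρ : G →* AddMonoid.End V) (g : G) (v : V) : ev ρ [(1, g)] v = ρ g v := by
  simp [ev]

theorem ev_add (ρ : G →* AddMonoid.End V) (L : List (ℕ × G)) (v w : V) :
    ev ρ L (v + w) = ev ρ L v + ev ρ L w := by
  induction L with
  | nil => simp
  | cons x L ih => simp [ev_cons, ih, map_add, nsmul_add]; abel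

theorem ev_zero (ρ : G →* AddMonoid.End V) (L : List (ℕ × G)) : ev ρ L 0 = 0 := by
  induction L with
  | nil => simp
  | cons x L ih => simp [ev_cons, ih]

theorem ev_nsmul (ρ : G →* AddMonoid.End V) (L : List (ℕ × G)) (n : ℕ) (v : V) :
    ev ρ L (n • v) = n • ev ρ L v := by
  induction n with
  | zero => simp [ev_zero]
  | succ n ih => simp [succ_nsmul, ev_add, ih]

theorem ev_mulL (ρ : G →* AddMonoid.End V) (L K : List (ℕ × G)) (v : V) :
    ev ρ (mulL L K) v = ev ρ L (ev ρ K v) := by
  induction L with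
  | nil => simp [mulL]
  | cons x L ih =>
    rw [mulL, List.flatMap_cons, ev_append, ev_cons, ← mulL, ih]
    congr 1
    clear ih
    induction K with
    | nil => simp
    | cons y K ihK =>
      rw [List.map_cons, ev_cons, ev_cons, ihK, map_add, nsmul_add, map_mul, map_nsmul, ← mul_nsmul']
      rfl

/-- a formal combination with vanishing coefficients acts as zero -/
def isZero (code : G → ℕ) (p d : ℕ) (L : List (ℕ × G)) : Bool :=
  keysZero p d (L.map fun x => (x.1, code x.2))

theorem ev_eq_zero (ρ : G →* AddMonoid.End V) {code : G → ℕ} (hc : Function.Injective code)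
    {p d : ℕ} (hp : ∀ m : V, p • m = 0) {L : List (ℕ × G)} (h : isZero code p d L = true) (v : V) :
    ev ρ L v = 0 := by
  classical
  let g : ℕ → V := fun k => if hk : ∃ x, code x = k then ρ hk.choose v else 0
  have hg : ∀ x, g (code x) = ρ x v := by
    intro x
    have hk : ∃ y, code y = code x := ⟨x, rfl⟩
    simp only [g, dif_pos hk]
    rw [hc hk.choose_spec]
  have := sum_eq_zero_of_keysZero hp _ g h
  simpa [ev, List.map_map, Function.comp_def, hg] using this

/-- a two-sided combination `Σ c • a * R_i * b` of relations -/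
def combo (R : List (List (ℕ × G))) (C : List (ℕ × G × ℕ × G)) : List (ℕ × G) :=
  C.flatMap fun t => mulL [(t.1, t.2.1)] (mulL (R.getD t.2.2.1 []) [(1, t.2.2.2)])

theorem ev_combo_eq_zero (ρ : G →* AddMonoid.End V) (R : List (List (ℕ × G)))
    (C : List (ℕ × G × ℕ × G)) (P : V → Prop) (hP : ∀ g v, P v → P (ρ g v))
    (hR : ∀ K ∈ R, ∀ v, P v → ev ρ K v = 0) {v : V} (hv : P v) : ev ρ (combo R C) v = 0 := by
  induction C with
  | nil => simp [combo]
  | cons t C ih =>
    rw [combo, List.flatMap_cons, ev_append, ← combo, ih, add_zero, ev_mulL, ev_mulL, ev_single]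
    have : ev ρ (R.getD t.2.2.1 []) (ρ t.2.2.2 v) = 0 := by
      by_cases h : t.2.2.1 < R.length
      · rw [List.getD_eq_getElem _ _ h]
        exact hR _ (List.getElem_mem h) _ (hP _ _ hv)
      · rw [List.getD_eq_default _ _ (not_lt.mp h)]; rfl
    rw [this, ev_zero]

/-- code of a permutation -/
def pcode (n : ℕ) (σ : alternatingGroup (Fin n)) : ℕ :=
  (finFunctionFinEquiv (fun i => (σ : Equiv.Perm (Fin n)) i) : ℕ)

theorem pcode_injective (n : ℕ) : Function.Injective (pcode n) := by
  intro σ τ h
  have := congrFun (finFunctionFinEquiv.injective (Fin.ext h))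
  exact Subtype.ext (Equiv.ext this)

/-- the three-cycle `a ↦ b ↦ c ↦ a` -/
def tc {n : ℕ} (a b c : Fin n) : alternatingGroup (Fin n) :=
  if h : a ≠ b ∧ b ≠ c then
    ⟨Equiv.swap a b * Equiv.swap b c, by
      rw [Equiv.Perm.mem_alternatingGroup, map_mul, Equiv.Perm.sign_swap h.1,
        Equiv.Perm.sign_swap h.2]; rfl⟩
  else 1

/-- product of three-cycles encoded by decimal triples -/
def el (n : ℕ) [NeZero n] (w : List ℕ) : alternatingGroup (Fin n) :=
  (w.map fun k => tc (Fin.ofNat n (k / 100)) (Fin.ofNat n (k / 10 % 10)) (Fin.ofNat n (k % 10))).prod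

end Cfsg.Agent.PGroups.GRC
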