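import Cfsg.Agent.PGroups.GroupRingCert

/-!
Kernel-checkable certificates that a vector fixed by given permutations vanishes in a module over
`F_2[A_n]` without nonzero vectors fixed by `A₅` or by a Hurwitz group.
-/

set_option autoImplicit false

namespace Cfsg.Agent.PGroups.GRC

/-- decode a product of three-cycles packed in base one thousand -/
def unpack : ℕ → ℕ → List ℕ
  | 0, _ => []
  | f + 1, k => if k = 0 then [] else (k % 1000) :: unpack f (k / 1000)

/-- element from a packed word -/
def pel (n : ℕ) [NeZero n] (k : ℕ) : alternatingGroup (Fin n) := el n (unpack 8 k)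

variable {n : ℕ} [NeZero n]

/-- one base `n` digit -/
def digit (n c i : ℕ) : ℕ := c / n ^ i % n

/-- composition on codes -/
def mulc (n : ℕ) [NeZero n] (a b : ℕ) : ℕ :=
  (finFunctionFinEquiv fun i : Fin n =>
    (⟨digit n a (digit n b i), Nat.mod_lt _ (NeZero.pos n)⟩ : Fin n) : ℕ)

theorem digit_pcode (σ : alternatingGroup (Fin n)) (i : Fin n) :
    digit n (pcode n σ) i = ((σ : Equiv.Perm (Fin n)) i).val := by
  have h := congrFun (finFunctionFinEquiv.symm_apply_apply fun i => (σ : Equiv.Perm (Fin n)) i) i
  rw [← h, finFunctionFinEquiv_symm_apply_val]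
  rfl

theorem pcode_mul (σ τ : alternatingGroup (Fin n)) :
    pcode n (σ * τ) = mulc n (pcode n σ) (pcode n τ) := by
  unfold mulc
  rw [pcode]
  congr 2
  funext i
  apply Fin.ext
  show _ = digit n _ _
  rw [digit_pcode τ i, digit_pcode σ]
  rfl

/-- blocked table lookup -/
def tget (P : List (List ℕ)) (i : ℕ) : ℕ := (P.getD (i / 32) []).getD (i % 32) 0

/-- an orbit, with the action of two elements on it -/
structure OrbRow where
  a : ℕ
  b : ℕ
  pts : List ℕ
  ta : List (ℕ × ℕ)
  tb : List (ℕ × ℕ)

/-- a translate of the sum over a minimal overgroup -/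
structure ExRow where
  x : ℕ
  g : ℕ
  tg : List (ℕ × ℕ)

/-- the data shared by all rows: fixing elements, words in them with their codes,
representatives with their codes -/
structure OrbData (n : ℕ) where
  K : List (alternatingGroup (Fin n))
  E : List (alternatingGroup (Fin n))
  kw : List (List ℕ)
  kc : List ℕ
  pw : List (List ℕ)
  pc : List (List ℕ)
  size : ℕ

/-- word in the fixing elements -/
def kel (K : List (alternatingGroup (Fin n))) (w : List ℕ) : alternatingGroup (Fin n) :=
  (w.map fun i => K.getD i 1).prod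

/-- code of a word in the fixing elements -/
def kcode (K : List (alternatingGroup (Fin n))) : List ℕ → ℕ
  | [] => pcode n (1 : alternatingGroup (Fin n))
  | i :: w => mulc n (pcode n (K.getD i 1)) (kcode K w)

/-- the representative with given index -/
def OrbData.pt (D : OrbData n) (i : ℕ) : alternatingGroup (Fin n) := pel n (tget D.pw i)

/-- tables are consistent -/
def OrbData.tablesOk (D : OrbData n) : Bool :=
  ((List.range D.kc.length).all fun i => kcode D.K (D.kw.getD i []) == D.kc.getD i 0) &&
    ((List.range D.size).all fun i => pcode n (D.pt i) == tget D.pc i)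

/-- the image list is right equivalent to the given list of representatives -/
def OrbData.imgOk (D : OrbData n) : List ℕ → List (ℕ × ℕ) → Bool
  | [], [] => true
  | y :: ys, t :: ts =>
    decide (t.1 < D.size) && decide (t.2 < D.kc.length) &&
      (y == mulc n (tget D.pc t.1) (D.kc.getD t.2 0)) && D.imgOk ys ts
  | _, _ => false

/-- formal sum of representatives -/
def OrbData.fsum (D : OrbData n) (ys : List ℕ) : List (ℕ × alternatingGroup (Fin n)) :=
  ys.map fun i => (1, D.pt i)

/-- keys of a sum of representatives -/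
def OrbData.keys (D : OrbData n) (ys : List ℕ) : List (ℕ × ℕ) := ys.map fun i => (1, tget D.pc i)

/-- check of one orbit row -/
def OrbData.rowOk (D : OrbData n) (r : OrbRow) : Bool :=
  let a := pcode n (pel n r.a)
  let b := pcode n (pel n r.b)
  let e := pcode n (1 : alternatingGroup (Fin n))
  let ab := mulc n a b
  let ab2 := mulc n ab ab
  let ab4 := mulc n ab2 ab2
  (mulc n a a == e) && (mulc n (mulc n b b) b == e) &&
    ((mulc n ab4 ab == e) || (mulc n ab4 (mulc n ab2 ab) == e)) && !(a == e) &&
    r.pts.all (fun i => decide (i < D.size)) &&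
    D.imgOk (r.pts.map fun i => mulc n a (tget D.pc i)) r.ta &&
    keysZero 2 34 (D.keys (r.ta.map Prod.fst) ++ D.keys r.pts) &&
    D.imgOk (r.pts.map fun i => mulc n b (tget D.pc i)) r.tb &&
    keysZero 2 34 (D.keys (r.tb.map Prod.fst) ++ D.keys r.pts)

/-- check of one extra row -/
def OrbData.exOk (D : OrbData n) (r : ExRow) : Bool :=
  let g := pcode n (D.E.getD r.g 1)
  let x := pcode n (pel n r.x)
  decide (r.g < D.E.length) && D.imgOk [x, mulc n x g, mulc n x (mulc n g g)] r.tg

/-- keys of all rows and the target -/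
def OrbData.totalKeys (D : OrbData n) (R : List OrbRow) (X : List ExRow) : List (ℕ × ℕ) :=
  R.flatMap (fun r => D.keys r.pts) ++ X.flatMap (fun r => D.keys (r.tg.map Prod.fst)) ++
    [(1, pcode n (1 : alternatingGroup (Fin n)))]

variable {V : Type*} [AddCommGroup V]

/-- only zero is fixed by a pair generating `A₅` or a Hurwitz group -/
def Free2 {G : Type*} [Group G] (ρ : G →* AddMonoid.End V) : Prop :=
  ∀ a b : G, a * a = 1 → b * b * b = 1 → (a * b) ^ 5 = 1 ∨ (a * b) ^ 7 = 1 → a ≠ 1 →
    ∀ v, ρ a v = v → ρ b v = v → v = 0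

theorem kel_fixed (ρ : alternatingGroup (Fin n) →* AddMonoid.End V)
    (K : List (alternatingGroup (Fin n))) {v : V} (hK : ∀ k ∈ K, ρ k v = v) (w : List ℕ) :
    ρ (kel K w) v = v := by
  induction w with
  | nil => simp [kel]
  | cons i w ih =>
    rw [kel, List.map_cons, List.prod_cons, ← kel, map_mul]
    show ρ (K.getD i 1) (ρ (kel K w) v) = v
    rw [ih]
    by_cases h : i < K.length
    · rw [List.getD_eq_getElem _ _ h]; exact hK _ (List.getElem_mem h)
    · rw [List.getD_eq_default _ _ (not_lt.mp h), map_one]; rfl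

theorem kcode_eq (K : List (alternatingGroup (Fin n))) : ∀ w, kcode K w = pcode n (kel K w)
  | [] => by simp [kcode, kel]
  | i :: w => by
    rw [kcode, kcode_eq K w, ← pcode_mul]
    simp [kel]

theorem add_self_zero (h2 : ∀ v : V, 2 • v = 0) (v : V) : v + v = 0 := by rw [← two_nsmul, h2]

theorem eq_of_add_zero (h2 : ∀ v : V, 2 • v = 0) {a b : V} (h : a + b = 0) : a = b :=
  calc a = a + (b + b) := by rw [add_self_zero h2, add_zero]
    _ = b := by rw [← add_assoc, h, zero_add]

theorem imgOk_spec (ρ : alternatingGroup (Fin n) →* AddMonoid.End V) {D : OrbData n}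
    (hT : D.tablesOk = true) {v : V} (hK : ∀ k ∈ D.K, ρ k v = v) :
    ∀ (ys : List (alternatingGroup (Fin n))) (ts : List (ℕ × ℕ)),
      D.imgOk (ys.map (pcode n)) ts = true →
        (ys.map fun y => ρ y v).sum = ev ρ (D.fsum (ts.map Prod.fst)) v
  | [], [], _ => rfl
  | [], _ :: _, h => by simp [OrbData.imgOk] at h
  | _ :: _, [], h => by simp [OrbData.imgOk] at h
  | y :: ys, t :: ts, h => by
    simp only [List.map_cons, OrbData.imgOk, Bool.and_eq_true, beq_iff_eq, decide_eq_true_eq] at h
    simp only [OrbData.tablesOk, Bool.and_eq_true, List.all_eq_true, List.mem_range, beq_iff_eq] at hT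
    obtain ⟨⟨⟨h1, h2⟩, h3⟩, h4⟩ := h
    rw [← hT.1 _ h2, ← hT.2 _ h1, kcode_eq, ← pcode_mul] at h3
    rw [List.map_cons, List.sum_cons,
      imgOk_spec ρ (by simpa [OrbData.tablesOk, List.all_eq_true] using hT) hK ys ts h4,
      pcode_injective n h3, map_mul]
    show ρ (D.pt t.1) (ρ (kel D.K _) v) + _ = _
    rw [kel_fixed ρ D.K hK]
    simp [OrbData.fsum, ev]

theorem ev_fsum_eq {D : OrbData n} (hT : D.tablesOk = true)
    (ρ : alternatingGroup (Fin n) →* AddMonoid.End V) (v : V) (ys : List ℕ)
    (hys : ∀ i ∈ ys, i < D.size) :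
    ∀ g : ℕ → V, (∀ x, g (pcode n x) = ρ x v) →
      ((D.keys ys).map fun x => x.1 • g x.2).sum = ev ρ (D.fsum ys) v := by
  intro g hg
  simp only [OrbData.tablesOk, Bool.and_eq_true, List.all_eq_true, List.mem_range, beq_iff_eq] at hT
  simp only [OrbData.keys, OrbData.fsum, ev, List.map_map, Function.comp_def]
  congr 1
  exact List.map_congr_left fun i hi => by rw [← hT.2 i (hys i hi), hg]

theorem imgOk_lt {D : OrbData n} : ∀ (ys : List ℕ) (ts : List (ℕ × ℕ)), D.imgOk ys ts = true →
    ∀ i ∈ ts.map Prod.fst, i < D.size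
  | _, [], _ => by simp
  | [], _ :: _, h => by simp [OrbData.imgOk] at h
  | _ :: ys, t :: ts, h => by
    simp only [OrbData.imgOk, Bool.and_eq_true, decide_eq_true_eq] at h
    intro i hi
    rw [List.map_cons, List.mem_cons] at hi
    rcases hi with rfl | hi
    · exact h.1.1.1
    · exact imgOk_lt ys ts h.2 i hi

/-- soundness of the certificate -/
theorem orbitCheck_spec (ρ : alternatingGroup (Fin n) →* AddMonoid.End V)
    (h2 : ∀ v : V, 2 • v = 0) (hρ : Free2 ρ) {D : OrbData n} (hT : D.tablesOk = true)
    {R : List OrbRow} {X : List ExRow} (hR : R.all D.rowOk = true) (hX : X.all D.exOk = true)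
    (hZ : keysZero 2 34 (D.totalKeys R X) = true) {v : V} (hK : ∀ k ∈ D.K, ρ k v = v)
    (hE : ∀ g ∈ D.E, v + ρ g v + ρ (g * g) v = 0) : v = 0 := by
  classical
  rw [List.all_eq_true] at hR hX
  let g : ℕ → V := fun k => if hk : ∃ x, pcode n x = k then ρ hk.choose v else 0
  have hg : ∀ x, g (pcode n x) = ρ x v := by
    intro x
    have hk : ∃ y, pcode n y = pcode n x := ⟨x, rfl⟩
    simp only [g, dif_pos hk]
    rw [pcode_injective n hk.choose_spec]
  have horb : ∀ r ∈ R, ev ρ (D.fsum r.pts) v = 0 ∧ ∀ i ∈ r.pts, i < D.size := by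
    intro r hr
    have := hR r hr
    simp only [OrbData.rowOk, Bool.and_eq_true, Bool.or_eq_true, beq_iff_eq, Bool.not_eq_true',
      beq_eq_false_iff_ne, ne_eq, List.all_eq_true, decide_eq_true_eq] at this
    obtain ⟨⟨⟨⟨⟨⟨⟨⟨h1, h3⟩, h57⟩, hne⟩, hlt⟩, hia⟩, hza⟩, hib⟩, hzb⟩ := this
    have hfix : ∀ (c : alternatingGroup (Fin n)) (ts : List (ℕ × ℕ)),
        D.imgOk (r.pts.map fun i => mulc n (pcode n c) (tget D.pc i)) ts = true →
        keysZero 2 34 (D.keys (ts.map Prod.fst) ++ D.keys r.pts) = true →
        ρ c (ev ρ (D.fsum r.pts) v) = ev ρ (D.fsum r.pts) v := by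
      intro c ts hi hz
      have e := sum_eq_zero_of_keysZero h2 _ g hz
      rw [List.map_append, List.sum_append, ev_fsum_eq hT ρ v _ (imgOk_lt _ _ hi) g hg,
        ev_fsum_eq hT ρ v _ hlt g hg] at e
      have hcodes : r.pts.map (fun i => mulc n (pcode n c) (tget D.pc i)) =
          (r.pts.map fun i => c * D.pt i).map (pcode n) := by
        simp only [OrbData.tablesOk, Bool.and_eq_true, List.all_eq_true, List.mem_range,
          beq_iff_eq] at hT
        rw [List.map_map]
        exact List.map_congr_left fun i hi => by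
          rw [Function.comp_apply, pcode_mul, hT.2 i (hlt i hi)]
      rw [hcodes] at hi
      calc ρ c (ev ρ (D.fsum r.pts) v)
          = ev ρ (mulL [(1, c)] (D.fsum r.pts)) v := by rw [ev_mulL, ev_single]
        _ = ((r.pts.map fun i => c * D.pt i).map fun y => ρ y v).sum := by
            simp [mulL, ev, OrbData.fsum, List.map_map, Function.comp_def]
        _ = _ := by rw [imgOk_spec ρ hT hK _ _ hi, eq_of_add_zero h2 e]
    have p1 := fun x => (pcode_mul (n := n) x x).symm
    refine ⟨hρ (pel n r.a) (pel n r.b) ?_ ?_ ?_ (fun e => hne (congrArg (pcode n) e)) _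
      (hfix _ _ hia hza) (hfix _ _ hib hzb), hlt⟩
    · rw [← pcode_mul] at h1
      exact pcode_injective n h1
    · rw [← pcode_mul, ← pcode_mul] at h3
      exact pcode_injective n h3
    · simp only [← pcode_mul] at h57
      set w := pel n r.a * pel n r.b
      refine h57.imp (fun e => ?_) fun e => ?_
      · rw [← pcode_injective n e]
        simp only [pow_succ, pow_zero, one_mul, mul_assoc]
      · rw [← pcode_injective n e]
        simp only [pow_succ, pow_zero, one_mul, mul_assoc]
  have hex : ∀ r ∈ X, ev ρ (D.fsum (r.tg.map Prod.fst)) v = 0 ∧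
      ∀ i ∈ r.tg.map Prod.fst, i < D.size := by
    intro r hr
    have := hX r hr
    simp only [OrbData.exOk, Bool.and_eq_true, decide_eq_true_eq] at this
    obtain ⟨hlt, hi⟩ := this
    refine ⟨?_, imgOk_lt _ _ hi⟩
    simp only [← pcode_mul] at hi
    have hi' : D.imgOk ([pel n r.x, pel n r.x * D.E.getD r.g 1,
        pel n r.x * (D.E.getD r.g 1 * D.E.getD r.g 1)].map (pcode n)) r.tg = true := hi
    rw [← imgOk_spec ρ hT hK _ _ hi']
    have hgg := hE (D.E.getD r.g 1) (by
      rw [List.getD_eq_getElem _ _ hlt]; exact List.getElem_mem hlt)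
    have e := congrArg (ρ (pel n r.x)) hgg
    rw [map_add, map_add, map_zero] at e
    simp only [List.map_cons, List.map_nil, List.sum_cons, List.sum_nil, add_zero]
    rw [← add_assoc]
    rw [map_mul, map_mul]
    exact e
  have hflat : ∀ {α : Type} (L : List α) (f : α → List ℕ),
      (∀ r ∈ L, ev ρ (D.fsum (f r)) v = 0 ∧ ∀ i ∈ f r, i < D.size) →
      ((L.flatMap fun r => D.keys (f r)).map fun x => x.1 • g x.2).sum = 0 := by
    intro α L f hL
    induction L with
    | nil => simp
    | cons a L ih =>
      rw [List.flatMap_cons, List.map_append, List.sum_append,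
        ev_fsum_eq hT ρ v _ (hL a List.mem_cons_self).2 g hg, (hL a List.mem_cons_self).1,
        ih fun r hr => hL r (List.mem_cons_of_mem _ hr), add_zero]
  have e := sum_eq_zero_of_keysZero h2 _ g hZ
  rw [OrbData.totalKeys, List.map_append, List.map_append, List.sum_append, List.sum_append,
    hflat R _ horb, hflat X (fun r => r.tg.map Prod.fst) hex, zero_add, zero_add, List.map_cons,
    List.map_nil, List.sum_cons, List.sum_nil, one_nsmul, add_zero, hg, map_one] at e
  exact e

end Cfsg.Agent.PGroups.GRC
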