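import Cfsg.Agent.PGroups.MaxClassUniform

/-!
A group of maximal class of order `p ^ (p + 1)`, `p` odd, does not have exponent `p`: the linear term of the
norm `u (u ^ x) ⋯` survives, the quadratic one being even in `u`.
-/

set_option autoImplicit false
set_option linter.style.haveILetI false
set_option linter.unusedSectionVars false

namespace Cfsg.Agent.PGroups

open Subgroup
open scoped commutatorElement

universe u

variable {G : Type u} [Group G] [Finite G] {p : ℕ} [hp : Fact p.Prime]

theorem PolyLevel.le_succ {m k i : ℕ} {f : ℕ → G} (h : PolyLevel m i f) (hk : k ≤ m) : PolyLevel k i f := by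
  induction m, hk using Nat.le_induction with
  | base => exact h
  | succ m _ ih => exact ih h.of_succ

theorem PolyLevel.conj {m i j : ℕ} {x h : ℕ → G} (hx : PolyLevel m i x) (hh : PolyLevel m j h) :
    PolyLevel m i (fun k => h k * x k * (h k)⁻¹) := by
  have e : (fun k => h k * x k * (h k)⁻¹) = fun k => ⁅h k, x k⁆ * x k := by
    funext k; simp only [commutatorElement_def]; group
  rw [e]
  exact (((polyLevel_closed m).2.2 hh hx).mono (Nat.le_add_left i j)).mul hx

namespace MaxClassGrp

variable {n : ℕ} (M : MaxClassGrp G p n)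
include M

/-- Sections up to the last but one are multiplied with a shift inside the two-step centralizer. -/
theorem shift_mem (hp2 : p ≠ 2) {i j : ℕ} {a b : G} (ha : a ∈ layerCent G 2) (ha' : a ∈ lcsFil G i)
    (hb : b ∈ layerCent G 2) (hb' : b ∈ lcsFil G j) (hij : i + j + 2 ≤ n) : ⁅a, b⁆ ∈ lcsFil G (i + j + 1) := by
  have hT : ∀ j, 2 ≤ j → j + 3 ≤ n → ∀ a ∈ layerCent G 2, ∀ b ∈ lcsFil G j, ⁅a, b⁆ ∈ lcsFil G (j + 2) :=
    fun j hj hjn a ha b hb => mem_layerCent.1 (layerCent_two_le hp2 n M j hj hjn ha) b hb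
  have hTT : ⁅a, b⁆ ∈ lcsFil G 3 := by
    set q := QuotientGroup.mk' (lcsFil G 3)
    by_cases hb2 : b ∈ lcsFil G 2
    · exact lcsFil_antitone (by omega) (mem_layerCent.1 ha b hb2)
    have hlt : lcsFil G 2 < lcsFil G 2 ⊔ zpowers b := lt_of_le_of_ne le_sup_left fun h =>
      hb2 (h ▸ Subgroup.mem_sup_right (mem_zpowers b))
    have hgen : lcsFil G 2 ⊔ zpowers b = layerCent G 2 := by
      refine Subgroup.eq_of_le_of_card_ge (sup_le (lcsFil_two_le_layerCent 2) (zpowers_le.2 hb)) ?_
      have h4 := M.four_le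
      have h := M.mul_card_le_of_lt hlt
      rwa [M.card_lcsFil le_rfl (by omega), ← pow_succ', show n - 2 + 1 = n - 1 by omega,
        ← M.layerCent_card (i := 2) le_rfl h4] at h
    obtain ⟨v, hv, w, hw, rfl⟩ := Subgroup.mem_sup_of_normal_left.1 (hgen ▸ ha)
    obtain ⟨k, rfl⟩ := Subgroup.mem_zpowers_iff.1 hw
    refine (QuotientGroup.eq_one_iff _).1 ?_
    show q ⁅v * b ^ k, b⁆ = 1
    rw [map_commutatorElement, commutatorElement_eq_one_iff_commute, map_mul]
    refine Commute.mul_left ?_ (by rw [map_zpow]; exact (Commute.refl (q b)).zpow_left k)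
    rw [← commutatorElement_eq_one_iff_commute, ← map_commutatorElement]
    refine (QuotientGroup.eq_one_iff _).2 ?_
    exact commutatorElement_mem_lcsFil (j := 1) hv (by simp [lcsFil_one])
  have h0 : ∀ k, lcsFil G k ≤ lcsFil G 1 := fun k => by rw [lcsFil_one]; exact le_top
  rcases (show i = 0 ∨ j = 0 ∨ (i = 1 ∧ j = 1) ∨ (i = 1 ∧ 2 ≤ j) ∨ (2 ≤ i ∧ j = 1) ∨ (2 ≤ i ∧ 2 ≤ j) by omega) with
    rfl | rfl | ⟨rfl, rfl⟩ | ⟨rfl, hj⟩ | ⟨hi, rfl⟩ | ⟨hi, hj⟩
  · rcases Nat.eq_zero_or_pos j with rfl | hj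
    · exact lcsFil_antitone (by omega) hTT
    · exact lcsFil_antitone (by omega) (commutatorElement_mem_lcsFil (h0 0 ha') hb')
  · exact lcsFil_antitone (by omega) (commutatorElement_mem_lcsFil ha' (h0 0 hb'))
  · exact hTT
  · exact lcsFil_antitone (by omega) (hT j hj (by omega) a ha b hb')
  · rw [← commutatorElement_inv]
    exact inv_mem (lcsFil_antitone (by omega) (hT i hi (by omega) b hb a ha'))
  obtain ⟨x, hx, -, -⟩ := M.exists_outside_three hp2 (layerCent G 2) (layerCent G 2) (layerCent G 2)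
    (fun h => by have := M.layerCent_index le_rfl M.four_le; rw [h, Subgroup.index_top] at this
                 exact hp.out.one_lt.ne this)
    (fun h => by have := M.layerCent_index le_rfl M.four_le; rw [h, Subgroup.index_top] at this
                 exact hp.out.one_lt.ne this)
    (fun h => by have := M.layerCent_index le_rfl M.four_le; rw [h, Subgroup.index_top] at this
                 exact hp.out.one_lt.ne this)
  have htop : layerCent G 2 ⊔ zpowers x = ⊤ := by
    have hlt : layerCent G 2 < layerCent G 2 ⊔ zpowers x := lt_of_le_of_ne le_sup_left fun h =>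
      hx (h ▸ Subgroup.mem_sup_right (mem_zpowers x))
    have h4 := M.four_le
    have h := M.mul_card_le_of_lt hlt
    rw [M.layerCent_card le_rfl h4, ← pow_succ', show n - 1 + 1 = n by omega, ← M.card] at h
    exact Subgroup.eq_top_of_card_eq _ (le_antisymm (Subgroup.card_le_card_group _) h)
  have hT' : ∀ j, 2 ≤ j → j + 3 ≤ n → ⁅layerCent G 2, lcsFil G j⁆ ≤ lcsFil G (j + 2) := fun j hj hjn =>
    Subgroup.commutator_le.2 (hT j hj hjn)
  suffices hall : ∀ i, 2 ≤ i → ∀ j, 2 ≤ j → i + j + 2 ≤ n → ⁅lcsFil G i, lcsFil G j⁆ ≤ lcsFil G (i + j + 1) by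
    exact hall i hi j hj hij (commutator_mem_commutator ha' hb')
  intro i hi
  induction i, hi using Nat.le_induction with
  | base =>
    intro j hj hjn
    refine (Subgroup.commutator_mono ((lcsFil_two (G := G)).le.trans (commutator_le_commutator_top htop))
      le_rfl).trans (commutator_commutator_le_of_rotate _ ?_ ?_)
    · rw [Subgroup.commutator_comm ⊤ (lcsFil G j), ← lcsFil_succ (by omega), Subgroup.commutator_comm]
      exact (hT' (j + 1) (by omega) (by omega)).trans (lcsFil_antitone (by omega))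
    · rw [Subgroup.commutator_comm (lcsFil G j) (layerCent G 2)]
      exact (Subgroup.commutator_mono (hT' j hj (by omega)) le_rfl).trans
        ((lcsFil_succ (by omega)).ge.trans (lcsFil_antitone (by omega)))
  | succ i hi ih =>
    intro j hj hjn
    rw [lcsFil_succ (by omega)]
    refine commutator_commutator_le_of_rotate _ ?_ ?_
    · rw [Subgroup.commutator_comm ⊤ (lcsFil G j), ← lcsFil_succ (by omega), Subgroup.commutator_comm]
      exact (ih (j + 1) (by omega) (by omega)).trans (lcsFil_antitone (by omega))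
    · rw [Subgroup.commutator_comm (lcsFil G j) (lcsFil G i)]
      exact (Subgroup.commutator_mono (ih j hj (by omega)) le_rfl).trans
        ((lcsFil_succ (by omega)).ge.trans (lcsFil_antitone (by omega)))

theorem seqDiff_mem {f : ℕ → G} (hf : ∀ k, f k ∈ layerCent G 2) (k : ℕ) : seqDiff f k ∈ layerCent G 2 :=
  mul_mem (inv_mem (hf k)) (hf (k + 1))

/-- Commutators of sequences in the two-step centralizer gain a level. -/
theorem bracket_shift (hp2 : p ≠ 2) : ∀ (m i j : ℕ) (f g : ℕ → G), i + j + 2 + m ≤ n → PolyLevel m i f →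
    PolyLevel m j g → (∀ k, f k ∈ layerCent G 2) → (∀ k, g k ∈ layerCent G 2) →
    PolyLevel m (i + j + 1) (fun k => ⁅f k, g k⁆)
  | 0, _, _, _, _, h, hf, hg, hfT, hgT => fun k => M.shift_mem hp2 (hfT k) (hf k) (hgT k) (hg k) (by omega)
  | m + 1, i, j, f, g, h, hf, hg, hfT, hgT => by
    refine ⟨fun k => M.shift_mem hp2 (hfT k) (hf.1 k) (hgT k) (hg.1 k) (by omega), ?_⟩
    have e : seqDiff (fun k => ⁅f k, g k⁆) = fun k =>
        ⁅f k, g k⁆⁻¹ * (f k * ⁅seqDiff f k, g k * seqDiff g k⁆ * (f k)⁻¹) * ⁅f k, g k⁆⁻¹⁻¹ *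
          (g k * ⁅f k, seqDiff g k⁆ * (g k)⁻¹) := by
      funext k; simp only [seqDiff, commutatorElement_def]; group
    rw [e]
    have h1 := bracket_shift hp2 m (i + 1) j (seqDiff f) (fun k => g k * seqDiff g k) (by omega) hf.2
      (hg.of_succ.mul (hg.2.mono (Nat.le_succ j))) (M.seqDiff_mem hfT)
      (fun k => mul_mem (hgT k) (M.seqDiff_mem hgT k))
    have h2 := bracket_shift hp2 m i (j + 1) f (seqDiff g) (by omega) hf.of_succ hg.2 hfT (M.seqDiff_mem hgT)
    exact PolyLevel.mul
      (((h1.conj hf.of_succ).conj ((polyLevel_closed m).2.2 hf.of_succ hg.of_succ).inv).mono (by omega))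
      ((h2.conj hg.of_succ).mono (by omega))

/-- The product of sequences with opposite differences gains a level. -/
theorem bracket_succ (hp2 : p ≠ 2) {m i : ℕ} {f g : ℕ → G} (h : m + 3 ≤ n) (hf : PolyLevel m i f)
    (hg : PolyLevel m (i + 1) g) (hfT : ∀ k, f k ∈ layerCent G 2) (hgT : ∀ k, g k ∈ layerCent G 2) :
    PolyLevel m (i + 2) (fun k => ⁅f k, g k⁆) := by
  rcases Nat.eq_zero_or_pos i with rfl | hi
  · exact (M.bracket_shift hp2 m 0 1 f g (by omega) hf hg hfT hgT).mono (by omega)
  · exact ((polyLevel_closed m).2.2 hf hg).mono (by omega)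

theorem choose_shift (hp2 : p ≠ 2) : ∀ (m i j : ℕ) (c d : G), m + 2 ≤ n → c ∈ lcsFil G (i + j) →
    d ∈ lcsFil G (i + j) → c ∈ layerCent G 2 → d ∈ layerCent G 2 → c * d ∈ lcsFil G (i + j + 1) →
    (∀ k : ℕ, c ^ k.choose j * d ^ k.choose j ∈ lcsFil G (i + 1)) →
    PolyLevel m (i + 1) (fun k : ℕ => c ^ k.choose j * d ^ k.choose j)
  | m, i, 0, c, d, _, _, _, _, _, hcd, _ => by
    simpa using polyLevel_choose m (i + 1) 0 (c := c * d) (by simpa using hcd)
  | 0, i, j + 1, c, d, _, _, _, _, _, _, h0 => h0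
  | m + 1, i, j + 1, c, d, h, hc, hd, hcT, hdT, hcd, h0 => by
    refine ⟨h0, ?_⟩
    have e : seqDiff (fun k => c ^ k.choose (j + 1) * d ^ k.choose (j + 1)) =
        fun k => ⁅(d ^ k.choose (j + 1))⁻¹, c ^ k.choose j⁆ * (c ^ k.choose j * d ^ k.choose j) := by
      funext k
      simp only [seqDiff, commutatorElement_def]
      rw [Nat.choose_succ_succ', add_comm (k.choose j), pow_add, pow_add]
      group
    rw [e]
    have e2 : i + 1 + j = i + (j + 1) := by omega
    refine PolyLevel.mul (M.bracket_succ hp2 (by omega) (polyLevel_choose m i (j + 1) hd).inv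
      (polyLevel_choose m (i + 1) j (e2.symm ▸ hc)) (fun k => inv_mem (pow_mem hdT _))
      (fun k => pow_mem hcT _)) ?_
    refine choose_shift hp2 m (i + 1) j c d (by omega) (e2.symm ▸ hc) (e2.symm ▸ hd) hcT hdT
      (by rwa [show i + 1 + j + 1 = i + (j + 1) + 1 by omega]) fun k => ?_
    rcases Nat.eq_zero_or_pos j with rfl | hj
    · simpa using lcsFil_antitone (le_refl _) hcd
    · exact lcsFil_antitone (by omega) (mul_mem (pow_mem hc _) (pow_mem hd _))

end MaxClassGrp

theorem PolyLevel.bracket {m i j : ℕ} {f g : ℕ → G} (hf : PolyLevel m i f) (hg : PolyLevel m j g) :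
    PolyLevel m (i + j) (fun k => ⁅f k, g k⁆) :=
  (polyLevel_closed m).2.2 hf hg

/-- A sequence one level better below the top gains a level in commutators. -/
theorem bracket_bonus : ∀ (m i : ℕ) (c B : ℕ → G), (∀ k, PolyLevel k 0 c) → PolyLevel m i B →
    (∀ l, l + 1 = m → PolyLevel l (i + 1) B) → PolyLevel m (i + 1) (fun k => ⁅c k, B k⁆)
  | 0, i, c, B, _, hB, _ => fun k => by
    have h := commutatorElement_mem_lcsFil (i := 1) (x := c k) (by simp [lcsFil_one]) (hB k)
    rwa [Nat.add_comm] at h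
  | m + 1, i, c, B, hc, hB, hB' => by
    refine ⟨fun k => by
      have h := commutatorElement_mem_lcsFil (i := 1) (x := c k) (by simp [lcsFil_one]) (hB.values k)
      rwa [Nat.add_comm] at h, ?_⟩
    have e : seqDiff (fun k => ⁅c k, B k⁆) = fun k =>
        ⁅c k, B k⁆⁻¹ * (c k * ⁅seqDiff c k, B k * seqDiff B k⁆ * (c k)⁻¹) * ⁅c k, B k⁆⁻¹⁻¹ *
          (B k * ⁅c k, seqDiff B k⁆ * (B k)⁻¹) := by
      funext k; simp only [seqDiff, commutatorElement_def]; group
    rw [e]
    have h1 : PolyLevel m (1 + (i + 1)) (fun k => ⁅seqDiff c k, B k * seqDiff B k⁆) :=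
      PolyLevel.bracket (hc (m + 1)).2 ((hB' m rfl).mul hB.2)
    have hdc : ∀ k, PolyLevel k 1 (seqDiff c) := fun k => (hc (k + 1)).2
    have h2 := bracket_bonus m (i + 1) c (seqDiff B) hc hB.2 fun l hl => by
      subst hl
      exact (hB' (l + 1) rfl).2
    exact PolyLevel.mul (((h1.conj (hc m)).conj ((hc m).bracket hB.of_succ).inv).mono (by omega))
      (h2.conj hB.of_succ)

namespace MaxClassGrp

variable {n : ℕ} (M : MaxClassGrp G p n)
include M

/-- The commutator term of a pair of sequences with opposite leading terms is even. -/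
theorem bracket_even (hp2 : p ≠ 2) {m : ℕ} (hmn : m + 2 = n) {h h' v v' : ℕ → G}
    (hh : ∀ k, PolyLevel k 0 h) (hh' : ∀ k, PolyLevel k 0 h') (hv : ∀ k, PolyLevel k 1 v)
    (hv' : ∀ k, PolyLevel k 1 v') (hhT : ∀ k, h k ∈ layerCent G 2) (hvT : ∀ k, v k ∈ layerCent G 2)
    (hw : PolyLevel m 1 (fun k => h' k * h k)) (hz : PolyLevel m 2 (fun k => v' k * v k)) :
    seqDiff^[m] (fun k => ⁅(h' k)⁻¹, v' k⁆) 0 = seqDiff^[m] (fun k => ⁅(h k)⁻¹, v k⁆) 0 := by
  have h4 := M.four_le
  set w : ℕ → G := fun k => h' k * h k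
  set z : ℕ → G := fun k => v' k * v k
  have hwl : ∀ k, PolyLevel k 0 w := fun k => (hh' k).mul (hh k)
  have hzl : ∀ k, PolyLevel k 1 z := fun k => (hv' k).mul (hv k)
  set q := QuotientGroup.mk' (lcsFil G (1 + m + 1))
  have hinj : Function.Injective q := by
    rw [← MonoidHom.ker_eq_bot_iff, QuotientGroup.ker_mk', M.lcsFil_eq_bot (by omega)]
  apply hinj
  have hker : ∀ {s : ℕ → G}, PolyLevel m 2 s → ∀ k, q (seqDiff^[m] s k) = 1 := fun {s} hs k =>
    (QuotientGroup.eq_one_iff _).2 (by
      have h := hs.diff_mem k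
      rwa [show 2 + m = 1 + m + 1 by omega] at h)
  set B : ℕ → G := fun k => ⁅(h k)⁻¹, v k⁆
  have hBl : ∀ k, PolyLevel k 1 B := fun k => by simpa using (hh k).inv.bracket (hv k)
  set c : ℕ → G := fun k => (v k)⁻¹ * h k
  set A : ℕ → G := fun k => h k * ⁅(w k)⁻¹, v' k⁆ * (h k)⁻¹
  set C : ℕ → G := fun k => ⁅h k, z k⁆
  set D : ℕ → G := fun k => ⁅z k, c k * B k * (c k)⁻¹⁆
  set E : ℕ → G := fun k => ⁅c k, B k⁆
  have hcl : ∀ k, PolyLevel k 0 c := fun k => ((hv k).inv.mono (by omega)).mul (hh k)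
  have he : (fun k => ⁅(h' k)⁻¹, v' k⁆) = fun k => A k * (C k * (D k * (E k * B k))) := by
    funext k
    simp only [A, B, C, D, E, c, w, z, commutatorElement_def]
    group
  have hA1 : ∀ k, PolyLevel k 1 A := fun k => by
    have := ((hwl k).inv.bracket (hv' k)).conj (hh k)
    simpa [A] using this
  have hC1 : ∀ k, PolyLevel k 1 C := fun k => by simpa using (hh k).bracket (hzl k)
  have hD1 : ∀ k, PolyLevel k 1 D := fun k => ((hzl k).bracket ((hBl k).conj (hcl k))).mono (by omega)
  have hE1 : ∀ k, PolyLevel k 1 E := fun k => by simpa using (hcl k).bracket (hBl k)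
  have hA2 : PolyLevel m 2 A := ((hw.inv.bracket (hv' m)).conj (hh m)).mono (by omega)
  have hC2 : PolyLevel m 2 C := by simpa using (hh m).bracket hz
  have hD2 : PolyLevel m 2 D := (hz.bracket ((hBl m).conj (hcl m))).mono (by omega)
  have hE2 : PolyLevel m 2 E := bracket_bonus m 1 c B hcl (hBl m) fun l hl =>
    M.bracket_succ hp2 (by omega) (hh l).inv (hv l) (fun k => inv_mem (hhT k)) hvT
  rw [he, diff_mul_congr m 1 A _ le_rfl (hA1 _) ((hC1 _).mul ((hD1 _).mul ((hE1 _).mul (hBl _)))) 0,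
    diff_mul_congr m 1 C _ le_rfl (hC1 _) ((hD1 _).mul ((hE1 _).mul (hBl _))) 0,
    diff_mul_congr m 1 D _ le_rfl (hD1 _) ((hE1 _).mul (hBl _)) 0,
    diff_mul_congr m 1 E _ le_rfl (hE1 _) (hBl _) 0, hker hA2, hker hC2, hker hD2, hker hE2]
  simp only [one_mul]
  rfl

/-- A group of maximal class of order `p ^ (p + 1)`, `p` odd, does not have exponent `p`. -/
theorem exists_pow_ne_one (hp2 : p ≠ 2) (hn : n = p + 1) : ∃ a : G, a ^ p ≠ 1 := by
  by_contra hexp
  push Not at hexp
  have h4 := M.four_le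
  have h3p : 3 ≤ p := by have := hp.out.two_le; omega
  obtain ⟨x, hx, hx', -⟩ := M.exists_outside_three hp2 (layerCent G 2) (layerCent G (n - 2)) (layerCent G 2)
    (fun h => by have := M.layerCent_index le_rfl h4; rw [h, Subgroup.index_top] at this
                 exact hp.out.one_lt.ne this)
    (fun h => by
      have := M.layerCent_index (i := n - 2) (by omega) (by omega); rw [h, Subgroup.index_top] at this
      exact hp.out.one_lt.ne this)
    (fun h => by have := M.layerCent_index le_rfl h4; rw [h, Subgroup.index_top] at this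
                 exact hp.out.one_lt.ne this)
  have H := M.pair_of_notMem hp2 hx hx'
  obtain ⟨u, hu, hu2⟩ := SetLike.exists_of_lt (lt_of_le_of_ne (lcsFil_two_le_layerCent (G := G) 2) fun h => by
    have h1 := M.layerCent_card (i := 2) le_rfl h4
    rw [← h, M.card_lcsFil le_rfl (by omega)] at h1
    have := Nat.pow_right_injective hp.out.two_le h1
    omega)
  have hu1 : u ∉ lcsFil G 2 ⊔ zpowers x := fun h => by
    obtain ⟨w, hw, v, hv, rfl⟩ := Subgroup.mem_sup_of_normal_left.1 h
    obtain ⟨a, rfl⟩ := Subgroup.mem_zpowers_iff.1 hv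
    have hxa : x ^ a ∈ layerCent G 2 := by
      simpa using mul_mem (inv_mem (lcsFil_two_le_layerCent 2 hw)) hu
    rcases em ((p : ℤ) ∣ a) with ⟨t, rfl⟩ | hna
    · rw [zpow_mul, zpow_natCast, hexp, one_zpow, mul_one] at hu2
      exact hu2 hw
    · obtain ⟨b, c, hbc⟩ := Int.isCoprime_iff_gcd_eq_one.2 (by
        have := (Nat.Prime.coprime_iff_not_dvd hp.out).2 (fun h => hna (Int.natCast_dvd.2 h))
        simpa [Int.gcd] using this : Int.gcd (p : ℤ) a = 1)
      apply hx
      have hxe : x = (x ^ a) ^ c := by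
        conv_lhs => rw [← zpow_one x, ← hbc, mul_comm b, zpow_add, zpow_mul x (p : ℤ), zpow_natCast, hexp,
          one_zpow, one_mul, mul_comm c, zpow_mul]
      rw [hxe]
      exact zpow_mem hxa c
  set P : G → ℕ → G := fun u k => (u * x⁻¹) ^ k * x ^ k
  have hP : ∀ u k, PolyLevel k 0 (P u) := fun u k => (polyLevel_pow k _).mul (polyLevel_pow k x)
  have hdP : ∀ u, seqDiff (P u) = fun k => (x ^ k)⁻¹ * u * x ^ k := fun u => by
    funext k
    simp only [seqDiff, P, pow_succ]
    rw [← (Commute.self_pow x k).eq]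
    group
  have hPT : ∀ v ∈ layerCent G 2, ∀ k, P v k ∈ layerCent G 2 := by
    intro v hv k
    induction k with
    | zero => simp [P]
    | succ k ih =>
      have e : P v (k + 1) = P v k * seqDiff (P v) k := by simp [seqDiff]
      rw [e, hdP]
      refine mul_mem ih ?_
      simpa using (layerCent_normal (G := G) 2).conj_mem v hv (x ^ k)⁻¹
  have hval : ∀ v, P v p = 1 := fun v => by simp only [P, hexp, one_mul]
  obtain ⟨p', hp'⟩ : ∃ p', p = p' + 1 := ⟨p - 1, by omega⟩
  have hdelta : ∀ v, seqDiff^[p] (P v) 0 = engelSeq x v p' := fun v => by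
    rw [hp', Function.iterate_succ_apply, hdP, diff_conj]
    simp
  set q := QuotientGroup.mk' (lcsFil G (1 + p' + 1))
  have hinj : Function.Injective q := by
    rw [← MonoidHom.ker_eq_bot_iff, QuotientGroup.ker_mk', M.lcsFil_eq_bot (by omega)]
  have key : ∀ j, 1 ≤ j → j ≤ p → ∃ h h' : ℕ → G, (∀ m, PolyLevel m 0 h) ∧ (∀ m, PolyLevel m 0 h') ∧
      (∀ k, h k ∈ layerCent G 2) ∧ (∀ k, h' k ∈ layerCent G 2) ∧ PolyLevel p' 1 (fun k => h' k * h k) ∧
      (∀ k < j, h k = 1 ∧ h' k = 1) ∧ h p = 1 ∧ h' p = 1 ∧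
      q (seqDiff^[p] h' 0) * (q (seqDiff^[p] h 0))⁻¹ =
        q (seqDiff^[p] (P u⁻¹) 0) * (q (seqDiff^[p] (P u) 0))⁻¹ := by
    intro j hj
    induction j, hj using Nat.le_induction with
    | base =>
      intro _
      refine ⟨P u, P u⁻¹, hP u, hP u⁻¹, hPT u hu, hPT _ (inv_mem hu), ?_,
        fun k hk => by obtain rfl : k = 0 := by omega
                       simp [P], hval _, hval _, rfl⟩
      obtain ⟨p'', rfl⟩ : ∃ p'', p' = p'' + 1 := ⟨p' - 1, by omega⟩
      refine ⟨fun k => by simp [lcsFil_one], ?_⟩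
      have e : seqDiff (fun k => P u⁻¹ k * P u k) =
          fun k => ⁅(P u k)⁻¹, seqDiff (P u⁻¹) k⁆ * (seqDiff (P u⁻¹) k * seqDiff (P u) k) := by
        funext k; simp only [seqDiff, commutatorElement_def]; group
      rw [e]
      refine PolyLevel.mul ((M.bracket_succ hp2 (by omega) (hP u p'').inv (hP u⁻¹ (p'' + 1)).2
        (fun k => inv_mem (hPT u hu k)) (M.seqDiff_mem (hPT _ (inv_mem hu))))) ?_
      rw [hdP, hdP, show (fun k => (x ^ k)⁻¹ * u⁻¹ * x ^ k * ((x ^ k)⁻¹ * u * x ^ k)) = fun _ => (1 : G) by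
        funext k; group]
      exact polyLevel_one _ _
    | succ j hj ih =>
      intro hjp
      obtain ⟨h, h', hh, hh', hT, hT', hW, hv, hp0, hp0', heq⟩ := ih (by omega)
      obtain ⟨j', rfl⟩ : ∃ j', j = j' + 1 := ⟨j - 1, by omega⟩
      set c := (h (j' + 1))⁻¹
      set c' := (h' (j' + 1))⁻¹
      have hc : c ∈ lcsFil G (j' + 1) := inv_mem (by simpa using (hh _).mem_of_vanish fun k hk => (hv k hk).1)
      have hc' : c' ∈ lcsFil G (j' + 1) := inv_mem (by simpa using (hh' _).mem_of_vanish fun k hk => (hv k hk).2)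
      have hcT : c ∈ layerCent G 2 := inv_mem (hT _)
      have hcT' : c' ∈ layerCent G 2 := inv_mem (hT' _)
      have hcc : c' * c ∈ lcsFil G (j' + 2) := by
        have h1 : h' (j' + 1) * h (j' + 1) ∈ lcsFil G (1 + (j' + 1)) :=
          (hW.le_succ (by omega)).mem_of_vanish fun k hk => by simp [(hv k hk).1, (hv k hk).2]
        rw [show 1 + (j' + 1) = j' + 2 by omega] at h1
        have h2 := inv_mem ((lcsFil_normal (G := G) (j' + 2)).conj_mem _ h1 (h' (j' + 1))⁻¹)
        rw [show ((h' (j' + 1))⁻¹ * (h' (j' + 1) * h (j' + 1)) * (h' (j' + 1))⁻¹⁻¹)⁻¹ = c' * c by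
          simp only [c, c']; group] at h2
        exact h2
      set C : ℕ → G := fun k => c ^ k.choose (j' + 1)
      set C' : ℕ → G := fun k => c' ^ k.choose (j' + 1)
      have hC : ∀ m, PolyLevel m 0 C := fun m => polyLevel_choose m 0 (j' + 1) (by simpa using hc)
      have hC' : ∀ m, PolyLevel m 0 C' := fun m => polyLevel_choose m 0 (j' + 1) (by simpa using hc')
      have hsum : ∀ a : G, seqDiff (fun k => a ^ k.choose (j' + 1)) = fun k => a ^ k.choose j' := fun a => by
        funext k
        rw [seqDiff, Nat.choose_succ_succ', add_comm (k.choose j'), pow_add, inv_mul_cancel_left]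
      obtain ⟨t, ht⟩ := hp.out.dvd_choose_self (k := j' + 1) (by omega) (by omega)
      have hCp : ∀ a : G, a ^ p.choose (j' + 1) = 1 := fun a => by rw [ht, pow_mul, hexp, one_pow]
      refine ⟨fun k => C k * h k, fun k => C' k * h' k, fun m => (hC m).mul (hh m), fun m => (hC' m).mul (hh' m),
        fun k => mul_mem (pow_mem hcT _) (hT k), fun k => mul_mem (pow_mem hcT' _) (hT' k), ?_, fun k hk => ?_,
        by simp [C, hCp, hp0], by simp [C', hCp, hp0'], ?_⟩
      · have e : (fun k => C' k * h' k * (C k * h k)) =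
            fun k => C' k * C k * ⁅(C k)⁻¹, h' k⁆ * (h' k * h k) := by
          funext k; simp only [commutatorElement_def]; group
        rw [e]
        refine PolyLevel.mul (PolyLevel.mul ?_ ?_) hW
        · simpa [C, C'] using M.choose_shift hp2 p' 0 (j' + 1) c' c (by omega) (by simpa using hc') (by simpa using hc)
            hcT' hcT (by simpa using hcc) (fun k => by simp [lcsFil_one])
        · simpa using M.bracket_shift hp2 p' 0 0 _ _ (by omega) (hC p').inv (hh' p')
            (fun k => inv_mem (pow_mem hcT _)) hT'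
      · rcases (show k < j' + 1 ∨ k = j' + 1 by omega) with hk' | rfl
        · simp [C, C', Nat.choose_eq_zero_of_lt hk', hv k hk']
        · simp [C, C', c, c']
      have hstep : ∀ (a : G) (g : ℕ → G), a ∈ lcsFil G (j' + 1) → (∀ m, PolyLevel m 0 g) →
          q (seqDiff^[p] (fun k => a ^ k.choose (j' + 1) * g k) 0) =
            q (seqDiff^[p'] (fun k => ⁅(g k)⁻¹, a ^ k.choose j'⁆) 0) * q (seqDiff^[p] g 0) := by
        intro a g ha hg
        have e : seqDiff (fun k => a ^ k.choose (j' + 1) * g k) =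
            fun k => ⁅(g k)⁻¹, a ^ k.choose j'⁆ * (a ^ k.choose j' * seqDiff g k) := by
          have e0 : seqDiff (fun k => a ^ k.choose (j' + 1) * g k) = fun k =>
              ⁅(g k)⁻¹, seqDiff (fun k => a ^ k.choose (j' + 1)) k⁆ *
                (seqDiff (fun k => a ^ k.choose (j' + 1)) k * seqDiff g k) := by
            funext k; simp only [seqDiff, commutatorElement_def]; group
          rw [e0, hsum]
        have hch : ∀ m, PolyLevel m 1 (fun k : ℕ => a ^ k.choose j') := fun m =>
          polyLevel_choose m 1 j' (by rwa [Nat.add_comm])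
        have hbr : ∀ m, PolyLevel m 1 (fun k => ⁅(g k)⁻¹, a ^ k.choose j'⁆) := fun m => by
          simpa using (hg m).inv.bracket (hch m)
        rw [hp', Function.iterate_succ_apply, e, diff_mul_congr p' 1 _ _ le_rfl (hbr _)
          ((hch _).mul (hg (p' + 1 + 1)).2) 0, diff_mul_congr p' 1 _ _ le_rfl (hch _) (hg (p' + 1 + 1)).2 0,
          diff_choose_eq_one a (show j' < p' by omega), map_one, one_mul, Function.iterate_succ_apply]
      rw [hstep c' h' hc' hh', hstep c h hc hh]
      have hev := M.bracket_even hp2 (m := p') (h := h) (h' := h') (v := fun k => c ^ k.choose j')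
        (v' := fun k => c' ^ k.choose j') (by omega) hh hh'
        (fun m => polyLevel_choose m 1 j' (by rwa [Nat.add_comm]))
        (fun m => polyLevel_choose m 1 j' (by rwa [Nat.add_comm])) hT (fun k => pow_mem hcT _) hW
        (M.choose_shift hp2 p' 1 j' c' c (by omega) (by rwa [Nat.add_comm]) (by rwa [Nat.add_comm]) hcT' hcT
          (by rwa [show 1 + j' + 1 = j' + 2 by omega]) fun k => by
            rcases Nat.eq_zero_or_pos j' with rfl | hj'
            · simpa using hcc
            · exact lcsFil_antitone (by omega) (mul_mem (pow_mem hc' _) (pow_mem hc _)))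
      rw [hev]
      have hcen : ∀ a : G, Commute (q (seqDiff^[p'] (fun k => ⁅(h k)⁻¹, c ^ k.choose j'⁆) 0)) (q a) := by
        intro a
        have hb : PolyLevel p' 1 (fun k => ⁅(h k)⁻¹, c ^ k.choose j'⁆) := by
          simpa using (hh p').inv.bracket (polyLevel_choose p' 1 j' (c := c) (by rwa [Nat.add_comm]))
        rw [← commutatorElement_eq_one_iff_commute, ← map_commutatorElement]
        exact (QuotientGroup.eq_one_iff _).2
          (commutatorElement_mem_lcsFil (j := 1) (hb.diff_mem 0) (by simp [lcsFil_one]))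
      rw [mul_inv_rev, ← map_inv, ← heq]
      set e := q (seqDiff^[p'] (fun k => ⁅(h k)⁻¹, c ^ k.choose j'⁆) 0)
      rw [map_inv, ← mul_assoc, mul_assoc e, ← map_inv, ← map_mul, (hcen _).eq, mul_inv_cancel_right]
  obtain ⟨h, h', -, -, -, -, -, hv, hp0, hp0', heq⟩ := key p (by omega) le_rfl
  rw [diff_at_zero fun k hk => (hv k hk).1, diff_at_zero fun k hk => (hv k hk).2, hp0, hp0', map_one, inv_one,
    one_mul, eq_comm, mul_inv_eq_one, hdelta, hdelta] at heq
  have hconst : ∀ (v : G) m, PolyLevel m 1 (fun k => (x ^ k)⁻¹ * v * x ^ k) := fun v m => by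
    have h := (hP v (m + 1)).2
    rwa [hdP] at h
  have hmul := diff_mul_congr p' 1 _ _ le_rfl (hconst u⁻¹ _) (hconst u _) 0
  rw [show (fun k => (x ^ k)⁻¹ * u⁻¹ * x ^ k * ((x ^ k)⁻¹ * u * x ^ k)) = fun _ => (1 : G) by
    funext k; group, diff_conj, diff_conj] at hmul
  have hone : ∀ m, seqDiff^[m] (fun _ : ℕ => (1 : G)) = fun _ => 1 := fun m => by
    induction m with
    | zero => rfl
    | succ m ih => rw [Function.iterate_succ_apply, seqDiff_one, ih]
  rw [hone] at hmul
  simp only [pow_zero, inv_one, one_mul, mul_one, map_one] at hmul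
  rw [heq, ← map_mul, eq_comm, ← map_one q] at hmul
  have h2 := hinj hmul
  set e := engelSeq x u p'
  have he : e = 1 := by
    have h3 := hexp e
    obtain ⟨r, hr⟩ := hp.out.odd_of_ne_two hp2
    rw [hr, pow_succ, pow_mul, sq, h2, one_pow, one_mul] at h3
    exact h3
  exact (H.engel_iterate (i := 1) le_rfl (g := u) (by simp [lcsFil_one]) hu2 (fun _ => hu1) p' (by omega)).2
    (he ▸ one_mem _ : e ∈ _)

end MaxClassGrp

end Cfsg.Agent.PGroups
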