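import Cfsg.Agent.PGroups.MaxClassPower
import Cfsg.Agent.PGroups.MaxAbelian

/-!
The 3-groups of maximal class with a small centralizer: apart from the Sylow subgroup of `S₉` every subgroup
is generated by two elements.
-/

set_option autoImplicit false
set_option linter.style.haveILetI false
set_option linter.unusedSectionVars false

namespace Cfsg.Agent.PGroups.MaxClassPair

open Subgroup
open scoped commutatorElement

variable {G : Type*} [Group G] [Finite G] [hp : Fact (Nat.Prime 3)] {n : ℕ} {x : G}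
variable (H : MaxClassPair G 3 n x)
include H

/-- The two-step centralizer of the second layer. -/
def twoStep (G : Type*) [Group G] : Subgroup G :=
  (centralizer (((lcsFil G 2).map (QuotientGroup.mk' (lcsFil G 4))) : Set (G ⧸ lcsFil G 4))).comap
    (QuotientGroup.mk' (lcsFil G 4))

omit H in
theorem mem_twoStep {g : G} : g ∈ twoStep G ↔ ∀ w ∈ lcsFil G 2, ⁅g, w⁆ ∈ lcsFil G 4 := by
  rw [twoStep, Subgroup.mem_comap, Subgroup.mem_centralizer_iff]
  constructor
  · intro h w hw
    rw [← QuotientGroup.eq_one_iff]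
    show QuotientGroup.mk' (lcsFil G 4) ⁅g, w⁆ = 1
    rw [map_commutatorElement, commutatorElement_eq_one_iff_mul_comm]
    exact (h _ ⟨w, hw, rfl⟩).symm
  · rintro h _ ⟨w, hw, rfl⟩
    rw [eq_comm, ← commutatorElement_eq_one_iff_mul_comm, ← map_commutatorElement]
    exact (QuotientGroup.eq_one_iff _).2 (h w hw)

omit H in
theorem lcsFil_two_le_twoStep : lcsFil G 2 ≤ twoStep G := fun _ hv =>
  mem_twoStep.2 fun _ hw => commutatorElement_mem_lcsFil hv hw

theorem exists_exact {i : ℕ} (hi : 2 ≤ i) (hin : i < n) : ∃ e ∈ lcsFil G i, e ∉ lcsFil G (i + 1) := by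
  refine SetLike.exists_of_lt (lt_of_le_of_ne (lcsFil_antitone (by omega)) fun h => ?_)
  have h1 := H.card_lcsFil (i := i + 1) (by omega) (by omega)
  have h2 := H.card_lcsFil (i := i) hi (by omega)
  rw [h, h2] at h1
  have := Nat.pow_right_injective hp.out.two_le h1
  omega

omit H in
theorem engel_one (x g : G) : engelSeq x g 1 = ⁅g⁻¹, x⁻¹⁆ := by
  simp only [engelSeq, commutatorElement_def]; group

theorem twoStep_facts (h4 : 4 ≤ n) :
    x ∉ twoStep G ∧ Nat.card (twoStep G) = 3 ^ (n - 1) ∧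
      ∀ h ∈ twoStep G, h ∉ lcsFil G 2 → lcsFil G 2 ⊔ zpowers h = twoStep G := by
  have hG := IsPGroup.of_card H.card
  have hx : x ∉ twoStep G := by
    intro hx
    obtain ⟨e, he, he'⟩ := H.exists_exact (le_refl 2) (by omega)
    obtain ⟨h1, h2⟩ := H.engel_step (i := 2) (by omega) (by omega) he he' (fun h => by omega)
    apply h2
    have h := mem_twoStep.1 hx e he
    have e1 : e⁻¹ * (x⁻¹ * e * x) = (e⁻¹ * x⁻¹) * ⁅x, e⁆⁻¹ * (e⁻¹ * x⁻¹)⁻¹ := by
      simp only [commutatorElement_def]; group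
    rw [e1]
    exact (lcsFil_normal (G := G) 4).conj_mem _ (inv_mem h) _
  have hidx : (twoStep G).index ≤ 3 := by
    haveI : ((lcsFil G 2).map (QuotientGroup.mk' (lcsFil G 4))).Normal :=
      Subgroup.Normal.map (lcsFil_normal 2) _ (QuotientGroup.mk'_surjective _)
    have hc : Nat.card ((lcsFil G 2).map (QuotientGroup.mk' (lcsFil G 4))) = 3 ^ 2 := by
      have h := card_eq_card_map_mul (lcsFil G 4) (lcsFil G 2)
      rw [inf_eq_right.2 (lcsFil_antitone (by omega)), H.card_lcsFil le_rfl (by omega),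
        H.card_lcsFil (i := 4) (by omega) h4, show n - 2 = 2 + (n - 4) by omega, pow_add] at h
      exact (Nat.eq_of_mul_eq_mul_right (pow_pos (by norm_num) _) h).symm
    have h := index_centralizer_le (hG.to_quotient (lcsFil G 4)) 2 _ hc
    rw [twoStep, Subgroup.index_comap_of_surjective _ (QuotientGroup.mk'_surjective _)]
    simpa using h
  obtain ⟨j, hj⟩ := hG.index (twoStep G)
  have hj1 : j = 1 := by
    rw [hj] at hidx
    have h0 : j ≠ 0 := fun h => hx (by
      rw [h, pow_zero, Subgroup.index_eq_one] at hj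
      exact hj ▸ mem_top x)
    by_contra hne
    have h2 : 3 ^ 2 ≤ 3 ^ j := Nat.pow_le_pow_right (by norm_num) (by omega)
    omega
  have hcard : Nat.card (twoStep G) = 3 ^ (n - 1) := by
    have h := (twoStep G).card_mul_index
    rw [hj, hj1, H.card, pow_one, show n = n - 1 + 1 by omega, pow_succ] at h
    exact Nat.eq_of_mul_eq_mul_right (by norm_num) h
  refine ⟨hx, hcard, fun h hh hh2 => ?_⟩
  refine Subgroup.eq_of_le_of_card_ge (sup_le lcsFil_two_le_twoStep (zpowers_le.2 hh)) ?_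
  have hlt : lcsFil G 2 < lcsFil G 2 ⊔ zpowers h := lt_of_le_of_ne le_sup_left fun e =>
    hh2 (e ▸ Subgroup.mem_sup_right (mem_zpowers h))
  obtain ⟨b, hb⟩ := IsPGroup.iff_card.1 (hG.to_subgroup (lcsFil G 2 ⊔ zpowers h))
  have h1 : Nat.card (lcsFil G 2) < Nat.card ↑(lcsFil G 2 ⊔ zpowers h) := by
    by_contra hle
    exact hlt.ne (Subgroup.eq_of_le_of_card_ge hlt.le (not_lt.1 hle))
  rw [hb, H.card_lcsFil le_rfl (by omega), Nat.pow_lt_pow_iff_right (by norm_num)] at h1
  rw [hb, hcard]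
  exact Nat.pow_le_pow_right (by norm_num) (by omega)

/-- Elements of the two-step centralizer act trivially on two consecutive layers. -/
theorem twoStep_layer (h4 : 4 ≤ n) {g : G} (hg : g ∈ twoStep G) :
    ∀ i, 2 ≤ i → ∀ v ∈ lcsFil G i, ⁅g, v⁆ ∈ lcsFil G (i + 2) := by
  intro i
  induction i using Nat.strong_induction_on with
  | _ i IH =>
  intro hi v hv
  by_cases hin : n ≤ i
  · rw [H.lcsFil_eq_bot hin, Subgroup.mem_bot] at hv
    rw [hv, commutatorElement_one_right]
    exact one_mem _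
  rcases (show i = 2 ∨ 3 ≤ i by omega) with rfl | hi3
  · exact mem_twoStep.1 hg v hv
  haveI := lcsFil_normal (G := G) (i + 2)
  set q := QuotientGroup.mk' (lcsFil G (i + 2))
  -- a generator of the layer fixed by `g` suffices
  suffices hgen : ∃ e ∈ lcsFil G i, e ∉ lcsFil G (i + 1) ∧ ⁅g, e⁆ ∈ lcsFil G (i + 2) by
    obtain ⟨e, he, he', hge⟩ := hgen
    obtain ⟨k, hk⟩ := H.exists_pow_layer hi (by omega) he he' hv
    have h1 : Commute (q g) (q e) := by
      rw [← commutatorElement_eq_one_iff_commute, ← map_commutatorElement]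
      exact (QuotientGroup.eq_one_iff _).2 hge
    have h2 : Commute (q g) (q ((e ^ k)⁻¹ * v)) := by
      rw [← commutatorElement_eq_one_iff_commute, ← map_commutatorElement]
      refine (QuotientGroup.eq_one_iff _).2 ?_
      exact lcsFil_antitone (by omega) (commutatorElement_mem_lcsFil (i := 1) (by simp [lcsFil_one]) hk)
    rw [← QuotientGroup.eq_one_iff]
    show q ⁅g, v⁆ = 1
    rw [map_commutatorElement, commutatorElement_eq_one_iff_commute]
    have h3 := (h1.pow_right k).mul_right h2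
    rwa [← map_pow, ← map_mul, mul_inv_cancel_left] at h3
  rcases (show i = 3 ∨ 4 ≤ i by omega) with rfl | hi4
  · obtain ⟨e, he, he'⟩ := H.exists_exact (le_refl 2) (by omega)
    obtain ⟨h1, h2⟩ := H.engel_step (i := 2) (by omega) (by omega) he he' (fun h => by omega)
    refine ⟨_, h1, h2, ?_⟩
    set E := e
    set u := x⁻¹ * (g * x * g⁻¹)
    have hu : u ∈ lcsFil G 2 := by
      have e1 : u = ⁅x⁻¹, g⁆ := by simp only [u, commutatorElement_def]; group
      rw [e1]
      exact commutatorElement_mem_lcsFil (i := 1) (j := 1) (by simp [lcsFil_one]) (by simp [lcsFil_one])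
    obtain ⟨k, hk⟩ := H.exists_pow_layer (le_refl 2) (by omega) he he' hu
    have hcomm : ∀ {a b : G}, ⁅a, b⁆ ∈ lcsFil G 5 → Commute (q a) (q b) := fun hab => by
      rw [← commutatorElement_eq_one_iff_commute, ← map_commutatorElement]
      exact (QuotientGroup.eq_one_iff _).2 hab
    set z := e⁻¹ * (g * e * g⁻¹)
    have hz : z ∈ lcsFil G 4 := by
      have e1 : z = e⁻¹ * ⁅g, e⁆ * (e⁻¹)⁻¹ := by simp only [z, commutatorElement_def]; group
      rw [e1]
      exact (lcsFil_normal (G := G) 4).conj_mem _ (mem_twoStep.1 hg e he) _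
    have hzc : ∀ a : G, Commute (q z) (q a) := fun a =>
      hcomm (commutatorElement_mem_lcsFil hz (j := 1) (by simp [lcsFil_one]))
    have hue : Commute (q u) (q e) := by
      have h3 : Commute (q ((e ^ k)⁻¹ * u)) (q e) := hcomm (commutatorElement_mem_lcsFil hk he)
      have h4 : Commute (q (e ^ k)) (q e) := ((Commute.refl e).pow_left k).map q
      have h5 := h4.mul_left h3
      rwa [← map_mul, mul_inv_cancel_left] at h5
    have hu3 : Commute (q u) (q (e⁻¹ * (x⁻¹ * e * x))) := hcomm (commutatorElement_mem_lcsFil hu h1)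
    rw [← QuotientGroup.eq_one_iff]
    show q ⁅g, e⁻¹ * (x⁻¹ * e * x)⁆ = 1
    rw [map_commutatorElement, commutatorElement_eq_one_iff_mul_comm]
    have hge : q g * q e * (q g)⁻¹ = q e * q z := by simp only [z, map_mul, map_inv]; group
    have hgx : q g * q x * (q g)⁻¹ = q x * q u := by simp only [u, map_mul, map_inv]; group
    have hu3' : Commute (q u) ((q e)⁻¹ * ((q x)⁻¹ * q e * q x)) := by simpa using hu3
    have key : q g * ((q e)⁻¹ * ((q x)⁻¹ * q e * q x)) * (q g)⁻¹ = (q e)⁻¹ * ((q x)⁻¹ * q e * q x) := by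
      calc q g * ((q e)⁻¹ * ((q x)⁻¹ * q e * q x)) * (q g)⁻¹
          = (q g * q e * (q g)⁻¹)⁻¹ * (q g * q x * (q g)⁻¹)⁻¹ * (q g * q e * (q g)⁻¹) * (q g * q x * (q g)⁻¹) := by
            group
        _ = (q z)⁻¹ * ((q e)⁻¹ * (q u)⁻¹ * (q x)⁻¹ * q e) * q z * (q x * q u) := by rw [hge, hgx]; group
        _ = (q e)⁻¹ * (q u)⁻¹ * (q x)⁻¹ * q e * (q x * q u) := by
          have hz' : ∀ w, Commute (q z) w := fun w => by
            obtain ⟨a, rfl⟩ := QuotientGroup.mk'_surjective _ w
            exact hzc a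
          rw [(hz' _).inv_left.eq, inv_mul_cancel_right]
        _ = (q u)⁻¹ * ((q e)⁻¹ * ((q x)⁻¹ * q e * q x)) * q u := by
          rw [← hue.inv_inv.eq]; group
        _ = _ := by rw [hu3'.inv_left.eq, inv_mul_cancel_right]
    simp only [map_mul, map_inv]
    calc q g * ((q e)⁻¹ * ((q x)⁻¹ * q e * q x))
        = q g * ((q e)⁻¹ * ((q x)⁻¹ * q e * q x)) * (q g)⁻¹ * q g := by group
      _ = _ := by rw [key]
  · obtain ⟨j, rfl⟩ : ∃ j, i = j + 2 := ⟨i - 2, by omega⟩
    obtain ⟨e, he, he'⟩ := H.exists_exact (i := j) (by omega) (by omega)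
    obtain ⟨h1, h2⟩ := H.pow_layer j (by omega) e he
    rw [show j + 3 - 1 = j + 2 by omega] at h1 h2
    refine ⟨e ^ 3, h1, h2 he' (by omega), ?_⟩
    have hde : e⁻¹ * (g * e * g⁻¹) ∈ lcsFil G (j + 2) := by
      have e1 : e⁻¹ * (g * e * g⁻¹) = e⁻¹ * ⁅g, e⁆ * (e⁻¹)⁻¹ := by simp only [commutatorElement_def]; group
      rw [e1]
      exact (lcsFil_normal (G := G) (j + 2)).conj_mem _ (IH j (by omega) (by omega) e he) _
    set d := e⁻¹ * (g * e * g⁻¹)
    have hpow : ∀ w ∈ lcsFil G (j + 2), w ^ 3 ∈ lcsFil G (j + 2 + 2) := fun w hw => by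
      have h := (H.pow_layer (j + 2) (by omega) w hw).1
      rwa [show j + 2 + 3 - 1 = j + 2 + 2 by omega] at h
    set M := lcsFil G j
    obtain ⟨u, hu, huse⟩ := hall_petrescu (⟨e, he⟩ : M) ⟨d, lcsFil_antitone (by omega) hde⟩ 3
      ((lcsFil G (j + 2 + 2)).subgroupOf M) (fun k hk2 hk3 w hw => by
        have hw' : (w : G) ∈ lcsFil G (j * k) := map_lcsFil_le (by omega) k (by omega) ⟨w, hw, rfl⟩
        rw [Subgroup.mem_subgroupOf]
        rcases (show k = 2 ∨ k = 3 by omega) with rfl | rfl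
        · rw [SubmonoidClass.coe_pow, show Nat.choose 3 2 = 3 by rfl]
          exact hpow _ (lcsFil_antitone (by omega) hw')
        · simpa using lcsFil_antitone (show j + 2 + 2 ≤ j * 3 by omega) hw')
    have huse' : (g * e * g⁻¹) ^ 3 = e ^ 3 * d ^ 3 * (u : G) := by
      have h := congrArg Subtype.val huse
      simp only [Subgroup.coe_mul, SubmonoidClass.coe_pow] at h
      rwa [mul_inv_cancel_left] at h
    rw [← QuotientGroup.eq_one_iff]
    show q ⁅g, e ^ 3⁆ = 1
    have h5 : q (g * e ^ 3 * g⁻¹) = q (e ^ 3) := by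
      rw [← conj_pow, huse', map_mul, map_mul, show q (d ^ 3) = 1 from (QuotientGroup.eq_one_iff _).2 (hpow d hde),
        show q (u : G) = 1 from (QuotientGroup.eq_one_iff _).2 (Subgroup.mem_subgroupOf.1 hu), mul_one, mul_one]
    rw [commutatorElement_def, map_mul, h5, map_inv, mul_inv_cancel]

theorem exists_decomp (h4 : 4 ≤ n) (y : G) : ∃ a : ℤ, ∃ g ∈ twoStep G, y = x ^ a * g := by
  obtain ⟨hx, hcard, -⟩ := H.twoStep_facts h4
  have hG := IsPGroup.of_card H.card
  have hidx : (twoStep G).index = 3 := by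
    have h := (twoStep G).card_mul_index
    rw [hcard, H.card, show n = n - 1 + 1 by omega, pow_succ] at h
    exact Nat.eq_of_mul_eq_mul_left (pow_pos (by norm_num) _) h
  haveI := normal_of_index_eq hG hidx
  have htop : zpowers x ⊔ twoStep G = ⊤ := by
    rw [sup_comm]
    exact sup_zpowers_eq_top hG hidx hx
  obtain ⟨b, hb, g, hg, rfl⟩ := Subgroup.mem_sup_of_normal_right.1 (htop ▸ mem_top y : y ∈ zpowers x ⊔ twoStep G)
  obtain ⟨a, rfl⟩ := Subgroup.mem_zpowers_iff.1 hb
  exact ⟨a, g, hg, rfl⟩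

/-- Elements outside the two-step centralizer shift every layer. -/
theorem shift_of_notMem (h4 : 4 ≤ n) {y : G} (hy : y ∉ twoStep G) {i : ℕ} (hi : 2 ≤ i) (hin : i + 1 < n) {e : G}
    (he : e ∈ lcsFil G i) (he' : e ∉ lcsFil G (i + 1)) :
    e⁻¹ * (y⁻¹ * e * y) ∈ lcsFil G (i + 1) ∧ e⁻¹ * (y⁻¹ * e * y) ∉ lcsFil G (i + 2) := by
  have e0 : e⁻¹ * (y⁻¹ * e * y) = ⁅e⁻¹, y⁻¹⁆ := by simp only [commutatorElement_def]; group
  refine ⟨e0 ▸ commutatorElement_mem_lcsFil (inv_mem he) (j := 1) (by simp [lcsFil_one]), fun hbad => ?_⟩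
  haveI := lcsFil_normal (G := G) (i + 2)
  set q := QuotientGroup.mk' (lcsFil G (i + 2))
  obtain ⟨a, g, hg, rfl⟩ := H.exists_decomp h4 y
  obtain ⟨-, h2⟩ := H.engel_step (i := i) (by omega) hin he he' (fun h => by omega)
  apply h2
  have hge : Commute (q g) (q e) := by
    rw [← commutatorElement_eq_one_iff_commute, ← map_commutatorElement]
    exact (QuotientGroup.eq_one_iff _).2 (H.twoStep_layer h4 hg i hi e he)
  have ha : ¬ (3 : ℤ) ∣ a := by
    rintro ⟨b, rfl⟩
    refine hy (mul_mem ?_ hg)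
    rw [zpow_mul]
    refine zpow_mem (?_ : x ^ (3 : ℤ) ∈ twoStep G) b
    have hidx : (twoStep G).index = 3 := by
      obtain ⟨-, hcard, -⟩ := H.twoStep_facts h4
      have h := (twoStep G).card_mul_index
      rw [hcard, H.card, show n = n - 1 + 1 by omega, pow_succ] at h
      exact Nat.eq_of_mul_eq_mul_left (pow_pos (by norm_num) _) h
    haveI := normal_of_index_eq (IsPGroup.of_card H.card) hidx
    have h := (twoStep G).pow_index_mem x
    rw [hidx] at h
    exact_mod_cast h
  have hxa : Commute (q x ^ a) (q e) := by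
    have h : q (e⁻¹ * ((x ^ a * g)⁻¹ * e * (x ^ a * g))) = 1 := (QuotientGroup.eq_one_iff _).2 hbad
    simp only [map_mul, map_inv, map_zpow, inv_mul_eq_one] at h
    have h' : q e * (q x ^ a * q g) = q x ^ a * q g * q e := by
      conv_rhs => rw [h]
      group
    rw [mul_assoc, hge.eq, ← mul_assoc, ← mul_assoc] at h'
    exact (mul_right_cancel h').symm
  obtain ⟨t, ht⟩ : ∃ t : ℕ, (a : ZMod 3) * (t : ZMod 3) = 1 := ⟨((a : ZMod 3)⁻¹).val, by
    rw [ZMod.natCast_zmod_val, mul_inv_cancel₀]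
    exact fun h => ha (by exact_mod_cast (ZMod.intCast_zmod_eq_zero_iff_dvd a 3).1 h)⟩
  obtain ⟨c, hc⟩ := (ZMod.intCast_eq_intCast_iff_dvd_sub 1 (a * (t : ℤ)) 3).1 (by push_cast; exact ht.symm)
  have hxt : Commute (q x ^ (1 + 3 * c)) (q e) := by
    have h := hxa.zpow_left (t : ℤ)
    rwa [← zpow_mul, show a * (t : ℤ) = 1 + 3 * c by
      have := hc; push_cast at this; linarith] at h
  have hx3 : Commute (q x ^ (3 * c)) (q e) := by
    rw [zpow_mul]
    have h := (H.center_mem_pow.2 e).map q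
    rw [map_pow, ← zpow_natCast] at h
    exact Commute.zpow_left (by exact_mod_cast h) c
  rw [← QuotientGroup.eq_one_iff]
  show q (e⁻¹ * (x⁻¹ * e * x)) = 1
  have hx1 : Commute (q x) (q e) := by
    have h := hxt.mul_left hx3.inv_left
    rwa [← zpow_neg, ← zpow_add, show 1 + 3 * c + -(3 * c) = (1 : ℤ) by ring, zpow_one] at h
  simp only [map_mul, map_inv]
  rw [mul_assoc _ (q e), ← hx1.eq, inv_mul_cancel_left, inv_mul_cancel]

end Cfsg.Agent.PGroups.MaxClassPair
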