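import Cfsg.Agent.PGroups.MaxClassThree

/-!
In a 3-group of maximal class with a small centralizer every subgroup is generated by two elements, or the
group has order 81 and a core-free subgroup of index 9.
-/

set_option autoImplicit false
set_option linter.style.haveILetI false
set_option linter.unusedSectionVars false

namespace Cfsg.Agent.PGroups.MaxClassPair

open Subgroup
open scoped commutatorElement

variable {G : Type*} [Group G] [Finite G] [hp : Fact (Nat.Prime 3)] {n : ℕ} {x : G}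
variable (H : MaxClassPair G 3 n x)
include H

theorem card_over_two {K : Subgroup G} (hK : lcsFil G 2 < K) (hne : K ≠ ⊤) : Nat.card K = 3 ^ (n - 1) := by
  have hG := IsPGroup.of_card H.card
  obtain ⟨b, hb⟩ := IsPGroup.iff_card.1 (hG.to_subgroup K)
  have h1 : Nat.card (lcsFil G 2) < Nat.card K := by
    by_contra hle
    exact hK.ne (Subgroup.eq_of_le_of_card_ge hK.le (not_lt.1 hle))
  have h2 : Nat.card K < 3 ^ n := by
    rw [← H.card]
    exact lt_of_le_of_ne (Subgroup.card_le_card_group K) fun h => hne (Subgroup.eq_top_of_card_eq K h)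
  rw [hb, H.card_lcsFil le_rfl (by have := H.three_le; omega), Nat.pow_lt_pow_iff_right (by norm_num)] at h1
  rw [hb, Nat.pow_lt_pow_iff_right (by norm_num)] at h2
  rw [hb, show b = n - 1 by omega]

theorem sup_zpowers_ne_top (y : G) : lcsFil G 2 ⊔ zpowers y ≠ ⊤ := by
  intro h
  have hG := IsPGroup.of_card H.card
  haveI := hG.isNilpotent
  have h1 : zpowers y = ⊤ := frattini_nongenerating (eq_top_iff.2 (h ▸ sup_le
    (((lcsFil_two (G := G)).le.trans (commutator_le_frattini hG)).trans le_sup_right) le_sup_left))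
  apply H.cls
  refine le_bot_iff.1 ((Subgroup.lowerCentralSeries_antitone _
    (show 1 ≤ n - 2 by have := H.three_le; omega)).trans ?_)
  rw [Subgroup.top_lowerCentralSeries_one, commutator_eq_closure, Subgroup.closure_le]
  rintro _ ⟨a, b, rfl⟩
  obtain ⟨i, rfl⟩ := Subgroup.mem_zpowers_iff.1 (h1 ▸ mem_top a)
  obtain ⟨j, rfl⟩ := Subgroup.mem_zpowers_iff.1 (h1 ▸ mem_top b)
  exact commutatorElement_eq_one_iff_mul_comm.2 ((Commute.refl y).zpow_zpow i j).eq

theorem cube_mem_two (y : G) : y ^ 3 ∈ lcsFil G 2 := by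
  by_cases hy : y ∈ lcsFil G 2
  · exact pow_mem hy 3
  set M := lcsFil G 2 ⊔ zpowers y
  have hlt : lcsFil G 2 < M := lt_of_le_of_ne le_sup_left fun h =>
    hy (h ▸ Subgroup.mem_sup_right (mem_zpowers y))
  have hM := H.card_over_two hlt (H.sup_zpowers_ne_top y)
  set N := (lcsFil G 2).subgroupOf M
  haveI : N.Normal := ⟨fun v hv g => (lcsFil_normal (G := G) 2).conj_mem _ hv g⟩
  have hidx : N.index = 3 := by
    have h := N.card_mul_index
    rw [Nat.card_congr (Subgroup.subgroupOfEquivOfLe hlt.le).toEquiv, hM,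
      H.card_lcsFil le_rfl (by have := H.three_le; omega),
      show n - 1 = n - 2 + 1 by have := H.three_le; omega, pow_succ] at h
    exact Nat.eq_of_mul_eq_mul_left (pow_pos (by norm_num) _) h
  have h := N.pow_index_mem ⟨y, Subgroup.mem_sup_right (mem_zpowers y)⟩
  rw [hidx] at h
  exact h

theorem exists_layer {v : G} (hv : v ∈ lcsFil G 2) (hv1 : v ≠ 1) :
    ∃ j, 2 ≤ j ∧ j < n ∧ v ∈ lcsFil G j ∧ v ∉ lcsFil G (j + 1) := by
  classical
  have hex : ∃ j, 2 ≤ j ∧ v ∉ lcsFil G (j + 1) := by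
    refine ⟨n, by have := H.three_le; omega, ?_⟩
    rwa [H.lcsFil_eq_bot (i := n + 1) (by omega), Subgroup.mem_bot]
  obtain ⟨h1, h2⟩ := Nat.find_spec hex
  have h3 : v ∈ lcsFil G (Nat.find hex) := by
    rcases (show Nat.find hex = 2 ∨ 3 ≤ Nat.find hex by omega) with h | h
    · rwa [h]
    · by_contra hh
      have := Nat.find_min' hex (m := Nat.find hex - 1)
        ⟨by omega, by rwa [show Nat.find hex - 1 + 1 = Nat.find hex by omega]⟩
      omega
  refine ⟨_, h1, ?_, h3, h2⟩
  by_contra hn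
  rw [H.lcsFil_eq_bot (i := Nat.find hex) (by omega), Subgroup.mem_bot] at h3
  exact hv1 h3

theorem cube_outside (h4 : 4 ≤ n) {y : G} (hy : y ∉ twoStep G) : y ^ 3 ∈ lcsFil G (n - 1) := by
  by_cases h1 : y ^ 3 = 1
  · rw [h1]; exact one_mem _
  obtain ⟨j, h2, hjn, hmem, hnot⟩ := H.exists_layer (H.cube_mem_two y) h1
  by_contra hbad
  have hj : j + 1 < n := by
    by_contra hh
    exact hbad (lcsFil_antitone (by omega) hmem)
  refine (H.shift_of_notMem h4 hy h2 hj hmem hnot).2 ?_
  rw [mul_assoc y⁻¹, ← pow_succ, pow_succ' y 3, inv_mul_cancel_left, inv_mul_cancel]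
  exact one_mem _

/-- For `n ≥ 5` cubing maps the first layer of the two-step centralizer to the third. -/
theorem cube_notMem (h5 : 5 ≤ n) {h : G} (hh : h ∈ twoStep G) (hh2 : h ∉ lcsFil G 2) :
    h ^ 3 ∉ lcsFil G 4 := by
  intro hbad
  obtain ⟨hx, -, hsup⟩ := H.twoStep_facts (by omega)
  have hg1 : h ∉ lcsFil G 2 ⊔ zpowers x := by
    intro hc
    have hle : twoStep G ≤ lcsFil G 2 ⊔ zpowers x :=
      (hsup h hh hh2).symm.le.trans (sup_le le_sup_left (zpowers_le.2 hc))
    obtain ⟨-, hN, -⟩ := H.twoStep_facts (by omega)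
    have hlt : lcsFil G 2 < lcsFil G 2 ⊔ zpowers x := lt_of_le_of_ne le_sup_left fun e =>
      H.x_notMem (e ▸ Subgroup.mem_sup_right (mem_zpowers x))
    have heq := Subgroup.eq_of_le_of_card_ge hle
      (le_of_eq ((H.card_over_two hlt (H.sup_zpowers_ne_top x)).trans hN.symm))
    exact hx (heq.ge (Subgroup.mem_sup_right (mem_zpowers x)))
  obtain ⟨a1, a2⟩ := H.engel_step (i := 1) le_rfl (by omega) (by simp [lcsFil_one]) hh2 (fun _ => hg1)
  obtain ⟨b1, b2⟩ := H.engel_step (i := 2) (by omega) (by omega) a1 a2 (fun h => by omega)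
  apply b2
  set e2 := h⁻¹ * (x⁻¹ * h * x)
  set e3 := e2⁻¹ * (x⁻¹ * e2 * x)
  haveI := lcsFil_normal (G := G) 4
  set q := QuotientGroup.mk' (lcsFil G 4)
  have hy : x * h ∉ twoStep G := fun hc => hx (by simpa using mul_mem hc (inv_mem hh))
  have hq1 : ∀ {v : G}, v ∈ lcsFil G 4 → q v = 1 := fun hv => (QuotientGroup.eq_one_iff _).2 hv
  have hX : q x ^ 3 = 1 := by
    rw [← map_pow]; exact hq1 (lcsFil_antitone (by omega) (H.cube_outside (by omega) hx))
  have hXH : (q x * q h) ^ 3 = 1 := by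
    rw [← map_mul, ← map_pow]; exact hq1 (lcsFil_antitone (by omega) (H.cube_outside (by omega) hy))
  have hh3 : q h ^ 3 = 1 := by rw [← map_pow]; exact hq1 hbad
  have he23 : q e2 ^ 3 = 1 := by
    rw [← map_pow]
    exact hq1 (by simpa using (H.pow_layer 2 le_rfl e2 a1).1)
  have hcomm : ∀ {u v : G}, ⁅u, v⁆ ∈ lcsFil G 4 → Commute (q u) (q v) := fun huv => by
    rw [← commutatorElement_eq_one_iff_commute, ← map_commutatorElement]
    exact hq1 huv
  have c2 : Commute (q h) (q e2) := hcomm (mem_twoStep.1 hh e2 a1)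
  have c3 : Commute (q h) (q e3) := hcomm (commutatorElement_mem_lcsFil (i := 1) (by simp [lcsFil_one]) b1)
  have c23 : Commute (q e2) (q e3) := hcomm (lcsFil_antitone (by omega) (commutatorElement_mem_lcsFil a1 b1))
  have hhx : (q x)⁻¹ * q h * q x = q h * q e2 := by simp only [e2, map_mul, map_inv]; group
  have hex : (q x)⁻¹ * q e2 * q x = q e2 * q e3 := by simp only [e3, map_mul, map_inv]; group
  have hxx : (q x ^ 2)⁻¹ * q h * q x ^ 2 = q h * q e2 * (q e2 * q e3) := by
    calc (q x ^ 2)⁻¹ * q h * q x ^ 2 = (q x)⁻¹ * ((q x)⁻¹ * q h * q x) * q x := by rw [pow_two]; group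
      _ = (q x)⁻¹ * (q h * q e2) * q x := by rw [hhx]
      _ = ((q x)⁻¹ * q h * q x) * ((q x)⁻¹ * q e2 * q x) := by group
      _ = _ := by rw [hhx, hex]
  have key : (q x * q h) ^ 3 = q x ^ 3 * (((q x ^ 2)⁻¹ * q h * q x ^ 2) * ((q x)⁻¹ * q h * q x) * q h) := by
    simp only [pow_succ, pow_zero, one_mul]; group
  rw [hXH, hX, one_mul, hxx, hhx] at key
  have hA : q h * q e2 * (q e2 * q e3) * (q h * q e2) * q h = q h ^ 3 * q e2 ^ 3 * q e3 := by
    have k1 : Commute (q e3) (q h * (q e2 * q h)) := c3.symm.mul_right (c23.symm.mul_right c3.symm)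
    have k2 : Commute (q e2 * q e2) (q h * q h) := (c2.symm.mul_left c2.symm).mul_right (c2.symm.mul_left c2.symm)
    calc q h * q e2 * (q e2 * q e3) * (q h * q e2) * q h
        = q h * q e2 * q e2 * (q e3 * (q h * (q e2 * q h))) := by group
      _ = q h * q e2 * q e2 * (q h * (q e2 * q h) * q e3) := by rw [k1.eq]
      _ = q h * q e2 * q e2 * (q h * (q h * q e2) * q e3) := by rw [c2.eq]
      _ = q h * (q e2 * q e2 * (q h * q h)) * q e2 * q e3 := by group
      _ = q h * (q h * q h * (q e2 * q e2)) * q e2 * q e3 := by rw [k2.eq]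
      _ = _ := by simp only [pow_succ, pow_zero, one_mul, mul_assoc]
  rw [hA, hh3, he23, one_mul, one_mul] at key
  exact (QuotientGroup.eq_one_iff _).1 key.symm

theorem cube_mem_three (h4 : 4 ≤ n) {h : G} (hh : h ∈ twoStep G) : h ^ 3 ∈ lcsFil G 3 := by
  obtain ⟨hx, -, -⟩ := H.twoStep_facts h4
  haveI := lcsFil_normal (G := G) 3
  set q := QuotientGroup.mk' (lcsFil G 3)
  have hy : x * h ∉ twoStep G := fun hc => hx (by simpa using mul_mem hc (inv_mem hh))
  have hq1 : ∀ {v : G}, v ∈ lcsFil G 3 → q v = 1 := fun hv => (QuotientGroup.eq_one_iff _).2 hv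
  have hX : q x ^ 3 = 1 := by
    rw [← map_pow]; exact hq1 (lcsFil_antitone (by omega) (H.cube_outside h4 hx))
  have hXH : (q x * q h) ^ 3 = 1 := by
    rw [← map_mul, ← map_pow]; exact hq1 (lcsFil_antitone (by omega) (H.cube_outside h4 hy))
  set e := h⁻¹ * (x⁻¹ * h * x)
  have he : e ∈ lcsFil G 2 := by
    have e1 : e = ⁅h⁻¹, x⁻¹⁆ := by simp only [e, commutatorElement_def]; group
    rw [e1]
    exact commutatorElement_mem_lcsFil (i := 1) (j := 1) (by simp [lcsFil_one]) (by simp [lcsFil_one])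
  have hec : ∀ v, Commute (q e) (q v) := fun v => by
    rw [← commutatorElement_eq_one_iff_commute, ← map_commutatorElement]
    exact hq1 (commutatorElement_mem_lcsFil he (j := 1) (by simp [lcsFil_one]))
  have hswap : q h * q x = q x * q h * q e := by simp only [e, map_mul, map_inv]; group
  rw [mul_pow_of_commute hswap (hec x) (hec h) 3, hX, one_mul, show Nat.choose 3 2 = 3 by rfl, ← map_pow q e,
    hq1 (lcsFil_antitone (by omega) (H.pow_layer 2 le_rfl e he).1), mul_one, ← map_pow] at hXH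
  exact (QuotientGroup.eq_one_iff _).1 hXH

omit H in
theorem mem_closure_engel (K : Subgroup G) {y e : G} (hy : y ∈ K) (he : e ∈ K) : ∀ t, engelSeq y e t ∈ K
  | 0 => he
  | t + 1 => mul_mem (inv_mem (mem_closure_engel K hy he t))
      (mul_mem (mul_mem (inv_mem hy) (mem_closure_engel K hy he t)) hy)

/-- A subgroup containing `h` outside the derived subgroup is generated by `h` together with its part inside. -/
theorem le_of_mem {L K : Subgroup G} (htop : L ⊔ lcsFil G 2 ≠ ⊤) {h : G} (hhL : h ∈ L)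
    (hh2 : h ∉ lcsFil G 2) (hhK : h ∈ K) (hin : ∀ w ∈ L, w ∈ lcsFil G 2 → w ∈ K) : L ≤ K := by
  intro v hv
  haveI := lcsFil_normal (G := G) 2
  have hlt : lcsFil G 2 < lcsFil G 2 ⊔ zpowers h := lt_of_le_of_ne le_sup_left fun e =>
    hh2 (e ▸ Subgroup.mem_sup_right (mem_zpowers h))
  have hle : lcsFil G 2 ⊔ zpowers h ≤ L ⊔ lcsFil G 2 :=
    sup_le le_sup_right ((zpowers_le.2 hhL).trans le_sup_left)
  have heq := Subgroup.eq_of_le_of_card_ge hle
    (le_of_eq ((H.card_over_two (hlt.trans_le hle) htop).trans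
      (H.card_over_two hlt (H.sup_zpowers_ne_top h)).symm))
  have hv' : v ∈ zpowers h ⊔ lcsFil G 2 := by
    rw [sup_comm, heq]; exact Subgroup.mem_sup_left hv
  obtain ⟨a, ha, w, hw, rfl⟩ := Subgroup.mem_sup_of_normal_right.1 hv'
  have haL : a ∈ L := zpowers_le.2 hhL ha
  exact mul_mem (zpowers_le.2 hhK ha) (hin w (by simpa using mul_mem (inv_mem haL) hv) hw)

/-- Every subgroup is generated by two elements, or the group is that of order 81 with a core-free
subgroup of index 9. -/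
theorem exists_gen_three (h4 : 4 ≤ n) :
    (∀ L : Subgroup G, ∃ a b : G, Subgroup.closure ({a, b} : Set G) = L) ∨
      (n = 4 ∧ ∃ K : Subgroup G, K.index = 9 ∧ K.normalCore = ⊥) := by
  classical
  obtain ⟨hx, hN, hsup⟩ := H.twoStep_facts h4
  have hG := IsPGroup.of_card H.card
  haveI := hG.isNilpotent
  by_cases hbad : n = 4 ∧ ∀ h ∈ twoStep G, h ^ 3 = 1
  · obtain ⟨rfl, hexp⟩ := hbad
    refine Or.inr ⟨rfl, ?_⟩
    obtain ⟨g, hgN, hg2⟩ : ∃ g ∈ twoStep G, g ∉ lcsFil G 2 := by
      by_contra hall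
      push Not at hall
      have := Subgroup.card_le_of_le (show twoStep G ≤ lcsFil G 2 from hall)
      rw [hN, H.card_lcsFil le_rfl (by omega)] at this
      norm_num at this
    obtain ⟨e, he, he'⟩ := H.exists_exact (le_refl 2) (by omega)
    have hbot : lcsFil G 4 = ⊥ := H.lcsFil_eq_bot le_rfl
    have hcomm : Commute g e := by
      rw [← commutatorElement_eq_one_iff_commute]
      simpa [hbot] using mem_twoStep.1 hgN e he
    have heN := lcsFil_two_le_twoStep he
    set K := Subgroup.closure ({g, e} : Set G)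
    have hmemK : ∀ v ∈ K, ∃ a b : ℤ, v = g ^ a * e ^ b := by
      intro v hv
      induction hv using Subgroup.closure_induction with
      | mem v hv =>
        rcases hv with rfl | rfl
        · exact ⟨1, 0, by simp⟩
        · exact ⟨0, 1, by simp⟩
      | one => exact ⟨0, 0, by simp⟩
      | mul u v _ _ hu hv =>
        obtain ⟨a, b, rfl⟩ := hu
        obtain ⟨a', b', rfl⟩ := hv
        refine ⟨a + a', b + b', ?_⟩
        rw [(hcomm.zpow_zpow a' b).symm.mul_mul_mul_comm, ← zpow_add, ← zpow_add]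
      | inv u _ hu =>
        obtain ⟨a, b, rfl⟩ := hu
        exact ⟨-a, -b, by rw [mul_inv_rev, zpow_neg, zpow_neg, (hcomm.zpow_zpow a b).inv_inv.eq]⟩
    have hK3 : ∀ v ∈ K, v ∈ lcsFil G 3 → v = 1 := by
      intro v hv hv3
      obtain ⟨a, b, rfl⟩ := hmemK v hv
      have hga : g ^ a ∈ lcsFil G 2 := by
        simpa using mul_mem (lcsFil_antitone (show 2 ≤ 3 by omega) hv3) (inv_mem (zpow_mem he b))
      obtain ⟨a', rfl⟩ : (3 : ℤ) ∣ a := by
        by_contra ha
        obtain ⟨u, w, huw⟩ := ((Nat.prime_iff_prime_int.1 hp.out).coprime_iff_not_dvd.2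
          (by exact_mod_cast ha) : IsCoprime ((3 : ℕ) : ℤ) a)
        apply hg2
        rw [show g = (g ^ ((3 : ℕ) : ℤ)) ^ u * (g ^ a) ^ w by
          rw [← zpow_mul, ← zpow_mul, ← zpow_add, show ((3 : ℕ) : ℤ) * u + a * w = 1 by linarith, zpow_one]]
        rw [zpow_natCast]
        exact mul_mem (zpow_mem (H.cube_mem_two g) u) (zpow_mem hga w)
      rw [zpow_mul, show g ^ (3 : ℤ) = 1 by exact_mod_cast hexp g hgN, one_zpow, one_mul] at hv3 ⊢
      obtain ⟨b', rfl⟩ : (3 : ℤ) ∣ b := by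
        by_contra hb
        obtain ⟨u, w, huw⟩ := ((Nat.prime_iff_prime_int.1 hp.out).coprime_iff_not_dvd.2
          (by exact_mod_cast hb) : IsCoprime ((3 : ℕ) : ℤ) b)
        apply he'
        rw [show e = (e ^ ((3 : ℕ) : ℤ)) ^ u * (e ^ b) ^ w by
          rw [← zpow_mul, ← zpow_mul, ← zpow_add, show ((3 : ℕ) : ℤ) * u + b * w = 1 by linarith, zpow_one]]
        rw [zpow_natCast, hexp e heN, one_zpow, one_mul]
        exact zpow_mem hv3 w
      rw [zpow_mul, show e ^ (3 : ℤ) = 1 by exact_mod_cast hexp e heN, one_zpow]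
    have hKN : K ≤ twoStep G := (Subgroup.closure_le _).2 (by simp [Set.insert_subset_iff, hgN, heN])
    have hKc : Nat.card K = 3 ^ 2 := by
      obtain ⟨b, hb⟩ := IsPGroup.iff_card.1 (hG.to_subgroup K)
      have h3c := H.card_lcsFil (i := 3) (by omega) (by omega)
      obtain ⟨z, hz, hz'⟩ := H.exists_exact (i := 3) (by omega) (by omega)
      have h2K : Nat.card K < 3 ^ 3 := by
        rw [show (3 : ℕ) ^ 3 = 3 ^ (4 - 1) by rfl, ← hN]
        refine lt_of_le_of_ne (Subgroup.card_le_of_le hKN) fun h => hz' ?_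
        have heq := Subgroup.eq_of_le_of_card_ge hKN h.ge
        rw [hK3 z (heq ▸ lcsFil_two_le_twoStep (lcsFil_antitone (show 2 ≤ 3 by omega) hz)) hz]
        exact one_mem _
      have hgK : g ∈ K := Subgroup.subset_closure (by simp)
      have heK : e ∈ K := Subgroup.subset_closure (by simp)
      have h1 : Nat.card (zpowers e) < Nat.card K := by
        by_contra hle
        have heq := Subgroup.eq_of_le_of_card_ge (zpowers_le.2 heK) (not_lt.1 hle)
        exact hg2 (zpowers_le.2 he (heq.ge hgK))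
      have he3 : orderOf e = 3 := orderOf_eq_prime (hexp e heN) (fun h => he' (h ▸ one_mem _))
      rw [Nat.card_zpowers, he3, hb] at h1
      rw [hb, Nat.pow_lt_pow_iff_right (by norm_num)] at h2K
      have : 2 ≤ b := by
        by_contra hh
        have := Nat.pow_le_pow_right (show 3 > 0 by norm_num) (show b ≤ 1 by omega)
        omega
      rw [hb, show b = 2 by omega]
    refine ⟨K, ?_, ?_⟩
    · have h := K.card_mul_index
      rw [hKc, H.card] at h
      omega
    · by_contra hne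
      obtain ⟨z, hz, hzc, hzo⟩ := exists_mem_center_orderOf_eq hG K.normalCore hne
      have hcl : lcsFil G 3 = center G := by
        have hcen : Nat.card (center G) = 3 := by
          refine (card_center_of_maxClass (n := 4) (by omega) H.card ?_).1
          have h1 := nilpotencyClass_le 4 G (by omega) H.card
          have h2 : ¬ Group.nilpotencyClass G ≤ 4 - 2 := fun h =>
            H.cls (Subgroup.lowerCentralSeries_eq_bot_iff_nilpotencyClass_le.2 h)
          omega
        refine Subgroup.eq_of_le_of_card_ge (fun v hv => Subgroup.mem_center_iff.2 fun w => ?_) ?_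
        · have h := commutatorElement_mem_lcsFil (i := 1) (by simp [lcsFil_one] : w ∈ lcsFil G 1) hv
          rw [show 1 + 3 = 4 by rfl, hbot, Subgroup.mem_bot, commutatorElement_eq_one_iff_mul_comm] at h
          exact h
        · rw [hcen, H.card_lcsFil (by omega) (by omega)]; rfl
      have hz1 := hK3 z (K.normalCore_le hz) (hcl ▸ hzc)
      rw [hz1, orderOf_one] at hzo
      norm_num at hzo
  refine Or.inl fun L => ?_
  by_cases htop : L ⊔ lcsFil G 2 = ⊤
  · have hLtop : L = ⊤ := frattini_nongenerating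
      (eq_top_iff.2 (htop ▸ sup_le_sup_left ((lcsFil_two (G := G)).le.trans (commutator_le_frattini hG)) L))
    obtain ⟨g, hg⟩ : ∃ g, g ∉ lcsFil G 2 ⊔ zpowers x := by
      by_contra hall
      push Not at hall
      exact H.sup_zpowers_ne_top x (eq_top_iff.2 fun g _ => hall g)
    refine ⟨x, g, hLtop ▸ frattini_nongenerating ?_⟩
    by_contra hK
    have hxK : x ∈ Subgroup.closure ({x, g} : Set G) ⊔ frattini G :=
      Subgroup.mem_sup_left (Subgroup.subset_closure (by simp))
    have hγK : lcsFil G 2 ⊔ zpowers x ≤ Subgroup.closure ({x, g} : Set G) ⊔ frattini G := sup_le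
      (((lcsFil_two (G := G)).le.trans (commutator_le_frattini hG)).trans le_sup_right) (zpowers_le.2 hxK)
    have hlt : lcsFil G 2 < lcsFil G 2 ⊔ zpowers x := lt_of_le_of_ne le_sup_left fun h =>
      H.x_notMem (h ▸ Subgroup.mem_sup_right (mem_zpowers x))
    have heq := Subgroup.eq_of_le_of_card_ge hγK (le_of_eq ((H.card_over_two (hlt.trans_le hγK) hK).trans
      (H.card_over_two hlt (H.sup_zpowers_ne_top x)).symm))
    exact hg (heq ▸ Subgroup.mem_sup_left (Subgroup.subset_closure (by simp)))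
  by_cases hL2 : L ≤ lcsFil G 2
  · obtain ⟨T, hT, hTc⟩ := H.exists_gen_le_two L hL2
    rcases (show T.card = 0 ∨ T.card = 1 ∨ T.card = 2 by omega) with h | h | h
    · rw [Finset.card_eq_zero] at h
      subst h
      exact ⟨1, 1, by rw [← hTc]; simp⟩
    · obtain ⟨v, rfl⟩ := Finset.card_eq_one.1 h
      exact ⟨v, v, by rw [← hTc]; simp⟩
    · obtain ⟨v, w, -, rfl⟩ := Finset.card_eq_two.1 h
      exact ⟨v, w, by rw [← hTc]; simp⟩
  obtain ⟨y, hy, hy2⟩ := SetLike.not_le_iff_exists.1 hL2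
  by_cases hLN : L ≤ twoStep G
  · -- inside the two-step centralizer
    obtain ⟨h, hh, hh2, hcase⟩ : ∃ h ∈ L, h ∉ lcsFil G 2 ∧
        (h ^ 3 ∉ lcsFil G 4 ∨ (n = 4 ∧ h ^ 3 = 1 ∧ ¬ lcsFil G 2 ≤ L)) := by
      by_cases hy3 : y ^ 3 ∈ lcsFil G 4
      swap
      · exact ⟨y, hy, hy2, Or.inl hy3⟩
      have hn : n = 4 := by
        by_contra hne
        exact H.cube_notMem (by omega) (hLN hy) hy2 hy3
      subst hn
      rw [H.lcsFil_eq_bot (i := 4) le_rfl, Subgroup.mem_bot] at hy3
      by_cases hle : lcsFil G 2 ≤ L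
      swap
      · exact ⟨y, hy, hy2, Or.inr ⟨rfl, hy3, hle⟩⟩
      push Not at hbad
      obtain ⟨h, hhN, hh3⟩ := hbad rfl
      have hLeq : twoStep G ≤ L := hsup y (hLN hy) hy2 ▸ sup_le hle (zpowers_le.2 hy)
      refine ⟨h, hLeq hhN, fun h2 => hh3 ?_, Or.inl ?_⟩
      · simpa [H.lcsFil_eq_bot (i := 2 + 3 - 1) (by omega)] using (H.pow_layer 2 le_rfl h h2).1
      · rwa [H.lcsFil_eq_bot (i := 4) le_rfl, Subgroup.mem_bot]
    rcases hcase with hh3 | ⟨rfl, hh3, hle⟩
    swap
    · obtain ⟨w, hw, hgen⟩ : ∃ w, w ∈ L ∧ ∀ v ∈ L, v ∈ lcsFil G 2 → v ∈ zpowers w := by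
        have hlt : L ⊓ lcsFil G 2 < lcsFil G 2 := lt_of_le_of_ne inf_le_right fun e => hle (e ▸ inf_le_left)
        obtain ⟨b, hb⟩ := IsPGroup.iff_card.1 (hG.to_subgroup (L ⊓ lcsFil G 2))
        have h1 : Nat.card ↑(L ⊓ lcsFil G 2) < Nat.card (lcsFil G 2) := by
          by_contra hh
          exact hlt.ne (Subgroup.eq_of_le_of_card_ge hlt.le (not_lt.1 hh))
        rw [hb, H.card_lcsFil le_rfl (by omega), Nat.pow_lt_pow_iff_right (by norm_num)] at h1
        by_cases hI : L ⊓ lcsFil G 2 = ⊥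
        · refine ⟨1, one_mem L, fun v hv hv2 => ?_⟩
          have : v ∈ L ⊓ lcsFil G 2 := ⟨hv, hv2⟩
          rw [hI, Subgroup.mem_bot] at this
          rw [this]; exact one_mem _
        · obtain ⟨⟨w, hw⟩, hw1'⟩ := Subgroup.ne_bot_iff_exists_ne_one.1 hI
          have hw1 : w ≠ 1 := fun h => hw1' (Subtype.ext h)
          refine ⟨w, (Subgroup.mem_inf.1 hw).1, fun v hv hv2 => ?_⟩
          have hb1 : Nat.card ↑(L ⊓ lcsFil G 2) = 3 := by
            have hb0 : b ≠ 0 := fun h0 => hI (by rwa [h0, pow_zero, Subgroup.card_eq_one] at hb)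
            rw [hb, show b = 1 by omega, pow_one]
          rw [zpowers_eq_of_card_eq hb1 hw hw1]
          exact ⟨hv, hv2⟩
      refine ⟨h, w, le_antisymm ((Subgroup.closure_le _).2 (by simp [Set.insert_subset_iff, hh, hw])) ?_⟩
      exact H.le_of_mem htop hh hh2 (Subgroup.subset_closure (by simp))
        fun v hv hv2 => zpowers_le.2 (Subgroup.subset_closure (by simp)) (hgen v hv hv2)
    -- the odd layers are covered by cubes of `h`
    have hh33 := H.cube_mem_three h4 (hLN hh)
    let P : ℕ → Prop := fun i => 2 ≤ i ∧ i % 2 = 0 ∧ ∃ v ∈ L, v ∈ lcsFil G i ∧ v ∉ lcsFil G (i + 1)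
    obtain ⟨e, heL, hespec⟩ : ∃ e ∈ L, (∀ i, P i → ∃ i0, i0 ≤ i ∧ 2 ≤ i0 ∧ i0 % 2 = 0 ∧
        e ∈ lcsFil G i0 ∧ e ∉ lcsFil G (i0 + 1)) := by
      by_cases hP : ∃ i, P i
      · obtain ⟨h2, he0, v, hv, hv1, hv2⟩ := Nat.find_spec hP
        exact ⟨v, hv, fun i hi => ⟨_, Nat.find_min' hP hi, h2, he0, hv1, hv2⟩⟩
      · exact ⟨1, one_mem L, fun i hi => absurd ⟨i, hi⟩ hP⟩
    refine ⟨h, e, le_antisymm ((Subgroup.closure_le _).2 (by simp [Set.insert_subset_iff, hh, heL])) ?_⟩
    set K := Subgroup.closure ({h, e} : Set G)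
    have hhK : h ∈ K := Subgroup.subset_closure (by simp)
    have heK : e ∈ K := Subgroup.subset_closure (by simp)
    refine H.le_of_mem htop hh hh2 hhK ?_
    suffices hall : ∀ d i, n ≤ i + d → 2 ≤ i → ∀ v ∈ L, v ∈ lcsFil G i → v ∈ K from
      fun v hv hv2 => hall n 2 (by omega) le_rfl v hv hv2
    intro d
    induction d with
    | zero =>
      intro i hid _ v _ hi
      rw [H.lcsFil_eq_bot (i := i) (by omega), Subgroup.mem_bot] at hi
      exact hi ▸ one_mem K
    | succ d ih =>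
      intro i hid h2 v hv hi
      by_cases hin : n ≤ i + d
      · exact ih i hin h2 v hv hi
      by_cases hnext : v ∈ lcsFil G (i + 1)
      · exact ih (i + 1) (by omega) (by omega) v hv hnext
      obtain ⟨c, hcK, hcL, hc, hc'⟩ : ∃ c ∈ K, c ∈ L ∧ c ∈ lcsFil G i ∧ c ∉ lcsFil G (i + 1) := by
        rcases Nat.mod_two_eq_zero_or_one i with hpar | hpar
        · obtain ⟨i0, hle, h20, he0, hei, hei'⟩ := hespec i ⟨h2, hpar, v, hv, hi, hnext⟩
          obtain ⟨t, ht⟩ : 2 ∣ i - i0 := Nat.dvd_of_mod_eq_zero (by omega)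
          obtain ⟨c1, c2⟩ := H.pow_iterate_layer h20 hei hei' t (by omega)
          rw [show i0 + t * (3 - 1) = i by omega] at c1 c2
          exact ⟨_, pow_mem heK _, pow_mem heL _, c1, c2⟩
        · obtain ⟨t, ht⟩ : 2 ∣ i - 3 := Nat.dvd_of_mod_eq_zero (by omega)
          obtain ⟨c1, c2⟩ := H.pow_iterate_layer (i := 3) (by omega) hh33 hh3 t (by omega)
          rw [show 3 + t * (3 - 1) = i by omega] at c1 c2
          exact ⟨_, pow_mem (pow_mem hhK 3) _, pow_mem (pow_mem hh 3) _, c1, c2⟩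
      obtain ⟨k, hk⟩ := H.exists_pow_layer h2 (by omega) hc hc' hi
      have hrest := ih (i + 1) (by omega) (by omega) _ (mul_mem (inv_mem (pow_mem hcL k)) hv) hk
      simpa using mul_mem (pow_mem hcK k) hrest
  · -- an element outside shifts all layers
    obtain ⟨y, hy, hyN⟩ := SetLike.not_le_iff_exists.1 hLN
    have hy2' : y ∉ lcsFil G 2 := fun h => hyN (lcsFil_two_le_twoStep h)
    by_cases hI : ∀ v ∈ L, v ∈ lcsFil G 2 → v = 1
    · refine ⟨y, y, le_antisymm ((Subgroup.closure_le _).2 (by simp [hy])) ?_⟩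
      exact H.le_of_mem htop hy hy2' (Subgroup.subset_closure (by simp))
        fun v hv hv2 => (hI v hv hv2).symm ▸ one_mem _
    push Not at hI
    let P : ℕ → Prop := fun i => 2 ≤ i ∧ ∃ v ∈ L, v ∈ lcsFil G i ∧ v ∉ lcsFil G (i + 1)
    have hP : ∃ i, P i := by
      obtain ⟨v, hv, hv2, hv1⟩ := hI
      obtain ⟨j, hj, -, hj1, hj2⟩ := H.exists_layer hv2 hv1
      exact ⟨j, hj, v, hv, hj1, hj2⟩
    set i0 := Nat.find hP
    obtain ⟨h20, e, heL, he, he'⟩ := Nat.find_spec hP
    refine ⟨y, e, le_antisymm ((Subgroup.closure_le _).2 (by simp [Set.insert_subset_iff, hy, heL])) ?_⟩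
    set K := Subgroup.closure ({y, e} : Set G)
    have hyK : y ∈ K := Subgroup.subset_closure (by simp)
    have heK : e ∈ K := Subgroup.subset_closure (by simp)
    refine H.le_of_mem htop hy hy2' hyK ?_
    have hlay : ∀ t, i0 + t < n →
        engelSeq y e t ∈ lcsFil G (i0 + t) ∧ engelSeq y e t ∉ lcsFil G (i0 + t + 1) := by
      intro t
      induction t with
      | zero => exact fun _ => ⟨he, he'⟩
      | succ t iht =>
        intro ht
        obtain ⟨t1, t2⟩ := iht (by omega)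
        exact H.shift_of_notMem h4 hyN (by omega : 2 ≤ i0 + t) (by omega) t1 t2
    have hall : ∀ d i, n ≤ i + d → i0 ≤ i → ∀ v ∈ lcsFil G i, v ∈ K := by
      intro d
      induction d with
      | zero =>
        intro i hid _ v hi
        rw [H.lcsFil_eq_bot (i := i) (by omega), Subgroup.mem_bot] at hi
        exact hi ▸ one_mem K
      | succ d ih =>
        intro i hid h2 v hi
        by_cases hin : n ≤ i + d
        · exact ih i hin h2 v hi
        obtain ⟨t, rfl⟩ : ∃ t, i = i0 + t := ⟨i - i0, by omega⟩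
        obtain ⟨c1, c2⟩ := hlay t (by omega)
        obtain ⟨k, hk⟩ := H.exists_pow_layer (by omega) (by omega) c1 c2 hi
        simpa using mul_mem (pow_mem (mem_closure_engel K hyK heK t) k) (ih _ (by omega) (by omega) _ hk)
    intro v hv hv2
    by_cases hv1 : v = 1
    · exact hv1 ▸ one_mem K
    obtain ⟨j, hj, hjn, hj1, hj2⟩ := H.exists_layer hv2 hv1
    exact hall n j (by omega) (Nat.find_min' hP ⟨hj, v, hv, hj1, hj2⟩) v hj1

end Cfsg.Agent.PGroups.MaxClassPair
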