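import Cfsg.Agent.PGroups.MaxClassPower

/-!
Groups of maximal class of order `p ^ n`, `p` odd: the two-step centralizer of the second layer centralizes every
layer `γ i / γ (i + 2)` with `i + 3 ≤ n` (Blackburn), so some element has a centralizer of order `p ^ 2`.
-/

set_option autoImplicit false
set_option linter.style.haveILetI false
set_option linter.unusedSectionVars false

namespace Cfsg.Agent.PGroups

open Subgroup
open scoped commutatorElement

universe u

variable {G : Type u} [Group G]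

/-- The centralizer of the section between the `i`-th and the `(i + 2)`-nd term. -/
def layerCent (G : Type u) [Group G] (i : ℕ) : Subgroup G :=
  (centralizer (((lcsFil G i).map (QuotientGroup.mk' (lcsFil G (i + 2)))) : Set (G ⧸ lcsFil G (i + 2)))).comap
    (QuotientGroup.mk' (lcsFil G (i + 2)))

theorem mem_layerCent {i : ℕ} {g : G} : g ∈ layerCent G i ↔ ∀ w ∈ lcsFil G i, ⁅g, w⁆ ∈ lcsFil G (i + 2) := by
  rw [layerCent, Subgroup.mem_comap, Subgroup.mem_centralizer_iff]
  constructor
  · intro h w hw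
    rw [← QuotientGroup.eq_one_iff]
    show QuotientGroup.mk' (lcsFil G (i + 2)) ⁅g, w⁆ = 1
    rw [map_commutatorElement, commutatorElement_eq_one_iff_mul_comm]
    exact (h _ ⟨w, hw, rfl⟩).symm
  · rintro h _ ⟨w, hw, rfl⟩
    rw [eq_comm, ← commutatorElement_eq_one_iff_mul_comm, ← map_commutatorElement]
    exact (QuotientGroup.eq_one_iff _).2 (h w hw)

instance layerCent_normal (i : ℕ) : (layerCent G i).Normal := by
  haveI : ((lcsFil G i).map (QuotientGroup.mk' (lcsFil G (i + 2)))).Normal :=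
    Subgroup.Normal.map (lcsFil_normal i) _ (QuotientGroup.mk'_surjective _)
  unfold layerCent
  infer_instance

theorem lcsFil_succ {i : ℕ} (hi : 1 ≤ i) : lcsFil G (i + 1) = ⁅lcsFil G i, ⊤⁆ := by
  rw [lcsFil, lcsFil, show i + 1 - 1 = i - 1 + 1 by omega, Subgroup.lowerCentralSeries_succ]

theorem map_lcsFil {G' : Type*} [Group G'] (f : G →* G') (hf : Function.Surjective f) :
    ∀ {i : ℕ}, (lcsFil G i).map f = lcsFil G' i := by
  intro i
  induction i with
  | zero => rw [lcsFil_zero, lcsFil_zero, Subgroup.map_top_of_surjective f hf]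
  | succ i ih =>
    rcases Nat.eq_zero_or_pos i with rfl | hi
    · rw [lcsFil_one, lcsFil_one, Subgroup.map_top_of_surjective f hf]
    · rw [lcsFil_succ hi, lcsFil_succ hi, Subgroup.map_commutator, ih, Subgroup.map_top_of_surjective f hf]

theorem commutator_lcsFil_le (i j : ℕ) : ⁅lcsFil G i, lcsFil G j⁆ ≤ lcsFil G (i + j) :=
  Subgroup.commutator_le.2 fun _ ha _ hb => commutatorElement_mem_lcsFil ha hb

variable [Finite G] {p : ℕ} [hp : Fact p.Prime]

/-- A group of maximal class of order `p ^ n`, `n ≥ 4`. -/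
structure MaxClassGrp (G : Type u) [Group G] (p n : ℕ) : Prop where
  card : Nat.card G = p ^ n
  four_le : 4 ≤ n
  cls : (⊤ : Subgroup G).lowerCentralSeries (n - 2) ≠ ⊥

namespace MaxClassGrp

variable {n : ℕ} (M : MaxClassGrp G p n)
include M

theorem of_class {H : Type u} [Group H] [Finite H] (hcard : Nat.card H = p ^ n) (h4 : 4 ≤ n)
    (hmax : Group.nilpotencyClass H = n - 1) : MaxClassGrp H p n := by
  refine ⟨hcard, h4, fun h => ?_⟩
  haveI := (IsPGroup.of_card hcard).isNilpotent
  rw [Subgroup.lowerCentralSeries_eq_bot_iff_nilpotencyClass_le] at h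
  omega

theorem lcsFil_eq_bot {i : ℕ} (hi : n ≤ i) : lcsFil G i = ⊥ := by
  haveI := (IsPGroup.of_card M.card).isNilpotent
  refine le_bot_iff.1 ((lcsFil_antitone hi).trans (le_of_eq ?_))
  rw [lcsFil, Subgroup.lowerCentralSeries_eq_bot_iff_nilpotencyClass_le]
  exact nilpotencyClass_le n G (by have := M.four_le; omega) M.card

theorem lt_step {i : ℕ} (hi : 1 ≤ i) (hin : i < n) : lcsFil G (i + 1) < lcsFil G i := by
  refine lt_of_le_of_ne (lcsFil_antitone (by omega)) fun h => ?_
  have hstab : ∀ d, lcsFil G (i + d) = lcsFil G i := by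
    intro d
    induction d with
    | zero => rfl
    | succ d ih => rw [← add_assoc, lcsFil_succ (by omega), ih, ← lcsFil_succ hi, h]
  refine M.cls (le_bot_iff.1 ?_)
  calc (⊤ : Subgroup G).lowerCentralSeries (n - 2) = lcsFil G (n - 1) := by
        rw [lcsFil, show n - 1 - 1 = n - 2 by omega]
    _ ≤ lcsFil G i := lcsFil_antitone (by omega)
    _ = lcsFil G (i + n) := (hstab n).symm
    _ ≤ ⊥ := (M.lcsFil_eq_bot (by omega)).le

theorem mul_card_le_of_lt {K L : Subgroup G} (h : K < L) : p * Nat.card K ≤ Nat.card L := by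
  have hG := IsPGroup.of_card M.card
  obtain ⟨b, hb⟩ := IsPGroup.iff_card.1 (hG.to_subgroup K)
  obtain ⟨c, hc⟩ := IsPGroup.iff_card.1 (hG.to_subgroup L)
  have hlt : Nat.card K < Nat.card L := by
    by_contra hle
    exact h.ne (Subgroup.eq_of_le_of_card_ge h.le (not_lt.1 hle))
  rw [hb, hc, Nat.pow_lt_pow_iff_right hp.out.one_lt] at hlt
  rw [hb, hc, ← pow_succ']
  exact Nat.pow_le_pow_right hp.out.pos hlt

theorem card_lcsFil {i : ℕ} (h2 : 2 ≤ i) (hin : i ≤ n) : Nat.card (lcsFil G i) = p ^ (n - i) := by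
  have hG := IsPGroup.of_card M.card
  haveI := hG.isNilpotent
  have hlow : ∀ d i, i + d = n → 1 ≤ i → p ^ d ≤ Nat.card (lcsFil G i) := by
    intro d
    induction d with
    | zero => intro i _ _; rw [pow_zero]; exact Nat.card_pos
    | succ d ih =>
      intro i hid hi
      rw [pow_succ']
      exact (Nat.mul_le_mul_left p (ih (i + 1) (by omega) (by omega))).trans
        (M.mul_card_le_of_lt (M.lt_step hi (by omega)))
  have htop : p ^ 2 * Nat.card (lcsFil G 2) ≤ p ^ n := by
    obtain ⟨a, ha⟩ := IsPGroup.iff_card.1 (hG.to_quotient (frattini G))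
    have ha2 : 2 ≤ a := by
      by_contra h
      haveI : IsCyclic (G ⧸ frattini G) := by
        rcases Nat.le_one_iff_eq_zero_or_eq_one.mp (show a ≤ 1 by omega) with rfl | rfl
        · haveI : Subsingleton (G ⧸ frattini G) := (Nat.card_eq_one_iff_unique.mp (by simpa using ha)).1
          infer_instance
        · exact isCyclic_of_prime_card (p := p) (by simpa using ha)
      haveI : IsCyclic G := isCyclic_of_frattini
      letI : CommGroup G := IsCyclic.commGroup
      refine absurd (le_bot_iff.1 ?_) (M.lt_step (i := 2) (by omega) (by have := M.four_le; omega)).ne_bot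
      rw [lcsFil_two, commutator_eq_closure, Subgroup.closure_le]
      rintro _ ⟨a, b, rfl⟩
      exact commutatorElement_eq_one_iff_mul_comm.2 (mul_comm a b)
    rw [← M.card, Subgroup.card_eq_card_quotient_mul_card_subgroup (frattini G), ha]
    exact Nat.mul_le_mul (Nat.pow_le_pow_right hp.out.pos ha2)
      (Subgroup.card_le_of_le ((lcsFil_two (G := G)).le.trans (commutator_le_frattini hG)))
  have hup : ∀ e, 2 + e ≤ n → p ^ (2 + e) * Nat.card (lcsFil G (2 + e)) ≤ p ^ n := by
    intro e
    induction e with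
    | zero => intro _; simpa using htop
    | succ e ih =>
      intro he
      have h1 := M.mul_card_le_of_lt (M.lt_step (i := 2 + e) (by omega) (by omega))
      calc p ^ (2 + (e + 1)) * Nat.card (lcsFil G (2 + (e + 1)))
          = p ^ (2 + e) * (p * Nat.card (lcsFil G (2 + e + 1))) := by
            rw [← add_assoc, pow_succ, mul_assoc]
        _ ≤ p ^ (2 + e) * Nat.card (lcsFil G (2 + e)) := Nat.mul_le_mul_left _ h1
        _ ≤ _ := ih (by omega)
  have hle := hup (i - 2) (by omega)
  rw [show 2 + (i - 2) = i by omega, show n = i + (n - i) by omega, pow_add] at hle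
  exact le_antisymm (Nat.le_of_mul_le_mul_left hle (pow_pos hp.out.pos _)) (hlow (n - i) i (by omega) (by omega))

theorem exists_pow_layer {i : ℕ} (hi : 2 ≤ i) (hin : i < n) {e c : G} (he : e ∈ lcsFil G i)
    (he' : e ∉ lcsFil G (i + 1)) (hc : c ∈ lcsFil G i) : ∃ k : ℕ, (e ^ k)⁻¹ * c ∈ lcsFil G (i + 1) := by
  set q := QuotientGroup.mk' (lcsFil G (i + 1))
  have hM : Nat.card ((lcsFil G i).map q) = p := by
    have h := card_eq_card_map_mul (lcsFil G (i + 1)) (lcsFil G i)
    rw [inf_eq_right.2 (lcsFil_antitone (by omega)), M.card_lcsFil hi (by omega),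
      M.card_lcsFil (by omega) (by omega), show n - i = n - (i + 1) + 1 by omega, pow_succ'] at h
    exact (Nat.eq_of_mul_eq_mul_right (pow_pos hp.out.pos _) h).symm
  have hz := zpowers_eq_of_card_eq hM (Subgroup.mem_map_of_mem q he) fun h => he' ((QuotientGroup.eq_one_iff e).1 h)
  have hc' : q c ∈ zpowers (q e) := hz ▸ Subgroup.mem_map_of_mem q hc
  obtain ⟨k, hk⟩ := ((isOfFinOrder_of_finite (q e)).mem_powers_iff_mem_zpowers).2 hc'
  refine ⟨k, (QuotientGroup.eq_one_iff _).1 ?_⟩
  show q ((e ^ k)⁻¹ * c) = 1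
  rw [map_mul, map_inv, map_pow, ← hk, inv_mul_cancel]

/-- Centralizing one generator of a layer is enough. -/
theorem mem_layerCent_of_gen {i : ℕ} (hi : 2 ≤ i) (hin : i < n) {g e : G} (he : e ∈ lcsFil G i)
    (he' : e ∉ lcsFil G (i + 1)) (hge : ⁅g, e⁆ ∈ lcsFil G (i + 2)) : g ∈ layerCent G i := by
  refine mem_layerCent.2 fun w hw => ?_
  obtain ⟨k, hk⟩ := M.exists_pow_layer hi hin he he' hw
  set q := QuotientGroup.mk' (lcsFil G (i + 2))
  have h1 : Commute (q g) (q e) := by
    rw [← commutatorElement_eq_one_iff_commute, ← map_commutatorElement]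
    exact (QuotientGroup.eq_one_iff _).2 hge
  have h2 : Commute (q g) (q ((e ^ k)⁻¹ * w)) := by
    rw [← commutatorElement_eq_one_iff_commute, ← map_commutatorElement]
    refine (QuotientGroup.eq_one_iff _).2 ?_
    exact lcsFil_antitone (by omega) (commutatorElement_mem_lcsFil (i := 1) (x := g) (by simp [lcsFil_one]) hk)
  rw [← QuotientGroup.eq_one_iff]
  show q ⁅g, w⁆ = 1
  rw [map_commutatorElement, commutatorElement_eq_one_iff_commute]
  have h3 := (h1.pow_right k).mul_right h2
  rwa [← map_pow, ← map_mul, mul_inv_cancel_left] at h3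

omit M in
theorem lcsFil_two_le_layerCent (i : ℕ) : lcsFil G 2 ≤ layerCent G i := fun v hv =>
  mem_layerCent.2 fun w hw => by
    have h := commutatorElement_mem_lcsFil hv hw
    rwa [Nat.add_comm] at h

theorem layerCent_index {i : ℕ} (hi : 2 ≤ i) (hin : i + 2 ≤ n) : (layerCent G i).index = p := by
  have hG := IsPGroup.of_card M.card
  have hne : layerCent G i ≠ ⊤ := by
    intro h
    refine (M.lt_step (i := i + 1) (by omega) (by omega)).not_ge ?_
    rw [lcsFil_succ (i := i) (by omega), Subgroup.commutator_le]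
    intro a ha b _
    rw [← commutatorElement_inv]
    exact inv_mem (mem_layerCent.1 (h ▸ mem_top b) a ha)
  have hle : (layerCent G i).index ≤ p := by
    haveI : ((lcsFil G i).map (QuotientGroup.mk' (lcsFil G (i + 2)))).Normal :=
      Subgroup.Normal.map (lcsFil_normal i) _ (QuotientGroup.mk'_surjective _)
    have hc : Nat.card ((lcsFil G i).map (QuotientGroup.mk' (lcsFil G (i + 2)))) = p ^ 2 := by
      have h := card_eq_card_map_mul (lcsFil G (i + 2)) (lcsFil G i)
      rw [inf_eq_right.2 (lcsFil_antitone (by omega)), M.card_lcsFil hi (by omega),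
        M.card_lcsFil (i := i + 2) (by omega) hin, show n - i = 2 + (n - (i + 2)) by omega, pow_add] at h
      exact (Nat.eq_of_mul_eq_mul_right (pow_pos hp.out.pos _) h).symm
    have h := index_centralizer_le (hG.to_quotient (lcsFil G (i + 2))) 2 _ hc
    rw [layerCent, Subgroup.index_comap_of_surjective _ (QuotientGroup.mk'_surjective _)]
    simpa using h
  obtain ⟨j, hj⟩ := hG.index (layerCent G i)
  have h0 : j ≠ 0 := fun h => hne (Subgroup.index_eq_one.1 (by rw [hj, h, pow_zero]))
  have h1 : j ≤ 1 := (Nat.pow_le_pow_iff_right hp.out.one_lt).1 (by rw [pow_one, ← hj]; exact hle)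
  rw [hj, show j = 1 by omega, pow_one]

theorem layerCent_card {i : ℕ} (hi : 2 ≤ i) (hin : i + 2 ≤ n) : Nat.card (layerCent G i) = p ^ (n - 1) := by
  have h := (layerCent G i).card_mul_index
  rw [M.layerCent_index hi hin, M.card, show n = n - 1 + 1 by omega, pow_succ] at h
  exact Nat.eq_of_mul_eq_mul_right hp.out.pos h

theorem layerCent_eq_of_le {i j : ℕ} (hi : 2 ≤ i) (hin : i + 2 ≤ n) (hj : 2 ≤ j) (hjn : j + 2 ≤ n)
    (h : layerCent G i ≤ layerCent G j) : layerCent G i = layerCent G j :=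
  Subgroup.eq_of_le_of_card_ge h (le_of_eq (by rw [M.layerCent_card hi hin, M.layerCent_card hj hjn]))

/-- An element outside every layer centralizer has a centralizer of order `p ^ 2`. -/
theorem pair_of_outside {x : G} (hx : ∀ i, 2 ≤ i → i + 2 ≤ n → x ∉ layerCent G i) : MaxClassPair G p n x := by
  have h4 := M.four_le
  have hG := IsPGroup.of_card M.card
  haveI := hG.isNilpotent
  set C := centralizer ({x} : Set G)
  have hinf : C ⊓ lcsFil G 2 = lcsFil G (n - 1) := by
    refine le_antisymm ?_ (le_inf (fun v hv => Subgroup.mem_centralizer_iff.2 fun w _ => ?_)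
      (lcsFil_antitone (by omega)))
    · rintro v ⟨hvC, hv2⟩
      suffices hall : ∀ d i, i + d = n - 1 → 2 ≤ i → v ∈ lcsFil G i → v ∈ lcsFil G (n - 1) by
        exact hall (n - 3) 2 (by omega) le_rfl hv2
      intro d
      induction d with
      | zero => intro i hi _ hv; rwa [← hi]
      | succ d ih =>
        intro i hi h2 hv
        refine ih (i + 1) (by omega) (by omega) ?_
        by_contra hv'
        refine hx i h2 (by omega) (M.mem_layerCent_of_gen h2 (by omega) hv hv' ?_)
        rw [commutatorElement_eq_one_iff_mul_comm.2 (Subgroup.mem_centralizer_iff.1 hvC x rfl)]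
        exact one_mem _
    · have h := commutatorElement_mem_lcsFil (i := n - 1) (j := 1) (y := w) hv (by simp [lcsFil_one])
      rw [show n - 1 + 1 = n by omega, M.lcsFil_eq_bot le_rfl, Subgroup.mem_bot,
        commutatorElement_eq_one_iff_mul_comm] at h
      exact h.symm
  have hx2 : x ∉ lcsFil G 2 := fun h => hx 2 le_rfl (by omega) (lcsFil_two_le_layerCent 2 h)
  have hlow : p ^ 2 ≤ Nat.card C := by
    have hlt : lcsFil G (n - 1) < C := by
      refine lt_of_le_of_ne (hinf ▸ inf_le_left) fun h => hx2 ?_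
      have hxC : x ∈ C := Subgroup.mem_centralizer_iff.2 fun v hv => by rw [Set.mem_singleton_iff.1 hv]
      exact lcsFil_antitone (by omega) (h ▸ hxC : x ∈ lcsFil G (n - 1))
    have h := M.mul_card_le_of_lt hlt
    rwa [M.card_lcsFil (by omega) (by omega), show n - (n - 1) = 1 by omega, pow_one, ← sq] at h
  have hup : Nat.card C ≤ p ^ 2 := by
    have hne : C ⊔ lcsFil G 2 ≠ ⊤ := fun h => by
      have htop : C = ⊤ := frattini_nongenerating
        (eq_top_iff.2 (h ▸ sup_le_sup_left ((lcsFil_two (G := G)).le.trans (commutator_le_frattini hG)) C))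
      rw [htop, top_inf_eq] at hinf
      exact (M.lt_step (i := 2) (by omega) (by omega)).ne
        (le_antisymm (lcsFil_antitone (by omega)) (hinf ▸ lcsFil_antitone (by omega)))
    set q := QuotientGroup.mk' (lcsFil G 2)
    have h := card_eq_card_map_mul (lcsFil G 2) C
    rw [hinf, M.card_lcsFil (by omega) (by omega), show n - (n - 1) = 1 by omega, pow_one] at h
    have hmap : p * Nat.card (C.map q) ≤ p ^ 2 := by
      have hlt : C.map q < ⊤ := lt_top_iff_ne_top.2 fun h => hne (by
        rw [← Subgroup.comap_top q, ← h, Subgroup.comap_map_eq, QuotientGroup.ker_mk'])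
      obtain ⟨b, hb⟩ := IsPGroup.iff_card.1 ((hG.to_quotient (lcsFil G 2)).to_subgroup (C.map q))
      have hcl : Nat.card (C.map q) < Nat.card (G ⧸ lcsFil G 2) := by
        rw [← Subgroup.card_top (G := G ⧸ lcsFil G 2)]
        by_contra hle
        exact hlt.ne (Subgroup.eq_of_le_of_card_ge hlt.le (not_lt.1 hle))
      have hq : Nat.card (G ⧸ lcsFil G 2) = p ^ 2 := by
        have h := Subgroup.card_eq_card_quotient_mul_card_subgroup (lcsFil G 2)
        rw [M.card, M.card_lcsFil le_rfl (by omega), show n = 2 + (n - 2) by omega, pow_add,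
          Nat.add_sub_cancel_left] at h
        exact (Nat.eq_of_mul_eq_mul_right (pow_pos hp.out.pos _) h).symm
      rw [hq, hb, Nat.pow_lt_pow_iff_right hp.out.one_lt] at hcl
      rw [hb, ← pow_succ']
      exact Nat.pow_le_pow_right hp.out.pos hcl
    calc Nat.card C = Nat.card (C.map q) * p := h
      _ = p * Nat.card (C.map q) := mul_comm _ _
      _ ≤ _ := hmap
  exact ⟨M.card, by omega, M.cls, le_antisymm hup hlow⟩

/-- Three proper subgroups do not cover a `p`-group, `p` odd. -/
theorem exists_outside_three (hp2 : p ≠ 2) (A B C : Subgroup G) (hA : A ≠ ⊤) (hB : B ≠ ⊤) (hC : C ≠ ⊤) :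
    ∃ x, x ∉ A ∧ x ∉ B ∧ x ∉ C := by
  by_contra hall
  push Not at hall
  have hsub : (Set.univ : Set G) ⊆ ((A : Set G) ∪ B) ∪ C := fun x _ => by
    by_cases hxA : x ∈ A
    · exact Or.inl (Or.inl hxA)
    by_cases hxB : x ∈ B
    · exact Or.inl (Or.inr hxB)
    exact Or.inr (hall x hxA hxB)
  have hbd : ∀ K : Subgroup G, K ≠ ⊤ → 3 * (K : Set G).ncard ≤ Nat.card G := by
    intro K hK
    have h := M.mul_card_le_of_lt (lt_top_iff_ne_top.2 hK)
    rw [Subgroup.card_top] at h
    rw [← Nat.card_coe_set_eq]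
    exact le_trans (Nat.mul_le_mul_right _ (by have := hp.out.two_le; omega)) h
  have h1 := Set.ncard_le_ncard hsub
  rw [Set.ncard_univ] at h1
  have h2 := Set.ncard_union_le ((A : Set G) ∪ B) C
  have h3 := Set.ncard_union_add_ncard_inter (A : Set G) B
  have h4 : 0 < ((A : Set G) ∩ B).ncard := (Set.ncard_pos).2 ⟨1, one_mem A, one_mem B⟩
  have := hbd A hA
  have := hbd B hB
  have := hbd C hC
  omega

omit M in
theorem commutator_le_commutator_top {T : Subgroup G} [T.Normal] {x : G} (h : T ⊔ zpowers x = ⊤) :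
    commutator G ≤ ⁅T, (⊤ : Subgroup G)⁆ := by
  set N := ⁅T, (⊤ : Subgroup G)⁆
  set q := QuotientGroup.mk' N
  rw [commutator_eq_closure, Subgroup.closure_le]
  rintro _ ⟨a, b, rfl⟩
  have hc : ∀ t ∈ T, ∀ g, Commute (q t) (q g) := fun t ht g => by
    rw [← commutatorElement_eq_one_iff_commute, ← map_commutatorElement]
    exact (QuotientGroup.eq_one_iff _).2 (commutator_mem_commutator ht (mem_top g))
  have hdec : ∀ g : G, ∃ t ∈ T, ∃ k : ℤ, g = t * x ^ k := fun g => by
    obtain ⟨t, ht, v, hv, rfl⟩ := Subgroup.mem_sup_of_normal_left.1 (h ▸ mem_top g)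
    obtain ⟨k, rfl⟩ := Subgroup.mem_zpowers_iff.1 hv
    exact ⟨t, ht, k, rfl⟩
  obtain ⟨t, ht, k, rfl⟩ := hdec a
  obtain ⟨t', ht', k', rfl⟩ := hdec b
  refine (QuotientGroup.eq_one_iff _).1 ?_
  show q ⁅t * x ^ k, t' * x ^ k'⁆ = 1
  rw [map_commutatorElement, commutatorElement_eq_one_iff_commute, map_mul, map_mul]
  refine Commute.mul_left ?_ (Commute.mul_right ?_ ?_)
  · simpa using hc t ht (t' * x ^ k')
  · simpa using (hc t' ht' (x ^ k)).symm
  · rw [map_zpow, map_zpow]
    exact (Commute.refl (q x)).zpow_zpow k k'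


/-- For `i + j = n - 3` or more, products of two steps. -/
theorem commutator_layers_le (hL : ∀ j, 2 ≤ j → j + 4 ≤ n → layerCent G 2 ≤ layerCent G j) {x : G}
    (hx : x ∉ layerCent G 2) :
    ∀ i, 2 ≤ i → ∀ j, 2 ≤ j → i + j + 3 ≤ n → ⁅lcsFil G i, lcsFil G j⁆ ≤ lcsFil G (i + j + 1) := by
  have h4 := M.four_le
  have hT : ∀ j, 2 ≤ j → j + 4 ≤ n → ⁅layerCent G 2, lcsFil G j⁆ ≤ lcsFil G (j + 2) := fun j hj hjn =>
    Subgroup.commutator_le.2 fun g hg w hw => mem_layerCent.1 (hL j hj hjn hg) w hw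
  intro i hi
  induction i, hi using Nat.le_induction with
  | base =>
    intro j hj hjn
    have htop : layerCent G 2 ⊔ zpowers x = ⊤ := by
      have hlt : layerCent G 2 < layerCent G 2 ⊔ zpowers x := lt_of_le_of_ne le_sup_left fun h =>
        hx (h ▸ Subgroup.mem_sup_right (mem_zpowers x))
      have h := M.mul_card_le_of_lt hlt
      rw [M.layerCent_card le_rfl h4, ← pow_succ', show n - 1 + 1 = n by omega, ← M.card] at h
      exact Subgroup.eq_top_of_card_eq _ (le_antisymm (Subgroup.card_le_card_group _) h)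
    refine (Subgroup.commutator_mono ((lcsFil_two (G := G)).le.trans (commutator_le_commutator_top htop))
      le_rfl).trans (commutator_commutator_le_of_rotate _ ?_ ?_)
    · rw [Subgroup.commutator_comm ⊤ (lcsFil G j), ← lcsFil_succ (by omega), Subgroup.commutator_comm]
      exact (hT (j + 1) (by omega) (by omega)).trans (lcsFil_antitone (by omega))
    · rw [Subgroup.commutator_comm (lcsFil G j) (layerCent G 2)]
      exact (Subgroup.commutator_mono (hT j hj (by omega)) le_rfl).trans
        ((lcsFil_succ (by omega)).ge.trans (lcsFil_antitone (by omega)))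
  | succ i hi ih =>
    intro j hj hjn
    rw [lcsFil_succ (by omega)]
    refine commutator_commutator_le_of_rotate _ ?_ ?_
    · rw [Subgroup.commutator_comm ⊤ (lcsFil G j), ← lcsFil_succ (by omega), Subgroup.commutator_comm]
      exact (ih (j + 1) (by omega) (by omega)).trans (lcsFil_antitone (by omega))
    · rw [Subgroup.commutator_comm (lcsFil G j) (lcsFil G i)]
      exact (Subgroup.commutator_mono (ih j hj (by omega)) le_rfl).trans
        ((lcsFil_succ (by omega)).ge.trans (lcsFil_antitone (by omega)))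

/-- The case `n ≥ p + 4`: the layer `n - 3` consists of `p`-th powers. -/
theorem layerCent_le_of_large (hp2 : p ≠ 2) {x : G} (H : MaxClassPair G p n x) (hn : p + 4 ≤ n)
    (hL : ∀ j, 2 ≤ j → j + 4 ≤ n → layerCent G 2 ≤ layerCent G j) : layerCent G 2 ≤ layerCent G (n - 3) := by
  have h3p : 3 ≤ p := by have := hp.out.two_le; omega
  intro g hg
  set i := n - p - 2
  have hi : 2 ≤ i := by omega
  obtain ⟨c, hc, hc'⟩ := SetLike.exists_of_lt (M.lt_step (i := i) (by omega) (by omega))
  obtain ⟨hcp, hcp'⟩ := H.pow_layer i hi c hc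
  have e1 : i + p - 1 = n - 3 := by omega
  rw [e1] at hcp hcp'
  have hcp'' : c ^ p ∉ lcsFil G (n - 3 + 1) := by
    rw [show n - 3 + 1 = i + p by omega]
    exact hcp' hc' (by omega)
  refine M.mem_layerCent_of_gen (by omega) (by omega) hcp hcp'' ?_
  rw [show n - 3 + 2 = i + p + 1 by omega]
  set u := ⁅g, c⁆
  have hu : u ∈ lcsFil G (i + 2) := mem_layerCent.1 (hL i hi (by omega) hg) c hc
  set K := lcsFil G i
  obtain ⟨w, hw, hwe⟩ := hall_petrescu (⟨u, lcsFil_antitone (by omega) hu⟩ : K) ⟨c, hc⟩ p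
    ((lcsFil G (i + p + 1)).subgroupOf K) (fun j hj2 hjp v hv => by
      have hv' : (v : G) ∈ lcsFil G (i * j) := MaxClassPair.map_lcsFil_le (by omega) j (by omega) ⟨v, hv, rfl⟩
      rw [Subgroup.mem_subgroupOf]
      rcases eq_or_lt_of_le hjp with rfl | hlt
      · refine lcsFil_antitone ?_ (by simpa using hv')
        nlinarith
      · obtain ⟨t, ht⟩ := hp.out.dvd_choose_self (k := j) (by omega) hlt
        rw [SubmonoidClass.coe_pow, ht, mul_comm, pow_mul]
        refine lcsFil_antitone ?_ (H.pow_layer (i * j) (by nlinarith) _ (pow_mem hv' t)).1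
        have : i + 2 ≤ i * j := by nlinarith
        omega)
  have hconj : ⁅g, c ^ p⁆ = (u * c) ^ p * (c ^ p)⁻¹ := by
    simp only [u, commutatorElement_def]
    rw [show g * c * g⁻¹ * c⁻¹ * c = g * c * g⁻¹ by group, conj_pow]
  have h := congrArg Subtype.val hwe
  simp only [Subgroup.coe_mul, SubmonoidClass.coe_pow] at h
  rw [hconj, h, show u ^ p * c ^ p * (w : G) * (c ^ p)⁻¹ = u ^ p * (c ^ p * (w : G) * (c ^ p)⁻¹) by group]
  refine mul_mem ?_ ((lcsFil_normal _).conj_mem _ (Subgroup.mem_subgroupOf.1 hw) _)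
  have h5 := (H.pow_layer (i + 2) (by omega) u hu).1
  rwa [show i + 2 + p - 1 = i + p + 1 by omega] at h5

omit [Finite G] M in
theorem commutator_expand {Q : Type*} [Group Q] (a a' b b' : Q) (hab : ∀ v : Q, Commute ⁅a', b⁆ v)
    (hab' : ∀ v : Q, Commute ⁅a, b'⁆ v) (h : ⁅a', b'⁆ = 1) :
    ⁅a * a', b * b'⁆ = ⁅a, b⁆ * (⁅a', b⁆ * ⁅a, b'⁆) := by
  have e : ⁅a * a', b * b'⁆ = a * (⁅a', b⁆ * (b * ⁅a', b'⁆ * b⁻¹)) * a⁻¹ * (⁅a, b⁆ * (b * ⁅a, b'⁆ * b⁻¹)) := by
    simp only [commutatorElement_def]; group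
  rw [e, h, mul_one, mul_inv_cancel, mul_one, ← (hab a).eq, mul_inv_cancel_right, ← (hab' b).eq,
    mul_inv_cancel_right, ← mul_assoc, (hab _).eq, mul_assoc]

/-- The case `n ≤ p + 3`: parity and the Jacobi identity. -/
theorem layerCent_le_of_small (hp2 : p ≠ 2) {x : G} (H : MaxClassPair G p n x) (hx : x ∉ layerCent G 2)
    (h6 : 6 ≤ n) (hn : n ≤ p + 3) (hL : ∀ j, 2 ≤ j → j + 4 ≤ n → layerCent G 2 ≤ layerCent G j) :
    layerCent G 2 ≤ layerCent G (n - 3) := by
  obtain ⟨g, hg, hg2⟩ := SetLike.exists_of_lt (lt_of_le_of_ne (lcsFil_two_le_layerCent (G := G) 2) fun h => by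
    have h1 := M.layerCent_card (i := 2) le_rfl (by omega)
    rw [← h, M.card_lcsFil le_rfl (by omega)] at h1
    have := Nat.pow_right_injective hp.out.two_le h1
    omega)
  have hgen : lcsFil G 2 ⊔ zpowers g = layerCent G 2 := by
    refine Subgroup.eq_of_le_of_card_ge (sup_le (lcsFil_two_le_layerCent 2) (zpowers_le.2 hg)) ?_
    have hlt : lcsFil G 2 < lcsFil G 2 ⊔ zpowers g := lt_of_le_of_ne le_sup_left fun h =>
      hg2 (h ▸ Subgroup.mem_sup_right (mem_zpowers g))
    have h := M.mul_card_le_of_lt hlt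
    rwa [M.card_lcsFil le_rfl (by omega), ← pow_succ', show n - 2 + 1 = n - 1 by omega,
      ← M.layerCent_card (i := 2) le_rfl (by omega)] at h
  have hg1 : g ∉ lcsFil G 2 ⊔ zpowers x := fun h => by
    have hle : layerCent G 2 ≤ lcsFil G 2 ⊔ zpowers x := hgen ▸ sup_le le_sup_left (zpowers_le.2 h)
    have hne : lcsFil G 2 ⊔ zpowers x ≠ ⊤ := fun htop => by
      have hG := IsPGroup.of_card M.card
      haveI := hG.isNilpotent
      have h1 : zpowers x = ⊤ := frattini_nongenerating (eq_top_iff.2 (htop ▸ sup_le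
        (((lcsFil_two (G := G)).le.trans (commutator_le_frattini hG)).trans le_sup_right) le_sup_left))
      haveI : IsCyclic G := ⟨⟨x, fun a => (h1 ▸ mem_top a : a ∈ zpowers x)⟩⟩
      letI : CommGroup G := IsCyclic.commGroup
      refine absurd (le_bot_iff.1 ?_) (M.lt_step (i := 2) (by omega) (by omega)).ne_bot
      rw [lcsFil_two, commutator_eq_closure, Subgroup.closure_le]
      rintro _ ⟨a, b, rfl⟩
      exact commutatorElement_eq_one_iff_mul_comm.2 (mul_comm a b)
    have hxT : x ∈ layerCent G 2 := by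
      have h1 := M.mul_card_le_of_lt (lt_top_iff_ne_top.2 hne)
      rw [Subgroup.card_top, M.card, show n = n - 1 + 1 by omega, pow_succ'] at h1
      rw [Subgroup.eq_of_le_of_card_ge hle (by
        rw [M.layerCent_card (i := 2) le_rfl (by omega)]
        exact Nat.le_of_mul_le_mul_left h1 hp.out.pos)]
      exact Subgroup.mem_sup_right (mem_zpowers x)
    exact hx hxT
  set s : ℕ → G := fun i => engelSeq x g (i - 1)
  have hs : ∀ i, 1 ≤ i → i < n → s i ∈ lcsFil G i ∧ s i ∉ lcsFil G (i + 1) := fun i hi hin => by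
    have h := H.engel_iterate (i := 1) le_rfl (g := g) (by simp [lcsFil_one]) hg2 (fun _ => hg1) (i - 1) (by omega)
    rwa [show 1 + (i - 1) = i by omega] at h
  have hsm : ∀ i, 1 ≤ i → s i ∈ lcsFil G i := fun i hi => by
    have h := MaxClassPair.engel_mem (x := x) (g := g) (i := 1) (by simp [lcsFil_one]) (i - 1)
    rwa [show 1 + (i - 1) = i by omega] at h
  have hstep : ∀ i, 1 ≤ i → x⁻¹ * s i * x = s i * s (i + 1) := fun i hi => by
    obtain ⟨k, rfl⟩ : ∃ k, i = k + 1 := ⟨i - 1, by omega⟩
    simp only [s, show k + 1 + 1 - 1 = k + 1 by omega, show k + 1 - 1 = k by omega, engelSeq]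
    group
  have hs1 : s 1 = g := rfl
  have hshift : ∀ i j, 1 ≤ i → 2 ≤ j → i + j + 3 ≤ n → ⁅s i, s j⁆ ∈ lcsFil G (i + j + 1) := by
    intro i j hi hj hij
    rcases eq_or_lt_of_le hi with rfl | hi2
    · rw [hs1, show 1 + j + 1 = j + 2 by omega]
      exact mem_layerCent.1 (hL j hj (by omega) hg) _ (hsm j (by omega))
    · exact M.commutator_layers_le hL hx i (by omega) j hj hij
        (commutator_mem_commutator (hsm i hi) (hsm j (by omega)))
  have hZ : ∀ v ∈ lcsFil G (n - 1), ∀ w : G, Commute v w := fun v hv w => by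
    have h := commutatorElement_mem_lcsFil (j := 1) (y := w) hv (by simp [lcsFil_one])
    rw [show n - 1 + 1 = n by omega, M.lcsFil_eq_bot le_rfl, Subgroup.mem_bot,
      commutatorElement_eq_one_iff_commute] at h
    exact h
  set q := QuotientGroup.mk' (lcsFil G (n - 1))
  have hq1 : ∀ {v : G}, v ∈ lcsFil G (n - 1) → q v = 1 := fun hv => (QuotientGroup.eq_one_iff _).2 hv
  have hcen : ∀ v ∈ lcsFil G (n - 2), ∀ w, Commute (q v) w := fun v hv w => by
    obtain ⟨w, rfl⟩ := QuotientGroup.mk'_surjective (lcsFil G (n - 1)) w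
    rw [← commutatorElement_eq_one_iff_commute, ← map_commutatorElement]
    refine hq1 ?_
    have h := commutatorElement_mem_lcsFil (j := 1) (y := w) hv (by simp [lcsFil_one])
    rwa [show n - 2 + 1 = n - 1 by omega] at h
  -- consecutive commutators of weight `n - 2` are inverse modulo the last term
  have hC : ∀ i j, 1 ≤ i → 2 ≤ j → i + j + 3 = n → q ⁅s (i + 1), s j⁆ * q ⁅s i, s (j + 1)⁆ = 1 := by
    intro i j hi hj hij
    have hP : ⁅s i, s j⁆ ∈ lcsFil G (n - 2) := by
      have h := hshift i j hi hj (by omega)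
      rwa [show i + j + 1 = n - 2 by omega] at h
    have h1 : ⁅s (i + 1), s j⁆ ∈ lcsFil G (n - 2) := by
      have h := commutatorElement_mem_lcsFil (hsm (i + 1) (by omega)) (hsm j (by omega))
      rwa [show i + 1 + j = n - 2 by omega] at h
    have h2 : ⁅s i, s (j + 1)⁆ ∈ lcsFil G (n - 2) := by
      have h := commutatorElement_mem_lcsFil (hsm i hi) (hsm (j + 1) (by omega))
      rwa [show i + (j + 1) = n - 2 by omega] at h
    have h3 : ⁅s (i + 1), s (j + 1)⁆ ∈ lcsFil G (n - 1) := by
      have h := commutatorElement_mem_lcsFil (hsm (i + 1) (by omega)) (hsm (j + 1) (by omega))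
      rwa [show i + 1 + (j + 1) = n - 1 by omega] at h
    have he : q (x⁻¹ * ⁅s i, s j⁆ * x) = q ⁅s i, s j⁆ := by
      rw [map_mul, map_mul, map_inv, mul_assoc, (hcen _ hP (q x)).eq, inv_mul_cancel_left]
    have hconj : x⁻¹ * ⁅s i, s j⁆ * x = ⁅x⁻¹ * s i * x, x⁻¹ * s j * x⁆ := by
      simp only [commutatorElement_def]; group
    rw [hconj, hstep i hi, hstep j (by omega), map_commutatorElement, map_mul, map_mul,
      commutator_expand (q (s i)) (q (s (i + 1))) (q (s j)) (q (s (j + 1)))
        (fun v => by rw [← map_commutatorElement]; exact hcen _ h1 v)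
        (fun v => by rw [← map_commutatorElement]; exact hcen _ h2 v)
        (by rw [← map_commutatorElement]; exact hq1 h3),
      map_commutatorElement, mul_eq_left] at he
    rw [map_commutatorElement, map_commutatorElement]
    exact he
  have hcen2 : ∀ i, 1 ≤ i → i + 2 < n → q ⁅s i, s (n - 2 - i)⁆ = 1 → ∀ k, k + 1 ≤ i → 2 * i ≤ n - 2 →
      q ⁅s (i - k), s (n - 2 - (i - k))⁆ = 1 := by
    intro i hi hin h0 k
    induction k with
    | zero => intro _ _; simpa using h0
    | succ k ih =>
      intro hk h2i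
      have h := hC (i - (k + 1)) (n - 2 - (i - k)) (by omega) (by omega) (by omega)
      rw [show i - (k + 1) + 1 = i - k by omega, show n - 2 - (i - k) + 1 = n - 2 - (i - (k + 1)) by omega,
        ih (by omega) h2i, one_mul] at h
      exact h
  -- it suffices that the commutator at the ends vanishes modulo the last term
  suffices hend : q ⁅s 1, s (n - 3)⁆ = 1 by
    obtain ⟨hm, hm'⟩ := hs (n - 3) (by omega) (by omega)
    have hgl : g ∈ layerCent G (n - 3) := M.mem_layerCent_of_gen (by omega) (by omega) hm hm' (by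
      rw [show n - 3 + 2 = n - 1 by omega]
      exact (QuotientGroup.eq_one_iff _).1 hend)
    exact hgen ▸ sup_le (lcsFil_two_le_layerCent _) (zpowers_le.2 hgl)
  rcases Nat.even_or_odd n with ⟨r, hr⟩ | ⟨r, hr⟩
  · have h := hcen2 (r - 1) (by omega) (by omega) (by
      rw [show n - 2 - (r - 1) = r - 1 by omega, commutatorElement_self, map_one]) (r - 2) (by omega) (by omega)
    rwa [show r - 1 - (r - 2) = 1 by omega, show n - 2 - 1 = n - 3 by omega] at h
  by_contra hbad
  subst hr
  -- differentials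
  set ψ : G → G := fun v => v⁻¹ * (x⁻¹ * v * x)
  have hψmem : ∀ v ∈ lcsFil G (2 * r + 1 - 2), ψ v ∈ lcsFil G (2 * r + 1 - 1) := fun v hv => by
    have h := MaxClassPair.engel_mem (x := x) hv 1
    rwa [show 2 * r + 1 - 2 + 1 = 2 * r + 1 - 1 by omega] at h
  have hψmul : ∀ v w : G, v ∈ lcsFil G (2 * r + 1 - 2) → ψ (v * w) = ψ v * ψ w := fun v w hv => by
    have h := (hZ _ (hψmem v hv) w).eq
    simp only [ψ] at h ⊢
    calc (v * w)⁻¹ * (x⁻¹ * (v * w) * x)
        = w⁻¹ * (v⁻¹ * (x⁻¹ * v * x) * w) * (w⁻¹ * (x⁻¹ * w * x)) := by group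
      _ = _ := by rw [h, inv_mul_cancel_left]
  have hψinv : ∀ v : G, v ∈ lcsFil G (2 * r + 1 - 2) → ψ v⁻¹ = (ψ v)⁻¹ := fun v hv => by
    rw [eq_inv_iff_mul_eq_one, ← hψmul v⁻¹ v (inv_mem hv)]
    simp [ψ]
  have hψ0 : ∀ v ∈ lcsFil G (2 * r + 1 - 1), ψ v = 1 := fun v hv => by
    simp only [ψ]
    rw [mul_assoc, (hZ v hv x).eq, inv_mul_cancel_left, inv_mul_cancel]
  have hψcongr : ∀ v w : G, v ∈ lcsFil G (2 * r + 1 - 2) → w ∈ lcsFil G (2 * r + 1 - 2) → q v = q w →
      ψ v = ψ w := fun v w hv hw h => by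
    have hd : v⁻¹ * w ∈ lcsFil G (2 * r + 1 - 1) := (QuotientGroup.eq_one_iff _).1 (by
      show q (v⁻¹ * w) = 1
      rw [map_mul, map_inv, h, inv_mul_cancel])
    rw [← mul_inv_cancel_left v w, hψmul v _ hv, hψ0 _ hd, mul_one]
  set c : ℕ → G := fun i => ⁅s i, s (2 * r - 1 - i)⁆
  set z : ℕ → G := fun i => ⁅s i, s (2 * r - i)⁆
  have hcmem : ∀ i, 1 ≤ i → i + 1 ≤ r → c i ∈ lcsFil G (2 * r + 1 - 2) := fun i hi hir => by
    have h := commutatorElement_mem_lcsFil (hsm i hi) (hsm (2 * r - 1 - i) (by omega))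
    rwa [show i + (2 * r - 1 - i) = 2 * r + 1 - 2 by omega] at h
  have hcinv : ∀ i, 1 ≤ i → i + 2 ≤ r → ψ (c (i + 1)) = (ψ (c i))⁻¹ := fun i hi hir => by
    have h := hC i (2 * r - 2 - i) hi (by omega) (by omega)
    rw [show 2 * r - 2 - i + 1 = 2 * r - 1 - i by omega, show 2 * r - 2 - i = 2 * r - 1 - (i + 1) by omega] at h
    rw [← hψinv _ (hcmem i hi (by omega))]
    refine hψcongr _ _ (hcmem (i + 1) (by omega) (by omega)) (inv_mem (hcmem i hi (by omega))) ?_
    rw [map_inv, eq_inv_iff_mul_eq_one]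
    exact h
  have hD : ∀ i, 1 ≤ i → i + 1 ≤ r → ψ (c i) = z (i + 1) * z i := fun i hi hir => by
    have h1 : z (i + 1) ∈ lcsFil G (2 * r + 1 - 1) := by
      have h := commutatorElement_mem_lcsFil (hsm (i + 1) (by omega)) (hsm (2 * r - (i + 1)) (by omega))
      rwa [show i + 1 + (2 * r - (i + 1)) = 2 * r + 1 - 1 by omega] at h
    have h2 : z i ∈ lcsFil G (2 * r + 1 - 1) := by
      have h := commutatorElement_mem_lcsFil (hsm i hi) (hsm (2 * r - i) (by omega))
      rwa [show i + (2 * r - i) = 2 * r + 1 - 1 by omega] at h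
    have h3 : ⁅s (i + 1), s (2 * r - 1 - i + 1)⁆ = 1 := by
      have h := commutatorElement_mem_lcsFil (hsm (i + 1) (by omega)) (hsm (2 * r - 1 - i + 1) (by omega))
      rw [M.lcsFil_eq_bot (by omega)] at h
      exact Subgroup.mem_bot.1 h
    have hconj : x⁻¹ * c i * x = ⁅x⁻¹ * s i * x, x⁻¹ * s (2 * r - 1 - i) * x⁆ := by
      simp only [c, commutatorElement_def]; group
    show (c i)⁻¹ * (x⁻¹ * c i * x) = _
    rw [hconj, hstep i hi, hstep _ (by omega), commutator_expand (s i) (s (i + 1)) (s (2 * r - 1 - i))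
      (s (2 * r - 1 - i + 1))
      (fun v => by rw [show 2 * r - 1 - i = 2 * r - (i + 1) by omega]; exact hZ _ h1 v)
      (fun v => by rw [show 2 * r - 1 - i + 1 = 2 * r - i by omega]; exact hZ _ h2 v) h3]
    simp only [c, z]
    rw [inv_mul_cancel_left, show 2 * r - (i + 1) = 2 * r - 1 - i by omega,
      show 2 * r - 1 - i + 1 = 2 * r - i by omega]
  have hz : ∀ k, k + 1 ≤ r → z (r - k) = ψ (c (r - k)) ^ k := by
    intro k
    induction k with
    | zero =>
      intro _
      simp only [Nat.sub_zero, pow_zero, z, show 2 * r - r = r by omega, commutatorElement_self]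
    | succ k ih =>
      intro hk
      have h := hD (r - (k + 1)) (by omega) (by omega)
      rw [show r - (k + 1) + 1 = r - k by omega, ih (by omega)] at h
      rcases Nat.eq_zero_or_pos k with rfl | hk0
      · rw [pow_zero, one_mul] at h
        rw [h, Nat.zero_add, pow_one]
      have hinv := hcinv (r - (k + 1)) (by omega) (by omega)
      rw [show r - (k + 1) + 1 = r - k by omega] at hinv
      rw [hinv, inv_pow] at h
      calc z (r - (k + 1)) = ψ (c (r - (k + 1))) ^ k * ((ψ (c (r - (k + 1))) ^ k)⁻¹ * z (r - (k + 1))) := by group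
        _ = _ := by rw [← h, pow_succ]
  have hc1q : q (c 1) ≠ 1 := fun h => hbad (by
    simp only [c] at h
    rwa [show 2 * r - 1 - 1 = 2 * r + 1 - 3 by omega] at h)
  have hψ1 : ψ (c 1) ≠ 1 := fun h => by
    have h' := (H.engel_step (i := 2 * r + 1 - 2) (by omega) (by omega) (hcmem 1 le_rfl (by omega)) (fun hm =>
      hc1q (hq1 (by rwa [show 2 * r + 1 - 2 + 1 = 2 * r + 1 - 1 by omega] at hm))) (fun h => by omega)).2
    exact h' (h ▸ one_mem _ : ψ (c 1) ∈ _)
  -- the generator of the layer `n - 2` is a commutator centralized by `g`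
  have hcr : q (c (r - 1)) ≠ 1 := fun h => hbad (by
    have h' := hcen2 (r - 1) (by omega) (by omega) (by
      rw [show 2 * r + 1 - 2 - (r - 1) = 2 * r - 1 - (r - 1) by omega]; exact h) (r - 2) (by omega) (by omega)
    rwa [show r - 1 - (r - 2) = 1 by omega, show 2 * r + 1 - 2 - 1 = 2 * r + 1 - 3 by omega] at h')
  have hgc : ∀ v ∈ lcsFil G (2 * r + 1 - 2), ⁅g, v⁆ = 1 := by
    intro v hv
    obtain ⟨k, hk⟩ := M.exists_pow_layer (i := 2 * r + 1 - 2) (by omega) (by omega) (hcmem (r - 1) (by omega) (by omega))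
      (fun hm => hcr (hq1 (by rwa [show 2 * r + 1 - 2 + 1 = 2 * r + 1 - 1 by omega] at hm))) hv
    have h3 : ⁅⁅lcsFil G (r - 1), lcsFil G r⁆, layerCent G 2⁆ ≤ (⊥ : Subgroup G) := by
      have hT : ∀ j, 2 ≤ j → j + 4 ≤ 2 * r + 1 → ⁅layerCent G 2, lcsFil G j⁆ ≤ lcsFil G (j + 2) :=
        fun j hj hjn => Subgroup.commutator_le.2 fun a ha w hw => mem_layerCent.1 (hL j hj hjn ha) w hw
      refine commutator_commutator_le_of_rotate _ ?_ ?_
      · rw [Subgroup.commutator_comm (lcsFil G r) (layerCent G 2)]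
        refine ((Subgroup.commutator_mono (hT r (by omega) (by omega)) le_rfl).trans
          (commutator_lcsFil_le _ _)).trans ?_
        rw [M.lcsFil_eq_bot (by omega)]
      · refine ((Subgroup.commutator_mono (hT (r - 1) (by omega) (by omega)) le_rfl).trans
          (commutator_lcsFil_le _ _)).trans ?_
        rw [M.lcsFil_eq_bot (by omega)]
    have hc : Commute (c (r - 1)) g := by
      rw [← commutatorElement_eq_one_iff_commute, ← Subgroup.mem_bot]
      refine h3 (commutator_mem_commutator ?_ hg)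
      simp only [c]
      rw [show 2 * r - 1 - (r - 1) = r by omega]
      exact commutator_mem_commutator (hsm _ (by omega)) (hsm _ (by omega))
    rw [show 2 * r + 1 - 2 + 1 = 2 * r + 1 - 1 by omega] at hk
    have h := ((hc.pow_left k).mul_left (hZ _ hk g))
    rw [mul_inv_cancel_left] at h
    exact commutatorElement_eq_one_iff_commute.2 h.symm
  have hz1 : z 1 = 1 := by
    simp only [z, hs1]
    exact hgc _ (by
      rw [show 2 * r + 1 - 2 = 2 * r - 1 by omega]
      exact hsm _ (by omega))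
  have h := hz (r - 1) (by omega)
  rw [show r - (r - 1) = 1 by omega, hz1] at h
  have hord : orderOf (ψ (c 1)) = p := by
    refine orderOf_eq_prime ?_ hψ1
    have hcard := M.card_lcsFil (i := 2 * r + 1 - 1) (by omega) (by omega)
    rw [show 2 * r + 1 - (2 * r + 1 - 1) = 1 by omega, pow_one] at hcard
    have := pow_card_eq_one' (x := (⟨_, hψmem _ (hcmem 1 le_rfl (by omega))⟩ : lcsFil G (2 * r + 1 - 1)))
    rw [hcard] at this
    exact congrArg Subtype.val this
  have hdvd := orderOf_dvd_of_pow_eq_one h.symm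
  rw [hord] at hdvd
  have := Nat.le_of_dvd (by omega) hdvd
  omega

omit M in
/-- Blackburn: for `p` odd the two-step centralizer of the second layer centralizes the layers `i ≤ n - 3`. -/
theorem layerCent_two_le (hp2 : p ≠ 2) : ∀ (n : ℕ) {G : Type u} [Group G] [Finite G], MaxClassGrp G p n →
    ∀ i, 2 ≤ i → i + 3 ≤ n → layerCent G 2 ≤ layerCent G i := by
  intro n
  induction n with
  | zero => intro G _ _ M; exact absurd M.four_le (by omega)
  | succ n ih =>
    intro G _ _ M i hi hin
    rcases (show n ≤ 4 ∨ 5 ≤ n by omega) with h | h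
    · rw [show i = 2 by omega]
    haveI := lcsFil_normal (G := G) n
    set q := QuotientGroup.mk' (lcsFil G n)
    have hsurj := QuotientGroup.mk'_surjective (lcsFil G n)
    have M' : MaxClassGrp (G ⧸ lcsFil G n) p n := by
      refine ⟨?_, by omega, fun hbot => ?_⟩
      · have h1 := Subgroup.card_eq_card_quotient_mul_card_subgroup (lcsFil G n)
        rw [M.card, M.card_lcsFil (by omega) (by omega), show n + 1 - n = 1 by omega, pow_one, pow_succ] at h1
        exact (Nat.eq_of_mul_eq_mul_right hp.out.pos h1).symm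
      · refine (M.lt_step (i := n - 1) (by omega) (by omega)).not_ge ?_
        rw [show n - 1 + 1 = n by omega]
        have h1 : (lcsFil G (n - 1)).map q = ⊥ := by
          rw [map_lcsFil q hsurj]
          show (⊤ : Subgroup (G ⧸ lcsFil G n)).lowerCentralSeries (n - 1 - 1) = ⊥
          rw [show n - 1 - 1 = n - 2 by omega]
          exact hbot
        rw [Subgroup.map_eq_bot_iff, QuotientGroup.ker_mk'] at h1
        exact h1
    have hL : ∀ j, 2 ≤ j → j + 4 ≤ n + 1 → layerCent G 2 ≤ layerCent G j := by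
      intro j hj hjn g hg
      have hq : q g ∈ layerCent (G ⧸ lcsFil G n) 2 := mem_layerCent.2 fun w hw => by
        rw [← map_lcsFil q hsurj] at hw ⊢
        obtain ⟨w, hw, rfl⟩ := hw
        exact ⟨_, mem_layerCent.1 hg w hw, map_commutatorElement q g w⟩
      refine mem_layerCent.2 fun w hw => ?_
      have h1 := mem_layerCent.1 (ih M' j hj (by omega) hq) (q w) (map_lcsFil q hsurj ▸ Subgroup.mem_map_of_mem q hw)
      rw [← map_commutatorElement, ← map_lcsFil q hsurj, ← Subgroup.mem_comap, Subgroup.comap_map_eq,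
        QuotientGroup.ker_mk', sup_eq_left.2 (lcsFil_antitone (by omega))] at h1
      exact h1
    rcases (show i + 4 ≤ n + 1 ∨ i = n + 1 - 3 by omega) with h' | rfl
    · exact hL i hi h'
    have hne : ∀ j, 2 ≤ j → j + 2 ≤ n + 1 → layerCent G j ≠ ⊤ := fun j hj hjn he => by
      have h := M.layerCent_index hj hjn
      rw [he, Subgroup.index_top] at h
      exact hp.out.one_lt.ne h
    obtain ⟨x, hx2, hx3, hx1⟩ := M.exists_outside_three hp2 (layerCent G 2) (layerCent G (n + 1 - 3))
      (layerCent G (n + 1 - 2)) (hne 2 le_rfl (by omega)) (hne _ (by omega) (by omega)) (hne _ (by omega) (by omega))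
    have H : MaxClassPair G p (n + 1) x := M.pair_of_outside fun j hj hjn => by
      rcases (show j + 4 ≤ n + 1 ∨ j = n + 1 - 3 ∨ j = n + 1 - 2 by omega) with hj' | rfl | rfl
      · exact M.layerCent_eq_of_le le_rfl (by omega) hj hjn (hL j hj hj') ▸ hx2
      · exact hx3
      · exact hx1
    rcases (show p + 4 ≤ n + 1 ∨ n + 1 ≤ p + 3 by omega) with hb | hb
    · exact M.layerCent_le_of_large hp2 H hb hL
    · exact M.layerCent_le_of_small hp2 H hx2 (by omega) hb hL

/-- A group of maximal class, `p` odd, has an element with centralizer of order `p ^ 2`. -/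
theorem pair_of_notMem (hp2 : p ≠ 2) {x : G} (hx : x ∉ layerCent G 2) (hx' : x ∉ layerCent G (n - 2)) :
    MaxClassPair G p n x :=
  M.pair_of_outside fun i hi hin => by
    rcases (show i + 3 ≤ n ∨ i = n - 2 by omega) with h | rfl
    · exact M.layerCent_eq_of_le le_rfl (by omega) hi hin (layerCent_two_le hp2 n M i hi h) ▸ hx
    · exact hx'

theorem exists_pair (hp2 : p ≠ 2) : ∃ x : G, MaxClassPair G p n x := by
  have h4 := M.four_le
  have hne : ∀ j, 2 ≤ j → j + 2 ≤ n → layerCent G j ≠ ⊤ := fun j hj hjn he => by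
    have h := M.layerCent_index hj hjn
    rw [he, Subgroup.index_top] at h
    exact hp.out.one_lt.ne h
  obtain ⟨x, h1, h2, -⟩ := M.exists_outside_three hp2 (layerCent G 2) (layerCent G (n - 2)) (layerCent G 2)
    (hne _ le_rfl h4) (hne _ (by omega) (by omega)) (hne _ le_rfl h4)
  exact ⟨x, M.pair_of_notMem hp2 h1 h2⟩

end MaxClassGrp

end Cfsg.Agent.PGroups
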