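import Cfsg.Agent.PGroups.HallPetrescu
import Mathlib.Data.Nat.Choose.Dvd

/-!
Iterated differences of polynomial sequences in a filtered group: at a positive level the top difference is
multiplicative modulo the next term, and the sequence `n ↦ g⁻¹ x⁻ⁿ g xⁿ` gives the congruence
`⁅g, x⁆ ^ p * ⁅g, x, …, x⁆ ≡ 1` when `x ^ p` commutes with `g`.
-/

set_option autoImplicit false
set_option linter.style.haveILetI false

namespace Cfsg.Agent.PGroups

open Subgroup
open scoped commutatorElement

variable {G : Type*} [Group G]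

theorem PolyLevel.diff_mem : ∀ {m i : ℕ} {f : ℕ → G}, PolyLevel m i f → ∀ n, seqDiff^[m] f n ∈ lcsFil G (i + m)
  | 0, _, _, h, n => h n
  | m + 1, i, f, h, n => by
    rw [Function.iterate_succ_apply, show i + (m + 1) = i + 1 + m by omega]
    exact PolyLevel.diff_mem h.2 n

instance lcsFil_normal (i : ℕ) : (lcsFil G i).Normal := by
  unfold lcsFil; infer_instance

/-- The top difference is multiplicative modulo the next term. -/
theorem diff_mul_congr : ∀ (m i : ℕ) (f g : ℕ → G), 1 ≤ i → PolyLevel (m + 1) i f → PolyLevel (m + 1) i g →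
    ∀ n, QuotientGroup.mk' (lcsFil G (i + m + 1)) (seqDiff^[m] (fun k => f k * g k) n) =
      QuotientGroup.mk' (lcsFil G (i + m + 1)) (seqDiff^[m] f n) *
        QuotientGroup.mk' (lcsFil G (i + m + 1)) (seqDiff^[m] g n)
  | 0, _, _, _, _, _, _, _ => map_mul _ _ _
  | m + 1, i, f, g, hi, hf, hg, n => by
    simp only [Function.iterate_succ_apply]
    have e : seqDiff (fun k => f k * g k) =
        fun k => ⁅(g k)⁻¹, seqDiff f k⁆ * (seqDiff f k * seqDiff g k) := by
      funext k; simp only [seqDiff, commutatorElement_def]; group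
    have hb : PolyLevel (m + 1) (i + (i + 1)) (fun k => ⁅(g k)⁻¹, seqDiff f k⁆) :=
      (polyLevel_closed (m + 1)).2.2 hg.of_succ.inv hf.2
    rw [e, show i + (m + 1) + 1 = i + 1 + m + 1 by omega,
      diff_mul_congr m (i + 1) _ _ (by omega) (hb.mono (by omega)) (hf.2.mul hg.2) n,
      diff_mul_congr m (i + 1) _ _ (by omega) hf.2 hg.2 n]
    have h0 : QuotientGroup.mk' (lcsFil G (i + 1 + m + 1))
        (seqDiff^[m] (fun k => ⁅(g k)⁻¹, seqDiff f k⁆) n) = 1 :=
      (QuotientGroup.eq_one_iff _).2 (lcsFil_antitone (by omega) (hb.of_succ.diff_mem n))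
    rw [h0, one_mul]

theorem seqDiff_one : seqDiff (fun _ : ℕ => (1 : G)) = fun _ => 1 := by
  funext n; simp [seqDiff]

theorem diff_choose_eq_one (c : G) : ∀ {j m : ℕ}, j < m → seqDiff^[m] (fun n => c ^ n.choose j) = fun _ => 1
  | j, 0, h => absurd h (by omega)
  | 0, m + 1, _ => by
    rw [Function.iterate_succ_apply, show seqDiff (fun n => c ^ n.choose 0) = fun _ => 1 by
      funext n; simp [seqDiff]]
    clear * -
    induction m with
    | zero => rfl
    | succ m ih => rw [Function.iterate_succ_apply, seqDiff_one, ih]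
  | j + 1, m + 1, h => by
    rw [Function.iterate_succ_apply, show seqDiff (fun n => c ^ n.choose (j + 1)) = fun n => c ^ n.choose j by
      funext n
      rw [seqDiff, Nat.choose_succ_succ', add_comm (n.choose j), pow_add, inv_mul_cancel_left]]
    exact diff_choose_eq_one c (Nat.lt_of_succ_lt_succ h)

theorem diff_at_zero : ∀ {m : ℕ} {g : ℕ → G}, (∀ k < m, g k = 1) → seqDiff^[m] g 0 = g m
  | 0, _, _ => rfl
  | m + 1, g, h => by
    rw [Function.iterate_succ_apply, diff_at_zero fun k hk => by
      rw [seqDiff, h k (by omega), h (k + 1) (by omega), inv_one, one_mul]]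
    rw [seqDiff, h m (by omega), inv_one, one_mul]

/-- The sequence of commutators of `g` with `x` repeated. -/
def engelSeq (x g : G) : ℕ → G
  | 0 => g
  | j + 1 => (engelSeq x g j)⁻¹ * (x⁻¹ * engelSeq x g j * x)

theorem diff_conj (x : G) : ∀ (m : ℕ) (u : G), seqDiff^[m] (fun n => (x ^ n)⁻¹ * u * x ^ n) =
    fun n => (x ^ n)⁻¹ * engelSeq x u m * x ^ n
  | 0, _ => rfl
  | m + 1, u => by
    rw [Function.iterate_succ_apply', diff_conj x m u]
    funext n
    simp only [seqDiff, engelSeq, pow_succ']
    group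

theorem engelSeq_succ_shift (x g : G) : ∀ j, engelSeq x (engelSeq x g 1) j = engelSeq x g (j + 1)
  | 0 => rfl
  | j + 1 => by rw [engelSeq, engelSeq_succ_shift x g j]; rfl

variable {p : ℕ} [hp : Fact p.Prime]

/-- For `g` in the `i`-th term and `x ^ p` commuting with `g`, the `p`-th power of `⁅g, x⁆` is inverse to the
`p`-fold commutator modulo the term `i + p + 1`, if `p`-th powers from the term `i + 2` on lie there. -/
theorem engel_pow_congr {i : ℕ} (hi : 1 ≤ i) {x g : G} (hg : g ∈ lcsFil G i) (hxp : Commute (x ^ p) g)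
    (hpow : ∀ c ∈ lcsFil G (i + 2), c ^ p ∈ lcsFil G (i + p + 1)) :
    engelSeq x g 1 ^ p * engelSeq x g p ∈ lcsFil G (i + p + 1) := by
  set q := QuotientGroup.mk' (lcsFil G (i + p + 1))
  set f : ℕ → G := fun n => g⁻¹ * ((x ^ n)⁻¹ * g * x ^ n)
  have hconst : ∀ m, PolyLevel m i (fun _ : ℕ => g) := fun m => by
    simpa using polyLevel_choose m i 0 (c := g) (by simpa using hg)
  have hf : ∀ m, PolyLevel m i f := by
    intro m
    have hx := (polyLevel_pow m x).inv
    have hb := (polyLevel_closed m).2.2 hx (hconst m)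
    rw [Nat.zero_add] at hb
    have he : f = fun n => g⁻¹ * (⁅(x ^ n)⁻¹, g⁆ * g) := by
      funext n; simp only [f, commutatorElement_def]; group
    rw [he]
    exact (hconst m).inv.mul (hb.mul (hconst m))
  set e := engelSeq x g 1
  have hD1 : seqDiff f = fun n => (x ^ n)⁻¹ * e * x ^ n := by
    funext n
    simp only [seqDiff, f, e, engelSeq, pow_succ']
    group
  have h2p := hp.out.two_le
  have hD : seqDiff^[p] f 0 = engelSeq x g p := by
    obtain ⟨p', hp'⟩ : ∃ p', p = p' + 1 := ⟨p - 1, by omega⟩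
    rw [hp', Function.iterate_succ_apply, hD1, diff_conj]
    simp [e, engelSeq_succ_shift]
  have hfp : f p = 1 := by
    simp only [f]
    rw [mul_assoc _ g, hxp.symm.eq, inv_mul_cancel_left, inv_mul_cancel]
  have he1 : e ∈ lcsFil G (i + 1) := by
    have h := (hf 1).diff_mem 0
    rw [Function.iterate_one, hD1] at h
    simpa using h
  have key : ∀ j, 2 ≤ j → j ≤ p → ∃ h : ℕ → G, (∀ m, PolyLevel m i h) ∧ (∀ k < j, h k = 1) ∧
      q (seqDiff^[p] h 0) = q (seqDiff^[p] f 0) ∧ q (f p) = q (e ^ p) * q (h p) := by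
    intro j hj
    induction j, hj using Nat.le_induction with
    | base =>
      intro _
      refine ⟨fun k => (e ^ k.choose 1)⁻¹ * f k,
        fun m => (polyLevel_choose m i 1 he1).inv.mul (hf m), fun k hk => ?_, ?_, ?_⟩
      · show (e ^ k.choose 1)⁻¹ * f k = 1
        rcases (show k = 0 ∨ k = 1 by omega) with rfl | rfl
        · simp [f]
        · have h1 : f 1 = e := by simp [f, e, engelSeq]
          simp [h1]
      · rw [diff_mul_congr p i _ f hi (polyLevel_choose _ i 1 he1).inv (hf _) 0,
          show (fun k : ℕ => (e ^ k.choose 1)⁻¹) = fun k => e⁻¹ ^ k.choose 1 by funext k; simp,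
          diff_choose_eq_one e⁻¹ (by omega : 1 < p), map_one, one_mul]
      · rw [← map_mul]; simp
    | succ j hj ih =>
      intro hjp
      obtain ⟨h, hh, hv, hd, he⟩ := ih (by omega)
      have hc : h j ∈ lcsFil G (i + j) := (hh j).mem_of_vanish hv
      refine ⟨fun k => (h j ^ k.choose j)⁻¹ * h k,
        fun m => (polyLevel_choose m i j hc).inv.mul (hh m), fun k hk => ?_, ?_, ?_⟩
      · show (h j ^ k.choose j)⁻¹ * h k = 1
        rcases (show k < j ∨ k = j by omega) with hk' | rfl
        · rw [Nat.choose_eq_zero_of_lt hk', hv k hk']; simp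
        · simp
      · rw [diff_mul_congr p i _ h hi (polyLevel_choose _ i j hc).inv (hh _) 0,
          show (fun k : ℕ => (h j ^ k.choose j)⁻¹) = fun k => (h j)⁻¹ ^ k.choose j by funext k; simp,
          diff_choose_eq_one (h j)⁻¹ (by omega : j < p), map_one, one_mul, hd]
      · obtain ⟨t, ht⟩ := hp.out.dvd_choose_self (k := j) (by omega) (by omega)
        have h1 : q (h j ^ p.choose j) = 1 := by
          refine (QuotientGroup.eq_one_iff _).2 ?_
          rw [ht, mul_comm, pow_mul]
          exact hpow _ (pow_mem (lcsFil_antitone (by omega) hc) t)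
        show q (f p) = q (e ^ p) * q ((h j ^ p.choose j)⁻¹ * h p)
        rw [map_mul q (h j ^ p.choose j)⁻¹, map_inv, h1, inv_one, one_mul, he]
  obtain ⟨h, -, hv, hd, he⟩ := key p h2p le_rfl
  rw [diff_at_zero hv, hD] at hd
  refine (QuotientGroup.eq_one_iff _).1 ?_
  show q (e ^ p * engelSeq x g p) = 1
  rw [map_mul, ← hd, ← he, hfp, map_one]

end Cfsg.Agent.PGroups
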