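import Cfsg.Agent.PGroups.RankTwoThree

/-!
For odd `p`, a `p`-group of rank at most two is metacyclic, or a `3`-group of maximal class, or its elements
of order dividing `p` form a non-abelian group of order `p ^ 3`.
-/

set_option autoImplicit false
set_option linter.style.haveILetI false

namespace Cfsg.Agent.PGroups

open Subgroup
open scoped commutatorElement

universe u

theorem rank_two_trichotomy {G : Type u} [Group G] [Finite G] {p : ℕ} [hp : Fact p.Prime] (hG : IsPGroup p G)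
    (hp2 : p ≠ 2) (hrk : ∀ E : Subgroup G, Cfsg.IsElementaryAbelian p E → Nat.card E ≤ p ^ 2) :
    Cfsg.IsMetacyclic G ∨
      (p = 3 ∧ ∀ n : ℕ, Nat.card G = p ^ n → 2 ≤ n ∧ (⊤ : Subgroup G).lowerCentralSeries (n - 2) ≠ ⊥) ∨
      ∃ W : Subgroup G, (∀ g : G, g ∈ W ↔ g ^ p = 1) ∧ Nat.card W = p ^ 3 ∧
        ∃ a ∈ W, ∃ b ∈ W, ⁅a, b⁆ ≠ 1 := by
  by_cases h3 : p = 3
  · subst h3
    rcases rank_two_three hG hrk with h | h | h
    exacts [Or.inl h, Or.inr (Or.inl ⟨rfl, h⟩), Or.inr (Or.inr h)]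
  have hp3 : 3 < p := by have := hp.out.two_le; omega
  set W := Cfsg.omegaOne p (⊤ : Subgroup G)
  have hW : ∀ g : G, g ∈ W ↔ g ^ p = 1 :=
    fun g => ⟨fun hg => pow_eq_one_of_rank_two hp3 hG hrk (Subgroup.closure_mono (fun _ h => h.2) hg),
      fun hg => Subgroup.subset_closure ⟨mem_top g, hg⟩⟩
  have hle : Nat.card W ≤ p ^ 3 := card_le_of_exponent_rank_two (hG.to_subgroup W)
    (fun a => Subtype.ext ((hW _).mp a.2)) (rank_le_subgroup hrk W)
  by_cases h2 : Nat.card W ≤ p ^ 2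
  · exact Or.inl (isMetacyclic_of_small_omega hp3 _ G le_rfl hG h2)
  refine Or.inr (Or.inr ⟨W, hW, ?_, ?_⟩)
  · obtain ⟨i, hi⟩ := IsPGroup.iff_card.mp (hG.to_subgroup W)
    rw [hi] at hle h2 ⊢
    have h1 := (Nat.pow_le_pow_iff_right hp.out.one_lt).mp hle
    rw [Nat.pow_le_pow_iff_right hp.out.one_lt] at h2
    rw [show i = 3 by omega]
  · by_contra hall
    push Not at hall
    exact h2 (hrk W ⟨isMulCommutative_of_comm fun a ha b hb =>
      commutatorElement_eq_one_iff_mul_comm.mp (hall a ha b hb), fun a ha => (hW a).mp ha⟩)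

end Cfsg.Agent.PGroups
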