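import Cfsg.Agent.PGroups.TransvectionWord
import Cfsg.Agent.PGroups.PCentral

/-!
Arithmetic in the `p`-groups `⟨x, y, a⟩` with `y` commuting with `a`, `z = a ^ (p ^ m)` central of order `p`,
`x⁻¹ y x = y z ^ s` and `x⁻¹ a x = y a`, whose elements of order dividing `p` form `W = ⟨x, y⟩`.
-/

set_option autoImplicit false

namespace Cfsg.Agent.PGroups

open Subgroup

/-- The data of a group of the third type in the classification of groups of rank two. -/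
structure RankTwoFrame {Ω : Type*} [Group Ω] (S W : Subgroup Ω) (p m : ℕ) (s : ℤ) (a x y z : Ω) : Prop where
  ha : a ∈ S
  hm : 1 ≤ m
  hs : ¬ (p : ℤ) ∣ s
  mem_W : ∀ g, g ∈ W ↔ g ∈ S ∧ g ^ p = 1
  hx : x ∈ W
  hy : y ∈ W
  hya : Commute y a
  haz : a ^ p ^ m = z
  hxy : x⁻¹ * y * x = y * z ^ s
  hxa : x⁻¹ * a * x = y * a
  hz1 : z ≠ 1
  zp : z ^ p = 1
  decomp : ∀ g ∈ S, ∃ i : ℤ, ∃ w ∈ W, g = a ^ i * w
  decompW : ∀ w ∈ W, ∃ j l k : ℤ, w = y ^ j * z ^ l * x ^ k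

namespace RankTwoFrame

variable {Ω : Type*} [Group Ω] {S W : Subgroup Ω} {p m : ℕ} {s : ℤ} {a x y z : Ω}

/-- The subgroup `⟨y, z⟩`. -/
def pairY (y z : Ω) : Subgroup Ω := Subgroup.closure {y, z}

theorem y_mem_pairY (y z : Ω) : y ∈ pairY y z := Subgroup.subset_closure (by simp)

theorem z_mem_pairY (y z : Ω) : z ∈ pairY y z := Subgroup.subset_closure (by simp)

theorem zpowers_le_pairY (y z : Ω) : zpowers z ≤ pairY y z := zpowers_le.2 (z_mem_pairY y z)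

variable (H : RankTwoFrame S W p m s a x y z)
include H

theorem W_le : W ≤ S := fun g hg => ((H.mem_W g).1 hg).1

theorem z_mem_S : z ∈ S := H.haz ▸ pow_mem H.ha _

theorem z_mem_W : z ∈ W := (H.mem_W z).2 ⟨H.z_mem_S, H.zp⟩

theorem x_mem_S : x ∈ S := H.W_le H.hx

theorem y_mem_S : y ∈ S := H.W_le H.hy

theorem xp : x ^ p = 1 := ((H.mem_W x).1 H.hx).2

theorem yp : y ^ p = 1 := ((H.mem_W y).1 H.hy).2

theorem a_comm_z : Commute a z := H.haz ▸ (Commute.refl a).pow_right _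

theorem y_comm_z : Commute y z := H.haz ▸ H.hya.pow_right _

theorem x_comm_z : Commute x z := by
  have h : x⁻¹ * z * x = z := by
    rw [← H.haz]
    calc x⁻¹ * a ^ p ^ m * x = (x⁻¹ * a * x⁻¹⁻¹) ^ p ^ m := by rw [conj_pow, inv_inv]
      _ = y ^ p ^ m * a ^ p ^ m := by rw [inv_inv, H.hxa, H.hya.mul_pow]
      _ = a ^ p ^ m := by
        obtain ⟨n, rfl⟩ : ∃ n, m = n + 1 := ⟨m - 1, (Nat.sub_add_cancel H.hm).symm⟩
        rw [pow_succ' p n, pow_mul, H.yp, one_pow, one_mul]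
  calc x * z = x * (x⁻¹ * z * x) := by rw [h]
    _ = z * x := by group

theorem exists_form {g : Ω} (hg : g ∈ S) : ∃ i j l k : ℤ, g = a ^ i * (y ^ j * z ^ l * x ^ k) := by
  obtain ⟨i, w, hw, rfl⟩ := H.decomp g hg
  obtain ⟨j, l, k, rfl⟩ := H.decompW w hw
  exact ⟨i, j, l, k, rfl⟩

theorem z_comm {g : Ω} (hg : g ∈ S) : Commute z g := by
  obtain ⟨i, j, l, k, rfl⟩ := H.exists_form hg
  exact (H.a_comm_z.symm.zpow_right i).mul_right (((H.y_comm_z.symm.zpow_right j).mul_right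
    ((Commute.refl z).zpow_right l)).mul_right (H.x_comm_z.symm.zpow_right k))

theorem mem_pairY {u : Ω} : u ∈ pairY y z ↔ ∃ j l : ℤ, u = y ^ j * z ^ l := by
  constructor
  · intro h
    induction h using Subgroup.closure_induction with
    | mem u hu =>
      rcases hu with rfl | rfl
      · exact ⟨1, 0, by simp⟩
      · exact ⟨0, 1, by simp⟩
    | one => exact ⟨0, 0, by simp⟩
    | mul u v _ _ hu hv =>
      obtain ⟨j, l, rfl⟩ := hu
      obtain ⟨j', l', rfl⟩ := hv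
      refine ⟨j + j', l + l', ?_⟩
      rw [(H.y_comm_z.zpow_zpow j' l).symm.mul_mul_mul_comm, ← zpow_add, ← zpow_add]
    | inv u _ hu =>
      obtain ⟨j, l, rfl⟩ := hu
      exact ⟨-j, -l, by rw [mul_inv_rev, zpow_neg, zpow_neg, (H.y_comm_z.zpow_zpow j l).inv_inv.eq]⟩
  · rintro ⟨j, l, rfl⟩
    exact mul_mem (zpow_mem (y_mem_pairY y z) j) (zpow_mem (z_mem_pairY y z) l)

theorem pairY_le_W : pairY y z ≤ W := by
  rw [pairY, Subgroup.closure_le]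
  rintro g (rfl | rfl)
  exacts [H.hy, H.z_mem_W]

theorem pairY_le : pairY y z ≤ S := H.pairY_le_W.trans H.W_le

theorem Y_comm {u v : Ω} (hu : u ∈ pairY y z) (hv : v ∈ pairY y z) : Commute u v := by
  obtain ⟨j, l, rfl⟩ := H.mem_pairY.1 hu
  obtain ⟨j', l', rfl⟩ := H.mem_pairY.1 hv
  exact (((Commute.refl y).zpow_zpow j j').mul_right (H.y_comm_z.zpow_zpow j l')).mul_left
    ((H.y_comm_z.symm.zpow_zpow l j').mul_right ((Commute.refl z).zpow_zpow l l'))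

theorem a_comm_Y {u : Ω} (hu : u ∈ pairY y z) : Commute a u := by
  obtain ⟨j, l, rfl⟩ := H.mem_pairY.1 hu
  exact (H.hya.symm.zpow_right j).mul_right (H.a_comm_z.zpow_right l)

theorem conj_y_x : y * x * y⁻¹ = x * z ^ s := by
  calc y * x * y⁻¹ = x * (x⁻¹ * y * x) * y⁻¹ := by group
    _ = x * (y * z ^ s) * y⁻¹ := by rw [H.hxy]
    _ = x * z ^ s := by rw [(H.y_comm_z.zpow_right s).eq]; group

theorem conj_x_ypow (j : ℤ) : x⁻¹ * y ^ j * x = y ^ j * z ^ (s * j) := by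
  have h : x⁻¹ * y ^ j * x = (x⁻¹ * y * x⁻¹⁻¹) ^ j := by rw [conj_zpow, inv_inv]
  rw [h, inv_inv, H.hxy, (H.y_comm_z.zpow_right s).mul_zpow, ← zpow_mul]

theorem conj_ypow_x (j : ℤ) : y ^ j * x * (y ^ j)⁻¹ = x * z ^ (s * j) := by
  calc y ^ j * x * (y ^ j)⁻¹ = x * (x⁻¹ * y ^ j * x) * (y ^ j)⁻¹ := by group
    _ = x * (y ^ j * z ^ (s * j)) * (y ^ j)⁻¹ := by rw [H.conj_x_ypow]
    _ = x * z ^ (s * j) := by rw [(H.y_comm_z.zpow_zpow j (s * j)).eq]; group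

theorem conj_ypow_xpow (j k : ℤ) : y ^ j * x ^ k * (y ^ j)⁻¹ = x ^ k * z ^ (s * j * k) := by
  rw [← conj_zpow, H.conj_ypow_x, (H.x_comm_z.zpow_right _).mul_zpow, ← zpow_mul]

theorem conj_xpow_ypow (k j : ℤ) : x ^ k * y ^ j * (x ^ k)⁻¹ = y ^ j * z ^ (-(s * j * k)) := by
  calc x ^ k * y ^ j * (x ^ k)⁻¹ = x ^ k * ((y ^ j * x ^ k * (y ^ j)⁻¹))⁻¹ * y ^ j := by group
    _ = x ^ k * (x ^ k * z ^ (s * j * k))⁻¹ * y ^ j := by rw [H.conj_ypow_xpow]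
    _ = x ^ k * (z ^ (-(s * j * k)) * (x ^ k)⁻¹) * y ^ j := by rw [mul_inv_rev, zpow_neg]
    _ = z ^ (-(s * j * k)) * y ^ j := by
      rw [((H.x_comm_z.zpow_zpow k (-(s * j * k))).inv_left.symm).eq]; group
    _ = _ := (H.y_comm_z.zpow_zpow _ _).symm.eq

theorem conj_a_x : a * x * a⁻¹ = x * y := by
  calc a * x * a⁻¹ = x * (x⁻¹ * a * x) * a⁻¹ := by group
    _ = x * y := by rw [H.hxa]; group

theorem conj_apow_x (i : ℤ) : a ^ i * x * (a ^ i)⁻¹ = x * y ^ i := by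
  have h : x⁻¹ * a ^ i * x = y ^ i * a ^ i := by
    have h' : x⁻¹ * a ^ i * x = (x⁻¹ * a * x⁻¹⁻¹) ^ i := by rw [conj_zpow, inv_inv]
    rw [h', inv_inv, H.hxa, H.hya.mul_zpow]
  calc a ^ i * x * (a ^ i)⁻¹ = x * (x⁻¹ * a ^ i * x) * (a ^ i)⁻¹ := by group
    _ = x * y ^ i := by rw [h]; group

theorem conj_apow_pairY (i : ℤ) {u : Ω} (hu : u ∈ pairY y z) : a ^ i * u * (a ^ i)⁻¹ = u := by
  rw [((H.a_comm_Y hu).zpow_left i).eq, mul_inv_cancel_right]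

/-- Conjugation by an element of `S` fixes `⟨y, z⟩` modulo `⟨z⟩`. -/
theorem conj_y {g : Ω} (hg : g ∈ S) (j : ℤ) : ∃ r : ℤ, g * y ^ j * g⁻¹ = y ^ j * z ^ r := by
  obtain ⟨i, j', l, k, rfl⟩ := H.exists_form hg
  refine ⟨-(s * j * k), ?_⟩
  set u := y ^ j' * z ^ l
  have hu : u ∈ pairY y z := H.mem_pairY.2 ⟨j', l, rfl⟩
  have hv : y ^ j * z ^ (-(s * j * k)) ∈ pairY y z := H.mem_pairY.2 ⟨j, _, rfl⟩
  calc a ^ i * (u * x ^ k) * y ^ j * (a ^ i * (u * x ^ k))⁻¹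
      = a ^ i * (u * (x ^ k * y ^ j * (x ^ k)⁻¹) * u⁻¹) * (a ^ i)⁻¹ := by group
    _ = a ^ i * (y ^ j * z ^ (-(s * j * k))) * (a ^ i)⁻¹ := by
      rw [H.conj_xpow_ypow, (H.Y_comm hu hv).eq, mul_inv_cancel_right]
    _ = _ := H.conj_apow_pairY i hv

/-- Conjugation by an element of `S` fixes `x` modulo `⟨y, z⟩`. -/
theorem conj_x {g : Ω} (hg : g ∈ S) : ∃ u ∈ pairY y z, g * x * g⁻¹ = x * u := by
  obtain ⟨i, j, l, k, rfl⟩ := H.exists_form hg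
  refine ⟨y ^ i * z ^ (s * j), H.mem_pairY.2 ⟨i, _, rfl⟩, ?_⟩
  calc a ^ i * (y ^ j * z ^ l * x ^ k) * x * (a ^ i * (y ^ j * z ^ l * x ^ k))⁻¹
      = a ^ i * (y ^ j * (z ^ l * x) * (z ^ l)⁻¹ * (y ^ j)⁻¹) * (a ^ i)⁻¹ := by group
    _ = a ^ i * (y ^ j * x * (y ^ j)⁻¹) * (a ^ i)⁻¹ := by
      rw [(H.x_comm_z.symm.zpow_left l).eq, mul_assoc (y ^ j) (x * z ^ l), mul_inv_cancel_right]
    _ = a ^ i * x * (a ^ i)⁻¹ * (a ^ i * z ^ (s * j) * (a ^ i)⁻¹) := by rw [H.conj_ypow_x]; group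
    _ = _ := by
      rw [H.conj_apow_x, H.conj_apow_pairY i (zpow_mem (z_mem_pairY y z) _), mul_assoc]

theorem Y_normal {g u : Ω} (hg : g ∈ S) (hu : u ∈ pairY y z) : g * u * g⁻¹ ∈ pairY y z := by
  obtain ⟨j, l, rfl⟩ := H.mem_pairY.1 hu
  obtain ⟨r, hr⟩ := H.conj_y hg j
  refine H.mem_pairY.2 ⟨j, r + l, ?_⟩
  calc g * (y ^ j * z ^ l) * g⁻¹ = g * y ^ j * (z ^ l * g⁻¹) := by group
    _ = g * y ^ j * g⁻¹ * z ^ l := by rw [((H.z_comm (inv_mem hg)).zpow_left l).eq]; group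
    _ = y ^ j * z ^ (r + l) := by rw [hr, mul_assoc, ← zpow_add]

/-- Every automorphism `y ↦ y z ^ r`, `x ↦ x y ^ i z ^ l` of `W` is a conjugation by an element of `S`. -/
theorem exists_conj [Fact p.Prime] (r i l : ℤ) :
    ∃ g ∈ S, g * y * g⁻¹ = y * z ^ r ∧ g * x * g⁻¹ = x * (y ^ i * z ^ l) := by
  have hs0 : (s : ZMod p) ≠ 0 := fun h => H.hs ((ZMod.intCast_zmod_eq_zero_iff_dvd s p).1 h)
  obtain ⟨t, ht⟩ : ∃ t : ℤ, (s : ZMod p) * (t : ZMod p) = 1 :=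
    ⟨((s : ZMod p)⁻¹).val, by rw [Int.cast_natCast, ZMod.natCast_zmod_val, mul_inv_cancel₀ hs0]⟩
  refine ⟨a ^ i * (y ^ (l * t) * x ^ (-(r * t))),
    mul_mem (zpow_mem H.ha i) (mul_mem (zpow_mem H.y_mem_S _) (zpow_mem H.x_mem_S _)), ?_, ?_⟩
  · calc _ = a ^ i * (y ^ (l * t) * (x ^ (-(r * t)) * y ^ (1 : ℤ) * (x ^ (-(r * t)))⁻¹) * (y ^ (l * t))⁻¹) *
          (a ^ i)⁻¹ := by group
      _ = a ^ i * (y * z ^ r) * (a ^ i)⁻¹ := by
        have hv : y * z ^ r ∈ pairY y z := mul_mem (y_mem_pairY y z) (zpow_mem (z_mem_pairY y z) r)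
        rw [H.conj_xpow_ypow, zpow_one, zpow_eq_of_zmod_eq H.zp (j := r) (by
          push_cast; linear_combination (r : ZMod p) * ht),
          (H.Y_comm (zpow_mem (y_mem_pairY y z) _) hv).eq, mul_inv_cancel_right]
      _ = _ := H.conj_apow_pairY i (mul_mem (y_mem_pairY y z) (zpow_mem (z_mem_pairY y z) r))
  · calc _ = a ^ i * (y ^ (l * t) * x * (y ^ (l * t))⁻¹) * (a ^ i)⁻¹ := by group
      _ = a ^ i * (x * z ^ l) * (a ^ i)⁻¹ := by
        rw [H.conj_ypow_x, zpow_eq_of_zmod_eq H.zp (j := l) (by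
          push_cast; linear_combination (l : ZMod p) * ht)]
      _ = a ^ i * x * (a ^ i)⁻¹ * (a ^ i * z ^ l * (a ^ i)⁻¹) := by group
      _ = _ := by rw [H.conj_apow_x, H.conj_apow_pairY i (zpow_mem (z_mem_pairY y z) _), mul_assoc]

theorem dvd_of_z_zpow [hp : Fact p.Prime] {l : ℤ} (h : z ^ l = 1) : (p : ℤ) ∣ l :=
  (orderOf_eq_prime H.zp H.hz1) ▸ orderOf_dvd_iff_zpow_eq_one.2 h

theorem dvd_of_s_mul [hp : Fact p.Prime] {j : ℤ} (h : (p : ℤ) ∣ s * j) : (p : ℤ) ∣ j :=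
  ((Nat.prime_iff_prime_int.1 hp.out).dvd_or_dvd h).resolve_left H.hs

theorem indep [hp : Fact p.Prime] {j l : ℤ} (h : y ^ j * z ^ l = 1) : (p : ℤ) ∣ j ∧ (p : ℤ) ∣ l := by
  have h1 : z ^ (s * j) = 1 := by
    have h2 : y ^ j = (z ^ l)⁻¹ := eq_inv_of_mul_eq_one_left h
    have h3 := H.conj_x_ypow j
    rw [h2] at h3
    rw [mul_assoc, ((H.x_comm_z.symm.zpow_left l).inv_left).eq, inv_mul_cancel_left] at h3
    exact mul_left_cancel (a := (z ^ l)⁻¹) (by rw [← h3, mul_one])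
  have hj := H.dvd_of_s_mul (H.dvd_of_z_zpow h1)
  refine ⟨hj, H.dvd_of_z_zpow ?_⟩
  obtain ⟨c, rfl⟩ := hj
  rwa [zpow_mul, zpow_natCast, H.yp, one_zpow, one_mul] at h

theorem y_notMem [Fact p.Prime] {j : ℤ} (h : y ^ j ∈ zpowers z) : (p : ℤ) ∣ j := by
  obtain ⟨l, hl⟩ := Subgroup.mem_zpowers_iff.1 h
  exact (H.indep (j := j) (l := -l) (by rw [zpow_neg, hl, mul_inv_cancel])).1

theorem xpow_notMem [Fact p.Prime] {k : ℤ} (h : x ^ k ∈ pairY y z) : (p : ℤ) ∣ k := by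
  refine H.dvd_of_s_mul (H.dvd_of_z_zpow ?_)
  have h1 := H.conj_ypow_xpow 1 k
  rw [mul_one, zpow_one, (H.Y_comm (y_mem_pairY y z) h).eq, mul_inv_cancel_right] at h1
  exact left_eq_mul.1 h1

/-- An element of `W` commuting with `y` lies in `⟨y, z⟩`. -/
theorem mem_Y_of_comm [Fact p.Prime] {w : Ω} (hw : w ∈ W) (hc : Commute y w) : w ∈ pairY y z := by
  obtain ⟨j, l, k, rfl⟩ := H.decompW w hw
  have hu : y ^ j * z ^ l ∈ pairY y z := H.mem_pairY.2 ⟨j, l, rfl⟩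
  have hk : Commute y (x ^ k) := by
    have h1 := (H.Y_comm (y_mem_pairY y z) hu).inv_right.mul_right hc
    rwa [inv_mul_cancel_left] at h1
  have h1 := H.conj_ypow_xpow 1 k
  rw [mul_one, zpow_one, hk.eq, mul_inv_cancel_right] at h1
  obtain ⟨c, rfl⟩ := H.dvd_of_s_mul (H.dvd_of_z_zpow (left_eq_mul.1 h1))
  rw [zpow_mul, zpow_natCast, H.xp, one_zpow, mul_one]
  exact hu

theorem mem_aY_of_comm [Fact p.Prime] {g : Ω} (hg : g ∈ S) (hc : Commute y g) :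
    ∃ i : ℤ, ∃ u ∈ pairY y z, g = a ^ i * u := by
  obtain ⟨i, w, hw, rfl⟩ := H.decomp g hg
  refine ⟨i, w, H.mem_Y_of_comm hw ?_, rfl⟩
  have h1 := (H.hya.zpow_right i).inv_right.mul_right hc
  rwa [inv_mul_cancel_left] at h1

/-- An element of `W` commuting with `x` and `y` lies in `⟨z⟩`. -/
theorem mem_Z_of_comm [Fact p.Prime] {w : Ω} (hw : w ∈ W) (hcx : Commute x w) (hcy : Commute y w) :
    w ∈ zpowers z := by
  obtain ⟨j, l, rfl⟩ := H.mem_pairY.1 (H.mem_Y_of_comm hw hcy)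
  have hj : Commute x (y ^ j) := by
    have h1 := hcx.mul_right (H.x_comm_z.zpow_right l).inv_right
    rwa [mul_inv_cancel_right] at h1
  have h1 := H.conj_x_ypow j
  rw [mul_assoc, hj.symm.eq, inv_mul_cancel_left] at h1
  obtain ⟨c, rfl⟩ := H.dvd_of_s_mul (H.dvd_of_z_zpow (left_eq_mul.1 h1))
  rw [zpow_mul, zpow_natCast, H.yp, one_zpow, one_mul]
  exact zpow_mem (mem_zpowers z) l

theorem pow_mul_mem {u : Ω} (hu : u ∈ pairY y z) (n : ℕ) : (x * u) ^ n * (x ^ n)⁻¹ ∈ pairY y z := by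
  induction n with
  | zero => simp
  | succ n ih =>
    rw [pow_succ', pow_succ', show x * u * (x * u) ^ n * (x * x ^ n)⁻¹ = x * (u * ((x * u) ^ n * (x ^ n)⁻¹)) * x⁻¹ by
      group]
    exact H.Y_normal H.x_mem_S (mul_mem hu ih)

/-- `x` may be replaced by any element of its coset of `⟨y, z⟩`. -/
theorem rename [Fact p.Prime] {u : Ω} (hu : u ∈ pairY y z) : RankTwoFrame S W p m s a (x * u) y z := by
  refine { H with hx := mul_mem H.hx (H.pairY_le_W hu), hxy := ?_, hxa := ?_, decompW := ?_ }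
  · have hv : y * z ^ s ∈ pairY y z := mul_mem (y_mem_pairY y z) (zpow_mem (z_mem_pairY y z) s)
    calc (x * u)⁻¹ * y * (x * u) = u⁻¹ * (x⁻¹ * y * x) * u := by group
      _ = y * z ^ s := by rw [H.hxy, (H.Y_comm (inv_mem hu) hv).eq, inv_mul_cancel_right]
  · calc (x * u)⁻¹ * a * (x * u) = u⁻¹ * (x⁻¹ * a * x) * u := by group
      _ = u⁻¹ * y * (a * u) := by rw [H.hxa]; group
      _ = y * a := by rw [(H.Y_comm (inv_mem hu) (y_mem_pairY y z)).eq, (H.a_comm_Y hu).eq]; group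
  · intro w hw
    obtain ⟨j, l, k, rfl⟩ := H.decompW w hw
    set n := (k : ZMod p).val
    have hk : x ^ k = x ^ n := by
      rw [← zpow_natCast]
      exact zpow_eq_of_zmod_eq H.xp (by simp [n])
    obtain ⟨j', l', he⟩ := H.mem_pairY.1
      (mul_mem (H.mem_pairY.2 ⟨j, l, rfl⟩) (inv_mem (H.pow_mul_mem hu n)))
    refine ⟨j', l', n, ?_⟩
    rw [← he, hk, zpow_natCast]
    group

end RankTwoFrame

end Cfsg.Agent.PGroups
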