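import Cfsg.Agent.PGroups.RankTwoFrame

/-!
Further arithmetic in a `RankTwoFrame`: powers in cosets of `⟨y, z⟩`, the subgroups `W = ⟨x, y⟩` and `⟨x, z⟩`.
-/

set_option autoImplicit false
set_option linter.style.haveILetI false

namespace Cfsg.Agent.PGroups.RankTwoFrame

open Subgroup

variable {Ω : Type*} [Group Ω] {S W : Subgroup Ω} {p m : ℕ} {s : ℤ} {a x y z : Ω}
variable (H : RankTwoFrame S W p m s a x y z)
include H

theorem mul_pow_mem {g : Ω} (hg : g ∈ S) {v : Ω} (hv : v ∈ pairY y z) (n : ℕ) :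
    (v * g) ^ n * (g ^ n)⁻¹ ∈ pairY y z := by
  induction n with
  | zero => simp
  | succ n ih =>
    rw [pow_succ', pow_succ', show v * g * (v * g) ^ n * (g * g ^ n)⁻¹ = v * (g * ((v * g) ^ n * (g ^ n)⁻¹) * g⁻¹) by
      group]
    exact mul_mem hv (H.Y_normal hg ih)

theorem xpow_nat [NeZero p] (k : ℤ) : x ^ k = x ^ (k : ZMod p).val := by
  rw [← zpow_natCast]
  exact zpow_eq_of_zmod_eq H.xp (by simp)

theorem W_form [NeZero p] {w : Ω} (hw : w ∈ W) : ∃ v ∈ pairY y z, ∃ k : ℕ, w = v * x ^ k := by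
  obtain ⟨j, l, k, rfl⟩ := H.decompW w hw
  exact ⟨_, H.mem_pairY.2 ⟨j, l, rfl⟩, _, by rw [H.xpow_nat k]⟩

theorem W_normal {g w : Ω} (hg : g ∈ S) (hw : w ∈ W) : g * w * g⁻¹ ∈ W :=
  (H.mem_W _).2 ⟨mul_mem (mul_mem hg (H.W_le hw)) (inv_mem hg), by
    rw [conj_pow, ((H.mem_W w).1 hw).2, mul_one, mul_inv_cancel]⟩

/-- Conjugation by an element of `S` fixes `W` modulo `⟨y, z⟩`. -/
theorem conj_W [NeZero p] {g w : Ω} (hg : g ∈ S) (hw : w ∈ W) : ∃ u ∈ pairY y z, g * w * g⁻¹ = u * w := by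
  obtain ⟨v, hv, k, rfl⟩ := H.W_form hw
  obtain ⟨u, hu, hxu⟩ := H.conj_x hg
  refine ⟨g * v * g⁻¹ * ((x * u) ^ k * (x ^ k)⁻¹) * v⁻¹,
    mul_mem (mul_mem (H.Y_normal hg hv) (H.pow_mul_mem hu k)) (inv_mem hv), ?_⟩
  calc g * (v * x ^ k) * g⁻¹ = g * v * g⁻¹ * (g * x * g⁻¹) ^ k := by rw [conj_pow]; group
    _ = _ := by rw [hxu]; group

theorem conj_a_xpow (k : ℕ) : ∃ c : ℤ, (x ^ k)⁻¹ * a * x ^ k = y ^ (k : ℤ) * z ^ c * a := by
  induction k with
  | zero => exact ⟨0, by simp⟩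
  | succ k ih =>
    obtain ⟨c, hc⟩ := ih
    refine ⟨s * k + c, ?_⟩
    calc (x ^ (k + 1))⁻¹ * a * x ^ (k + 1) = x⁻¹ * ((x ^ k)⁻¹ * a * x ^ k) * x := by group
      _ = (x⁻¹ * y ^ (k : ℤ) * x) * (x⁻¹ * z ^ c * x) * (x⁻¹ * a * x) := by rw [hc]; group
      _ = y ^ (k : ℤ) * z ^ (s * k) * z ^ c * (y * a) := by
        rw [H.conj_x_ypow, H.hxa, mul_assoc x⁻¹ (z ^ c), (H.x_comm_z.symm.zpow_left c).eq,
          inv_mul_cancel_left]
      _ = y ^ (k : ℤ) * (z ^ (s * k + c) * y) * a := by rw [zpow_add]; group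
      _ = _ := by
        rw [(H.y_comm_z.symm.zpow_left _).eq, Nat.cast_succ, zpow_add_one]; group

theorem mul_ypow_pow (b : ℤ) (n : ℕ) : ∃ d : ℤ, (x * y ^ b) ^ n = y ^ (b * n) * z ^ d * x ^ n := by
  induction n with
  | zero => exact ⟨0, by simp⟩
  | succ n ih =>
    obtain ⟨d, hd⟩ := ih
    refine ⟨-(s * (b + b * n)) + d, ?_⟩
    have hxy : x * y ^ (b + b * n) * x⁻¹ = y ^ (b + b * n) * z ^ (-(s * (b + b * n))) := by
      simpa using H.conj_xpow_ypow 1 (b + b * n)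
    calc (x * y ^ b) ^ (n + 1) = x * y ^ b * (y ^ (b * n) * z ^ d * x ^ n) := by rw [pow_succ', hd]
      _ = (x * y ^ (b + b * n) * x⁻¹) * (x * z ^ d) * x ^ n := by rw [zpow_add]; group
      _ = y ^ (b + b * n) * z ^ (-(s * (b + b * n))) * (z ^ d * x) * x ^ n := by
        rw [hxy, (H.x_comm_z.zpow_right d).eq]
      _ = _ := by
        rw [show b * ((n + 1 : ℕ) : ℤ) = b + b * n by push_cast; ring, zpow_add z, pow_succ']
        group

theorem W_le_closure [Fact p.Prime] : W ≤ Subgroup.closure ({x, y} : Set Ω) := by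
  have hx : x ∈ Subgroup.closure ({x, y} : Set Ω) := Subgroup.subset_closure (by simp)
  have hy : y ∈ Subgroup.closure ({x, y} : Set Ω) := Subgroup.subset_closure (by simp)
  have hs0 : (s : ZMod p) ≠ 0 := fun h => H.hs ((ZMod.intCast_zmod_eq_zero_iff_dvd s p).1 h)
  have hz : z ∈ Subgroup.closure ({x, y} : Set Ω) := by
    have h1 : z ^ (s * ((s : ZMod p)⁻¹).val) = z := by
      conv_rhs => rw [← zpow_one z]
      exact zpow_eq_of_zmod_eq H.zp (by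
        rw [Int.cast_mul, Int.cast_natCast, ZMod.natCast_zmod_val, mul_inv_cancel₀ hs0, Int.cast_one])
    rw [← h1, zpow_mul, show z ^ s = y⁻¹ * (x⁻¹ * y * x) by rw [H.hxy]; group]
    exact zpow_mem (mul_mem (inv_mem hy) (mul_mem (mul_mem (inv_mem hx) hy) hx)) _
  intro w hw
  obtain ⟨j, l, k, rfl⟩ := H.decompW w hw
  exact mul_mem (mul_mem (zpow_mem hy j) (zpow_mem hz l)) (zpow_mem hx k)

/-- An element of `W` outside `⟨y, z⟩` is a power of an element of the coset of `x`. -/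
theorem exists_rename [hp : Fact p.Prime] {w : Ω} (hw : w ∈ W) (hwY : w ∉ pairY y z) :
    ∃ u ∈ pairY y z, ∃ j : ℕ, ¬ p ∣ j ∧ w = (x * u) ^ j := by
  obtain ⟨v, hv, k, rfl⟩ := H.W_form hw
  have hk : ¬ p ∣ k := by
    rintro ⟨c, rfl⟩
    rw [pow_mul, H.xp, one_pow, mul_one] at hwY
    exact hwY hv
  set t := ((k : ZMod p)⁻¹).val
  have ht : (k : ZMod p) * (t : ZMod p) = 1 := by
    rw [ZMod.natCast_zmod_val, mul_inv_cancel₀ (fun h => hk ((ZMod.natCast_eq_zero_iff k p).1 h))]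
  have hcancel : ∀ c : Ω, c ^ p = 1 → (c ^ k) ^ t = c := fun c hc => by
    rw [← pow_mul, ← zpow_natCast, zpow_eq_of_zmod_eq hc (j := 1) (by push_cast; exact ht), zpow_one]
  set e := (v * x ^ k) ^ t * ((x ^ k) ^ t)⁻¹ with he
  have heY : e ∈ pairY y z := H.mul_pow_mem (pow_mem H.x_mem_S k) hv t
  refine ⟨x⁻¹ * e * x, by simpa using H.Y_normal (inv_mem H.x_mem_S) heY, k, hk, ?_⟩
  have h1 : x * (x⁻¹ * e * x) = (v * x ^ k) ^ t := by
    rw [he, hcancel x H.xp]; group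
  rw [h1, ← pow_mul, mul_comm, pow_mul, hcancel _ ((H.mem_W _).1 hw).2]

theorem mem_pairV {w : Ω} : w ∈ Subgroup.closure ({x, z} : Set Ω) ↔ ∃ k l : ℤ, w = x ^ k * z ^ l := by
  constructor
  · intro h
    induction h using Subgroup.closure_induction with
    | mem u hu =>
      rcases hu with rfl | rfl
      · exact ⟨1, 0, by simp⟩
      · exact ⟨0, 1, by simp⟩
    | one => exact ⟨0, 0, by simp⟩
    | mul u v _ _ hu hv =>
      obtain ⟨j, l, rfl⟩ := hu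
      obtain ⟨j', l', rfl⟩ := hv
      refine ⟨j + j', l + l', ?_⟩
      rw [(H.x_comm_z.zpow_zpow j' l).symm.mul_mul_mul_comm, ← zpow_add, ← zpow_add]
    | inv u _ hu =>
      obtain ⟨j, l, rfl⟩ := hu
      exact ⟨-j, -l, by rw [mul_inv_rev, zpow_neg, zpow_neg, (H.x_comm_z.zpow_zpow j l).inv_inv.eq]⟩
  · rintro ⟨j, l, rfl⟩
    exact mul_mem (zpow_mem (Subgroup.subset_closure (by simp)) j) (zpow_mem (Subgroup.subset_closure (by simp)) l)

theorem pairV_le_W : Subgroup.closure ({x, z} : Set Ω) ≤ W := by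
  rw [Subgroup.closure_le]
  rintro g (rfl | rfl)
  exacts [H.hx, H.z_mem_W]

theorem pairV_le : Subgroup.closure ({x, z} : Set Ω) ≤ S := H.pairV_le_W.trans H.W_le

theorem V_comm {u v : Ω} (hu : u ∈ Subgroup.closure ({x, z} : Set Ω))
    (hv : v ∈ Subgroup.closure ({x, z} : Set Ω)) : Commute u v := by
  obtain ⟨j, l, rfl⟩ := H.mem_pairV.1 hu
  obtain ⟨j', l', rfl⟩ := H.mem_pairV.1 hv
  exact (((Commute.refl x).zpow_zpow j j').mul_right (H.x_comm_z.zpow_zpow j l')).mul_left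
    ((H.x_comm_z.symm.zpow_zpow l j').mul_right ((Commute.refl z).zpow_zpow l l'))

/-- All `p ^ m`-th powers lie in `⟨z⟩`. -/
theorem pow_pm [hp : Fact p.Prime] (hp2 : p ≠ 2) : ∀ g ∈ S, g ^ p ^ m ∈ zpowers z := by
  intro g hg
  obtain ⟨i, w, hw, rfl⟩ := H.decomp g hg
  obtain ⟨u, hu, hue⟩ := H.conj_W (inv_mem (zpow_mem H.ha i)) hw
  set N := (zpowers z).subgroupOf S
  haveI : N.Normal := ⟨fun v hv g => by
    obtain ⟨l, hl⟩ := Subgroup.mem_zpowers_iff.1 (Subgroup.mem_subgroupOf.1 hv)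
    refine Subgroup.mem_subgroupOf.2 ?_
    rw [Subgroup.coe_mul, Subgroup.coe_mul, Subgroup.coe_inv, ← hl, ← ((H.z_comm g.2).zpow_left l).eq,
      mul_inv_cancel_right]
    exact zpow_mem (mem_zpowers z) l⟩
  set q := QuotientGroup.mk' N
  set A : S := ⟨a ^ i, zpow_mem H.ha i⟩
  set B : S := ⟨w, H.W_le hw⟩
  set e : S := ⟨w⁻¹ * u * w, mul_mem (mul_mem (inv_mem (H.W_le hw)) (H.pairY_le hu)) (H.W_le hw)⟩
  have heY : w⁻¹ * u * w ∈ pairY y z := by simpa using H.Y_normal (inv_mem (H.W_le hw)) hu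
  have hBA : B * A = A * B * e := Subtype.ext (by
    show w * a ^ i = a ^ i * w * (w⁻¹ * u * w)
    rw [inv_inv] at hue
    calc w * a ^ i = a ^ i * ((a ^ i)⁻¹ * w * a ^ i) := by group
      _ = _ := by rw [hue]; group)
  have heA : Commute e A := Subtype.ext (((H.a_comm_Y heY).zpow_left i).symm.eq)
  have heB : Commute (q e) (q B) := by
    obtain ⟨j, l, hjl⟩ := H.mem_pairY.1 heY
    obtain ⟨r, hr⟩ := H.conj_y (inv_mem (H.W_le hw)) j
    show q e * q B = q B * q e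
    rw [← map_mul, ← map_mul]
    refine ((QuotientGroup.eq).2 (Subgroup.mem_subgroupOf.2 ?_)).symm
    show (w * (w⁻¹ * u * w))⁻¹ * (w⁻¹ * u * w * w) ∈ zpowers z
    rw [hjl, show (w * (y ^ j * z ^ l))⁻¹ * (y ^ j * z ^ l * w) =
        (z ^ l)⁻¹ * ((y ^ j)⁻¹ * (w⁻¹ * y ^ j * w⁻¹⁻¹) * (w⁻¹ * z ^ l * w)) by group, hr,
      mul_assoc w⁻¹ (z ^ l), ((H.z_comm (H.W_le hw)).zpow_left l).eq, inv_mul_cancel_left, inv_mul_cancel_left]
    exact mul_mem (inv_mem (zpow_mem (mem_zpowers z) l))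
      (mul_mem (zpow_mem (mem_zpowers z) r) (zpow_mem (mem_zpowers z) l))
  have hp1 : ∀ v ∈ W, ∀ hv : v ∈ S, (⟨v, hv⟩ : S) ^ p = 1 := fun v hv _ => Subtype.ext ((H.mem_W v).1 hv).2
  have hpow : q (A * B) ^ p = q A ^ p := by
    rw [map_mul, mul_pow_of_commute (by rw [← map_mul, ← map_mul, ← map_mul, hBA]) (heA.map q) heB p,
      ← map_pow q B, hp1 w hw, map_one, mul_one]
    obtain ⟨c, hc⟩ := hp.out.dvd_choose_self two_ne_zero (lt_of_le_of_ne hp.out.two_le (Ne.symm hp2))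
    rw [hc, pow_mul, ← map_pow q e, hp1 _ (H.pairY_le_W heY), map_one, one_pow, mul_one]
  obtain ⟨m', hm'⟩ : ∃ m', m = m' + 1 := ⟨m - 1, (Nat.sub_add_cancel H.hm).symm⟩
  have h1 : q ((A * B) ^ p ^ m) = q (A ^ p ^ m) := by
    rw [map_pow, map_pow, hm', pow_succ', pow_mul, hpow, ← pow_mul]
  have h2 : z ^ i ∈ zpowers z := zpow_mem (mem_zpowers z) i
  have h3 := Subgroup.mem_subgroupOf.1 ((QuotientGroup.eq).1 h1.symm)
  have hA : ((A ^ p ^ m : S) : Ω) = z ^ i := by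
    show (a ^ i) ^ p ^ m = z ^ i
    rw [← H.haz, ← zpow_natCast, zpow_comm, zpow_natCast]
  have h4 : (z ^ i)⁻¹ * (a ^ i * w) ^ p ^ m ∈ zpowers z := by
    rw [← hA]; exact h3
  simpa using mul_mem h2 h4

end Cfsg.Agent.PGroups.RankTwoFrame
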