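import Cfsg.Agent.PGroups.CentralPower
import Cfsg.Agent.H90.Normal
import Cfsg.Agent.PGroups.RankTwoFrameExtra

/-!
In a saturated fusion system over a `RankTwoFrame` group with `p ≥ 5` the subgroups `⟨z⟩` and `⟨y, z⟩`
are weakly closed.
-/

set_option autoImplicit false
set_option linter.style.haveILetI false
set_option linter.unusedSectionVars false

namespace Cfsg.Agent.PGroups.RankTwoFrame

open Subgroup Cfsg Cfsg.FusionSystem
open scoped commutatorElement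
open Cfsg.Agent.FusionSys

variable {Ω : Type*} [Group Ω] {S W : Subgroup Ω} [Finite S] {F : FusionSystem S} {p : ℕ} [hp : Fact p.Prime]
variable {m : ℕ} {s : ℤ} {a x y z : Ω}
variable (H : RankTwoFrame S W p m s a x y z)
include H

omit [Finite S] hp in
theorem map_mem_W {P : Subgroup Ω} {f : Ω → Ω} (hf : IsMap F P f) (hP : P ≤ W) {v : Ω} (hv : v ∈ P) :
    f v ∈ W :=
  (H.mem_W _).2 ⟨hf.mem_S hv, by rw [← hf.map_pow hv, ((H.mem_W v).1 (hP hv)).2, hf.map_one]⟩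

theorem isIso_W {f : Ω → Ω} (hf : IsMap F W f) : IsIso F W W f :=
  haveI := finite_of_le H.W_le
  ⟨hf, hf.image_eq_of_mapsTo fun _ hv => H.map_mem_W hf le_rfl hv⟩

theorem map_z_mem_of_W {f : Ω → Ω} (hf : IsMap F W f) : f z ∈ zpowers z := by
  have hi := H.isIso_W hf
  have hc : ∀ v ∈ W, Commute v (f z) := fun v hv => by
    obtain ⟨u, hu, rfl⟩ := hi.exists_preimage hv
    show _ = _
    rw [← hf.map_mul hu H.z_mem_W, ← hf.map_mul H.z_mem_W hu, (H.z_comm (H.W_le hu)).eq]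
  exact H.mem_Z_of_comm (hi.mem H.z_mem_W) (hc x H.hx) (hc y H.hy)

omit [Finite S] hp in
theorem map_pairY_mem {f : Ω → Ω} {P : Subgroup Ω} (hf : IsMap F P f) (hP : pairY y z ≤ P)
    {T : Subgroup Ω} (hy : f y ∈ T) (hz : f z ∈ T) {v : Ω} (hv : v ∈ pairY y z) : f v ∈ T := by
  obtain ⟨j, l, rfl⟩ := H.mem_pairY.1 hv
  rw [hf.map_mul (zpow_mem (hP (y_mem_pairY y z)) j) (zpow_mem (hP (z_mem_pairY y z)) l),
    isMap_map_zpow hf (hP (y_mem_pairY y z)), isMap_map_zpow hf (hP (z_mem_pairY y z))]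
  exact mul_mem (zpow_mem hy j) (zpow_mem hz l)

theorem W_fullyNormalized : F.IsFullyNormalized W :=
  isFullyNormalized_of_conj_mem H.W_le fun _ hg _ hu => H.W_normal hg hu

/-- An automorphism of `W` stabilizing `⟨y, z⟩` extends to `S`. -/
theorem extend_aut (hS : IsPGroup p S) (hF : F.IsSaturated p) {f : Ω → Ω} (hf : IsMap F W f)
    (hy : f y ∈ pairY y z) : ∃ η, IsMap F S η ∧ ∀ v ∈ W, η v = f v := by
  have hi := H.isIso_W hf
  have hz := H.map_z_mem_of_W hf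
  haveI := finite_of_le H.pairY_le
  have hfY : ∀ v ∈ pairY y z, f v ∈ pairY y z := fun v hv =>
    H.map_pairY_mem hf H.pairY_le_W hy (zpowers_le_pairY y z hz) hv
  have hYim := (hf.mono H.pairY_le_W).image_eq_of_mapsTo hfY
  obtain ⟨u₀, hu₀, hu₀y⟩ : y ∈ f '' (pairY y z : Set Ω) := hYim.ge (y_mem_pairY y z)
  obtain ⟨w₀, hw₀, hw₀x⟩ := hi.exists_preimage H.hx
  have hN : ∀ g ∈ S, InExt S W f g := by
    intro g hg
    haveI := finite_of_le H.W_le
    refine ⟨hg, mem_normalizer_of_maps fun _ hu => H.W_normal hg hu, ?_⟩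
    obtain ⟨j, l, hjl⟩ := H.mem_pairY.1 hu₀
    obtain ⟨r, hr⟩ := H.conj_y hg j
    have hgu₀ : g * u₀ * g⁻¹ = u₀ * z ^ r := by
      calc g * u₀ * g⁻¹ = g * y ^ j * (z ^ l * g⁻¹) := by rw [hjl]; group
        _ = g * y ^ j * g⁻¹ * z ^ l := by rw [((H.z_comm (inv_mem hg)).zpow_left l).eq]; group
        _ = u₀ * z ^ r := by
          rw [hr, hjl, mul_assoc, mul_assoc, ((Commute.refl z).zpow_zpow r l).eq]
    obtain ⟨r', hr'⟩ := Subgroup.mem_zpowers_iff.1 hz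
    obtain ⟨u, hu, hgw⟩ := H.conj_W hg hw₀
    obtain ⟨i', l', hil⟩ := H.mem_pairY.1 (H.Y_normal (inv_mem H.x_mem_S) (hfY u hu))
    obtain ⟨h, hh, hhy, hhx⟩ := H.exists_conj (r' * r) i' l'
    refine ⟨h, hh, fun v hv => ?_⟩
    have key : ∀ c ∈ Subgroup.closure ({x, y} : Set Ω),
        ∃ v' ∈ W, f v' = c ∧ f (g * v' * g⁻¹) = h * c * h⁻¹ := by
      intro c hc
      induction hc using Subgroup.closure_induction with
      | mem c hc =>
        rcases hc with rfl | rfl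
        · refine ⟨w₀, hw₀, hw₀x, ?_⟩
          rw [hgw, hf.map_mul (H.pairY_le_W hu) hw₀, hw₀x, hhx, ← hil]
          group
        · refine ⟨u₀, H.pairY_le_W hu₀, hu₀y, ?_⟩
          rw [hgu₀, hf.map_mul (H.pairY_le_W hu₀) (zpow_mem H.z_mem_W r), hu₀y,
            isMap_map_zpow hf H.z_mem_W, ← hr', ← zpow_mul, hhy]
      | one => exact ⟨1, one_mem _, hf.map_one, by simp [hf.map_one]⟩
      | mul c₁ c₂ _ _ h₁ h₂ =>
        obtain ⟨v₁, hv₁, e₁, f₁⟩ := h₁
        obtain ⟨v₂, hv₂, e₂, f₂⟩ := h₂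
        refine ⟨v₁ * v₂, mul_mem hv₁ hv₂, by rw [hf.map_mul hv₁ hv₂, e₁, e₂], ?_⟩
        rw [show g * (v₁ * v₂) * g⁻¹ = (g * v₁ * g⁻¹) * (g * v₂ * g⁻¹) by group,
          hf.map_mul (H.W_normal hg hv₁) (H.W_normal hg hv₂), f₁, f₂]
        group
      | inv c _ h₁ =>
        obtain ⟨v₁, hv₁, e₁, f₁⟩ := h₁
        refine ⟨v₁⁻¹, inv_mem hv₁, by rw [hf.map_inv hv₁, e₁], ?_⟩
        rw [show g * v₁⁻¹ * g⁻¹ = (g * v₁ * g⁻¹)⁻¹ by group, hf.map_inv (H.W_normal hg hv₁), f₁]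
        group
    obtain ⟨v', hv', he', hk⟩ := key _ (H.W_le_closure (hi.mem hv))
    rwa [hf.injOn hv' hv he'] at hk
  obtain ⟨η, hη, he⟩ := receptive_extend (receptive_of_isFullyNormalized hS hF H.W_fullyNormalized) hi hN
  exact ⟨η, hη.mono le_sup_left, he⟩

/-- No automorphism of `S` stabilizing `⟨y, z⟩` acts as a square root of one on `W / ⟨y, z⟩`. -/
theorem weights_false (h5 : 5 ≤ p) {η : Ω → Ω} (hη : IsMap F S η) (hy : η y ∈ pairY y z) {k : ℕ}
    (hk : ((2 * k : ℕ) : ZMod p) = 1) (hx : ∃ u ∈ pairY y z, η x = x ^ k * u) : False := by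
  have hzp := H.zp
  obtain ⟨u, hu, hxu⟩ := hx
  obtain ⟨μ, l, hμl⟩ := H.mem_pairY.1 hy
  have hyS := H.y_mem_S
  have hxS := H.x_mem_S
  have hμ : ¬ (p : ℤ) ∣ μ := by
    rintro ⟨c, rfl⟩
    rw [zpow_mul, zpow_natCast, H.yp, one_zpow, one_mul] at hμl
    have hc : x * y = y * x := hη.injOn (mul_mem hxS hyS) (mul_mem hyS hxS) (by
      rw [hη.map_mul hxS hyS, hη.map_mul hyS hxS, hμl,
        ((H.z_comm (hη.mem_S hxS)).zpow_left l).eq])
    have h0 : y = y * z ^ s := by rw [← H.hxy, mul_assoc, ← hc, inv_mul_cancel_left]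
    have h1 : z ^ s = 1 := left_eq_mul.1 h0
    exact H.hs (H.dvd_of_z_zpow h1)
  obtain ⟨μ', hμ'⟩ := exists_inverse_mod hμ
  have hca : Commute y (η a) := by
    have h1 : Commute (η y) (η a) := by
      show _ = _
      rw [← hη.map_mul hyS H.ha, ← hη.map_mul H.ha hyS, H.hya.eq]
    rw [hμl] at h1
    have h2 := ((H.z_comm (hη.mem_S H.ha)).zpow_left l).inv_left
    have h3 : Commute (y ^ μ) (η a) := by simpa [mul_assoc] using h1.mul_left h2
    rw [← zpow_pow_inverse H.yp hμ']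
    exact h3.pow_left μ'
  obtain ⟨i, u₂, hu₂, hau⟩ := H.mem_aY_of_comm (hη.mem_S H.ha) hca
  have hηz : η z = z ^ i := by
    obtain ⟨c, hc⟩ : p ∣ p ^ m := dvd_pow_self p (by have := H.hm; omega)
    rw [← H.haz, hη.map_pow H.ha, hau, ((H.a_comm_Y hu₂).zpow_left i).mul_pow]
    nth_rw 2 [hc]
    rw [pow_mul u₂, ((H.mem_W u₂).1 (H.pairY_le_W hu₂)).2, one_pow, mul_one, ← zpow_natCast, ← zpow_mul,
      mul_comm, zpow_mul, zpow_natCast]
  have hi : ¬ (p : ℤ) ∣ i := not_dvd_of_zpow_ne_one hzp fun h =>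
    H.hz1 (hη.injOn H.z_mem_S (one_mem _) (by rw [hηz, h, hη.map_one]))
  have hxi : x⁻¹ ∈ S := inv_mem hxS
  have hconj : (x ^ k)⁻¹ * y ^ μ * x ^ k = y ^ μ * z ^ (s * μ * k) := by
    have h1 := H.conj_ypow_xpow μ k
    rw [zpow_natCast] at h1
    calc (x ^ k)⁻¹ * y ^ μ * x ^ k = (x ^ k)⁻¹ * (y ^ μ * x ^ k * (y ^ μ)⁻¹) * y ^ μ := by group
      _ = z ^ (s * μ * k) * y ^ μ := by rw [h1]; group
      _ = _ := (H.y_comm_z.symm.zpow_zpow _ _).eq
  have r₁ : (((s * μ * k : ℤ)) : ZMod p) = ((i * s : ℤ) : ZMod p) := by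
    have h1 : η (x⁻¹ * y * x) = η (y * z ^ s) := congrArg η H.hxy
    rw [hη.map_mul (mul_mem hxi hyS) hxS, hη.map_mul hxi hyS, hη.map_inv hxS,
      hη.map_mul hyS (zpow_mem H.z_mem_S s), isMap_map_zpow hη H.z_mem_S, hηz, ← zpow_mul, hxu] at h1
    have hz' : x ^ k * z ^ l = z ^ l * x ^ k := (H.x_comm_z.pow_left k).zpow_right l
    have hYm : y ^ μ * z ^ (s * μ * k + l) ∈ pairY y z := H.mem_pairY.2 ⟨_, _, rfl⟩
    have h2 : (x ^ k * u)⁻¹ * η y * (x ^ k * u) = y ^ μ * z ^ (s * μ * k + l) := by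
      calc _ = u⁻¹ * ((x ^ k)⁻¹ * (y ^ μ * z ^ l) * x ^ k) * u := by rw [hμl]; group
        _ = u⁻¹ * (((x ^ k)⁻¹ * y ^ μ * x ^ k) * z ^ l) * u := by
          rw [mul_assoc _ (y ^ μ * z ^ l), mul_assoc (y ^ μ), ← hz']
          group
        _ = u⁻¹ * (y ^ μ * z ^ (s * μ * k + l)) * u := by rw [hconj, zpow_add, ← mul_assoc (y ^ μ)]
        _ = _ := by rw [(H.Y_comm (inv_mem hu) hYm).eq, inv_mul_cancel_right]
    rw [h2, hμl, mul_assoc (y ^ μ), ← zpow_add] at h1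
    have h3 : z ^ ((s * μ * k + l) - (l + i * s)) = 1 := by
      rw [zpow_sub, mul_left_cancel h1, mul_inv_cancel]
    have := (ZMod.intCast_zmod_eq_zero_iff_dvd _ p).2 (H.dvd_of_z_zpow h3)
    push_cast at this ⊢
    linear_combination this
  have r₂ : ((k * i : ℤ) : ZMod p) = (μ : ZMod p) := by
    have h1 : η (x⁻¹ * a * x) = η (y * a) := congrArg η H.hxa
    rw [hη.map_mul (mul_mem hxi H.ha) hxS, hη.map_mul hxi H.ha, hη.map_inv hxS, hη.map_mul hyS H.ha,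
      hxu] at h1
    obtain ⟨c, hc⟩ := H.conj_a_xpow k
    have hai : (x ^ k)⁻¹ * a ^ i * x ^ k = y ^ ((k : ℤ) * i) * z ^ (c * i) * a ^ i := by
      have h2 : (x ^ k)⁻¹ * a ^ i * x ^ k = ((x ^ k)⁻¹ * a * (x ^ k)⁻¹⁻¹) ^ i := by rw [conj_zpow, inv_inv]
      rw [h2, inv_inv, hc, ((H.a_comm_Y (H.mem_pairY.2 ⟨_, _, rfl⟩)).symm).mul_zpow,
        (H.y_comm_z.zpow_zpow (k : ℤ) c).mul_zpow, ← zpow_mul, ← zpow_mul]
    obtain ⟨e, he⟩ := H.conj_W (inv_mem (pow_mem hxS k)) (H.pairY_le_W hu₂)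
    obtain ⟨hu', hxe⟩ : e ∈ pairY y z ∧ (x ^ k)⁻¹ * u₂ * x ^ k = e * u₂ := by
      refine ⟨he.1, ?_⟩
      simpa using he.2
    obtain ⟨j₂, l₂, hjl₂⟩ := H.mem_pairY.1 hu₂
    have hxe' : (x ^ k)⁻¹ * u₂ * x ^ k = u₂ * z ^ (s * j₂ * k) := by
      have h3 := H.conj_ypow_xpow j₂ k
      rw [zpow_natCast] at h3
      calc (x ^ k)⁻¹ * u₂ * x ^ k = (x ^ k)⁻¹ * (y ^ j₂ * x ^ k * (y ^ j₂)⁻¹) * (y ^ j₂ * z ^ l₂) := by
            rw [hjl₂, mul_assoc _ (y ^ j₂ * z ^ l₂), mul_assoc (y ^ j₂),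
              ← ((H.x_comm_z.pow_left k).zpow_right l₂).eq]
            group
        _ = z ^ (s * j₂ * k) * u₂ := by rw [h3, hjl₂]; group
        _ = _ := ((H.z_comm (H.pairY_le hu₂)).zpow_left _).eq
    have hv : ∀ n : ℤ, y ^ ((k : ℤ) * i) * z ^ n ∈ pairY y z := fun n => H.mem_pairY.2 ⟨_, _, rfl⟩
    have hcu : Commute u (y ^ ((k : ℤ) * i) * z ^ (c * i + s * j₂ * k) * (a ^ i * u₂)) :=
      (H.Y_comm hu (hv _)).mul_right (((H.a_comm_Y hu).symm.zpow_right i).mul_right (H.Y_comm hu hu₂))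
    have h4 : (x ^ k * u)⁻¹ * η a * (x ^ k * u) =
        y ^ ((k : ℤ) * i) * z ^ (c * i + s * j₂ * k) * (a ^ i * u₂) := by
      calc _ = u⁻¹ * (((x ^ k)⁻¹ * a ^ i * x ^ k) * ((x ^ k)⁻¹ * u₂ * x ^ k)) * u := by rw [hau]; group
        _ = u⁻¹ * (y ^ ((k : ℤ) * i) * z ^ (c * i) * (a ^ i * u₂ * z ^ (s * j₂ * k))) * u := by
          rw [hai, hxe']; group
        _ = u⁻¹ * (y ^ ((k : ℤ) * i) * z ^ (c * i + s * j₂ * k) * (a ^ i * u₂)) * u := by
          rw [← ((H.z_comm (mul_mem (zpow_mem H.ha i) (H.pairY_le hu₂))).zpow_left _).eq, zpow_add]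
          group
        _ = _ := by rw [hcu.inv_left.eq, inv_mul_cancel_right]
    rw [h4, hμl, hau] at h1
    have h5' := mul_right_cancel h1
    have h6 : y ^ ((k : ℤ) * i - μ) ∈ zpowers z := by
      have h7 : y ^ ((k : ℤ) * i - μ) = z ^ (l - (c * i + s * j₂ * k)) := by
        calc y ^ ((k : ℤ) * i - μ)
            = (y ^ μ)⁻¹ * (y ^ ((k : ℤ) * i) * z ^ (c * i + s * j₂ * k)) * (z ^ (c * i + s * j₂ * k))⁻¹ := by group
          _ = _ := by rw [h5', zpow_sub]; group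
      rw [h7]
      exact zpow_mem (mem_zpowers z) _
    have := (ZMod.intCast_zmod_eq_zero_iff_dvd _ p).2 (H.y_notMem h6)
    push_cast at this ⊢
    linear_combination this
  have hs0 : (s : ZMod p) ≠ 0 := fun h => H.hs ((ZMod.intCast_zmod_eq_zero_iff_dvd s p).1 h)
  have hi0 : (i : ZMod p) ≠ 0 := fun h => hi ((ZMod.intCast_zmod_eq_zero_iff_dvd i p).1 h)
  push_cast at r₁ r₂ hk
  have h3 : (3 : ZMod p) * ((i : ZMod p) * (s : ZMod p)) = 0 := by
    linear_combination (-4 : ZMod p) * r₁ + (-4 * (s : ZMod p) * (k : ZMod p)) * r₂ +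
      ((i : ZMod p) * (s : ZMod p) * (2 * (k : ZMod p) + 1)) * hk
  have h30 : ((3 : ℕ) : ZMod p) = 0 := by
    exact_mod_cast (mul_eq_zero.1 h3).resolve_right (mul_ne_zero hi0 hs0)
  have := Nat.le_of_dvd (by norm_num) ((ZMod.natCast_eq_zero_iff 3 p).1 h30)
  omega

theorem comm_mod_center (k : ℕ) :
    (QuotientGroup.mk' (Subgroup.center ↥W)) (⟨y, H.hy⟩ * (⟨x, H.hx⟩ : W) ^ k) =
      (QuotientGroup.mk' (Subgroup.center ↥W)) ((⟨x, H.hx⟩ : W) ^ k * ⟨y, H.hy⟩) := by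
  rw [QuotientGroup.mk'_apply, QuotientGroup.mk'_apply, QuotientGroup.eq, Subgroup.mem_center_iff]
  intro v
  apply Subtype.ext
  simp only [Subgroup.coe_mul, Subgroup.coe_inv, SubmonoidClass.coe_pow]
  obtain ⟨r, hr⟩ := H.conj_y (inv_mem (pow_mem H.x_mem_S k)) 1
  have he : (y * x ^ k)⁻¹ * (x ^ k * y) = (z ^ r)⁻¹ := by
    calc (y * x ^ k)⁻¹ * (x ^ k * y) = ((x ^ k)⁻¹ * y ^ (1 : ℤ) * (x ^ k)⁻¹⁻¹)⁻¹ * y := by group
      _ = _ := by rw [hr]; group
  rw [he]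
  exact ((H.z_comm (H.W_le v.2)).zpow_left r).inv_left.symm.eq

/-- Every automorphism of `W` in a saturated system stabilizes `⟨y, z⟩`. -/
theorem map_y_mem (hS : IsPGroup p S) (hF : F.IsSaturated p) (h5 : 5 ≤ p) {f : Ω → Ω}
    (hf : IsMap F W f) : f y ∈ pairY y z := by
  by_contra hfy
  obtain ⟨u, hu, j, hj, hfj⟩ := H.exists_rename (H.map_mem_W hf le_rfl H.hy) hfy
  have H' := H.rename hu
  set x' := x * u
  obtain ⟨τ, hτ, hτf⟩ := (H.isIso_W hf).exists_aut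
  set E : W := ⟨y, H.hy⟩
  set X : W := ⟨x', H'.hx⟩
  set q := QuotientGroup.mk' (Subgroup.center ↥W)
  have hcX : ∀ k : ℕ, Commute (q E) (q (X ^ k)) := fun k => by
    show _ = _
    rw [← map_mul, ← map_mul, H'.comm_mod_center k]
  have hker : ∀ g : W, q g = 1 → (g : Ω) ∈ zpowers z := fun g hg => by
    have hc := Subgroup.mem_center_iff.1 ((QuotientGroup.eq_one_iff g).1 hg)
    exact H.mem_Z_of_comm g.2 (congrArg Subtype.val (hc ⟨x, H.hx⟩)) (congrArg Subtype.val (hc ⟨y, H.hy⟩))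
  have hzq : q ⟨z, H.z_mem_W⟩ = 1 := (QuotientGroup.eq_one_iff _).2 (Subgroup.mem_center_iff.2 fun v =>
    Subtype.ext (H.z_comm (H.W_le v.2)).eq.symm)
  have hjz : ¬ (p : ℤ) ∣ (j : ℤ) := fun h => hj (Int.natCast_dvd_natCast.1 h)
  obtain ⟨t', ht'⟩ := exists_inverse_mod hjz
  have hXj : (X ^ j) ^ t' = X := Subtype.ext (by
    rw [SubmonoidClass.coe_pow, SubmonoidClass.coe_pow, ← zpow_natCast x' j]
    exact zpow_pow_inverse H'.xp ht')
  have hspan : ∀ g : W, ∃ b c : ℤ, q g = q E ^ b * q (X ^ j) ^ c := by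
    intro g
    obtain ⟨b, l, k, hg⟩ := H'.decompW g g.2
    have hg' : g = E ^ b * ⟨z, H.z_mem_W⟩ ^ l * X ^ k := Subtype.ext (by simpa [E, X] using hg)
    refine ⟨b, (t' : ℤ) * k, ?_⟩
    rw [hg', map_mul, map_mul, map_zpow, map_zpow, map_zpow, hzq, one_zpow, mul_one, zpow_mul,
      zpow_natCast, ← map_pow, hXj]
  have hind : ∀ b c : ℤ, q E ^ b * q (X ^ j) ^ c = 1 → (p : ℤ) ∣ b ∧ (p : ℤ) ∣ c := by
    intro b c h
    rw [← map_zpow, ← map_zpow, ← map_mul] at h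
    have h1 : y ^ b * (x' ^ j) ^ c ∈ zpowers z := by simpa [E, X] using hker _ h
    have h2 : x' ^ ((j : ℤ) * c) ∈ pairY y z := by
      rw [zpow_mul, zpow_natCast]
      simpa [mul_assoc] using mul_mem (inv_mem (zpow_mem (y_mem_pairY y z) b)) (zpowers_le_pairY y z h1)
    have hc : (p : ℤ) ∣ c :=
      ((Nat.prime_iff_prime_int.1 hp.out).dvd_or_dvd (H'.xpow_notMem h2)).resolve_left hjz
    refine ⟨H.y_notMem ?_, hc⟩
    obtain ⟨c', rfl⟩ := hc
    rwa [← zpow_natCast x', ← zpow_mul, mul_left_comm, zpow_mul, zpow_natCast, H'.xp, one_zpow, mul_one] at h1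
  have hna : a ∈ Subgroup.normalizer (W : Set Ω) :=
    haveI := finite_of_le H.W_le
    mem_normalizer_of_maps fun _ hv => H.W_normal H.ha hv
  have htf : q (conjAut hna (X ^ j)) = q E ^ (j : ℤ) * q (X ^ j) := by
    have hX : conjAut hna X = X * E := Subtype.ext (H'.conj_a_x)
    rw [map_pow, hX, map_pow, map_mul, ((pow_one X ▸ hcX 1 : Commute (q E) (q X)).symm).mul_pow, zpow_natCast,
      ← map_pow q X]
    exact ((hcX j).pow_left j).symm.eq
  obtain ⟨n, hn, h, hh, hhE, hhX⟩ := exists_diag_of_transvection (by omega) (F.autGroup W) q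
    (fun h _ g hg => (QuotientGroup.eq_one_iff _).2 (Subgroup.mem_center_iff.2 fun v => by
      have hc := Subgroup.mem_center_iff.1 ((QuotientGroup.eq_one_iff g).1 hg) (h.symm v)
      simpa [MulEquiv.apply_symm_apply] using congrArg h hc))
    E (X ^ j) (hcX j) (by rw [← map_pow, show E ^ p = 1 from Subtype.ext H.yp, map_one])
    (by rw [← map_pow, show (X ^ j) ^ p = 1 from Subtype.ext (by
      simp [X, ← pow_mul, mul_comm j, pow_mul x', H'.xp]), map_one]) hspan hind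
    (conjAut_mem_autGroup F H.W_le ⟨H.ha, hna⟩)
    (congrArg q (Subtype.ext (show a * y * a⁻¹ = y by rw [H.hya.symm.eq, mul_inv_cancel_right])))
    htf hjz hτ
    (congrArg q (Subtype.ext (by
      rw [← autMap_coe τ E, hτf _ H.hy, hfj, SubmonoidClass.coe_pow])))
  have hhm := (mem_autGroup_iff H.W_le).1 hh
  have hy2 : autMap h y ∈ pairY y z := by
    rw [autMap_apply h H.hy]
    have h1 : q ((E ^ 2)⁻¹ * h E) = 1 := by rw [map_mul, map_inv, map_pow, hhE, inv_mul_cancel]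
    have h2 := zpowers_le_pairY y z (hker _ h1)
    simpa [E] using mul_mem (pow_mem (y_mem_pairY y z) 2) h2
  have hx2 : ∃ v ∈ pairY y z, autMap h x' = x' ^ n * v := by
    have h1 : q ((X ^ n)⁻¹ * h X) = 1 := by
      have h3 : q (h X) = q X ^ n := by
        conv_lhs => rw [← hXj]
        rw [map_pow, map_pow, hhX, ← pow_mul, mul_comm, pow_mul, ← map_pow, hXj]
      rw [map_mul, map_inv, map_pow, h3, inv_mul_cancel]
    refine ⟨(x' ^ n)⁻¹ * autMap h x', ?_, by group⟩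
    rw [autMap_apply h H'.hx]
    simpa [X] using zpowers_le_pairY y z (hker _ h1)
  obtain ⟨η, hη, he⟩ := H'.extend_aut hS hF hhm hy2
  exact H'.weights_false h5 hη (he y H.hy ▸ hy2) hn (he x' H'.hx ▸ hx2)

/-- `⟨x, z⟩` is not mapped into `⟨y, z⟩`. -/
theorem not_map_pairY (hS : IsPGroup p S) (hF : F.IsSaturated p) (h5 : 5 ≤ p) {χ : Ω → Ω}
    (hχ : IsMap F (Subgroup.closure {x, z}) χ) (hx : χ x ∈ pairY y z) (hz : χ z ∈ pairY y z) : False := by
  set V := Subgroup.closure ({x, z} : Set Ω) with hV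
  have hxV : x ∈ V := Subgroup.subset_closure (by simp)
  have hzV : z ∈ V := Subgroup.subset_closure (by simp)
  obtain ⟨i, hi⟩ := Subgroup.mem_zpowers_iff.1 (map_mem_zpowers_of_root hS hF H.z_mem_S (fun _ => H.z_comm)
    H.zp H.hz1 (H.pow_pm (by omega)) H.ha H.haz (hχ.mono (zpowers_le.2 hzV)) (H.a_comm_Y hz))
  have hi0 : ¬ (p : ℤ) ∣ i := not_dvd_of_zpow_ne_one H.zp fun h =>
    H.hz1 (hχ.injOn hzV (one_mem _) (by rw [← hi, h, hχ.map_one]))
  obtain ⟨i', hi'⟩ := exists_inverse_mod hi0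
  have hzi : χ (z ^ i') = z := by rw [hχ.map_pow hzV, ← hi, zpow_pow_inverse H.zp hi']
  obtain ⟨j, l, hjl⟩ := H.mem_pairY.1 hx
  have hj : ¬ (p : ℤ) ∣ j := by
    rintro ⟨c, rfl⟩
    rw [zpow_mul, zpow_natCast, H.yp, one_zpow, one_mul, ← hzi, ← isMap_map_zpow hχ (pow_mem hzV i')] at hjl
    have h := zpowers_le_pairY y z (zpow_mem (pow_mem (mem_zpowers z) i') l)
    rw [← hχ.injOn hxV (zpow_mem (pow_mem hzV i') l) hjl] at h
    have h1 := H.xpow_notMem (k := 1) (by rwa [zpow_one])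
    have := Int.le_of_dvd one_pos h1
    omega
  obtain ⟨j', hj'⟩ := exists_inverse_mod hj
  have him : imgSub χ V = pairY y z := by
    refine le_antisymm ?_ ?_
    · intro v hv
      obtain ⟨w, hw, rfl⟩ := hχ.mem_imgSub.1 hv
      obtain ⟨b, c, rfl⟩ := H.mem_pairV.1 hw
      rw [hχ.map_mul (zpow_mem hxV b) (zpow_mem hzV c), isMap_map_zpow hχ hxV, isMap_map_zpow hχ hzV]
      exact mul_mem (zpow_mem hx b) (zpow_mem hz c)
    · have hzI : z ∈ imgSub χ V := hχ.mem_imgSub.2 ⟨_, pow_mem hzV i', hzi⟩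
      rw [pairY, Subgroup.closure_le]
      rintro v (rfl | rfl)
      · have h1 : v ^ j ∈ imgSub χ V := by
          have h2 := mul_mem (hχ.mem_imgSub.2 ⟨x, hxV, rfl⟩) (inv_mem (zpow_mem hzI l))
          rwa [hjl, mul_inv_cancel_right] at h2
        have h2 := pow_mem h1 j'
        rwa [zpow_pow_inverse H.yp hj'] at h2
      · exact hzI
  have hiso : IsIso F V (pairY y z) χ := him ▸ hχ.isIso
  obtain ⟨g, hg, hgy, hgx⟩ := H.exists_conj (s * i * j') 0 0
  have hN : ∀ v ∈ zpowers y, InExt S V χ v := by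
    intro v hv
    have hymem : InExt S V χ y := by
      have hyn : ∀ w ∈ V, y * w * y⁻¹ ∈ V := by
        intro w hw
        obtain ⟨b, c, rfl⟩ := H.mem_pairV.1 hw
        rw [show y * (x ^ b * z ^ c) * y⁻¹ = (y * x * y⁻¹) ^ b * (y * z * y⁻¹) ^ c by
          rw [conj_zpow, conj_zpow]; group, H.conj_y_x, H.y_comm_z.eq, mul_inv_cancel_right]
        exact mul_mem (zpow_mem (mul_mem hxV (zpow_mem hzV s)) b) (zpow_mem hzV c)
      haveI := finite_of_le H.pairV_le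
      refine ⟨H.y_mem_S, mem_normalizer_of_maps hyn, g, hg, fun w hw => ?_⟩
      obtain ⟨b, c, rfl⟩ := H.mem_pairV.1 hw
      have hyx : y * x * y⁻¹ ∈ V := hyn x hxV
      have hgz : g * χ z * g⁻¹ = χ z := by
        rw [← hi, ← ((H.z_comm hg).zpow_left i).eq, mul_inv_cancel_right]
      have hex : χ (y * x * y⁻¹) = g * χ x * g⁻¹ := by
        have h1 : g * y ^ j * g⁻¹ = y ^ j * z ^ (i * s) := by
          rw [← conj_zpow, hgy, (H.y_comm_z.zpow_right _).mul_zpow, ← zpow_mul]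
          congr 1
          exact zpow_eq_of_zmod_eq H.zp (by push_cast; linear_combination ((s : ZMod p) * i) * hj')
        rw [H.conj_y_x, hχ.map_mul hxV (zpow_mem hzV s), isMap_map_zpow hχ hzV, ← hi, hjl, ← zpow_mul]
        calc y ^ j * z ^ l * z ^ (i * s) = y ^ j * z ^ (i * s) * z ^ l := by
              rw [mul_assoc, mul_assoc, ((Commute.refl z).zpow_zpow l (i * s)).eq]
          _ = g * y ^ j * g⁻¹ * z ^ l := by rw [h1]
          _ = g * y ^ j * (z ^ l * g⁻¹) := by rw [((H.z_comm (inv_mem hg)).zpow_left l).eq]; group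
          _ = _ := by group
      rw [show y * (x ^ b * z ^ c) * y⁻¹ = (y * x * y⁻¹) ^ b * (y * z * y⁻¹) ^ c by
          rw [conj_zpow, conj_zpow]; group,
        hχ.map_mul (zpow_mem hyx b) (zpow_mem (hyn z hzV) c), hχ.map_mul (zpow_mem hxV b) (zpow_mem hzV c),
        isMap_map_zpow hχ hyx, isMap_map_zpow hχ (hyn z hzV), isMap_map_zpow hχ hxV, isMap_map_zpow hχ hzV, hex,
        show y * z * y⁻¹ = z by rw [H.y_comm_z.eq, mul_inv_cancel_right]]
      conv_lhs => rw [← hgz]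
      rw [conj_zpow, conj_zpow]
      group
    obtain ⟨φ, hφ, hφχ⟩ := hχ
    have hext := (mem_extender_iff hφχ).2 hymem
    exact (mem_extender_iff hφχ).1 (zpowers_le.2 hext hv)
  have hYn : F.IsFullyNormalized (pairY y z) :=
    isFullyNormalized_of_conj_mem H.pairY_le fun _ hg _ hu => H.Y_normal hg hu
  obtain ⟨ψ, hψ, he⟩ := receptive_extend (receptive_of_isFullyNormalized hS hF hYn) hiso hN
  have hWle : W ≤ zpowers y ⊔ V := H.W_le_closure.trans ((Subgroup.closure_le _).2 (by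
    rintro w (rfl | rfl)
    exacts [Subgroup.mem_sup_right hxV, Subgroup.mem_sup_left (mem_zpowers w)]))
  have hψW := hψ.mono hWle
  obtain ⟨g', hg', hgψ, -⟩ := (H.isIso_W hψW).exists_symm
  have h1 : g' (ψ x) ∈ pairY y z := H.map_pairY_mem hg'.isMap H.pairY_le_W (H.map_y_mem hS hF h5 hg'.isMap)
    (zpowers_le_pairY y z (H.map_z_mem_of_W hg'.isMap)) (he x hxV ▸ hx)
  rw [hgψ x H.hx] at h1
  have h2 := H.xpow_notMem (k := 1) (by rwa [zpow_one])
  have := Int.le_of_dvd one_pos h2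
  omega

theorem not_zpowers_to_x (hS : IsPGroup p S) (hF : F.IsSaturated p) (h5 : 5 ≤ p)
    (hV : F.IsFullyNormalized (Subgroup.closure {x, z})) {f : Ω → Ω} (hf : IsMap F (zpowers z) f)
    {j : ℕ} (hj : ¬ p ∣ j) (hfz : f z = x ^ j) : False := by
  set V := Subgroup.closure ({x, z} : Set Ω)
  have hxV : x ∈ V := Subgroup.subset_closure (by simp)
  have hzV : z ∈ V := Subgroup.subset_closure (by simp)
  have hjz : ¬ (p : ℤ) ∣ (j : ℤ) := fun h => hj (Int.natCast_dvd_natCast.1 h)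
  obtain ⟨t, ht⟩ := exists_inverse_mod hjz
  have hxjt : (x ^ j) ^ t = x := by rw [← zpow_natCast x j]; exact zpow_pow_inverse H.xp ht
  obtain ⟨g, hg, hgf, -⟩ := hf.isIso.exists_symm
  set Q := imgSub f (zpowers z)
  have hQV : ∀ v ∈ Q, v ∈ V := by
    intro v hv
    obtain ⟨w, hw, rfl⟩ := hf.mem_imgSub.1 hv
    obtain ⟨i, rfl⟩ := Subgroup.mem_zpowers_iff.1 hw
    rw [isMap_map_zpow hf (mem_zpowers z), hfz]
    exact zpow_mem (pow_mem hxV j) i
  obtain ⟨ψ, hψ', he⟩ := receptive_extend (receptive_zpowers_of_central hS hF H.z_mem_S (fun _ => H.z_comm)) hg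
    (N := V) (fun v hv => hg.isMap.inExt_of_centralizes
      (mem_centralizerIn.2 ⟨H.pairV_le hv, fun w hw => (H.V_comm (hQV w hw) hv).eq⟩))
  have hψ := hψ'.mono (le_sup_left : V ≤ V ⊔ Q)
  have hψj : ψ (x ^ j) = z := by
    rw [← hfz, he _ (hf.mem_imgSub.2 ⟨z, mem_zpowers z, rfl⟩), hgf z (mem_zpowers z)]
  have hψx : ψ x = z ^ t := by
    conv_lhs => rw [← hxjt]
    rw [hψ.map_pow (pow_mem hxV j), hψj]
  obtain ⟨c, l, k₀, hw⟩ := H.decompW _ (H.map_mem_W hψ H.pairV_le_W hzV)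
  set k := (k₀ : ZMod p).val
  rw [H.xpow_nat k₀] at hw
  have hk : (k : ZMod p) ≠ 0 := by
    intro h
    obtain ⟨d, hd⟩ := (ZMod.natCast_eq_zero_iff k p).1 h
    rw [show x ^ k = 1 by rw [hd, pow_mul, H.xp, one_pow], mul_one] at hw
    exact H.not_map_pairY hS hF h5 hψ (hψx ▸ pow_mem (z_mem_pairY y z) t)
      (hw ▸ H.mem_pairY.2 ⟨_, _, rfl⟩)
  set b : ℤ := ((-(c : ZMod p) / (k : ZMod p)).val : ℤ)
  have hb : ((c + b * k : ℤ) : ZMod p) = 0 := by
    push_cast [b]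
    rw [ZMod.natCast_zmod_val, div_mul_cancel₀ _ hk, add_neg_cancel]
  obtain ⟨d, hd⟩ := H.mul_ypow_pow b k
  set τ : Ω → Ω := conjMap (a ^ b) ∘ ψ
  have hτ : IsMap F V τ :=
    hψ.comp (isMap_conj F le_rfl (zpow_mem H.ha b)) fun v hv => hψ.mem_S hv
  have hτx : τ x = z ^ t := by
    show conjMap (a ^ b) (ψ x) = _
    rw [hψx, conjMap_apply, H.conj_apow_pairY b (pow_mem (z_mem_pairY y z) t)]
  have hτz : τ z = z ^ (l + d) * x ^ k := by
    show conjMap (a ^ b) (ψ z) = _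
    rw [hw, conjMap_apply]
    have hv : y ^ c * z ^ l ∈ pairY y z := H.mem_pairY.2 ⟨_, _, rfl⟩
    calc a ^ b * (y ^ c * z ^ l * x ^ k) * (a ^ b)⁻¹
        = a ^ b * (y ^ c * z ^ l) * (a ^ b)⁻¹ * (a ^ b * x * (a ^ b)⁻¹) ^ k := by rw [conj_pow]; group
      _ = y ^ c * z ^ l * (y ^ (b * k) * z ^ d * x ^ k) := by rw [H.conj_apow_pairY b hv, H.conj_apow_x, hd]
      _ = y ^ (c + b * k) * z ^ (l + d) * x ^ k := by
        rw [zpow_add, zpow_add, ← mul_assoc, (H.y_comm_z.zpow_zpow (b * k) l).mul_mul_mul_comm]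
      _ = _ := by rw [zpow_eq_of_zmod_eq H.yp (j := 0) (by rw [hb, Int.cast_zero]), zpow_zero, one_mul]
  haveI := finite_of_le H.pairV_le
  have hmaps : ∀ v ∈ V, τ v ∈ V := by
    intro v hv
    obtain ⟨i, n, rfl⟩ := H.mem_pairV.1 hv
    rw [hτ.map_mul (zpow_mem hxV i) (zpow_mem hzV n), isMap_map_zpow hτ hxV, isMap_map_zpow hτ hzV, hτx, hτz]
    exact mul_mem (zpow_mem (pow_mem hzV t) i) (zpow_mem (mul_mem (zpow_mem hzV _) (pow_mem hxV k)) n)
  obtain ⟨α, hα, hαe⟩ := (IsIso.mk hτ (hτ.image_eq_of_mapsTo hmaps)).exists_aut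
  set E : V := ⟨z, hzV⟩
  set X : V := ⟨x, hxV⟩
  have hαX : α (X ^ j) = E := Subtype.ext (by
    rw [← autMap_coe α (X ^ j), SubmonoidClass.coe_pow, hαe _ (pow_mem hxV j)]
    show conjMap (a ^ b) (ψ (x ^ j)) = z
    rw [hψj, conjMap_apply, H.conj_apow_pairY b (z_mem_pairY y z)])
  have hcomm : ∀ u v : V, Commute u v := fun u v => Subtype.ext (H.V_comm u.2 v.2).eq
  have hspan : ∀ g : V, ∃ i n : ℤ, g = E ^ i * (X ^ j) ^ n := by
    intro g
    obtain ⟨i, n, hg⟩ := H.mem_pairV.1 g.2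
    refine ⟨n, (t : ℤ) * i, ?_⟩
    rw [zpow_mul, zpow_natCast, show (X ^ j) ^ t = X from Subtype.ext (by simpa [X] using hxjt),
      (hcomm _ _).eq]
    exact Subtype.ext (by simpa [E, X] using hg)
  have hind : ∀ i n : ℤ, E ^ i * (X ^ j) ^ n = 1 → (p : ℤ) ∣ i ∧ (p : ℤ) ∣ n := by
    intro i n h
    have h1 : z ^ i * (x ^ j) ^ n = 1 := by simpa [E, X] using congrArg Subtype.val h
    have h2 : x ^ ((j : ℤ) * n) ∈ pairY y z := by
      rw [zpow_mul, zpow_natCast, eq_inv_of_mul_eq_one_right h1]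
      exact inv_mem (zpow_mem (z_mem_pairY y z) i)
    have hn : (p : ℤ) ∣ n :=
      ((Nat.prime_iff_prime_int.1 hp.out).dvd_or_dvd (H.xpow_notMem h2)).resolve_left hjz
    obtain ⟨n', rfl⟩ := hn
    rw [← zpow_natCast x, ← zpow_mul, mul_left_comm, zpow_mul, zpow_natCast, H.xp, one_zpow, mul_one] at h1
    exact ⟨H.dvd_of_z_zpow h1, dvd_mul_right _ _⟩
  have hyn : y ∈ Subgroup.normalizer (V : Set Ω) := by
    refine mem_normalizer_of_maps fun w hw => ?_
    obtain ⟨i, n, rfl⟩ := H.mem_pairV.1 hw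
    rw [show y * (x ^ i * z ^ n) * y⁻¹ = (y * x * y⁻¹) ^ i * (y * z * y⁻¹) ^ n by
      rw [conj_zpow, conj_zpow]; group, H.conj_y_x, H.y_comm_z.eq, mul_inv_cancel_right]
    exact mul_mem (zpow_mem (mul_mem hxV (zpow_mem hzV s)) i) (zpow_mem hzV n)
  have htE : conjAut hyn E = E :=
    Subtype.ext (show y * z * y⁻¹ = z by rw [H.y_comm_z.eq, mul_inv_cancel_right])
  have htX : conjAut hyn (X ^ j) = E ^ (s * j) * X ^ j := Subtype.ext (by
    show y * ((X ^ j : V) : Ω) * y⁻¹ = _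
    simp only [E, X, Subgroup.coe_mul, SubmonoidClass.coe_pow, SubgroupClass.coe_zpow]
    rw [← conj_pow, H.conj_y_x, (H.x_comm_z.zpow_right s).mul_pow, ← zpow_natCast (z ^ s), ← zpow_mul,
      ((H.x_comm_z.pow_left j).zpow_right (s * j)).eq])
  obtain ⟨n, hn, h, hh, hhE, hhX⟩ := exists_diag_of_transvection (by omega) (F.autGroup V) (MonoidHom.id V)
    (fun h _ g hg => by simp_all) E (X ^ j) (hcomm _ _) (Subtype.ext H.zp)
    (Subtype.ext (show (x ^ j) ^ p = 1 by rw [← pow_mul, mul_comm, pow_mul, H.xp, one_pow]))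
    hspan hind (conjAut_mem_autGroup F H.pairV_le ⟨H.y_mem_S, hyn⟩) htE htX
    (fun h => hjz (H.dvd_of_s_mul h)) (inv_mem hα)
    (show α⁻¹ E = X ^ j by rw [← hαX]; exact α.symm_apply_apply _)
  simp only [MonoidHom.id_apply] at hhE hhX
  have hXn : h X = X ^ n := by
    have hXj : (X ^ j) ^ t = X := Subtype.ext (by simpa [X] using hxjt)
    conv_lhs => rw [← hXj]
    rw [map_pow, hhX, ← pow_mul, mul_comm, pow_mul, hXj]
  have hhm := (mem_autGroup_iff H.pairV_le).1 hh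
  have hhx : autMap h x = x ^ n := by
    rw [autMap_apply h hxV, hXn]; rfl
  have hhz : autMap h z = z ^ 2 := by
    rw [autMap_apply h hzV, hhE]; rfl
  have hN : InExt S V (autMap h) y := by
    refine ⟨H.y_mem_S, hyn, y ^ (4 : ℤ), zpow_mem H.y_mem_S 4, fun w hw => ?_⟩
    obtain ⟨i, q, rfl⟩ := H.mem_pairV.1 hw
    have hyx : y * x * y⁻¹ = x * z ^ s := H.conj_y_x
    rw [show y * (x ^ i * z ^ q) * y⁻¹ = (y * x * y⁻¹) ^ i * (y * z * y⁻¹) ^ q by
        rw [conj_zpow, conj_zpow]; group, hyx, show y * z * y⁻¹ = z by rw [H.y_comm_z.eq, mul_inv_cancel_right],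
      hhm.map_mul (zpow_mem (mul_mem hxV (zpow_mem hzV s)) i) (zpow_mem hzV q),
      hhm.map_mul (zpow_mem hxV i) (zpow_mem hzV q), isMap_map_zpow hhm (mul_mem hxV (zpow_mem hzV s)),
      hhm.map_mul hxV (zpow_mem hzV s), isMap_map_zpow hhm hxV, isMap_map_zpow hhm hzV,
      isMap_map_zpow hhm hzV, hhx, hhz]
    have h4 : y ^ (4 : ℤ) * x ^ n * (y ^ (4 : ℤ))⁻¹ = x ^ n * (z ^ 2) ^ s := by
      have h4' := H.conj_ypow_xpow 4 n
      rw [zpow_natCast] at h4'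
      rw [h4', ← zpow_natCast z 2, ← zpow_mul]
      congr 1
      exact zpow_eq_of_zmod_eq H.zp (by
        push_cast at hn ⊢; linear_combination (2 * (s : ZMod p)) * hn)
    rw [← h4, conj_zpow]
    have h5' : Commute ((z ^ 2) ^ q) (y ^ (4 : ℤ))⁻¹ :=
      (((H.y_comm_z.zpow_left 4).inv_left.pow_right 2).zpow_right q).symm
    calc _ = y ^ (4 : ℤ) * (x ^ n) ^ i * ((y ^ (4 : ℤ))⁻¹ * (z ^ 2) ^ q) := by group
      _ = _ := by rw [← h5'.eq]; group
  have hN' : ∀ v ∈ zpowers y, InExt S V (autMap h) v := by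
    intro v hv
    obtain ⟨φ, hφ, hφh⟩ := hhm
    exact (mem_extender_iff hφh).1 (zpowers_le.2 ((mem_extender_iff hφh).2 hN) hv)
  obtain ⟨ψ₂, hψ₂, he₂⟩ := receptive_extend (receptive_of_isFullyNormalized hS hF hV)
    (isIso_autMap H.pairV_le hh) hN'
  have hWle : W ≤ zpowers y ⊔ V := H.W_le_closure.trans ((Subgroup.closure_le _).2 (by
    rintro w (rfl | rfl)
    exacts [Subgroup.mem_sup_right hxV, Subgroup.mem_sup_left (mem_zpowers w)]))
  have hψW := hψ₂.mono hWle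
  have hy2 := H.map_y_mem hS hF h5 hψW
  obtain ⟨η, hη, he₃⟩ := H.extend_aut hS hF hψW hy2
  refine H.weights_false h5 hη (he₃ y H.hy ▸ hy2) hn ⟨1, one_mem _, ?_⟩
  rw [he₃ x H.hx, he₂ x hxV, hhx, mul_one]

/-- `⟨z⟩` is weakly closed. -/
theorem map_z_mem (hS : IsPGroup p S) (hF : F.IsSaturated p) (h5 : 5 ≤ p) {f : Ω → Ω}
    (hf : IsMap F (zpowers z) f) : f z ∈ zpowers z := by
  by_contra hfz
  have hfW : f z ∈ W := H.map_mem_W hf (zpowers_le.2 H.z_mem_W) (mem_zpowers z)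
  have hfY : f z ∉ pairY y z := fun h => hfz (map_mem_zpowers_of_root hS hF H.z_mem_S (fun _ => H.z_comm)
    H.zp H.hz1 (H.pow_pm (by omega)) H.ha H.haz hf (H.a_comm_Y h))
  obtain ⟨u, hu, j, hj, hfj⟩ := H.exists_rename hfW hfY
  have H' := H.rename hu
  set x' := x * u
  set V := Subgroup.closure ({x', z} : Set Ω)
  have hxV : x' ∈ V := Subgroup.subset_closure (by simp)
  have hzV : z ∈ V := Subgroup.subset_closure (by simp)
  obtain ⟨R, hVR, hR⟩ := exists_isFullyNormalized F H'.pairV_le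
  obtain ⟨χ, hχ⟩ := isConj_iff.1 hVR
  have hRW : R ≤ W := fun r hr => by
    obtain ⟨w, hw, rfl⟩ := hχ.exists_preimage hr
    exact H.map_mem_W hχ.isMap H'.pairV_le_W hw
  have hRc : ∀ r ∈ R, ∀ r' ∈ R, Commute r r' := by
    intro r hr r' hr'
    obtain ⟨w, hw, rfl⟩ := hχ.exists_preimage hr
    obtain ⟨w', hw', rfl⟩ := hχ.exists_preimage hr'
    show _ = _
    rw [← hχ.isMap.map_mul hw hw', ← hχ.isMap.map_mul hw' hw, (H'.V_comm hw hw').eq]
  have hnot : ¬ ∀ r ∈ R, r ∈ pairY y z := fun h =>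
    H'.not_map_pairY hS hF h5 hχ.isMap (h _ (hχ.mem hxV)) (h _ (hχ.mem hzV))
  have hRY : ∀ r ∈ R, r ∈ pairY y z → r ∈ zpowers z := by
    intro r hr hrY
    obtain ⟨c, l, rfl⟩ := H.mem_pairY.1 hrY
    by_cases hc : (p : ℤ) ∣ c
    · obtain ⟨c', rfl⟩ := hc
      rw [zpow_mul, zpow_natCast, H.yp, one_zpow, one_mul]
      exact zpow_mem (mem_zpowers z) l
    · refine absurd (fun r' hr' => H.mem_Y_of_comm (hRW hr') ?_) hnot
      obtain ⟨c', hc'⟩ := exists_inverse_mod hc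
      have h1 : Commute (y ^ c) r' := by
        simpa using (hRc _ hr r' hr').mul_left ((H.z_comm (H.W_le (hRW hr'))).zpow_left l).inv_left
      rw [← zpow_pow_inverse H.yp hc']
      exact h1.pow_left c'
  have hzR : z ∈ R := by
    obtain ⟨r, hr, hrY, hr1⟩ : ∃ r ∈ R, r ∈ pairY y z ∧ r ≠ 1 := by
      obtain ⟨v₁, hv₁, k₁, hk₁⟩ := H'.W_form (hRW (hχ.mem hxV))
      obtain ⟨v₂, hv₂, k₂, hk₂⟩ := H'.W_form (hRW (hχ.mem hzV))
      by_cases hk : p ∣ k₁
      · obtain ⟨c, rfl⟩ := hk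
        rw [pow_mul, H'.xp, one_pow, mul_one] at hk₁
        refine ⟨_, hχ.mem hxV, hk₁ ▸ hv₁, fun h => ?_⟩
        have h1 : x' = 1 := hχ.isMap.injOn hxV (one_mem _) (h.trans hχ.isMap.map_one.symm)
        have := Int.le_of_dvd one_pos (H'.xpow_notMem (k := 1) (by rw [zpow_one, h1]; exact one_mem _))
        omega
      · set c := (-(k₂ : ZMod p) / (k₁ : ZMod p)).val
        have hc : ((k₂ + k₁ * c : ℕ) : ZMod p) = 0 := by
          push_cast [c]
          rw [ZMod.natCast_zmod_val, mul_div_cancel₀ _ (fun h => hk ((ZMod.natCast_eq_zero_iff k₁ p).1 h)),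
            add_neg_cancel]
        have hx0 : x' ^ (k₂ + k₁ * c) = 1 := by
          obtain ⟨d, hd⟩ := (ZMod.natCast_eq_zero_iff _ p).1 hc
          rw [hd, pow_mul, H'.xp, one_pow]
        refine ⟨χ (z * x' ^ c), hχ.mem (mul_mem hzV (pow_mem hxV c)), ?_, fun h => ?_⟩
        · rw [hχ.isMap.map_mul hzV (pow_mem hxV c), hχ.isMap.map_pow hxV, hk₁, hk₂]
          have he := H'.mul_pow_mem (pow_mem H'.x_mem_S k₁) hv₁ c
          rw [show v₂ * x' ^ k₂ * (v₁ * x' ^ k₁) ^ c = v₂ * (x' ^ k₂ * ((v₁ * x' ^ k₁) ^ c * ((x' ^ k₁) ^ c)⁻¹) *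
            (x' ^ k₂)⁻¹) * x' ^ (k₂ + k₁ * c) by rw [pow_add, pow_mul]; group, hx0, mul_one]
          exact mul_mem hv₂ (H'.Y_normal (pow_mem H'.x_mem_S k₂) he)
        · have h1 : z * x' ^ c = 1 :=
            hχ.isMap.injOn (mul_mem hzV (pow_mem hxV c)) (one_mem _) (h.trans hχ.isMap.map_one.symm)
          obtain ⟨d, hd⟩ := H'.xpow_notMem (k := (c : ℤ)) (by
            rw [zpow_natCast, eq_inv_of_mul_eq_one_right h1]; exact inv_mem (z_mem_pairY y z))
          rw [← zpow_natCast x', hd, zpow_mul, zpow_natCast, H'.xp, one_zpow, mul_one] at h1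
          exact H.hz1 h1
    obtain ⟨l, rfl⟩ := Subgroup.mem_zpowers_iff.1 (hRY r hr hrY)
    obtain ⟨l', hl'⟩ := exists_inverse_mod (not_dvd_of_zpow_ne_one H.zp hr1)
    rw [← zpow_pow_inverse H.zp hl']
    exact pow_mem hr l'
  obtain ⟨r₁, hr₁, hr₁Y⟩ : ∃ r ∈ R, r ∉ pairY y z := by simpa using hnot
  obtain ⟨u', hu', j', hj', hr₁j⟩ := H'.exists_rename (hRW hr₁) hr₁Y
  obtain ⟨b, c, hbc⟩ := H.mem_pairY.1 hu'
  have H'' := H'.rename (H'.mem_pairY.2 ⟨b, 0, rfl⟩ : y ^ b * z ^ (0 : ℤ) ∈ pairY y z)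
  rw [zpow_zero, mul_one] at H''
  set x'' := x' * y ^ b
  have hx''R : x'' ∈ R := by
    have hjz : ¬ (p : ℤ) ∣ (j' : ℤ) := fun h => hj' (Int.natCast_dvd_natCast.1 h)
    obtain ⟨t, ht⟩ := exists_inverse_mod hjz
    have h1 : x' * u' ∈ R := by
      rw [← zpow_pow_inverse ((H'.rename hu').xp) ht, zpow_natCast, ← hr₁j]
      exact pow_mem hr₁ t
    have h2 := mul_mem h1 (inv_mem (zpow_mem hzR c))
    rwa [hbc, mul_assoc, mul_inv_cancel_right] at h2
  have hReq : R = Subgroup.closure ({x'', z} : Set Ω) := by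
    refine le_antisymm (fun r hr => ?_) ((Subgroup.closure_le _).2 (by
      rintro w (rfl | rfl)
      exacts [hx''R, hzR]))
    obtain ⟨v, hv, k, rfl⟩ := H''.W_form (hRW hr)
    have hvR : v ∈ R := by simpa using mul_mem hr (inv_mem (pow_mem hx''R k))
    refine mul_mem ?_ (pow_mem (Subgroup.subset_closure (by simp)) k)
    exact (zpowers_le.2 (Subgroup.subset_closure (by simp))) (hRY v hvR hv)
  refine H''.not_zpowers_to_x hS hF h5 (hReq ▸ hR) (f := conjMap (a ^ b) ∘ f) (hf.comp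
    (isMap_conj F le_rfl (zpow_mem H.ha b)) fun v hv => hf.mem_S hv) hj ?_
  rw [Function.comp_apply, hfj, conjMap_apply, ← conj_pow, H'.conj_apow_x]

/-- `⟨y, z⟩` is weakly closed. -/
theorem map_pairY (hS : IsPGroup p S) (hF : F.IsSaturated p) (h5 : 5 ≤ p) {f : Ω → Ω}
    (hf : IsMap F (pairY y z) f) {v : Ω} (hv : v ∈ pairY y z) : f v ∈ pairY y z := by
  have hzY := z_mem_pairY y z
  have hfz := H.map_z_mem hS hF h5 (hf.mono (zpowers_le_pairY y z))
  refine H.map_pairY_mem hf le_rfl ?_ (zpowers_le_pairY y z hfz) hv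
  by_contra hfy
  obtain ⟨u, hu, j, hj, hfj⟩ := H.exists_rename (H.map_mem_W hf H.pairY_le_W (y_mem_pairY y z)) hfy
  have H' := H.rename hu
  obtain ⟨g, hg, -, -⟩ := hf.isIso.exists_symm
  have hjz : ¬ (p : ℤ) ∣ (j : ℤ) := fun h => hj (Int.natCast_dvd_natCast.1 h)
  obtain ⟨t, ht⟩ := exists_inverse_mod hjz
  have hxI : x * u ∈ imgSub f (pairY y z) := by
    rw [← zpow_pow_inverse H'.xp ht, zpow_natCast, ← hfj]
    exact pow_mem (hf.mem_imgSub.2 ⟨y, y_mem_pairY y z, rfl⟩) t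
  have hzI : z ∈ imgSub f (pairY y z) := by
    obtain ⟨i, hi⟩ := Subgroup.mem_zpowers_iff.1 hfz
    have hi0 : ¬ (p : ℤ) ∣ i := not_dvd_of_zpow_ne_one H.zp fun h =>
      H.hz1 (hf.injOn hzY (one_mem _) (by rw [← hi, h, hf.map_one]))
    obtain ⟨i', hi'⟩ := exists_inverse_mod hi0
    have h1 := pow_mem (hf.mem_imgSub.2 ⟨z, hzY, rfl⟩ : f z ∈ imgSub f (pairY y z)) i'
    rwa [← hi, zpow_pow_inverse H.zp hi'] at h1
  have hVI : Subgroup.closure ({x * u, z} : Set Ω) ≤ imgSub f (pairY y z) :=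
    (Subgroup.closure_le _).2 (by rintro w (rfl | rfl); exacts [hxI, hzI])
  exact H'.not_map_pairY hS hF h5 (hg.isMap.mono hVI) (hg.mem hxI) (hg.mem hzI)

/-- `S` is normal in every saturated system over it. -/
theorem isNormal (hS : IsPGroup p S) (hF : F.IsSaturated p) (h5 : 5 ≤ p) : F.IsNormal S := by
  set Y := pairY y z
  refine H90.isNormal_of_series hS hF ⟨le_rfl, fun R _ φ hφ v => (F.le_of_mem hφ).2 v⟩
    (fun k => if k = 0 then ⊥ else if k = 1 then zpowers z else if k = 2 then Y else S) 3 (by simp) (by simp)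
    ?_ ?_ ?_
  · refine monotone_nat_of_le_succ fun k => ?_
    match k with
    | 0 => simp
    | 1 => simpa using zpowers_le_pairY y z
    | 2 => simpa using H.pairY_le
    | k + 3 => simp
  · intro k hk
    rw [Subgroup.commutator_le]
    intro g₁ hg₁ g hg
    match k, hk, hg₁ with
    | 0, _, hg₁ =>
      obtain ⟨l, rfl⟩ := Subgroup.mem_zpowers_iff.1 (by simpa using hg₁)
      simp [commutatorElement_eq_one_iff_mul_comm, ((H.z_comm hg).zpow_left l).eq]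
    | 1, _, hg₁ =>
      have hu : g₁ ∈ Y := by simpa using hg₁
      obtain ⟨j, l, rfl⟩ := H.mem_pairY.1 hu
      obtain ⟨r, hr⟩ := H.conj_y hg j
      have he : g * (y ^ j * z ^ l) * g⁻¹ = y ^ j * z ^ l * z ^ r := by
        calc g * (y ^ j * z ^ l) * g⁻¹ = g * y ^ j * (z ^ l * g⁻¹) := by group
          _ = g * y ^ j * g⁻¹ * z ^ l := by rw [((H.z_comm (inv_mem hg)).zpow_left l).eq]; group
          _ = _ := by rw [hr, mul_assoc, mul_assoc, ((Commute.refl z).zpow_zpow r l).eq]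
      have : ⁅y ^ j * z ^ l, g⁆ = (z ^ r)⁻¹ := by
        calc _ = (y ^ j * z ^ l) * (g * (y ^ j * z ^ l) * g⁻¹)⁻¹ := by simp only [commutatorElement_def]; group
          _ = y ^ j * z ^ l * ((z ^ r)⁻¹ * (y ^ j * z ^ l)⁻¹) := by rw [he, mul_inv_rev]
          _ = _ := by
            rw [((H.z_comm (inv_mem (H.pairY_le hu))).zpow_left r).inv_left.eq, mul_inv_cancel_left]
      simp [this]
    | 2, _, hg₁ =>
      have hg₁S : g₁ ∈ S := by simpa using hg₁
      set N := Y.subgroupOf S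
      haveI : N.Normal := ⟨fun v hv g' => Subgroup.mem_subgroupOf.2 (H.Y_normal g'.2 hv)⟩
      have hcomm : ∀ u v : S, Commute (QuotientGroup.mk' N u) (QuotientGroup.mk' N v) := by
        have hax : Commute (QuotientGroup.mk' N ⟨a, H.ha⟩) (QuotientGroup.mk' N ⟨x, H.x_mem_S⟩) := by
          show _ = _
          rw [← map_mul, ← map_mul]
          refine ((QuotientGroup.eq).2 (Subgroup.mem_subgroupOf.2 ?_)).symm
          show (x * a)⁻¹ * (a * x) ∈ Y
          rw [show (x * a)⁻¹ * (a * x) = a⁻¹ * (x⁻¹ * a * x) by group, H.hxa, H.hya.eq, inv_mul_cancel_left]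
          exact y_mem_pairY y z
        have hform : ∀ u : S, ∃ i k : ℤ,
            QuotientGroup.mk' N u = QuotientGroup.mk' N ⟨a, H.ha⟩ ^ i * QuotientGroup.mk' N ⟨x, H.x_mem_S⟩ ^ k := by
          intro u
          obtain ⟨i, j, l, k, hu⟩ := H.exists_form u.2
          refine ⟨i, k, ?_⟩
          have hu' : u = ⟨a, H.ha⟩ ^ i * (⟨y ^ j * z ^ l, H.pairY_le (H.mem_pairY.2 ⟨j, l, rfl⟩)⟩ *
              ⟨x, H.x_mem_S⟩ ^ k) := Subtype.ext (by simpa using hu)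
          rw [hu', map_mul, map_mul, map_zpow, map_zpow,
            show QuotientGroup.mk' N ⟨y ^ j * z ^ l, _⟩ = 1 from
              (QuotientGroup.eq_one_iff _).2 (Subgroup.mem_subgroupOf.2 (H.mem_pairY.2 ⟨j, l, rfl⟩)), one_mul]
        intro u v
        obtain ⟨i, k, hu⟩ := hform u
        obtain ⟨i', k', hv⟩ := hform v
        rw [hu, hv]
        exact (((Commute.refl _).zpow_zpow i i').mul_right (hax.zpow_zpow i k')).mul_left
          ((hax.symm.zpow_zpow k i').mul_right ((Commute.refl _).zpow_zpow k k'))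
      have h1 : ⁅(⟨g₁, hg₁S⟩ : S), ⟨g, hg⟩⁆ ∈ N := by
        rw [← QuotientGroup.eq_one_iff]
        show QuotientGroup.mk' N _ = 1
        rw [map_commutatorElement, commutatorElement_eq_one_iff_mul_comm]
        exact hcomm _ _
      simpa [N, commutatorElement_def] using Subgroup.mem_subgroupOf.1 h1
  · intro k hk
    match k, hk with
    | 0, _ =>
      rw [weaklyClosed_iff]
      refine ⟨bot_le, fun f hf => bot_unique fun v hv => ?_⟩
      obtain ⟨w, hw, rfl⟩ := hf.mem_imgSub.1 hv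
      simp_all [hf.map_one]
    | 1, _ =>
      rw [weaklyClosed_iff]
      refine ⟨by simpa using zpowers_le.2 H.z_mem_S, fun f hf => ?_⟩
      simp only [one_ne_zero, if_false, if_true] at hf ⊢
      haveI := finite_of_le (zpowers_le.2 H.z_mem_S)
      refine SetLike.coe_injective (hf.coe_imgSub.trans (hf.image_eq_of_mapsTo fun v hv => ?_))
      obtain ⟨l, rfl⟩ := Subgroup.mem_zpowers_iff.1 hv
      rw [isMap_map_zpow hf (mem_zpowers z)]
      exact zpow_mem (H.map_z_mem hS hF h5 hf) l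
    | 2, _ =>
      rw [weaklyClosed_iff]
      refine ⟨by simpa using H.pairY_le, fun f hf => ?_⟩
      have hne : ((2 : ℕ) = 1) ↔ False := iff_false_intro (by norm_num)
      simp only [OfNat.ofNat_ne_zero, hne, if_false, if_true] at hf ⊢
      haveI := finite_of_le H.pairY_le
      exact SetLike.coe_injective (hf.coe_imgSub.trans
        (hf.image_eq_of_mapsTo fun v hv => H.map_pairY hS hF h5 hf hv))

end Cfsg.Agent.PGroups.RankTwoFrame
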