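import Cfsg.Agent.PGroups.PCentral
import Cfsg.Agent.PGroups.RankTwo
import Cfsg.Agent.PGroups.Extraspecial
import Cfsg.Agent.PGroups.CyclicMaximal
import Cfsg.Agent.PGroups.Metacyclic

/-!
The `3`-groups of rank at most two: metacyclic, of maximal class, or the elements of order dividing `3`
form a non-abelian group of order `27`.

`C` is the centralizer of a normal elementary abelian subgroup `E` of order `9`, so `C` is `3`-central, and
`x` is an element outside `C`. If a cube of an element is not a product of cubes of elements of `C` the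
group is metacyclic; otherwise `⁅x, ⁅x, f⁆⁆ = f ^ (-3)` holds on the second layer and forces maximal class.
-/

set_option autoImplicit false
set_option linter.style.haveILetI false

namespace Cfsg.Agent.PGroups

open Subgroup
open scoped commutatorElement

universe u

section Identities

variable {G : Type*} [Group G]

/-- Iterating conjugation three times. -/
theorem conj_cube_eq (x d : G) :
    ⁅x, ⁅x, ⁅x, d⁆⁆⁆ * ⁅x, ⁅x, d⁆⁆ * ⁅x, ⁅x, d⁆⁆ * ⁅x, d⁆ * ⁅x, ⁅x, d⁆⁆ * ⁅x, d⁆ * ⁅x, d⁆ * d =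
      x ^ 3 * d * (x ^ 3)⁻¹ := by
  simp only [commutatorElement_def, pow_succ, pow_zero, one_mul]; group

theorem zpow_pow_comm (a : G) (i : ℤ) (n : ℕ) : (a ^ i) ^ n = (a ^ n) ^ i := by
  rw [← zpow_natCast, zpow_comm, zpow_natCast]

theorem cube_relation {x d v w : G} (hv : ⁅x, d⁆ = v) (hw : ⁅x, v⁆ = w) (ht : Commute (x ^ 3) d)
    (hvw : Commute w v) : ⁅x, w⁆ * w ^ 3 * v ^ 3 = 1 := by
  have h := conj_cube_eq x d
  rw [hv, hw, ht.eq, mul_inv_cancel_right] at h
  have h2 : ⁅x, w⁆ * w * w * v * w * v * v = 1 := mul_eq_right.mp h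
  calc ⁅x, w⁆ * w ^ 3 * v ^ 3 = ⁅x, w⁆ * w * w * (w * v) * v * v := by
        simp only [pow_succ, pow_zero, one_mul, mul_assoc]
    _ = ⁅x, w⁆ * w * w * v * w * v * v := by rw [hvw.eq]; simp only [mul_assoc]
    _ = 1 := h2

/-- `⁅x, a ^ n⁆ = ⁅x, a⁆ ^ n` when `⁅x, a⁆` commutes with `a`. -/
theorem commutatorElement_zpow_right_of_commute {x a : G} (h : Commute ⁅x, a⁆ a) (n : ℤ) :
    ⁅x, a ^ n⁆ = ⁅x, a⁆ ^ n := by
  have h1 : x * a ^ n * x⁻¹ = ⁅x, a⁆ ^ n * a ^ n := by
    rw [← conj_zpow, ← h.mul_zpow]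
    congr 1
    simp only [commutatorElement_def]; group
  rw [commutatorElement_def, h1, mul_inv_cancel_right]

theorem commutatorElement_mul_right_eq {x a b : G} (h : Commute ⁅x, b⁆ a) :
    ⁅x, a * b⁆ = ⁅x, a⁆ * ⁅x, b⁆ := by
  calc ⁅x, a * b⁆ = ⁅x, a⁆ * (a * ⁅x, b⁆) * a⁻¹ := by simp only [commutatorElement_def]; group
    _ = ⁅x, a⁆ * ⁅x, b⁆ := by rw [← h.eq]; group

end Identities

variable {p : ℕ} [hp : Fact p.Prime]

/-- A finite `p`-group acts on a normal subgroup of order `p ^ 2` in two steps. -/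
theorem exists_central_of_card_sq {G : Type*} [Group G] [Finite G] (hG : IsPGroup p G) (T : Subgroup G)
    [T.Normal] (hT : Nat.card T = p ^ 2) :
    ∃ M : Subgroup G, M ≤ T ∧ M ≤ center G ∧ Nat.card M = p ∧
      (∀ g : G, ∀ t ∈ T, ⁅g, t⁆ ∈ M) ∧ (∀ g g' : G, ∀ t ∈ T, ⁅g', ⁅g, t⁆⁆ = 1) ∧
      ∀ x : G, (∃ t ∈ T, ⁅x, t⁆ ≠ 1) → ∀ f ∈ T, ⁅x, f⁆ = 1 → f ∈ M := by
  obtain ⟨M, hMn, hMT, hM⟩ := exists_normal_card_le hG T 1
    (by rw [hT]; exact Nat.pow_le_pow_right hp.out.pos (by norm_num))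
  rw [pow_one] at hM
  haveI := hMn
  have hcard : Nat.card T = p * Nat.card M := by rw [hT, hM, sq]
  have hMc : M ≤ center G := le_center_of_card_eq hG M hM
  refine ⟨M, hMT, hMc, hM, fun g t ht => commutatorElement_mem_of_card hG hMT hcard ht g,
    fun g g' t ht => ?_, fun x hx f hf hfx => ?_⟩
  · rw [commutatorElement_eq_one_iff_mul_comm]
    exact Subgroup.mem_center_iff.mp (hMc (commutatorElement_mem_of_card hG hMT hcard ht g)) g'
  by_contra hfM
  obtain ⟨t, ht, htne⟩ := hx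
  apply htne
  rw [commutatorElement_eq_one_iff_mul_comm] at hfx ⊢
  have hTeq : M ⊔ zpowers f = T := by
    refine Subgroup.eq_of_le_of_card_ge (sup_le hMT (zpowers_le.mpr hf)) ?_
    have hidx : (M.subgroupOf T).index = p := by
      have h2 := Subgroup.card_mul_index (M.subgroupOf T)
      rw [Nat.card_congr (Subgroup.subgroupOfEquivOfLe hMT).toEquiv, hcard, mul_comm p] at h2
      exact Nat.eq_of_mul_eq_mul_left Nat.card_pos h2
    have h1 := Subgroup.pow_index_mem (M.subgroupOf T) (⟨f, hf⟩ : T)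
    rw [hidx] at h1
    rw [card_sup_zpowers (p := p) M hfM (by simpa [Subgroup.mem_subgroupOf] using h1), hcard]
  have hle : T ≤ centralizer ({x} : Set G) := by
    rw [← hTeq]
    refine sup_le (fun m hm => ?_) (zpowers_le.mpr ?_) <;>
      refine Subgroup.mem_centralizer_iff.mpr fun h hh => ?_ <;> rw [Set.mem_singleton_iff.mp hh]
    · exact Subgroup.mem_center_iff.mp (hMc hm) x
    · exact hfx
  exact Subgroup.mem_centralizer_iff.mp (hle ht) x rfl

/-- Powers that agree give congruent elements modulo the elements of order dividing `p`. -/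
theorem inv_mul_mem_torsionIn {G : Type*} [Group G] [Finite G] (hG : IsPGroup p G) (hp2 : p ≠ 2)
    {C : Subgroup G} (hc : IsPCentralIn p C) {a b : G} (ha : a ∈ C) (hb : b ∈ C)
    (hap : a ^ p ∈ torsionIn hc) (h : a ^ p = b ^ p) : a⁻¹ * b ∈ torsionIn hc := by
  refine ⟨mul_mem (inv_mem ha) hb, ?_⟩
  rw [mul_pow_of_pow_central hG hp2 hc (inv_mem ha) hb (fun c hcC => by
    rw [inv_pow]; exact (hc _ hap.1 hap.2 c hcC).inv_left), inv_pow, h, inv_mul_cancel]

/-- A `p`-central subgroup with at most `p` elements of order dividing `p` is cyclic. -/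
theorem isCyclic_of_torsion_le {G : Type*} [Group G] [Finite G] (hG : IsPGroup p G) (hp2 : p ≠ 2)
    {C : Subgroup G} (hc : IsPCentralIn p C) (h : Nat.card (torsionIn hc) ≤ p) :
    ∃ c ∈ C, C = zpowers c := by
  haveI : IsCyclic C := by
    by_contra hnc
    obtain ⟨A, -, -, hAp, hAc⟩ := exists_normal_elementary_sq (hG.to_subgroup C) hp2 hnc
    have hle : A.map C.subtype ≤ torsionIn hc := by
      rintro _ ⟨w, hw, rfl⟩
      exact ⟨w.2, congrArg Subtype.val (hAp w hw)⟩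
    have h2 := (Subgroup.card_le_of_le hle).trans h
    rw [Subgroup.card_map_of_injective C.subtype_injective, hAc] at h2
    nlinarith [hp.out.two_le]
  obtain ⟨⟨c, hcC⟩, hgen⟩ := IsCyclic.exists_generator (α := C)
  refine ⟨c, hcC, le_antisymm (fun x hx => ?_) (zpowers_le.mpr hcC)⟩
  obtain ⟨i, hi⟩ := Subgroup.mem_zpowers_iff.mp (hgen ⟨x, hx⟩)
  exact Subgroup.mem_zpowers_iff.mpr ⟨i, congrArg Subtype.val hi⟩

section Three

variable {G : Type u} [Group G] [Finite G] (hG : IsPGroup 3 G)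
include hG

/-- With `C = ⟨c⟩ Ω₁(C)`, the commutator `⁅x, c⁆` has order dividing `3`. -/
theorem commutator_cube_of_cyclic_quotient {C : Subgroup G} [hCn : C.Normal] (hc : IsPCentralIn 3 C)
    (hE : Nat.card (torsionIn hc) = 3 ^ 2) {x : G} (hx3 : x ^ 3 ∈ C) {c : G} (hcC : c ∈ C)
    (hgen : C ≤ zpowers c ⊔ torsionIn hc) : ⁅x, c⁆ ^ 3 = 1 := by
  haveI : Fact (Nat.Prime 3) := ⟨Nat.prime_three⟩
  haveI := torsionIn_normal hc
  set E := torsionIn hc
  have hab : ∀ a ∈ C, ∀ b ∈ C, Commute a b := by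
    intro a ha b hb
    obtain ⟨a₁, ha₁, a₂, ha₂, rfl⟩ := Subgroup.mem_sup_of_normal_right.mp (hgen ha)
    obtain ⟨b₁, hb₁, b₂, hb₂, rfl⟩ := Subgroup.mem_sup_of_normal_right.mp (hgen hb)
    obtain ⟨i, rfl⟩ := Subgroup.mem_zpowers_iff.mp ha₁
    obtain ⟨j, rfl⟩ := Subgroup.mem_zpowers_iff.mp hb₁
    have h1 : Commute a₂ (c ^ j * b₂) := hc a₂ ha₂.1 ha₂.2 _ hb
    have h2 : Commute b₂ (c ^ i) := hc b₂ hb₂.1 hb₂.2 _ (zpow_mem hcC i)
    exact (((Commute.refl c).zpow_zpow i j).mul_right h2.symm).mul_left h1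
  have hX : ∀ a ∈ C, ⁅x, a⁆ ∈ C := fun a ha => by
    rw [commutatorElement_def]; exact mul_mem (hCn.conj_mem a ha x) (inv_mem ha)
  set v := ⁅x, c⁆ with hv
  have hvC : v ∈ C := hX c hcC
  have hhom : ∀ a ∈ C, ∀ n : ℤ, ⁅x, a ^ n⁆ = ⁅x, a⁆ ^ n := fun a ha n =>
    commutatorElement_zpow_right_of_commute (hab _ (hX a ha) a ha) n
  -- `v ∈ ⟨c³⟩ E`
  obtain ⟨l, e, he, hve⟩ : ∃ (l : ℤ) (e : G), e ∈ E ∧ v = (c ^ 3) ^ l * e := by
    haveI := powerClosure_normal 3 1 C
    set M := Cfsg.powerClosure 3 1 C ⊔ E with hM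
    have hmem : v ∈ M := by
      by_cases hcM : c ∈ M
      · have hMn : M.Normal := inferInstance
        rw [hv, commutatorElement_def]; exact mul_mem (hMn.conj_mem c hcM x) (inv_mem hcM)
      set q := QuotientGroup.mk' M
      have hmap : C.map q = zpowers (q c) := by
        refine le_antisymm ?_ (zpowers_le.mpr (Subgroup.mem_map_of_mem q hcC))
        rintro _ ⟨a, ha, rfl⟩
        obtain ⟨a₁, ha₁, a₂, ha₂, rfl⟩ := Subgroup.mem_sup_of_normal_right.mp (hgen ha)
        obtain ⟨i, rfl⟩ := Subgroup.mem_zpowers_iff.mp ha₁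
        rw [map_mul, show q a₂ = 1 from (QuotientGroup.eq_one_iff _).mpr (Subgroup.mem_sup_right ha₂), mul_one,
          map_zpow]
        exact zpow_mem (mem_zpowers _) i
      haveI : (C.map q).Normal := Subgroup.Normal.map hCn _ (QuotientGroup.mk'_surjective M)
      have hcard : Nat.card (C.map q) = 3 := by
        rw [hmap, Nat.card_zpowers]
        refine orderOf_eq_prime ?_ (fun h => hcM ((QuotientGroup.eq_one_iff _).mp h))
        rw [← map_pow]
        exact (QuotientGroup.eq_one_iff _).mpr (Subgroup.mem_sup_left (by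
          simpa using pow_mem_powerClosure 3 1 hcC))
      have hcen := le_center_of_card_eq (hG.to_quotient M) (C.map q) hcard (Subgroup.mem_map_of_mem q hcC)
      refine (QuotientGroup.eq_one_iff _).mp ?_
      show q ⁅x, c⁆ = 1
      rw [map_commutatorElement, commutatorElement_eq_one_iff_mul_comm]
      exact Subgroup.mem_center_iff.mp hcen _
    have hle : Cfsg.powerClosure 3 1 C ≤ zpowers (c ^ 3) := by
      rw [Cfsg.powerClosure, Subgroup.closure_le]
      rintro _ ⟨a, ha, rfl⟩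
      obtain ⟨a₁, ha₁, a₂, ha₂, rfl⟩ := Subgroup.mem_sup_of_normal_right.mp (hgen ha)
      obtain ⟨i, rfl⟩ := Subgroup.mem_zpowers_iff.mp ha₁
      rw [pow_one, (hab _ (zpow_mem hcC i) _ ha₂.1).mul_pow, ha₂.2, mul_one, zpow_pow_comm]
      exact zpow_mem (mem_zpowers _) i
    obtain ⟨a₁, ha₁, a₂, ha₂, ha⟩ := Subgroup.mem_sup_of_normal_right.mp hmem
    obtain ⟨l, rfl⟩ := Subgroup.mem_zpowers_iff.mp (hle ha₁)
    exact ⟨l, a₂, ha₂, ha.symm⟩
  obtain ⟨-, -, -, -, -, hstep, -⟩ := exists_central_of_card_sq hG E hE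
  have hcomm : ∀ a ∈ C, ∀ b ∈ C, ⁅x, a * b⁆ = ⁅x, a⁆ * ⁅x, b⁆ := fun a ha b hb =>
    commutatorElement_mul_right_eq (hab _ (hX b hb) a ha)
  have hc3 : ⁅x, c ^ 3⁆ = v ^ 3 := by
    have h := hhom c hcC 3
    rwa [zpow_ofNat, zpow_ofNat] at h
  have hc3C : c ^ 3 ∈ C := pow_mem hcC 3
  have hwe : ⁅x, v⁆ = (v ^ 3) ^ l * ⁅x, e⁆ := by
    conv_lhs => rw [hve]
    rw [hcomm _ (zpow_mem hc3C l) _ he.1, hhom _ hc3C, hc3]
  set w := ⁅x, v⁆ with hw
  have hwC : w ∈ C := hX v hvC
  have he'E : ⁅x, e⁆ ∈ E := ⟨hX e he.1, by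
    have := (hhom e he.1 3).symm
    rw [zpow_ofNat, zpow_ofNat, he.2] at this
    rw [this, commutatorElement_one_right]⟩
  have hw3 : w ^ 3 = (v ^ 3) ^ (3 * l) := by
    rw [hwe, (hab _ (zpow_mem (pow_mem hvC 3) l) _ he'E.1).mul_pow, he'E.2, mul_one, ← zpow_natCast, ← zpow_mul,
      mul_comm l]
    norm_num
  have hq : ⁅x, w⁆ = (w ^ 3) ^ l := by
    have hv3 : ⁅x, v ^ 3⁆ = w ^ 3 := by
      have h := hhom v hvC 3
      rwa [zpow_ofNat, zpow_ofNat] at h
    rw [hwe, hcomm _ (zpow_mem (pow_mem hvC 3) l) _ he'E.1, hhom _ (pow_mem hvC 3), hv3, hstep x x e he, mul_one,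
      hwe]
  have hrel := cube_relation (x := x) (d := c) hv.symm hw.symm (hab _ hx3 c hcC) (hab w hwC v hvC)
  rw [hq, hw3, ← zpow_mul, ← zpow_add] at hrel
  have hrel' : (v ^ 3) ^ (3 * l * l + 3 * l + 1) = 1 := by rw [zpow_add, zpow_one]; exact hrel
  rw [← orderOf_eq_one_iff]
  obtain ⟨k, hk⟩ := IsPGroup.iff_orderOf.mp hG (v ^ 3)
  rcases k with - | k
  · rw [hk, pow_zero]
  exfalso
  rw [← orderOf_dvd_iff_zpow_eq_one, hk] at hrel'
  have h3 : (3 : ℤ) ∣ 3 * l * l + 3 * l + 1 :=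
    (Int.natCast_dvd_natCast.mpr (dvd_pow_self 3 (Nat.succ_ne_zero k))).trans hrel'
  obtain ⟨m, hm⟩ := h3
  have h4 : (3 : ℤ) ∣ 1 := ⟨m - l * l - l, by linarith⟩
  norm_num at h4

variable {C : Subgroup G} [hCn : C.Normal] (hc : IsPCentralIn 3 C)

/-- The key identity on the second layer. -/
theorem commutator_twice_eq (hE : Nat.card (torsionIn hc) = 3 ^ 2) {x : G}
    (hact : ∃ e ∈ torsionIn hc, ⁅x, e⁆ ≠ 1) (ht : x ^ 3 ∈ Cfsg.powerClosure 3 1 C)
    [(torsionIn hc).Normal] (hc' : IsPCentralIn 3 (C.map (QuotientGroup.mk' (torsionIn hc))))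
    (hT : Nat.card (torsionIn hc') = 3 ^ 2) :
    (∃ d ∈ C, d ^ 3 ∈ torsionIn hc ∧ ⁅x, d⁆ ∉ torsionIn hc) ∧
    (∀ d ∈ C, d ^ 3 ∈ torsionIn hc → ⁅x, ⁅x, d⁆⁆ ∈ torsionIn hc ∧ ⁅x, ⁅x, ⁅x, d⁆⁆⁆ = (⁅x, d⁆ ^ 3)⁻¹) ∧
    ∀ f ∈ C, f ^ 3 ∈ torsionIn hc → ⁅x, f⁆ ∈ torsionIn hc → ⁅x, ⁅x, f⁆⁆ = (f ^ 3)⁻¹ := by
  haveI : Fact (Nat.Prime 3) := ⟨Nat.prime_three⟩
  have h32 : (3 : ℕ) ≠ 2 := by norm_num
  set E := torsionIn hc with hEdef
  set q := QuotientGroup.mk' E
  haveI : (C.map q).Normal := Subgroup.Normal.map hCn _ (QuotientGroup.mk'_surjective E)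
  haveI := torsionIn_normal hc'
  set T := torsionIn hc'
  have hX : ∀ a ∈ C, ⁅x, a⁆ ∈ C := fun a ha => by
    rw [commutatorElement_def]; exact mul_mem (hCn.conj_mem a ha x) (inv_mem ha)
  have hqone : ∀ a : G, q a = 1 ↔ a ∈ E := fun a => QuotientGroup.eq_one_iff a
  have hmemT : ∀ a ∈ C, a ^ 3 ∈ E → q a ∈ T := fun a ha h =>
    ⟨Subgroup.mem_map_of_mem q ha, by rw [← map_pow]; exact (hqone _).mpr h⟩
  have hlift : ∀ t ∈ T, ∃ a ∈ C, a ^ 3 ∈ E ∧ q a = t := by
    intro t ht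
    obtain ⟨a, ha, rfl⟩ := ht.1
    exact ⟨a, ha, (hqone _).mp (by rw [map_pow]; exact ht.2), rfl⟩
  obtain ⟨-, -, -, -, -, hEstep, -⟩ := exists_central_of_card_sq hG E hE
  obtain ⟨M, hMT, -, hMc, hMmem, hTstep, hTfix⟩ :=
    exists_central_of_card_sq (hG.to_quotient E) T hT
  -- `x` moves the second layer
  have hactT : ∃ t ∈ T, ⁅q x, t⁆ ≠ 1 := by
    by_contra hall
    push Not at hall
    obtain ⟨e, he, hxe⟩ := hact
    choose f hfC hfp hft using fun t : T => hlift t t.2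
    have hinj : Function.Injective (fun t : T => (⟨f t ^ 3, hfp t⟩ : E)) := by
      intro s t hst
      apply Subtype.ext
      rw [← hft s, ← hft t]
      exact QuotientGroup.eq.mpr
        (inv_mul_mem_torsionIn hG h32 hc (hfC s) (hfC t) (hfp s) (congrArg Subtype.val hst))
    obtain ⟨t, ht⟩ := (hinj.bijective_of_nat_card_le (by rw [hE, hT])).2 ⟨e, he⟩
    have hte : f t ^ 3 = e := congrArg Subtype.val ht
    have h1 : ⁅x, f t⁆ ∈ E := by
      rw [← hqone, map_commutatorElement, hft]; exact hall t t.2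
    apply hxe
    have h2 : x * f t * x⁻¹ = ⁅x, f t⁆ * f t := by simp only [commutatorElement_def]; group
    rw [commutatorElement_def, ← hte, ← conj_pow, h2, (hc _ h1.1 h1.2 (f t) (hfC t)).mul_pow, h1.2, one_mul,
      mul_inv_cancel]
  have hd : ∀ d ∈ C, d ^ 3 ∈ E → ⁅x, ⁅x, d⁆⁆ ∈ E ∧ ⁅x, ⁅x, ⁅x, d⁆⁆⁆ = (⁅x, d⁆ ^ 3)⁻¹ := by
    intro d hdC hd3
    have hwE : ⁅x, ⁅x, d⁆⁆ ∈ E := by
      rw [← hqone, map_commutatorElement, map_commutatorElement]
      exact hTstep _ _ _ (hmemT d hdC hd3)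
    refine ⟨hwE, ?_⟩
    have hcom : Cfsg.powerClosure 3 1 C ≤ centralizer ({d} : Set G) := by
      rw [Cfsg.powerClosure, Subgroup.closure_le]
      rintro _ ⟨c, hcC, rfl⟩
      refine Subgroup.mem_centralizer_iff.mpr fun h hh => ?_
      rw [Set.mem_singleton_iff.mp hh, pow_one]
      have h1 := commutatorElement_pow_eq_one hG h32 C hc d hdC (hc _ hd3.1 hd3.2) c hcC
      have h1C : ⁅c, d⁆ ∈ C := commutator_self_le C (commutator_mem_commutator hcC hdC)
      have h2 : d⁻¹ * c * d = d⁻¹ * ⁅c, d⁆ * d * c := by simp only [commutatorElement_def]; group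
      have h3 : d⁻¹ * ⁅c, d⁆ * d = ⁅c, d⁆ := by
        rw [mul_assoc, (hc _ h1C h1 d hdC).eq, inv_mul_cancel_left]
      have h4 : d⁻¹ * c ^ 3 * d = c ^ 3 := by
        rw [show d⁻¹ * c ^ 3 * d = (d⁻¹ * c * d⁻¹⁻¹) ^ 3 by rw [conj_pow]; group, inv_inv, h2, h3,
          (hc _ h1C h1 c hcC).mul_pow, h1, one_mul]
      calc d * c ^ 3 = d * (d⁻¹ * c ^ 3 * d) := by rw [h4]
        _ = c ^ 3 * d := by group
    have hcomm : Commute (x ^ 3) d :=
      (Subgroup.mem_centralizer_iff.mp (hcom ht) d rfl).symm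
    have h := cube_relation (x := x) (d := d) rfl rfl hcomm (hc _ hwE.1 hwE.2 _ (hX d hdC))
    rw [hwE.2, mul_one, mul_eq_one_iff_eq_inv] at h
    exact h
  obtain ⟨t, ht, htne⟩ := hactT
  obtain ⟨d, hdC, hd3, rfl⟩ := hlift t ht
  have hvE : ⁅x, d⁆ ∉ E := by rwa [← hqone, map_commutatorElement]
  refine ⟨⟨d, hdC, hd3, hvE⟩, hd, fun f hf hf3 hfX => ?_⟩
  -- a fixed element is a power of `⁅x, d⁆` modulo `E`
  set v := ⁅x, d⁆ with hv
  have hvM : q v ∈ M := by rw [hv, map_commutatorElement]; exact hMmem _ _ ht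
  have hMgen : zpowers (q v) = M := zpowers_eq_of_card_eq hMc hvM (fun h => hvE ((hqone _).mp h))
  have hfM : q f ∈ M := hTfix _ ⟨_, ht, htne⟩ _ (hmemT f hf hf3)
    (by rw [← map_commutatorElement]; exact (hqone _).mpr hfX)
  rw [← hMgen] at hfM
  obtain ⟨i, hi⟩ := Subgroup.mem_zpowers_iff.mp hfM
  have heE : (v ^ i)⁻¹ * f ∈ E := QuotientGroup.eq.mp (show q (v ^ i) = q f by rw [map_zpow, hi])
  set e := (v ^ i)⁻¹ * f with he
  have hfe : f = v ^ i * e := by rw [he, mul_inv_cancel_left]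
  obtain ⟨hwE, hq⟩ := hd d hdC hd3
  have hvC : v ∈ C := hX d hdC
  have hEn : E.Normal := inferInstance
  have hXE : ∀ a ∈ E, ⁅x, a⁆ ∈ E := fun a ha => by
    rw [commutatorElement_def]; exact mul_mem (hEn.conj_mem a ha x) (inv_mem ha)
  have hcE : ∀ a ∈ E, ∀ b ∈ C, Commute a b := fun a ha b hb => hc a ha.1 ha.2 b hb
  have h1 : ⁅x, f⁆ = ⁅x, v⁆ ^ i * ⁅x, e⁆ := by
    rw [hfe, commutatorElement_mul_right_eq (hcE _ (hXE e heE) _ (zpow_mem hvC i)),
      commutatorElement_zpow_right_of_commute (hcE _ hwE v hvC)]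
  rw [h1, commutatorElement_mul_right_eq (hcE _ (hXE _ (hXE e heE)) _ (zpow_mem hwE.1 i)), hEstep x x e heE, mul_one,
    commutatorElement_zpow_right_of_commute (hcE _ (hXE _ hwE) _ hwE.1), hq, hfe,
    (hcE e heE _ (zpow_mem hvC i)).symm.mul_pow, heE.2, mul_one, inv_zpow, ← zpow_natCast, ← zpow_natCast (v ^ i),
    ← zpow_mul, ← zpow_mul, mul_comm]

end Three

/-- The uniserial case: some iterated commutator of maximal length is nontrivial. -/
theorem exists_iterate_ne_one : ∀ (N : ℕ) (G : Type u) [Group G] [Finite G], Nat.card G ≤ N → IsPGroup 3 G →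
    ∀ (C : Subgroup G) [C.Normal] (hc : IsPCentralIn 3 C) (x : G), C.index = 3 →
    Nat.card (torsionIn hc) = 3 ^ 2 → (∃ e ∈ torsionIn hc, ⁅x, e⁆ ≠ 1) → x ^ 3 ∈ Cfsg.powerClosure 3 1 C →
    ∀ [(torsionIn hc).Normal] (hc' : IsPCentralIn 3 (C.map (QuotientGroup.mk' (torsionIn hc)))),
    Nat.card (torsionIn hc') = 3 ^ 2 → ∀ n : ℕ, Nat.card G = 3 ^ n →
    ∃ u ∈ C, (fun a => ⁅x, a⁆)^[n - 2] u ≠ 1
  | 0, G, _, _, hN, _, _, _, _, _, _, _, _, _, _, _, _, _, _ => absurd Nat.card_pos (not_lt.mpr hN)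
  | N + 1, G, _, _, hN, hG, C, hCn, hc, x, hCi, hE, hact, ht, _, hc', hT, n, hn => by
    haveI : Fact (Nat.Prime 3) := ⟨Nat.prime_three⟩
    have h32 : (3 : ℕ) ≠ 2 := by norm_num
    obtain ⟨⟨d, hdC, hd3, hvE⟩, hd, hfix⟩ := commutator_twice_eq hG hc hE hact ht hc' hT
    set E := torsionIn hc with hEdef
    set q := QuotientGroup.mk' E
    have hqone : ∀ a : G, q a = 1 ↔ a ∈ E := fun a => QuotientGroup.eq_one_iff a
    have hX : ∀ a ∈ C, ⁅x, a⁆ ∈ C := fun a ha => by
      rw [commutatorElement_def]; exact mul_mem (hCn.conj_mem a ha x) (inv_mem ha)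
    have hXi : ∀ (k : ℕ) (a : G), a ∈ C → (fun a => ⁅x, a⁆)^[k] a ∈ C := by
      intro k
      induction k with
      | zero => exact fun a ha => ha
      | succ k ih => intro a ha; rw [Function.iterate_succ_apply']; exact hX _ (ih a ha)
    have hC'n : (C.map q).Normal := Subgroup.Normal.map hCn _ (QuotientGroup.mk'_surjective E)
    haveI := torsionIn_normal hc'
    set T := torsionIn hc'
    have hc'' := isPCentralIn_map (hG.to_quotient E) h32 hc' T rfl
    have hle : Nat.card (torsionIn hc'') ≤ 3 ^ 2 :=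
      (card_torsionIn_map_le (hG.to_quotient E) h32 hc' T rfl hc'').trans
        ((Subgroup.card_le_of_le inf_le_right).trans hT.le)
    -- orders
    have hEC : E ≤ C := fun e he => he.1
    have hcardG : 3 ^ n = Nat.card (C.map q) * 3 ^ 3 := by
      rw [← hn, ← C.card_mul_index, hCi, card_eq_card_map_mul E C, inf_eq_right.mpr hEC, hE, mul_assoc, ← pow_succ]
    have hCmap : Nat.card (C.map q) = Nat.card ((C.map q).map (QuotientGroup.mk' T)) * 3 ^ 2 := by
      rw [card_eq_card_map_mul T (C.map q), inf_eq_right.mpr (fun t ht => ht.1), hT]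
    obtain ⟨j, hj⟩ := IsPGroup.iff_card.mp (((hG.to_quotient E).to_quotient T).to_subgroup
      ((C.map q).map (QuotientGroup.mk' T)))
    rw [hCmap, hj, ← pow_add, ← pow_add] at hcardG
    have hn5 : n = j + 2 + 3 := Nat.pow_right_injective (show 2 ≤ 3 by norm_num) hcardG |>.trans rfl
    rcases (show Nat.card (torsionIn hc'') = 3 ^ 2 ∨ Nat.card (torsionIn hc'') ≤ 3 by
      obtain ⟨i, hi⟩ := IsPGroup.iff_card.mp (((hG.to_quotient E).to_quotient T).to_subgroup (torsionIn hc''))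
      rw [hi] at hle ⊢
      have := (Nat.pow_le_pow_iff_right (by norm_num : 1 < 3)).mp hle
      interval_cases i <;> norm_num) with h9 | h3
    · -- induction on the quotient by `E`
      haveI := hC'n
      have hlt : Nat.card (G ⧸ E) ≤ N := by
        have h := E.card_eq_card_quotient_mul_card_subgroup
        rw [hE] at h
        have : 0 < Nat.card (G ⧸ E) := Nat.card_pos
        omega
      have hq3 : Nat.card (G ⧸ E) = 3 ^ (n - 2) := by
        have h := E.card_eq_card_quotient_mul_card_subgroup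
        rw [hE, hn, show n = n - 2 + 2 by omega, pow_add] at h
        exact (Nat.eq_of_mul_eq_mul_right (by norm_num) h).symm
      have hact' : ∃ e ∈ T, ⁅q x, e⁆ ≠ 1 := by
        refine ⟨q d, ⟨Subgroup.mem_map_of_mem q hdC, by rw [← map_pow]; exact (hqone _).mpr hd3⟩, ?_⟩
        rw [← map_commutatorElement, Ne, hqone]; exact hvE
      have hCi' : (C.map q).index = 3 := by
        rw [Subgroup.index_map_eq C (QuotientGroup.mk'_surjective E) (by rw [QuotientGroup.ker_mk']; exact hEC), hCi]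
      obtain ⟨u', hu', hne⟩ := exists_iterate_ne_one N (G ⧸ E) hlt (hG.to_quotient E) (C.map q) hc' (q x) hCi' hT
        hact' (by rw [← map_pow, ← powerClosure_map]; exact Subgroup.mem_map_of_mem q ht) hc'' h9 (n - 2) hq3
      obtain ⟨u, hu, rfl⟩ := hu'
      have hit : ∀ k, q ((fun a => ⁅x, a⁆)^[k] u) = (fun a => ⁅q x, a⁆)^[k] (q u) := by
        intro k
        induction k with
        | zero => rfl
        | succ k ih => rw [Function.iterate_succ_apply', Function.iterate_succ_apply', map_commutatorElement, ih]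
      have hlcs : ∀ k, (fun a => ⁅q x, a⁆)^[k] (q u) ∈ (⊤ : Subgroup (G ⧸ E)).lowerCentralSeries k := by
        intro k
        induction k with
        | zero => simp
        | succ k ih =>
          rw [Function.iterate_succ_apply', Subgroup.lowerCentralSeries_succ, ← commutatorElement_inv]
          exact inv_mem (commutator_mem_commutator ih (mem_top _))
      set w := (fun a => ⁅x, a⁆)^[n - 2 - 2] u with hw
      have hwC : w ∈ C := hXi _ u hu
      have hwE : w ∉ E := by rw [← hqone, hit]; exact hne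
      have hw3 : w ^ 3 ∈ E := by
        rw [← hqone, map_pow, hit]
        rcases card_lowerCentralSeries_mul_le (hG.to_quotient E) (n - 2 - 3) with h | h
        · have h2 := hlcs (n - 2 - 2)
          rw [show n - 2 - 2 = n - 2 - 3 + 1 by omega, h, Subgroup.mem_bot] at h2
          rw [show n - 2 - 2 = n - 2 - 3 + 1 by omega, h2, one_pow]
        · rw [hq3, show n - 2 = n - 2 - 3 + 2 + 1 by omega, pow_succ' (3 : ℕ) (n - 2 - 3 + 2),
            show n - 2 - 3 + 2 + 1 - 3 = n - 2 - 3 by omega] at h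
          have h1 := Nat.le_of_mul_le_mul_right h (pow_pos (by norm_num) _)
          have h2 := hlcs (n - 2 - 2)
          rw [show n - 2 - 2 = n - 2 - 3 + 1 by omega] at h2 ⊢
          have h4 := Subgroup.orderOf_dvd_natCard _ h2
          rw [← orderOf_dvd_iff_pow_eq_one]
          refine h4.trans ?_
          obtain ⟨i, hi⟩ := IsPGroup.iff_card.mp ((hG.to_quotient E).to_subgroup
            ((⊤ : Subgroup (G ⧸ E)).lowerCentralSeries (n - 2 - 3 + 1)))
          rw [hi] at h1 ⊢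
          exact (pow_dvd_pow 3 ((Nat.pow_le_pow_iff_right (by norm_num : 1 < 3)).mp
            (by rwa [pow_one] : 3 ^ i ≤ 3 ^ 1))).trans (pow_one 3).dvd
      have hwX : ⁅x, w⁆ ∈ E := by
        rw [hw, ← Function.iterate_succ_apply' (fun a => ⁅x, a⁆), ← hqone, hit]
        have h2 := hlcs (n - 2 - 2 + 1)
        rw [lowerCentralSeries_eq_bot_of_card (hG.to_quotient E) (n - 2 - 2)
          (by rw [hq3]; exact Nat.pow_le_pow_right (by norm_num) (by omega)), Subgroup.mem_bot] at h2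
        exact h2
      refine ⟨u, hu, ?_⟩
      rw [show n - 2 = (n - 2 - 2) + 1 + 1 by omega, Function.iterate_succ_apply', Function.iterate_succ_apply',
        ← hw, hfix w hwC hw3 hwX, Ne, inv_eq_one]
      exact fun h => hwE ⟨hwC, h⟩
    · -- the quotient by the second layer is cyclic
      haveI := hC'n
      haveI : ((C.map q).map (QuotientGroup.mk' T)).Normal :=
        Subgroup.Normal.map hC'n _ (QuotientGroup.mk'_surjective T)
      obtain ⟨c'', hc''C, hgen⟩ := isCyclic_of_torsion_le ((hG.to_quotient E).to_quotient T) h32 hc'' h3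
      obtain ⟨u', hu', rfl⟩ := hc''C
      obtain ⟨u, hu, rfl⟩ := hu'
      have hord : orderOf (QuotientGroup.mk' T (q u)) = 3 ^ j := by
        rw [← Nat.card_zpowers, ← hgen, hj]
      rcases j with - | j
      · -- `C` is the second layer
        refine ⟨d, hdC, ?_⟩
        obtain ⟨-, hq⟩ := hd d hdC hd3
        rw [show n - 2 = 2 + 1 by omega, Function.iterate_succ_apply', Function.iterate_succ_apply',
          Function.iterate_succ_apply', Function.iterate_zero_apply, hq, Ne, inv_eq_one]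
        exact fun h => hvE ⟨hX d hdC, h⟩
      set v := ⁅x, u⁆ with hv
      have hvC : v ∈ C := hX u hu
      have hv3 : v ^ 3 ∈ E := by
        rw [← hqone, map_pow, hv, map_commutatorElement]
        refine commutator_cube_of_cyclic_quotient (hG.to_quotient E) hc' hT ?_ (Subgroup.mem_map_of_mem q hu) ?_
        · rw [← map_pow]
          exact Subgroup.mem_map_of_mem q ((Subgroup.closure_le C).mpr
            (by rintro _ ⟨a, ha, rfl⟩; exact pow_mem ha _) ht)
        · intro a ha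
          have h1 : QuotientGroup.mk' T a ∈ zpowers (QuotientGroup.mk' T (q u)) :=
            hgen ▸ Subgroup.mem_map_of_mem _ ha
          obtain ⟨i, hi⟩ := Subgroup.mem_zpowers_iff.mp h1
          rw [show a = (q u) ^ i * (((q u) ^ i)⁻¹ * a) by group]
          exact Subgroup.mul_mem_sup (zpow_mem (mem_zpowers _) i)
            (QuotientGroup.eq.mp (show QuotientGroup.mk' T ((q u) ^ i) = QuotientGroup.mk' T a by
              rw [map_zpow]; exact hi))
      have hcv : ∀ a ∈ C, Commute (v ^ 3) a := fun a ha => hc _ hv3.1 hv3.2 a ha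
      have hu3 : ⁅x, u ^ 3⁆ = v ^ 3 := by
        have h1 : x * u * x⁻¹ = v * u := by simp only [hv, commutatorElement_def]; group
        rw [commutatorElement_def, ← conj_pow, h1, mul_pow_of_pow_central hG h32 hc hvC hu hcv, mul_inv_cancel_right]
      have hmemT : ∀ a : G, QuotientGroup.mk' T (q a) = 1 ↔ q a ∈ T := fun a => QuotientGroup.eq_one_iff _
      set f := u ^ 3 ^ (j + 1) with hf
      have hfT : q f ∈ T := by
        rw [← hmemT, hf, map_pow, map_pow, ← hord, pow_orderOf_eq_one]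
      have hf3 : f ^ 3 ∈ E := by rw [← hqone, map_pow]; exact hfT.2
      have hfC : f ∈ C := pow_mem hu _
      have hfE : f ∉ E := by
        intro h
        have h1 : q (u ^ 3 ^ j) ∈ T := ⟨Subgroup.mem_map_of_mem q (pow_mem hu _), by
          rw [← map_pow, ← pow_mul, ← pow_succ]; exact (hqone _).mpr h⟩
        rw [← hmemT, map_pow, map_pow, ← orderOf_dvd_iff_pow_eq_one, hord,
          Nat.pow_dvd_pow_iff_le_right (by norm_num)] at h1
        omega
      have hfv : ⁅x, f⁆ = (v ^ 3) ^ 3 ^ j := by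
        rw [hf, pow_succ', pow_mul, ← zpow_natCast (u ^ 3),
          commutatorElement_zpow_right_of_commute (by rw [hu3]; exact hcv _ (pow_mem hu 3)), hu3, zpow_natCast]
      have hne := hfix f hfC hf3 (by rw [hfv]; exact pow_mem hv3 _)
      rcases j with - | j
      · -- six steps
        rw [hfv, pow_zero, pow_one] at hne
        have hne1 : ⁅x, v ^ 3⁆ ≠ 1 := by
          rw [hne, Ne, inv_eq_one]; exact fun h => hfE ⟨hfC, h⟩
        set w := ⁅x, v⁆ with hw
        have hwE : w ∉ E := by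
          intro h
          refine hne1 ?_
          have h1 : x * v * x⁻¹ = w * v := by simp only [hw, commutatorElement_def]; group
          rw [commutatorElement_def, ← conj_pow, h1, (hc _ h.1 h.2 v hvC).mul_pow, h.2, one_mul, mul_inv_cancel]
        have hwT : w ^ 3 ∈ E := by
          have hTn : T.Normal := inferInstance
          have h1 : q v ∈ T := ⟨Subgroup.mem_map_of_mem q hvC, by rw [← map_pow]; exact (hqone _).mpr hv3⟩
          have h2 : ⁅q x, q v⁆ ∈ T := by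
            rw [commutatorElement_def]; exact mul_mem (hTn.conj_mem _ h1 _) (inv_mem h1)
          rw [← hqone, map_pow, hw, map_commutatorElement]; exact h2.2
        have hwX : ⁅x, w⁆ ∈ E := (hd v hvC hv3).1
        refine ⟨u, hu, ?_⟩
        rw [show n - 2 = 1 + 1 + 1 + 1 by omega, Function.iterate_succ_apply', Function.iterate_succ_apply',
          Function.iterate_succ_apply', Function.iterate_succ_apply', Function.iterate_zero_apply, ← hv, ← hw,
          hfix w (hX v hvC) hwT hwX, Ne, inv_eq_one]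
        exact fun h => hwE ⟨hX v hvC, h⟩
      · exfalso
        rw [show (3 : ℕ) ^ (j + 1) = 3 * 3 ^ j from pow_succ' 3 j, pow_mul, hv3.2, one_pow] at hfv
        rw [hfv, commutatorElement_one_right, eq_comm, inv_eq_one] at hne
        exact hfE ⟨hfC, hne⟩

/-- The trichotomy for `3`-groups of rank at most two. -/
theorem rank_two_three {G : Type u} [Group G] [Finite G] (hG : IsPGroup 3 G)
    (hrk : ∀ E : Subgroup G, Cfsg.IsElementaryAbelian 3 E → Nat.card E ≤ 3 ^ 2) :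
    Cfsg.IsMetacyclic G ∨
      (∀ n : ℕ, Nat.card G = 3 ^ n → 2 ≤ n ∧ (⊤ : Subgroup G).lowerCentralSeries (n - 2) ≠ ⊥) ∨
      ∃ W : Subgroup G, (∀ g : G, g ∈ W ↔ g ^ 3 = 1) ∧ Nat.card W = 3 ^ 3 ∧
        ∃ a ∈ W, ∃ b ∈ W, ⁅a, b⁆ ≠ 1 := by
  haveI : Fact (Nat.Prime 3) := ⟨Nat.prime_three⟩
  have h32 : (3 : ℕ) ≠ 2 := by norm_num
  by_cases hcyc : IsCyclic G
  · left
    haveI : Subsingleton (G ⧸ (⊤ : Subgroup G)) := QuotientGroup.subsingleton_quotient_top
    exact ⟨⊤, inferInstance, isCyclic_of_surjective _ Subgroup.topEquiv.symm.surjective, inferInstance⟩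
  obtain ⟨A, hAn, hAab, hAp, hAc⟩ := exists_normal_elementary_sq hG h32 hcyc
  haveI := hAn
  set C := centralizer (A : Set G) with hCdef
  haveI hCn : C.Normal := by rw [hCdef]; infer_instance
  have hAC : A ≤ C := fun a ha => Subgroup.mem_centralizer_iff.mpr fun b hb => comm_of_isMulCommutative hAab hb ha
  have hmemA : ∀ e ∈ C, e ^ 3 = 1 → e ∈ A := by
    intro e heC he
    by_contra heA
    have h := hrk (A ⊔ zpowers e) ⟨isMulCommutative_sup_zpowers hAab heC, fun a ha => by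
      obtain ⟨a₁, ha₁, a₂, ha₂, rfl⟩ := Subgroup.mem_sup_of_normal_left.mp ha
      obtain ⟨i, rfl⟩ := Subgroup.mem_zpowers_iff.mp ha₂
      have hcomm : Commute a₁ e := Subgroup.mem_centralizer_iff.mp heC a₁ ha₁
      rw [(hcomm.zpow_right i).mul_pow, hAp a₁ ha₁, one_mul, ← zpow_natCast, zpow_comm, zpow_natCast, he, one_zpow]⟩
    rw [card_sup_zpowers (p := 3) A heA (by rw [he]; exact one_mem _), hAc] at h
    omega
  have hc : IsPCentralIn 3 C := fun e heC he c hcC =>
    Subgroup.mem_centralizer_iff.mp hcC e (hmemA e heC he)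
  have hEA : torsionIn hc = A :=
    le_antisymm (fun e he => hmemA e he.1 he.2) fun a ha => ⟨hAC ha, hAp a ha⟩
  haveI := torsionIn_normal hc
  have hEc : Nat.card (torsionIn hc) = 3 ^ 2 := by rw [hEA, hAc]
  have hmeta : (Cfsg.powerClosure 3 1 (⊤ : Subgroup G)).index ≤ 3 ^ 2 → Cfsg.IsMetacyclic G :=
    isMetacyclic_of_agemo_index h32 _ G le_rfl hG
  have hagemo := card_le_powerClosure_mul_torsion h32 _ G le_rfl hG C hc
  rw [hEc] at hagemo
  by_cases hCtop : C = ⊤
  · left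
    refine hmeta ?_
    rw [hCtop, Subgroup.card_top, ← (Cfsg.powerClosure 3 1 (⊤ : Subgroup G)).card_mul_index] at hagemo
    exact Nat.le_of_mul_le_mul_left hagemo Nat.card_pos
  have hCi : C.index = 3 := by
    obtain ⟨k, hk⟩ := hG.index C
    have h := index_centralizer_le hG 2 A hAc
    rw [← hCdef, hk] at h
    have h1 : k ≤ 1 := (Nat.pow_le_pow_iff_right (by norm_num : 1 < 3)).mp (by simpa using h)
    have : k ≠ 0 := fun h0 => hCtop (Subgroup.index_eq_one.mp (by rw [hk, h0, pow_zero]))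
    rw [hk, show k = 1 by omega, pow_one]
  by_cases hcubes : ∃ g : G, g ∉ C ∧ g ^ 3 ∉ Cfsg.powerClosure 3 1 C
  · left
    obtain ⟨g, -, hg⟩ := hcubes
    refine hmeta ?_
    set P := Cfsg.powerClosure 3 1 (⊤ : Subgroup G)
    set Q := Cfsg.powerClosure 3 1 C
    have hlt : Q < P := lt_of_le_of_ne (powerClosure_mono 3 1 le_top) fun h => hg (h ▸ by
      simpa using pow_mem_powerClosure 3 1 (mem_top g))
    obtain ⟨a, ha⟩ := IsPGroup.iff_card.mp (hG.to_subgroup P)
    obtain ⟨b, hb⟩ := IsPGroup.iff_card.mp (hG.to_subgroup Q)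
    have hab : b < a := by
      by_contra hge
      exact hlt.ne (Subgroup.eq_of_le_of_card_ge hlt.le
        (by rw [ha, hb]; exact Nat.pow_le_pow_right (by norm_num) (by omega)))
    refine Nat.le_of_mul_le_mul_left ?_ (Nat.card_pos (α := P))
    rw [P.card_mul_index, ← C.card_mul_index, hCi, ha]
    calc Nat.card C * 3 ≤ Nat.card Q * 3 ^ 2 * 3 := Nat.mul_le_mul_right _ hagemo
      _ = 3 ^ (b + 1) * 3 ^ 2 := by rw [hb, pow_succ]; ring
      _ ≤ 3 ^ a * 3 ^ 2 := Nat.mul_le_mul_right _ (Nat.pow_le_pow_right (by norm_num) hab)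
  push Not at hcubes
  obtain ⟨x, hx⟩ : ∃ x, x ∉ C := by
    by_contra h; push Not at h; exact hCtop (eq_top_iff.mpr fun g _ => h g)
  have hCx : C ⊔ zpowers x = ⊤ := sup_zpowers_eq_top hG hCi hx
  have hact : ∃ e ∈ torsionIn hc, ⁅x, e⁆ ≠ 1 := by
    by_contra h
    push Not at h
    exact hx (Subgroup.mem_centralizer_iff.mpr fun e he =>
      (commutatorElement_eq_one_iff_mul_comm.mp (h e (hEA.symm ▸ he))).symm)
  have hc' := isPCentralIn_map hG h32 hc (torsionIn hc) rfl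
  have hle : Nat.card (torsionIn hc') ≤ 3 ^ 2 :=
    (card_torsionIn_map_le hG h32 hc _ rfl hc').trans ((Subgroup.card_le_of_le inf_le_right).trans hEc.le)
  rcases (show Nat.card (torsionIn hc') = 3 ^ 2 ∨ Nat.card (torsionIn hc') ≤ 3 by
    obtain ⟨i, hi⟩ := IsPGroup.iff_card.mp ((hG.to_quotient (torsionIn hc)).to_subgroup (torsionIn hc'))
    rw [hi] at hle ⊢
    have := (Nat.pow_le_pow_iff_right (by norm_num : 1 < 3)).mp hle
    interval_cases i <;> norm_num) with h9 | h3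
  · right; left
    intro n hn
    obtain ⟨u, -, hu⟩ := exists_iterate_ne_one _ G le_rfl hG C hc x hCi hEc hact (hcubes x hx) hc' h9 n hn
    have hn2 : 2 ≤ n := by
      have h := Subgroup.card_le_card_group A
      rw [hAc, hn] at h
      exact (Nat.pow_le_pow_iff_right (by norm_num : 1 < 3)).mp h
    refine ⟨hn2, fun h => hu ?_⟩
    have hlcs : ∀ k, (fun a => ⁅x, a⁆)^[k] u ∈ (⊤ : Subgroup G).lowerCentralSeries k := by
      intro k
      induction k with
      | zero => simp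
      | succ k ih =>
        rw [Function.iterate_succ_apply', Subgroup.lowerCentralSeries_succ, ← commutatorElement_inv]
        exact inv_mem (commutator_mem_commutator ih (mem_top _))
    have h2 := hlcs (n - 2)
    rwa [h, Subgroup.mem_bot] at h2
  set q := QuotientGroup.mk' (torsionIn hc)
  haveI : (C.map q).Normal := Subgroup.Normal.map hCn _ (QuotientGroup.mk'_surjective _)
  obtain ⟨c', hc'C, hgen'⟩ := isCyclic_of_torsion_le (hG.to_quotient _) h32 hc' h3
  obtain ⟨c, hcC, rfl⟩ := hc'C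
  have hgen : C ≤ zpowers c ⊔ torsionIn hc := fun a ha => by
    have h1 : q a ∈ zpowers (q c) := hgen' ▸ Subgroup.mem_map_of_mem q ha
    obtain ⟨i, hi⟩ := Subgroup.mem_zpowers_iff.mp h1
    rw [show a = c ^ i * ((c ^ i)⁻¹ * a) by group]
    exact Subgroup.mul_mem_sup (zpow_mem (mem_zpowers _) i)
      (QuotientGroup.eq.mp (show q (c ^ i) = q a by rw [map_zpow]; exact hi))
  obtain ⟨j, hj⟩ := IsPGroup.iff_orderOf.mp (hG.to_quotient (torsionIn hc)) (q c)
  have hCc : Nat.card C = 3 ^ (j + 2) := by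
    rw [card_eq_card_map_mul (torsionIn hc) C, inf_eq_right.mpr (fun e he => he.1), hEc, hgen', Nat.card_zpowers,
      hj, ← pow_add]
  have hGc : Nat.card G = 3 ^ (j + 3) := by rw [← C.card_mul_index, hCc, hCi, ← pow_succ]
  have hsmall : ∀ k, 2 ≤ k → Nat.card G = 3 ^ k → (⊤ : Subgroup G).lowerCentralSeries (k - 2) ≠ ⊥ →
      ∀ n : ℕ, Nat.card G = 3 ^ n → 2 ≤ n ∧ (⊤ : Subgroup G).lowerCentralSeries (n - 2) ≠ ⊥ := by
    intro k hk hk' hne n hn
    obtain rfl : n = k := Nat.pow_right_injective (show 2 ≤ 3 by norm_num) (hn.symm.trans hk')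
    exact ⟨hk, hne⟩
  rcases j with - | j
  · right; left
    refine hsmall 3 (by norm_num) hGc fun h => ?_
    rw [Subgroup.top_lowerCentralSeries_one, commutator_eq_bot_iff] at h
    obtain ⟨e, -, hxe⟩ := hact
    exact hxe (commutatorElement_eq_one_iff_mul_comm.mpr (h.is_comm.comm x e))
  rcases j with - | j
  · by_cases hcl : (⊤ : Subgroup G).lowerCentralSeries 2 = ⊥
    · have hR := regularAt_of_isRegular (isRegular_of_class hG hcl) 1
      set W := omegaSubgroup hG hR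
      have hW3 : Nat.card W ≤ 3 ^ 3 := card_le_of_exponent_rank_two (hG.to_subgroup W)
        (fun a => Subtype.ext (by simpa using (show (a : G) ^ (3 ^ 1) = 1 from a.2))) (rank_le_subgroup hrk W)
      by_cases hW2 : Nat.card W ≤ 3 ^ 2
      · exact Or.inl (hmeta ((agemo_index_le_of_regular hG hR).trans hW2))
      refine Or.inr (Or.inr ⟨W, fun g => by
        show g ^ (3 ^ 1) = 1 ↔ _
        rw [pow_one], ?_, ?_⟩)
      · obtain ⟨i, hi⟩ := IsPGroup.iff_card.mp (hG.to_subgroup W)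
        rw [hi] at hW3 hW2 ⊢
        have h1 := (Nat.pow_le_pow_iff_right (by norm_num : 1 < 3)).mp hW3
        rw [Nat.pow_le_pow_iff_right (by norm_num : 1 < 3)] at hW2
        rw [show i = 3 by omega]
      · by_contra hall
        push Not at hall
        refine hW2 (hrk W ⟨isMulCommutative_of_comm fun a ha b hb =>
          commutatorElement_eq_one_iff_mul_comm.mp (hall a ha b hb), fun a ha => ?_⟩)
        simpa using (show a ^ (3 ^ 1) = 1 from ha)
    · exact Or.inr (Or.inl (hsmall 4 (by norm_num) hGc hcl))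
  -- `C / E` is cyclic of order at least `9`
  right; right
  have hab : ∀ a ∈ C, ∀ b ∈ C, Commute a b := by
    intro a ha b hb
    obtain ⟨a₁, ha₁, a₂, ha₂, rfl⟩ := Subgroup.mem_sup_of_normal_right.mp (hgen ha)
    obtain ⟨b₁, hb₁, b₂, hb₂, rfl⟩ := Subgroup.mem_sup_of_normal_right.mp (hgen hb)
    obtain ⟨i, rfl⟩ := Subgroup.mem_zpowers_iff.mp ha₁
    obtain ⟨i', rfl⟩ := Subgroup.mem_zpowers_iff.mp hb₁
    have h1 : Commute a₂ (c ^ i' * b₂) := hc a₂ ha₂.1 ha₂.2 _ hb
    have h2 : Commute b₂ (c ^ i) := hc b₂ hb₂.1 hb₂.2 _ (zpow_mem hcC i)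
    exact (((Commute.refl c).zpow_zpow i i').mul_right h2.symm).mul_left h1
  have hPC : Cfsg.powerClosure 3 1 C ≤ C := (Subgroup.closure_le C).mpr
    (by rintro _ ⟨a, ha, rfl⟩; exact pow_mem ha _)
  have hX : ∀ (g : G), ∀ a ∈ C, ⁅g, a⁆ ∈ C := fun g a ha => by
    rw [commutatorElement_def]; exact mul_mem (hCn.conj_mem a ha g) (inv_mem ha)
  have hv : ⁅x, c⁆ ∈ torsionIn hc := ⟨hX x c hcC,
    commutator_cube_of_cyclic_quotient hG hc hEc (hPC (hcubes x hx)) hcC hgen⟩
  -- every element moves `C` into `E`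
  have hall : ∀ (g : G), ∀ a ∈ C, ⁅g, a⁆ ∈ torsionIn hc := by
    intro g a ha
    have hle : C ⊔ zpowers x ≤ (centralizer ({q c} : Set (G ⧸ torsionIn hc))).comap q := by
      refine sup_le (fun b hb => ?_) (zpowers_le.mpr ?_) <;>
        refine Subgroup.mem_centralizer_iff.mpr fun h hh => ?_ <;> rw [Set.mem_singleton_iff.mp hh]
      · rw [← map_mul, ← map_mul, (hab c hcC b hb).eq]
      · rw [eq_comm, ← commutatorElement_eq_one_iff_mul_comm, ← map_commutatorElement]
        exact (QuotientGroup.eq_one_iff _).mpr hv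
    rw [hCx] at hle
    obtain ⟨i, hi⟩ := Subgroup.mem_zpowers_iff.mp (hgen' ▸ Subgroup.mem_map_of_mem q ha : q a ∈ zpowers (q c))
    refine (QuotientGroup.eq_one_iff _).mp ?_
    show q ⁅g, a⁆ = 1
    have h1 : Commute (q g) (q c) := (Subgroup.mem_centralizer_iff.mp (hle (mem_top g)) _ rfl).symm
    rw [map_commutatorElement, commutatorElement_eq_one_iff_mul_comm, ← hi]
    exact (h1.zpow_right i).eq
  obtain ⟨M, hME, hMcen, hMc, hMmem, hEstep, hEfix⟩ := exists_central_of_card_sq hG (torsionIn hc) hEc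
  set f := c ^ 3 ^ (j + 1) with hf
  set z := c ^ 3 ^ (j + 2) with hz
  have hqf : ∀ m, q (c ^ m) = 1 ↔ 3 ^ (j + 2) ∣ m := fun m => by
    rw [map_pow, ← orderOf_dvd_iff_pow_eq_one, hj]
  have hc3 : ⁅x, c ^ 3⁆ = 1 := by
    have h := commutatorElement_zpow_right_of_commute (hab _ hv.1 c hcC) 3
    rw [zpow_ofNat, zpow_ofNat, hv.2] at h
    exact h
  have hfixpow : ∀ m : ℕ, Commute x (c ^ (3 * m)) := fun m => by
    rw [pow_mul]; exact (commutatorElement_eq_one_iff_commute.mp hc3).pow_right m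
  have hzE : z ∈ torsionIn hc := (QuotientGroup.eq_one_iff _).mp ((hqf _).mpr dvd_rfl)
  have hfz : f ^ 3 = z := by rw [hf, hz, ← pow_mul, ← pow_succ]
  have hz1 : z ≠ 1 := by
    intro h
    have h1 : q f = 1 := (QuotientGroup.eq_one_iff _).mpr ⟨pow_mem hcC _, hfz.trans h⟩
    rw [hf, hqf, Nat.pow_dvd_pow_iff_le_right (by norm_num)] at h1
    omega
  have hzM : z ∈ M := hEfix x hact z hzE (commutatorElement_eq_one_iff_commute.mpr (by
    rw [hz, pow_succ']; exact hfixpow _))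
  have hMgen : zpowers z = M := zpowers_eq_of_card_eq hMc hzM hz1
  have hfcen : f ∈ center G := by
    refine Subgroup.mem_center_iff.mpr fun g => ?_
    have hle : C ⊔ zpowers x ≤ centralizer ({f} : Set G) := by
      refine sup_le (fun b hb => ?_) (zpowers_le.mpr ?_) <;>
        refine Subgroup.mem_centralizer_iff.mpr fun h hh => ?_ <;> rw [Set.mem_singleton_iff.mp hh]
      · exact (hab f (pow_mem hcC _) b hb).eq
      · rw [hf, pow_succ']; exact ((hfixpow _).symm).eq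
    rw [hCx] at hle
    exact (Subgroup.mem_centralizer_iff.mp (hle (mem_top g)) f rfl).symm
  have hcube : ∀ (g d : G), d ∈ C → (d * g) ^ 3 = d ^ 3 * ⁅g, ⁅g, d⁆⁆ * g ^ 3 := by
    intro g d hd
    set v := ⁅g, d⁆ with hvdef
    set w := ⁅g, v⁆ with hwdef
    have hvE := hall g d hd
    have hwC := hX g v hvE.1
    calc (d * g) ^ 3 = d * (v * d) * (w * v * (v * d)) * g ^ 3 := by
          simp only [hwdef, hvdef, commutatorElement_def, pow_succ, pow_zero, one_mul]; group
      _ = d * (v * d) * (w * (v ^ 2 * d)) * g ^ 3 := by simp only [pow_succ, pow_zero, one_mul, mul_assoc]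
      _ = d * (v * d) * (v ^ 2 * d * w) * g ^ 3 := by
          rw [(hab w hwC _ (mul_mem (pow_mem hvE.1 2) hd)).eq]
      _ = d * v * (d * v ^ 2) * (d * w) * g ^ 3 := by simp only [mul_assoc]
      _ = d * v * (v ^ 2 * d) * (d * w) * g ^ 3 := by rw [(hab d hd _ (pow_mem hvE.1 2)).eq]
      _ = d * v ^ 3 * d * d * w * g ^ 3 := by simp only [pow_succ, pow_zero, one_mul, mul_assoc]
      _ = d ^ 3 * w * g ^ 3 := by rw [hvE.2, mul_one]; simp only [pow_succ, pow_zero, one_mul, mul_assoc]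
  -- an element of order 3 outside `C`
  obtain ⟨y, hy, hy3⟩ : ∃ y, y ∉ C ∧ y ^ 3 = 1 := by
    obtain ⟨r, hr⟩ : ∃ r : ℤ, x ^ 3 = (c ^ 3) ^ r := by
      have hle : Cfsg.powerClosure 3 1 C ≤ zpowers (c ^ 3) := by
        rw [Cfsg.powerClosure, Subgroup.closure_le]
        rintro _ ⟨a, ha, rfl⟩
        obtain ⟨a₁, ha₁, a₂, ha₂, rfl⟩ := Subgroup.mem_sup_of_normal_right.mp (hgen ha)
        obtain ⟨i, rfl⟩ := Subgroup.mem_zpowers_iff.mp ha₁
        rw [pow_one, (hab _ (zpow_mem hcC i) _ ha₂.1).mul_pow, ha₂.2, mul_one, zpow_pow_comm]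
        exact zpow_mem (mem_zpowers _) i
      obtain ⟨r, hr⟩ := Subgroup.mem_zpowers_iff.mp (hle (hcubes x hx))
      exact ⟨r, hr.symm⟩
    have hwM : ⁅x, ⁅x, c⁆⁆ ∈ zpowers z := hMgen.symm ▸ hMmem x _ hv
    obtain ⟨i, hi⟩ := Subgroup.mem_zpowers_iff.mp hwM
    set d := c ^ (-r) * f ^ (r * i) with hd
    have hdC : d ∈ C := mul_mem (zpow_mem hcC _) (zpow_mem (pow_mem hcC _) _)
    have hfx : ⁅x, f ^ (r * i)⁆ = 1 := commutatorElement_eq_one_iff_mul_comm.mpr
      (Subgroup.mem_center_iff.mp (zpow_mem hfcen _) x)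
    refine ⟨d * x, fun h => hx ?_, ?_⟩
    · have := C.mul_mem (C.inv_mem hdC) h
      rwa [inv_mul_cancel_left] at this
    have hX1 : ⁅x, d⁆ = ⁅x, c⁆ ^ (-r) := by
      rw [hd, commutatorElement_mul_right_eq (by rw [hfx]; exact Commute.one_left _), hfx, mul_one,
        commutatorElement_zpow_right_of_commute (hab _ hv.1 c hcC)]
    have hw2 : Commute ⁅x, ⁅x, c⁆⁆ ⁅x, c⁆ := hab _ (hX x _ hv.1) _ hv.1
    rw [hcube x d hdC, hX1, commutatorElement_zpow_right_of_commute hw2, hr, hd,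
      (hab _ (zpow_mem hcC _) _ (zpow_mem (pow_mem hcC _) _)).mul_pow, ← zpow_natCast (f ^ (r * i)), zpow_comm,
      zpow_natCast, hfz, ← hi, ← zpow_natCast (c ^ (-r)), ← zpow_natCast c 3, ← zpow_mul, ← zpow_mul, ← zpow_mul,
      mul_assoc _ (z ^ (r * i)), ← zpow_add, mul_neg, ← neg_mul]
    simp [mul_comm]
  have hCy : C ⊔ zpowers y = ⊤ := sup_zpowers_eq_top hG hCi hy
  have hyA : y ∉ A := fun h => hy (hAC h)
  refine ⟨A ⊔ zpowers y, fun g => ⟨fun hg => ?_, fun hg => ?_⟩, ?_, ?_⟩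
  · obtain ⟨a, ha, b, hb, rfl⟩ := Subgroup.mem_sup_of_normal_left.mp hg
    obtain ⟨i, rfl⟩ := Subgroup.mem_zpowers_iff.mp hb
    rw [hcube _ _ (hAC ha), hEstep _ _ _ (hEA.symm ▸ ha : a ∈ torsionIn hc), hAp a ha, one_mul, one_mul,
      ← zpow_natCast, zpow_comm, zpow_natCast, hy3, one_zpow]
  · obtain ⟨e, he, b, hb, rfl⟩ := Subgroup.mem_sup_of_normal_left.mp (hCy ▸ mem_top g : g ∈ C ⊔ zpowers y)
    refine Subgroup.mul_mem_sup ?_ hb
    obtain ⟨i, rfl⟩ := Subgroup.mem_zpowers_iff.mp hb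
    have hyi : (y ^ i) ^ 3 = 1 := by rw [← zpow_natCast, zpow_comm, zpow_natCast, hy3, one_zpow]
    rw [hcube _ _ he, hyi, mul_one] at hg
    -- `e ^ 3 ∈ E`, hence `e ∈ ⟨f⟩ E` is fixed by everything modulo `E`
    have hwE : ⁅y ^ i, ⁅y ^ i, e⁆⁆ ∈ torsionIn hc := hall _ _ (hall _ e he).1
    have he3 : e ^ 3 ∈ torsionIn hc := by
      rw [mul_eq_one_iff_eq_inv] at hg
      rw [hg]; exact inv_mem hwE
    have hT3 : Nat.card (torsionIn hc') = 3 := by
      refine le_antisymm h3 (Nat.le_of_dvd Nat.card_pos (dvd_card_of_ne_bot (hG.to_quotient _) fun h => ?_))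
      have h1 : q f ∈ torsionIn hc' := ⟨Subgroup.mem_map_of_mem q (pow_mem hcC _), by
        rw [← map_pow, hfz]; exact (QuotientGroup.eq_one_iff _).mpr hzE⟩
      rw [h, Subgroup.mem_bot, hf, hqf, Nat.pow_dvd_pow_iff_le_right (by norm_num)] at h1
      omega
    have hfgen : zpowers (q f) = torsionIn hc' := by
      refine zpowers_eq_of_card_eq hT3 ⟨Subgroup.mem_map_of_mem q (pow_mem hcC _), by
        rw [← map_pow, hfz]; exact (QuotientGroup.eq_one_iff _).mpr hzE⟩ ?_
      rw [hf, Ne, hqf, Nat.pow_dvd_pow_iff_le_right (by norm_num)]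
      omega
    have hqe : q e ∈ zpowers (q f) := hfgen ▸ ⟨Subgroup.mem_map_of_mem q he, by
      rw [← map_pow]; exact (QuotientGroup.eq_one_iff _).mpr he3⟩
    obtain ⟨k, hk⟩ := Subgroup.mem_zpowers_iff.mp hqe
    have hrem : (f ^ k)⁻¹ * e ∈ torsionIn hc := QuotientGroup.eq.mp (show q (f ^ k) = q e by rw [map_zpow]; exact hk)
    set a := (f ^ k)⁻¹ * e
    have hea : e = f ^ k * a := by simp [a]
    have hX2 : ⁅y ^ i, e⁆ = ⁅y ^ i, a⁆ := by
      have hcm : ∀ g : G, g * f ^ k = f ^ k * g := Subgroup.mem_center_iff.mp (zpow_mem hfcen k)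
      rw [hea]
      calc ⁅y ^ i, f ^ k * a⁆ = (y ^ i * f ^ k) * a * (y ^ i)⁻¹ * a⁻¹ * (f ^ k)⁻¹ := by
            simp only [commutatorElement_def]; group
        _ = f ^ k * ⁅y ^ i, a⁆ * (f ^ k)⁻¹ := by rw [hcm]; simp only [commutatorElement_def]; group
        _ = ⁅y ^ i, a⁆ := by rw [← hcm]; group
    rw [hX2, hEstep _ _ a hrem, mul_one] at hg
    exact hmemA e he hg
  · rw [card_sup_zpowers (p := 3) A hyA (by rw [hy3]; exact one_mem _), hAc]; norm_num
  · by_contra hall'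
    push Not at hall'
    exact hy (Subgroup.mem_centralizer_iff.mpr fun a ha => commutatorElement_eq_one_iff_mul_comm.mp
      (hall' a (Subgroup.mem_sup_left ha) y (Subgroup.mem_sup_right (mem_zpowers y))))

end Cfsg.Agent.PGroups
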