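import Cfsg.Agent.PGroups.Burnside
import Cfsg.Prelude.Def_PLocal

/-!
Regular `p`-groups (P. Hall). All results are proved from the defining equation at one fixed exponent
`p ^ n`, so that they can also be used to establish regularity.
-/

set_option autoImplicit false
set_option linter.style.haveILetI false

namespace Cfsg.Agent.PGroups

open Subgroup
open scoped commutatorElement

variable {G : Type*} [Group G] {p : ℕ}

/-- The defining equation of regularity at the exponent `p ^ n`. -/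
def RegularAt (p n : ℕ) (G : Type*) [Group G] : Prop :=
  ∀ a b : G, ∃ c ∈ Cfsg.powerClosure p n ⁅Subgroup.closure ({a, b} : Set G), Subgroup.closure ({a, b} : Set G)⁆,
    (a * b) ^ (p ^ n) = a ^ (p ^ n) * b ^ (p ^ n) * c

theorem powerClosure_mono (p n : ℕ) {H K : Subgroup G} (h : H ≤ K) :
    Cfsg.powerClosure p n H ≤ Cfsg.powerClosure p n K :=
  Subgroup.closure_mono fun _ ⟨x, hx, he⟩ => ⟨x, h hx, he⟩

theorem pow_mem_powerClosure (p n : ℕ) {H : Subgroup G} {x : G} (hx : x ∈ H) :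
    x ^ (p ^ n) ∈ Cfsg.powerClosure p n H :=
  Subgroup.subset_closure ⟨x, hx, rfl⟩

/-- The derived subgroup of a subgroup lies inside it. -/
theorem commutator_self_le (H : Subgroup G) : ⁅H, H⁆ ≤ H :=
  commutator_le.mpr fun x hx y hy => by
    rw [commutatorElement_def]
    exact H.mul_mem (H.mul_mem (H.mul_mem hx hy) (H.inv_mem hx)) (H.inv_mem hy)

theorem closure_pair_le {a b : G} {H : Subgroup G} (ha : a ∈ H) (hb : b ∈ H) :
    Subgroup.closure ({a, b} : Set G) ≤ H := by
  rw [Subgroup.closure_le]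
  rintro x (rfl | rfl)
  · exact ha
  · exact hb

variable [Fact p.Prime]

/-- In a non-abelian finite `p`-subgroup, an element and the derived subgroup do not generate. -/
theorem sup_commutator_lt [Finite G] (hG : IsPGroup p G) {H : Subgroup G} {y : G} (hy : y ∈ H)
    (hne : ⁅H, H⁆ ≠ ⊥) : zpowers y ⊔ ⁅H, H⁆ < H := by
  refine lt_of_le_of_ne (sup_le (zpowers_le.mpr hy) (commutator_self_le H)) fun he => hne ?_
  have h1 : zpowers (⟨y, hy⟩ : H) ⊔ frattini H = ⊤ := by
    refine top_le_iff.mp (le_trans (ge_of_eq ?_) (sup_le_sup_left (commutator_le_frattini (hG.to_subgroup H)) _))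
    apply Subgroup.map_injective H.subtype_injective
    rw [Subgroup.map_sup, MonoidHom.map_zpowers, H.map_subtype_commutator, ← MonoidHom.range_eq_map,
      Subgroup.range_subtype]
    exact he
  have h2 : zpowers (⟨y, hy⟩ : H) = ⊤ := frattini_nongenerating h1
  rw [eq_bot_iff]
  refine commutator_le.mpr fun g hg k hk => ?_
  obtain ⟨i, hi⟩ := Subgroup.mem_zpowers_iff.mp (h2 ▸ mem_top (⟨g, hg⟩ : H))
  obtain ⟨j, hj⟩ := Subgroup.mem_zpowers_iff.mp (h2 ▸ mem_top (⟨k, hk⟩ : H))
  rw [Subgroup.mem_bot, commutatorElement_eq_one_iff_mul_comm]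
  have hi' : y ^ i = g := congrArg Subtype.val hi
  have hj' : y ^ j = k := congrArg Subtype.val hj
  rw [← hi', ← hj', ← zpow_add, ← zpow_add, add_comm]

/-- The derived subgroup of `⟨a, b⟩` is generated by conjugates of `⁅b, a⁆`. -/
theorem commutator_closure_pair_le (a b : G) (N : Subgroup G)
    (hN : ∀ g ∈ Subgroup.closure ({a, b} : Set G), ∀ x ∈ N, g * x * g⁻¹ ∈ N) (h : ⁅b, a⁆ ∈ N) :
    ⁅Subgroup.closure ({a, b} : Set G), Subgroup.closure ({a, b} : Set G)⁆ ≤ N := by
  set H := Subgroup.closure ({a, b} : Set G)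
  have main : ∀ g : G, (∀ z ∈ ({a, b} : Set G), ⁅z, g⁆ ∈ N) → ∀ x ∈ H, ⁅x, g⁆ ∈ N := by
    intro g hg
    let J : Subgroup G :=
      { carrier := {x | x ∈ H ∧ ⁅x, g⁆ ∈ N}
        one_mem' := ⟨one_mem _, by rw [commutatorElement_one_left]; exact one_mem _⟩
        mul_mem' := by
          rintro x y ⟨hx, hxN⟩ ⟨hy, hyN⟩
          refine ⟨mul_mem hx hy, ?_⟩
          rw [show ⁅x * y, g⁆ = x * ⁅y, g⁆ * x⁻¹ * ⁅x, g⁆ by simp only [commutatorElement_def]; group]
          exact mul_mem (hN x hx _ hyN) hxN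
        inv_mem' := by
          rintro x ⟨hx, hxN⟩
          refine ⟨inv_mem hx, ?_⟩
          rw [show ⁅x⁻¹, g⁆ = x⁻¹ * ⁅x, g⁆⁻¹ * x⁻¹⁻¹ by simp only [commutatorElement_def]; group]
          exact hN _ (inv_mem hx) _ (inv_mem hxN) }
    have hJ : H ≤ J := (Subgroup.closure_le _).mpr fun z hz => ⟨Subgroup.subset_closure hz, hg z hz⟩
    exact fun x hx => (hJ hx).2
  have h' : ∀ x ∈ ({a, b} : Set G), ∀ y ∈ ({a, b} : Set G), ⁅x, y⁆ ∈ N := by
    rintro x (rfl | rfl) y (rfl | rfl)
    · rw [commutatorElement_self]; exact one_mem _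
    · rw [← commutatorElement_inv]; exact inv_mem h
    · exact h
    · rw [commutatorElement_self]; exact one_mem _
  refine commutator_le.mpr fun x hx y hy => ?_
  rw [← commutatorElement_inv]
  refine inv_mem (main x (fun z hz => ?_) y hy)
  rw [← commutatorElement_inv]
  exact inv_mem (main z (fun w hw => h' w hw z hz) x hx)

/-- Hall: in a regular group `a ^ q = b ^ q ↔ (a⁻¹ b) ^ q = 1`. -/
theorem regularAt_pow_eq_iff_aux [Finite G] (hG : IsPGroup p G) {n : ℕ} (hR : RegularAt p n G)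
    (H : Subgroup G) : ∀ a b : G, Subgroup.closure ({a, b} : Set G) = H →
      (a ^ (p ^ n) = b ^ (p ^ n) ↔ (a⁻¹ * b) ^ (p ^ n) = 1) := by
  induction H using WellFoundedLT.induction with
  | ind H ih =>
  intro a b hH
  have ha : a ∈ H := hH ▸ Subgroup.subset_closure (by simp)
  have hb : b ∈ H := hH ▸ Subgroup.subset_closure (by simp)
  by_cases hab : ⁅H, H⁆ = ⊥
  · have hc : Commute a⁻¹ b := (show Commute a b from commutatorElement_eq_one_iff_mul_comm.mp
      (Subgroup.mem_bot.mp (hab ▸ commutator_mem_commutator ha hb))).inv_left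
    rw [hc.mul_pow, inv_pow, inv_mul_eq_one]
  set D := ⁅H, H⁆ with hD
  have ih' : ∀ u v : G, ∀ y ∈ H, u ∈ zpowers y ⊔ D → v ∈ zpowers y ⊔ D →
      (u ^ (p ^ n) = v ^ (p ^ n) ↔ (u⁻¹ * v) ^ (p ^ n) = 1) := fun u v y hy hu hv =>
    ih _ (lt_of_le_of_lt (closure_pair_le hu hv) (sup_commutator_lt hG hy hab)) u v rfl
  -- once the commutator of the generators has exponent `q`, so has the derived subgroup
  have hexp : ∀ s t : G, Subgroup.closure ({s, t} : Set G) = H → ⁅t, s⁆ ^ (p ^ n) = 1 →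
      ∀ c ∈ Cfsg.powerClosure p n D, c = 1 := by
    intro s t hst h1 c hc
    have hs : s ∈ H := hst ▸ Subgroup.subset_closure (by simp)
    let N : Subgroup G :=
      { carrier := {x | x ∈ D ∧ x ^ (p ^ n) = 1}
        one_mem' := ⟨one_mem _, one_pow _⟩
        mul_mem' := by
          rintro x y ⟨hx, hx1⟩ ⟨hy, hy1⟩
          refine ⟨mul_mem hx hy, ?_⟩
          have := (ih' x⁻¹ y s hs (Subgroup.mem_sup_right (inv_mem hx)) (Subgroup.mem_sup_right hy)).mp
            (by rw [inv_pow, hx1, hy1, inv_one])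
          rwa [inv_inv] at this
        inv_mem' := by
          rintro x ⟨hx, hx1⟩
          exact ⟨inv_mem hx, by rw [inv_pow, hx1, inv_one]⟩ }
    have hDN : D ≤ N := by
      rw [hD, ← hst]
      refine commutator_closure_pair_le s t N (fun g hg x hx => ⟨?_, by rw [conj_pow, hx.2]; simp⟩) ⟨?_, h1⟩
      · rw [hst] at hg
        have h3 := commutator_mem_commutator hg (commutator_self_le H hx.1)
        have h4 := D.mul_mem h3 hx.1
        rwa [commutatorElement_def, inv_mul_cancel_right] at h4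
      · exact commutator_mem_commutator (hst ▸ Subgroup.subset_closure (by simp)) hs
    have : Cfsg.powerClosure p n D ≤ ⊥ := by
      rw [Cfsg.powerClosure, Subgroup.closure_le]
      rintro _ ⟨x, hx, rfl⟩
      exact (hDN hx).2
    exact Subgroup.mem_bot.mp (this hc)
  constructor
  · intro he
    have hv : b * a * b⁻¹ ∈ zpowers a ⊔ D := by
      have : ⁅b, a⁆ * a ∈ zpowers a ⊔ D := mul_mem (Subgroup.mem_sup_right
        (commutator_mem_commutator hb ha)) (Subgroup.mem_sup_left (mem_zpowers a))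
      rwa [commutatorElement_def, inv_mul_cancel_right] at this
    have h2 := (ih' a⁻¹ (b * a * b⁻¹)⁻¹ a ha (inv_mem (Subgroup.mem_sup_left (mem_zpowers a)))
      (inv_mem hv)).mp (by
        rw [inv_pow, inv_pow, conj_pow, he, ← pow_succ', pow_succ, mul_inv_cancel_right])
    have h3 : ⁅b, a⁆ ^ (p ^ n) = 1 := by
      rw [← commutatorElement_inv, inv_pow, commutatorElement_def, inv_eq_one]
      simpa [mul_assoc] using h2
    obtain ⟨c, hc, hce⟩ := hR a (a⁻¹ * b)
    have hgen : Subgroup.closure ({a, a⁻¹ * b} : Set G) = H := by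
      refine le_antisymm (closure_pair_le ha (mul_mem (inv_mem ha) hb)) (hH ▸ closure_pair_le ?_ ?_)
      · exact Subgroup.subset_closure (by simp)
      · have h4 : a * (a⁻¹ * b) ∈ Subgroup.closure ({a, a⁻¹ * b} : Set G) :=
          mul_mem (Subgroup.subset_closure (by simp)) (Subgroup.subset_closure (by simp))
        rwa [mul_inv_cancel_left] at h4
    rw [hgen] at hc
    rw [hexp a b hH h3 c hc, mul_one, mul_inv_cancel_left] at hce
    rw [← he] at hce
    exact mul_eq_left.mp hce.symm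
  · intro hy
    have hgen : Subgroup.closure ({a, a⁻¹ * b} : Set G) = H := by
      refine le_antisymm (closure_pair_le ha (mul_mem (inv_mem ha) hb)) (hH ▸ closure_pair_le ?_ ?_)
      · exact Subgroup.subset_closure (by simp)
      · have h4 : a * (a⁻¹ * b) ∈ Subgroup.closure ({a, a⁻¹ * b} : Set G) :=
          mul_mem (Subgroup.subset_closure (by simp)) (Subgroup.subset_closure (by simp))
        rwa [mul_inv_cancel_left] at h4
    set y := a⁻¹ * b with hy'
    have hyH : y ∈ H := mul_mem (inv_mem ha) hb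
    have hu : a * y * a⁻¹ ∈ zpowers y ⊔ D := by
      have : ⁅a, y⁆ * y ∈ zpowers y ⊔ D := mul_mem (Subgroup.mem_sup_right
        (commutator_mem_commutator ha hyH)) (Subgroup.mem_sup_left (mem_zpowers y))
      rwa [commutatorElement_def, inv_mul_cancel_right] at this
    have h2 := (ih' (a * y * a⁻¹)⁻¹ y⁻¹ y hyH (inv_mem hu)
      (inv_mem (Subgroup.mem_sup_left (mem_zpowers y)))).mp (by
        simp only [inv_pow, conj_pow, hy]; simp)
    have h3 : ⁅y, a⁆ ^ (p ^ n) = 1 := by
      rw [← commutatorElement_inv, inv_pow, commutatorElement_def, inv_eq_one]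
      simpa [mul_assoc] using h2
    obtain ⟨c, hc, hce⟩ := hR a y
    rw [hgen] at hc
    rw [hexp a y hgen h3 c hc, hy, mul_one, mul_one, hy', mul_inv_cancel_left] at hce
    exact hce.symm

theorem regularAt_pow_eq_iff [Finite G] (hG : IsPGroup p G) {n : ℕ} (hR : RegularAt p n G) (a b : G) :
    a ^ (p ^ n) = b ^ (p ^ n) ↔ (a⁻¹ * b) ^ (p ^ n) = 1 :=
  regularAt_pow_eq_iff_aux hG hR _ a b rfl

/-- The elements of order dividing `p ^ n` of a regular group form a subgroup. -/
def omegaSubgroup [Finite G] (hG : IsPGroup p G) {n : ℕ} (hR : RegularAt p n G) : Subgroup G where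
  carrier := {x | x ^ (p ^ n) = 1}
  one_mem' := one_pow _
  mul_mem' {x y} hx hy := by
    have := (regularAt_pow_eq_iff hG hR x⁻¹ y).mp (by
      rw [inv_pow, show x ^ (p ^ n) = 1 from hx, show y ^ (p ^ n) = 1 from hy, inv_one])
    rwa [inv_inv] at this
  inv_mem' {x} hx := show x⁻¹ ^ (p ^ n) = 1 by rw [inv_pow, show x ^ (p ^ n) = 1 from hx, inv_one]

theorem regularAt_omega_characteristic [Finite G] (hG : IsPGroup p G) {n : ℕ} (hR : RegularAt p n G) :
    (omegaSubgroup hG hR).Characteristic := by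
  refine Subgroup.characteristic_iff_le_comap.mpr fun φ x hx => ?_
  show (φ x) ^ (p ^ n) = 1
  rw [← map_pow, show x ^ (p ^ n) = 1 from hx, map_one]

theorem regularAt_exists_pow_mul [Finite G] (hG : IsPGroup p G) {n : ℕ} (hR : RegularAt p n G)
    (H : Subgroup G) : ∀ u ∈ H, ∀ v ∈ H, ∃ d ∈ H, u ^ (p ^ n) * v ^ (p ^ n) = d ^ (p ^ n) := by
  induction H using WellFoundedLT.induction with
  | ind H ih =>
  intro a ha b hb
  by_cases hab : ⁅H, H⁆ = ⊥
  · exact ⟨a * b, mul_mem ha hb, ((show Commute a b from commutatorElement_eq_one_iff_mul_comm.mp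
      (Subgroup.mem_bot.mp (hab ▸ commutator_mem_commutator ha hb))).mul_pow _).symm⟩
  have hlt : zpowers (a * b) ⊔ ⁅H, H⁆ < H := sup_commutator_lt hG (mul_mem ha hb) hab
  obtain ⟨c, hc, hce⟩ := hR a b
  have hc' : c ∈ Cfsg.powerClosure p n ⁅H, H⁆ :=
    powerClosure_mono p n (commutator_mono (closure_pair_le ha hb) (closure_pair_le ha hb)) hc
  obtain ⟨e, he, hee⟩ : ∃ e ∈ ⁅H, H⁆, c⁻¹ = e ^ (p ^ n) := by
    refine Subgroup.closure_induction (p := fun z _ => ∃ e ∈ ⁅H, H⁆, z = e ^ (p ^ n))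
      (fun z hz => hz) ⟨1, one_mem _, (one_pow _).symm⟩ ?_ ?_ (inv_mem hc')
    · rintro _ _ - - ⟨x, hx, rfl⟩ ⟨y, hy, rfl⟩
      exact ih _ (lt_of_le_of_lt le_sup_right hlt) x hx y hy
    · rintro _ - ⟨x, hx, rfl⟩
      exact ⟨x⁻¹, inv_mem hx, (inv_pow _ _).symm⟩
  obtain ⟨d, hd, hde⟩ := ih _ hlt (a * b) (Subgroup.mem_sup_left (mem_zpowers _)) e (Subgroup.mem_sup_right he)
  refine ⟨d, hlt.le hd, ?_⟩
  rw [← hde, ← hee, hce, mul_inv_cancel_right]

/-- The `p ^ n`-th powers of the elements of a subgroup form a subgroup. -/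
theorem regularAt_mem_powerClosure [Finite G] (hG : IsPGroup p G) {n : ℕ} (hR : RegularAt p n G)
    {H : Subgroup G} {z : G} (hz : z ∈ Cfsg.powerClosure p n H) : ∃ x ∈ H, z = x ^ (p ^ n) := by
  refine Subgroup.closure_induction (p := fun z _ => ∃ x ∈ H, z = x ^ (p ^ n))
    (fun z hz => hz) ⟨1, one_mem _, (one_pow _).symm⟩ ?_ ?_ hz
  · rintro _ _ - - ⟨x, hx, rfl⟩ ⟨y, hy, rfl⟩
    exact regularAt_exists_pow_mul hG hR H x hx y hy
  · rintro _ - ⟨x, hx, rfl⟩
    exact ⟨x⁻¹, inv_mem hx, (inv_pow _ _).symm⟩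

/-- The derived subgroup of the group of `p ^ n`-th powers. -/
theorem regularAt_commutator_powerClosure [Finite G] (hG : IsPGroup p G) {n : ℕ} (hR : RegularAt p n G)
    (H : Subgroup G) :
    ⁅Cfsg.powerClosure p n H, Cfsg.powerClosure p n H⁆ ≤ Cfsg.powerClosure p n ⁅H, H⁆ := by
  refine commutator_le.mpr fun g hg k hk => ?_
  obtain ⟨x, hx, rfl⟩ := regularAt_mem_powerClosure hG hR hg
  obtain ⟨y, hy, rfl⟩ := regularAt_mem_powerClosure hG hR hk
  set u := x ^ (p ^ n) * y * (x ^ (p ^ n))⁻¹ with hu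
  have huH : u ∈ H := mul_mem (mul_mem (pow_mem hx _) hy) (inv_mem (pow_mem hx _))
  obtain ⟨c, hc, hce⟩ := hR u y⁻¹
  have h1 : ⁅x ^ (p ^ n), y ^ (p ^ n)⁆ = (u * y⁻¹) ^ (p ^ n) * c⁻¹ := by
    rw [hce, mul_inv_cancel_right, inv_pow, hu, conj_pow, commutatorElement_def]
  rw [h1]
  refine mul_mem (pow_mem_powerClosure p n ?_) (inv_mem (powerClosure_mono p n ?_ hc))
  · exact commutator_mem_commutator (pow_mem hx _) hy
  · exact commutator_mono (closure_pair_le huH (inv_mem hy)) (closure_pair_le huH (inv_mem hy))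

/-- Regularity at the exponent `p` implies regularity. -/
theorem regularAt_of_one [Finite G] (hG : IsPGroup p G) (h1 : RegularAt p 1 G) : ∀ n : ℕ, RegularAt p n G
  | 0 => fun a b => ⟨1, one_mem _, by simp⟩
  | n + 1 => fun a b => by
    have hn := regularAt_of_one hG h1 n
    set H := Subgroup.closure ({a, b} : Set G)
    set U := Cfsg.powerClosure p n H
    set W := Cfsg.powerClosure p n ⁅H, H⁆
    have hW : ∀ z ∈ Cfsg.powerClosure p 1 W, z ∈ Cfsg.powerClosure p (n + 1) ⁅H, H⁆ := by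
      intro z hz
      obtain ⟨w, hw, rfl⟩ := regularAt_mem_powerClosure hG h1 hz
      obtain ⟨x, hx, rfl⟩ := regularAt_mem_powerClosure hG hn hw
      rw [← pow_mul, ← pow_add]
      exact pow_mem_powerClosure p (n + 1) hx
    have hUU : ∀ s ∈ U, ∀ t ∈ U, ⁅Subgroup.closure ({s, t} : Set G), Subgroup.closure ({s, t} : Set G)⁆ ≤ W :=
      fun s hs t ht => (commutator_mono (closure_pair_le hs ht) (closure_pair_le hs ht)).trans
        (regularAt_commutator_powerClosure hG hn H)
    have haU : a ^ (p ^ n) ∈ U := pow_mem_powerClosure p n (Subgroup.subset_closure (by simp))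
    have hbU : b ^ (p ^ n) ∈ U := pow_mem_powerClosure p n (Subgroup.subset_closure (by simp))
    obtain ⟨c, hc, hce⟩ := hn a b
    have hcU : c ∈ U := powerClosure_mono p n (commutator_self_le H) hc
    obtain ⟨e₁, he₁, h₁⟩ := h1 (a ^ (p ^ n) * b ^ (p ^ n)) c
    obtain ⟨e₂, he₂, h₂⟩ := h1 (a ^ (p ^ n)) (b ^ (p ^ n))
    refine ⟨e₂ * c ^ (p ^ 1) * e₁, mul_mem (mul_mem (hW _ ?_) (hW _ ?_)) (hW _ ?_), ?_⟩
    · exact powerClosure_mono p 1 (hUU _ haU _ hbU) he₂
    · exact pow_mem_powerClosure p 1 hc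
    · exact powerClosure_mono p 1 (hUU _ (mul_mem haU hbU) _ hcU) he₁
    · rw [pow_succ p n, pow_mul, pow_mul, pow_mul, hce]
      simp only [pow_one] at h₁ h₂ ⊢
      rw [h₁, h₂]
      group

omit [Fact p.Prime] in
theorem regularAt_of_isRegular (h : Cfsg.IsRegularPGroup p G) (n : ℕ) : RegularAt p n G :=
  fun a b => h.2 a b n

/-- Regularity follows from the equation for `p`-th powers. -/
theorem isRegular_of_regularAt_one [Finite G] (hG : IsPGroup p G) (h1 : RegularAt p 1 G) :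
    Cfsg.IsRegularPGroup p G :=
  ⟨hG, fun a b n => regularAt_of_one hG h1 n a b⟩

end Cfsg.Agent.PGroups
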