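import Cfsg.Agent.PGroups.Regular
import Cfsg.Agent.PGroups.HallPetrescu
import Mathlib.Data.Nat.Choose.Dvd

/-!
A finite `p`-group of nilpotency class less than `p` is regular (P. Hall).
-/

set_option autoImplicit false
set_option linter.style.haveILetI false

namespace Cfsg.Agent.PGroups

open Subgroup
open scoped commutatorElement

variable {G : Type*} [Group G] {p : ℕ}

theorem powerClosure_normal (p n : ℕ) (H : Subgroup G) [hH : H.Normal] :
    (Cfsg.powerClosure p n H).Normal where
  conj_mem x hx g := by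
    have h1 := Subgroup.mem_map_of_mem (MulAut.conj g).toMonoidHom hx
    rw [Cfsg.powerClosure, MonoidHom.map_closure] at h1
    refine Subgroup.closure_mono ?_ h1
    rintro _ ⟨_, ⟨y, hy, rfl⟩, rfl⟩
    exact ⟨g * y * g⁻¹, hH.conj_mem y hy g, by simp [conj_pow]⟩

theorem powerClosure_map {K : Type*} [Group K] (f : G →* K) (p n : ℕ) (H : Subgroup G) :
    (Cfsg.powerClosure p n H).map f = Cfsg.powerClosure p n (H.map f) := by
  rw [Cfsg.powerClosure, Cfsg.powerClosure, MonoidHom.map_closure]
  congr 1
  ext z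
  constructor
  · rintro ⟨_, ⟨x, hx, rfl⟩, rfl⟩
    exact ⟨f x, Subgroup.mem_map_of_mem f hx, map_pow f x _⟩
  · rintro ⟨_, ⟨x, hx, rfl⟩, rfl⟩
    exact ⟨x ^ p ^ n, ⟨x, hx, rfl⟩, map_pow f x _⟩

/-- If every two-generated subgroup has class less than `p`, the equation of regularity holds. -/
theorem regularAt_one_of_class [hp : Fact p.Prime]
    (h : ∀ a b : G, (Subgroup.closure ({a, b} : Set G)).lowerCentralSeries (p - 1) = ⊥) :
    RegularAt p 1 G := by
  intro a b
  have hcl := h a b
  generalize hHdef : Subgroup.closure ({a, b} : Set G) = H at hcl ⊢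
  have hbot : (⊤ : Subgroup H).lowerCentralSeries (p - 1) = ⊥ := by
    rw [← map_subtype_inj, Subgroup.top_subtype_lowerCentralSeries, hcl, Subgroup.map_bot]
  haveI := powerClosure_normal p 1 (commutator H)
  obtain ⟨u, hu, he⟩ := hall_petrescu (⟨a, hHdef ▸ Subgroup.subset_closure (by simp)⟩ : H)
    ⟨b, hHdef ▸ Subgroup.subset_closure (by simp)⟩ p (Cfsg.powerClosure p 1 (commutator H)) (by
    intro j hj2 hjp c hc
    rcases eq_or_lt_of_le hjp with rfl | hlt
    · rw [lcsFil, hbot, Subgroup.mem_bot] at hc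
      rw [hc, one_pow]; exact one_mem _
    · obtain ⟨t, ht⟩ := hp.out.dvd_choose_self (k := j) (by omega) hlt
      have hct : c ^ t ∈ commutator H := pow_mem (lcsFil_two (G := H) ▸ lcsFil_antitone hj2 hc) t
      have h2 : (c ^ t) ^ p ^ 1 ∈ Cfsg.powerClosure p 1 (commutator H) := pow_mem_powerClosure p 1 hct
      have h3 : c ^ p.choose j = (c ^ t) ^ p ^ 1 := by rw [pow_one, ← pow_mul, ht, mul_comm t]
      rw [h3]
      exact h2)
  have hu' := Subgroup.mem_map_of_mem H.subtype hu
  rw [powerClosure_map, H.map_subtype_commutator] at hu'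
  exact ⟨u, hu', by simpa using congrArg Subtype.val he⟩

/-- A finite `p`-group of class less than `p` is regular. -/
theorem isRegular_of_class [Finite G] [Fact p.Prime] (hG : IsPGroup p G)
    (h : (⊤ : Subgroup G).lowerCentralSeries (p - 1) = ⊥) : Cfsg.IsRegularPGroup p G :=
  isRegular_of_regularAt_one hG (regularAt_one_of_class fun _ _ =>
    le_bot_iff.mp ((Subgroup.lowerCentralSeries_mono _ le_top).trans h.le))

end Cfsg.Agent.PGroups
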