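import Mathlib
import Cfsg.Agent.PGroups.RuPermData

/-!
A graph on 4060 points given by a symplectic form on vectors of length 28 over the field with
two elements, and the general lemmas for its certificates: linear extension of kernel checks,
cells invariant under graph automorphisms, and programs of linear maps.
-/

set_option autoImplicit false

namespace Cfsg.Agent.PGroups.Ru

/-! ### Linear maps on packed vectors -/

/-- The linear map with the given rows. -/
def lin : List ℕ → ℕ → ℕ
  | [], _ => 0
  | r :: rs, v => (if v % 2 = 1 then r else 0) ^^^ lin rs (v / 2)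

theorem half_xor (a b : ℕ) : (a ^^^ b) / 2 = a / 2 ^^^ b / 2 := by
  have h := Nat.shiftRight_xor_distrib (a := a) (b := b) (i := 1)
  simpa [Nat.shiftRight_one] using h

theorem ite_xor (a b r : ℕ) :
    (if (a ^^^ b) % 2 = 1 then r else 0) =
      (if a % 2 = 1 then r else 0) ^^^ (if b % 2 = 1 then r else 0) := by
  have h : (a ^^^ b) % 2 = (a % 2) ^^^ (b % 2) := Nat.xor_mod_two_pow (n := 1)
  rcases Nat.mod_two_eq_zero_or_one a with ha | ha <;>
    rcases Nat.mod_two_eq_zero_or_one b with hb | hb <;> simp [ha, hb, h]

theorem lin_xor : ∀ (rows : List ℕ) (a b : ℕ), lin rows (a ^^^ b) = lin rows a ^^^ lin rows b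
  | [], a, b => by simp [lin]
  | r :: rs, a, b => by
    simp only [lin]
    rw [half_xor, lin_xor rs, ite_xor]
    ac_rfl

theorem lin_zero : ∀ rows : List ℕ, lin rows 0 = 0
  | [] => rfl
  | r :: rs => by simp [lin, lin_zero rs]

theorem lin_lt {k : ℕ} : ∀ (rows : List ℕ), (∀ r ∈ rows, r < 2 ^ k) → ∀ v, lin rows v < 2 ^ k
  | [], _, v => by simp [lin]
  | r :: rs, h, v => by
    simp only [lin]
    refine Nat.xor_lt_two_pow ?_ (lin_lt rs (fun x hx => h x (List.mem_cons_of_mem _ hx)) _)
    split
    · exact h r List.mem_cons_self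
    · positivity

/-- Equality of additive functions follows from equality on the coordinate vectors. -/
theorem xext {β : Type*} (F G : ℕ → β) (op : β → β → β) (k : ℕ)
    (hF : ∀ a b, F (a ^^^ b) = op (F a) (F b)) (hG : ∀ a b, G (a ^^^ b) = op (G a) (G b))
    (h0 : F 0 = G 0) (he : ∀ i, i < k → F (2 ^ i) = G (2 ^ i)) :
    ∀ v, v < 2 ^ k → F v = G v := by
  induction k with
  | zero =>
    intro v hv
    have : v = 0 := by simpa using hv
    subst this; exact h0
  | succ k ih =>
    intro v hv
    by_cases h : v < 2 ^ k
    · exact ih (fun i hi => he i (by omega)) v h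
    have hr : v ^^^ 2 ^ k < 2 ^ k := by
      refine Nat.lt_pow_two_of_testBit _ fun i hi => ?_
      rw [Nat.testBit_xor, Nat.testBit_two_pow]
      rcases eq_or_lt_of_le hi with rfl | hlt
      · rw [Nat.testBit_eq_decide_div_mod_eq]
        have h1 : v / 2 ^ k = 1 := Nat.div_eq_of_lt_le (by omega) (by rw [pow_succ] at hv; omega)
        simp [h1]
      · rw [Nat.testBit_lt_two_pow (lt_of_lt_of_le hv (Nat.pow_le_pow_right (by norm_num) hlt))]
        simp; omega
    have e : (v ^^^ 2 ^ k) ^^^ 2 ^ k = v := by rw [Nat.xor_assoc, Nat.xor_self, Nat.xor_zero]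
    rw [← e, hF, hG, ih (fun i hi => he i (by omega)) _ hr, he k (by omega)]

/-- Sum of the two halves of a vector. -/
def foldBit (s v : ℕ) : ℕ := v ^^^ (v >>> s)

/-- Parity of a vector of length at most 32. -/
def par (v : ℕ) : Bool := (foldBit 1 (foldBit 2 (foldBit 4 (foldBit 8 (foldBit 16 v))))).testBit 0

theorem foldBit_xor (s a b : ℕ) : foldBit s (a ^^^ b) = foldBit s a ^^^ foldBit s b := by
  simp only [foldBit, Nat.shiftRight_xor_distrib]
  ac_rfl

theorem par_xor (a b : ℕ) : par (a ^^^ b) = (par a ^^ par b) := by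
  simp only [par, foldBit_xor, Nat.testBit_xor]

theorem par_zero : par 0 = false := by simp [par, foldBit]

/-- The symplectic form. -/
def form (a b : ℕ) : Bool := par (lin formRows a &&& b)

theorem form_xor_left (a b c : ℕ) : form (a ^^^ b) c = (form a c ^^ form b c) := by
  simp only [form, lin_xor, Nat.and_xor_distrib_right, par_xor]

theorem form_xor_right (a b c : ℕ) : form a (b ^^^ c) = (form a b ^^ form a c) := by
  simp only [form, Nat.and_xor_distrib_left, par_xor]

theorem form_zero_left (c : ℕ) : form 0 c = false := by simp [form, lin_zero, par_zero]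

theorem form_zero_right (c : ℕ) : form c 0 = false := by simp [form, par_zero]

/-! ### Points, adjacency and tables -/

/-- A point as a vector. -/
def pt (j : ℕ) : ℕ := (ptsPack >>> (28 * j)) % 268435456

theorem pt_lt (j : ℕ) : pt j < 2 ^ 28 := Nat.mod_lt _ (by norm_num)

/-- Adjacency. -/
def adj (i j : ℕ) : Bool := form (pt i) (pt j)

/-- A table entry. -/
def tget (t j : ℕ) : ℕ := (t >>> (12 * j)) % 4096

/-- The neighbourhood of a point as a mask. -/
def nb (x : ℕ) : ℕ := lin nbRows (pt x)

/-- Reduction modulo the first point. -/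
def key (v : ℕ) : ℕ := v ^^^ (if v.testBit keyBit then pt 0 else 0)

theorem key_xor (a b : ℕ) : key (a ^^^ b) = key a ^^^ key b := by
  simp only [key, Nat.testBit_xor]
  cases a.testBit keyBit <;> cases b.testBit keyBit <;>
    simp only [Bool.bne_false, Bool.bne_true, Bool.not_true, Bool.not_false, if_true,
      Bool.false_eq_true, if_false, Nat.xor_zero] <;>
    first
      | rfl
      | ac_rfl
      | (rw [show a ^^^ pt 0 ^^^ (b ^^^ pt 0) = (a ^^^ b) ^^^ (pt 0 ^^^ pt 0) by ac_rfl,
          Nat.xor_self, Nat.xor_zero])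

/-- The group of automorphisms of the graph. -/
def autGrp : Subgroup (Equiv.Perm (Fin 4060)) where
  carrier := {σ | ∀ i j : Fin 4060, adj (σ i).1 (σ j).1 = adj i.1 j.1}
  one_mem' := fun _ _ => rfl
  mul_mem' := fun {a b} ha hb i j => by
    rw [Equiv.Perm.mul_apply, Equiv.Perm.mul_apply, ha, hb]
  inv_mem' := fun {a} ha i j => by
    have h := ha (a⁻¹ i) (a⁻¹ j)
    simp only [Equiv.Perm.coe_inv, Equiv.apply_symm_apply] at h ⊢
    exact h.symm

/-! ### Bit sliced counting -/

/-- Add a row to a counter in bit planes. -/
def addPlane : List ℕ → ℕ → List ℕ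
  | [], _ => []
  | p :: ps, c => (p ^^^ c) :: addPlane ps (p &&& c)

/-- Increment a counter. -/
def incr : List Bool → Bool → List Bool
  | [], _ => []
  | b :: bs, t => (b ^^ t) :: incr bs (b && t)

/-- The bits of a counter. -/
def bitsOf : ℕ → ℕ → List Bool
  | 0, _ => []
  | l + 1, c => decide (c % 2 = 1) :: bitsOf l (c / 2)

/-- The bits of the planes at a position. -/
def planeBits (ps : List ℕ) (x : ℕ) : List Bool := ps.map fun p => p.testBit x

theorem planeBits_add : ∀ (ps : List ℕ) (c x : ℕ),
    planeBits (addPlane ps c) x = incr (planeBits ps x) (c.testBit x)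
  | [], c, x => rfl
  | p :: ps, c, x => by
    have h := planeBits_add ps (p &&& c) x
    simp only [planeBits, addPlane, incr, List.map_cons] at h ⊢
    rw [Nat.testBit_xor, h, Nat.testBit_and]

theorem incr_false : ∀ bs : List Bool, incr bs false = bs
  | [] => rfl
  | b :: bs => by simp [incr, incr_false bs]

theorem incr_bitsOf : ∀ l c : ℕ, incr (bitsOf l c) true = bitsOf l (c + 1)
  | 0, c => rfl
  | l + 1, c => by
    simp only [bitsOf, incr]
    rcases Nat.mod_two_eq_zero_or_one c with h | h
    · have h1 : (c + 1) % 2 = 1 := by omega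
      have h2 : (c + 1) / 2 = c / 2 := by omega
      simp [h, h1, h2, incr_false]
    · have h1 : (c + 1) % 2 = 0 := by omega
      have h2 : (c + 1) / 2 = c / 2 + 1 := by omega
      simp [h, h1, h2, incr_bitsOf l]

/-- The members of a mask. -/
def members (m : ℕ) : List ℕ := (List.range 4060).filter fun j => m.testBit j

/-- The counters for the neighbourhoods of the members of a list. -/
def planes : List ℕ → List ℕ
  | [] => List.replicate 13 0
  | y :: ys => addPlane (planes ys) (nb y)

theorem planeBits_planes : ∀ (l : List ℕ) (x : ℕ),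
    planeBits (planes l) x = bitsOf 13 (l.countP fun y => (nb y).testBit x)
  | [], x => by simp [planes, planeBits, bitsOf]
  | y :: ys, x => by
    rw [planes, planeBits_add, planeBits_planes ys x, List.countP_cons]
    cases (nb y).testBit x
    · simp [incr_false]
    · simp [incr_bitsOf]

/-- Agreement of bits with a number. -/
def agree : List Bool → ℕ → Bool
  | [], _ => true
  | b :: bs, k => (b == decide (k % 2 = 1)) && agree bs (k / 2)

/-- Select the positions where the counter has a given value. -/
def eqMask : List ℕ → ℕ → ℕ → ℕ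
  | [], _, m => m
  | p :: ps, k, m => eqMask ps (k / 2) (if k % 2 = 1 then m &&& p else m ^^^ (m &&& p))

theorem testBit_eqMask : ∀ (ps : List ℕ) (k m x : ℕ),
    (eqMask ps k m).testBit x = (m.testBit x && agree (planeBits ps x) k)
  | [], k, m, x => by simp [eqMask, planeBits, agree]
  | p :: ps, k, m, x => by
    rw [eqMask, testBit_eqMask]
    simp only [planeBits, List.map_cons, agree]
    rcases Nat.mod_two_eq_zero_or_one k with h | h
    · simp only [h, zero_ne_one, if_false, Nat.testBit_xor, Nat.testBit_and, decide_false]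
      cases m.testBit x <;> cases p.testBit x <;> simp
    · simp only [h, if_true, Nat.testBit_and, decide_true]
      cases m.testBit x <;> cases p.testBit x <;> simp

/-! ### Cells -/

/-- The mask of one refinement step. -/
def stepMask (cells : List ℕ) (s : ℕ × ℕ × ℕ × ℕ) : ℕ :=
  if s.1 = 0 then
    eqMask (planes (members (cells.getD s.2.2.1 0))) s.2.2.2 (cells.getD s.2.1 0)
  else cells.getD s.2.1 0 ^^^ (cells.getD s.2.1 0 &&& cells.getD s.2.2.1 0)

/-- A refinement certificate: the first cells are all points and the fixed points. -/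
def checkCells (fixd : List ℕ) (steps : List (ℕ × ℕ × ℕ × ℕ)) (cells : List ℕ) : Bool :=
  (cells.getD 0 0 == 2 ^ 4060 - 1) &&
  ((List.range fixd.length).all fun i => cells.getD (i + 1) 0 == 2 ^ fixd.getD i 0) &&
  (cells.length == fixd.length + 1 + steps.length) &&
  (List.range steps.length).all fun i =>
    let s := steps.getD i (0, 0, 0, 0)
    decide (s.2.1 < fixd.length + 1 + i) && decide (s.2.2.1 < fixd.length + 1 + i) &&
      stepMask cells s == cells.getD (fixd.length + 1 + i) 0

/-- A set of points given by a mask which is invariant under a permutation. -/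
def Pres (σ : Equiv.Perm (Fin 4060)) (m : ℕ) : Prop :=
  ∀ x : Fin 4060, m.testBit (σ x).1 = m.testBit x.1

theorem countP_members (m : ℕ) (p : ℕ → Bool) :
    (members m).countP p =
      (Finset.univ.filter fun y : Fin 4060 => m.testBit y.1 = true ∧ p y.1 = true).card := by
  have h1 : (members m).countP p = Nat.count (fun y => m.testBit y = true ∧ p y = true) 4060 := by
    rw [members, List.countP_filter, Nat.count]
    congr 1
    funext y
    cases m.testBit y <;> cases p y <;> simp
  rw [h1, Nat.count_eq_card_filter_range, ← Nat.Iio_eq_range, ← Fin.map_valEmbedding_univ,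
    Finset.filter_map, Finset.card_map]
  rfl

theorem count_invariant (hnb : ∀ y x : Fin 4060, (nb y.1).testBit x.1 = adj y.1 x.1)
    {σ : Equiv.Perm (Fin 4060)} (hσ : σ ∈ autGrp) {m : ℕ} (hm : Pres σ m) (x : Fin 4060) :
    (members m).countP (fun y => (nb y).testBit (σ x).1) =
      (members m).countP (fun y => (nb y).testBit x.1) := by
  rw [countP_members, countP_members]
  refine (Finset.card_bij (fun y _ => σ y) ?_ (fun a _ b _ h => σ.injective h) ?_).symm
  · intro y hy
    simp only [Finset.mem_filter, Finset.mem_univ, true_and] at hy ⊢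
    rw [hnb] at hy
    rw [hm y, hnb, hσ y x]
    exact hy
  · intro y hy
    refine ⟨σ⁻¹ y, ?_, by simp⟩
    simp only [Finset.mem_filter, Finset.mem_univ, true_and] at hy ⊢
    rw [hnb] at hy ⊢
    have h1 := hm (σ⁻¹ y)
    have h2 := hσ (σ⁻¹ y) x
    simp only [Equiv.Perm.coe_inv, Equiv.apply_symm_apply] at h1 h2 ⊢
    rw [← h1, ← h2]
    exact hy

theorem pres_of_checkCells (hnb : ∀ y x : Fin 4060, (nb y.1).testBit x.1 = adj y.1 x.1)
    {fixd : List ℕ} {steps : List (ℕ × ℕ × ℕ × ℕ)} {cells : List ℕ}
    (h : checkCells fixd steps cells = true) {σ : Equiv.Perm (Fin 4060)} (hσ : σ ∈ autGrp)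
    (hfix : ∀ x : Fin 4060, x.1 ∈ fixd → σ x = x) :
    ∀ i, i < cells.length → Pres σ (cells.getD i 0) := by
  simp only [checkCells, Bool.and_eq_true, List.all_eq_true, List.mem_range, beq_iff_eq,
    decide_eq_true_eq] at h
  obtain ⟨⟨⟨h0, h1⟩, hlen⟩, hs⟩ := h
  intro i
  induction i using Nat.strong_induction_on with
  | _ i ih =>
    intro hi x
    rcases Nat.lt_or_ge i (fixd.length + 1) with hlt | hge
    · rcases i with _ | j
      · rw [h0, Nat.testBit_two_pow_sub_one, Nat.testBit_two_pow_sub_one]
        simp [x.2, (σ x).2]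
      · rw [h1 j (by omega), Nat.testBit_two_pow, Nat.testBit_two_pow]
        set b := fixd.getD j 0 with hb
        have hmem : b ∈ fixd := by
          rw [hb, List.getD_eq_getElem _ _ (by omega)]
          exact List.getElem_mem _
        refine decide_eq_decide.2 ⟨fun he => ?_, fun he => ?_⟩
        · have hf : σ (σ x) = σ x := hfix (σ x) (he ▸ hmem)
          rw [σ.injective hf] at he
          exact he
        · have hf : σ x = x := hfix x (he ▸ hmem)
          rw [hf]; exact he
    · obtain ⟨j, rfl⟩ := Nat.exists_eq_add_of_le hge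
      obtain ⟨⟨ha, hb⟩, he⟩ := hs j (by omega)
      have pa := ih _ ha (by omega)
      have pb := ih _ hb (by omega)
      rw [← he]
      simp only [stepMask]
      split
      · rw [testBit_eqMask, testBit_eqMask, planeBits_planes, planeBits_planes, pa x,
          count_invariant hnb hσ pb x]
      · simp only [Nat.testBit_xor, Nat.testBit_and, pa x, pb x]

/-! ### Programs of linear maps -/

/-- A permutation acts on the points as a matrix. -/
def Repr (σ : Equiv.Perm (Fin 4060)) (M : List ℕ) : Prop :=
  ∀ x : Fin 4060, pt (σ x).1 = lin M (pt x.1)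

/-- A program: each entry is a product of two earlier ones. -/
def checkProg (gens : List (List ℕ)) (prog : List (ℕ × ℕ × List ℕ)) : Bool :=
  let ms := gens ++ prog.map fun e => e.2.2
  (List.range prog.length).all fun i =>
    let e := prog.getD i (0, 0, [])
    decide (e.1 < gens.length + i) && decide (e.2.1 < gens.length + i) &&
      (List.range 28).all fun a => lin e.2.2 (2 ^ a) ==
        lin (ms.getD e.1 []) (lin (ms.getD e.2.1 []) (2 ^ a))

theorem mem_of_checkProg {K : Subgroup (Equiv.Perm (Fin 4060))} {gens : List (List ℕ)}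
    {prog : List (ℕ × ℕ × List ℕ)} (h : checkProg gens prog = true)
    (hg : ∀ i, i < gens.length → ∃ σ ∈ K, Repr σ (gens.getD i [])) :
    ∀ i, i < gens.length + prog.length →
      ∃ σ ∈ K, Repr σ ((gens ++ prog.map fun e => e.2.2).getD i []) := by
  simp only [checkProg, Bool.and_eq_true, List.all_eq_true, List.mem_range, beq_iff_eq,
    decide_eq_true_eq] at h
  intro i
  induction i using Nat.strong_induction_on with
  | _ i ih =>
    intro hi
    rcases Nat.lt_or_ge i gens.length with hlt | hge
    · rw [List.getD_append _ _ _ _ hlt]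
      exact hg i hlt
    · obtain ⟨j, rfl⟩ := Nat.exists_eq_add_of_le hge
      obtain ⟨⟨ha, hb⟩, he⟩ := h j (by omega)
      obtain ⟨σ, hσ, hσr⟩ := ih _ ha (by omega)
      obtain ⟨τ, hτ, hτr⟩ := ih _ hb (by omega)
      refine ⟨σ * τ, mul_mem hσ hτ, fun x => ?_⟩
      have hj : j < prog.length := by omega
      have e1 : (gens ++ prog.map fun e => e.2.2).getD (gens.length + j) [] =
          (prog.getD j (0, 0, [])).2.2 := by
        rw [List.getD_append_right _ _ _ _ (by omega), Nat.add_sub_cancel_left,
          List.getD_eq_getElem _ _ (by simpa using hj), List.getElem_map,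
          List.getD_eq_getElem _ _ hj]
      rw [e1, Equiv.Perm.mul_apply, hσr, hτr]
      refine (xext (fun v => lin (prog.getD j (0, 0, [])).2.2 v) (fun v => lin _ (lin _ v))
        (· ^^^ ·) 28 (lin_xor _) (fun a b => by simp only [lin_xor]) (by simp only [lin_zero])
        (fun a ha => he a ha) _ (pt_lt _)).symm

end Cfsg.Agent.PGroups.Ru
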