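import Cfsg.Agent.H44.RuEven
import Cfsg.Agent.PGroups.RuPermBasic
import Cfsg.Agent.PGroups.RuLatData
import Cfsg.Agent.PGroups.RuLatSearch

/-!
Vectors, monomial maps and the parity form of the Rudvalis lattice, with the computable checks
of the certificates.
-/

set_option autoImplicit false

namespace Cfsg.Agent.PGroups.Ru

open Cfsg.Spor
open Cfsg.Agent.H44 (Rud.iPt Rud.cIdx Rud.herm Rud.oddG Rud.four? Rud.genVec Rud.gAt Rud.comb)

/-! ### Coded vectors -/

/-- The nine symbols: zero, the units, four times the units. -/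
def gi (n : ℕ) : GaussianInt :=
  [0, 1, ⟨0, 1⟩, ⟨-1, 0⟩, ⟨0, -1⟩, ⟨4, 0⟩, ⟨0, 4⟩, ⟨-4, 0⟩, ⟨0, -4⟩].getD n 0

/-- A symbol of a coded vector. -/
def nibAt (t i : ℕ) : ℕ := (t >>> (4 * i)) % 16

/-- The vector of a code. -/
def cvec (t : ℕ) : RuVec := fun p => gi (nibAt t (Rud.cIdx p))

/-- The code of a line. -/
def lcode (a : ℕ) : ℕ := (lineCodes >>> (112 * a)) % 5192296858534827628530496329220096

/-- The representative vector of a line. -/
def line (a : ℕ) : RuVec := cvec (lcode a)

/-- Multiplication of a symbol by a power of the unit. -/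
def rotN (e n : ℕ) : ℕ :=
  if n = 0 then 0 else if n < 5 then 1 + (n + 3 + e) % 4 else 5 + (n + 3 + e) % 4

theorem gi_rotN : ∀ e < 4, ∀ n < 9, gi (rotN e n) = gI ^ e * gi n := by decide

/-- A scalar multiple of a vector. -/
def smulV (c : GaussianInt) (x : RuVec) : RuVec := fun p => c * x p

theorem smulV_apply (c : GaussianInt) (x : RuVec) (p : RuIdx) : smulV c x p = c * x p := rfl

theorem smulV_smulV (c d : GaussianInt) (x : RuVec) : smulV c (smulV d x) = smulV (c * d) x :=
  funext fun _ => (mul_assoc _ _ _).symm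

theorem smulV_one (x : RuVec) : smulV 1 x = x := funext fun _ => one_mul _

/-- The source coordinate of a monomial map. -/
def mSrc (m i : ℕ) : ℕ :=
  match m with
  | 0 => i / 4 * 4 + [1, 0, 3, 2].getD (i % 4) 0
  | 1 => i / 4 * 4 + [2, 3, 0, 1].getD (i % 4) 0
  | 2 => (i + 4) % 28
  | _ => i

/-- The exponent of the unit of a monomial map. -/
def mPh (m i : ℕ) : ℕ :=
  match m with
  | 0 => [1, 1, 0, 2].getD (i % 4) 0
  | 1 => [1, 2, 1, 0].getD (i % 4) 0
  | 2 => 0
  | _ => if i / 4 = 0 ∨ i / 4 = 3 ∨ i / 4 = 5 ∨ i / 4 = 6 then 2 else 0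

/-- The four monomial maps. -/
def monoMap (m : ℕ) (v : RuVec) : RuVec := fun p =>
  gI ^ mPh m (Rud.cIdx p) * v (Rud.iPt (mSrc m (Rud.cIdx p)))

theorem monoMap_zero (v : RuVec) : monoMap 0 v = ruRj v := by
  funext p
  obtain ⟨c, t⟩ := p
  fin_cases c <;> fin_cases t <;>
    simp [monoMap, mSrc, mPh, Rud.cIdx, Rud.iPt, ruRj, gI, sq] <;> ext <;> simp

theorem monoMap_one (v : RuVec) : monoMap 1 v = ruRk v := by
  funext p
  obtain ⟨c, t⟩ := p
  fin_cases c <;> fin_cases t <;>
    simp [monoMap, mSrc, mPh, Rud.cIdx, Rud.iPt, ruRk, gI, sq] <;> ext <;> simp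

theorem monoMap_two (v : RuVec) : monoMap 2 v = ruShift v := by
  funext p
  obtain ⟨c, t⟩ := p
  fin_cases c <;> fin_cases t <;> simp [monoMap, mSrc, mPh, Rud.cIdx, Rud.iPt, ruShift]

theorem monoMap_three (v : RuVec) : monoMap 3 v = ruSign v := by
  funext p
  obtain ⟨c, t⟩ := p
  fin_cases c <;> fin_cases t <;>
    simp [monoMap, mSrc, mPh, Rud.cIdx, Rud.iPt, ruSign, gI, sq] <;> ext <;> simp

/-! ### The parity form -/

/-- The Hermitian product as a sum over a list. -/
def hermL (x y : RuVec) : GaussianInt :=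
  ((List.range 28).map fun i => x (Rud.iPt i) * star (y (Rud.iPt i))).sum

/-- Parity of a quarter of the Hermitian product. -/
def bf (x y : RuVec) : Bool :=
  Rud.oddG ⟨(hermL x y).re / 4, (hermL x y).im / 4⟩

/-- The fixed vectors defining the class of a vector. -/
def classVec (k : ℕ) : RuVec := cvec (classCodes.getD k 0)

/-- The class of a vector modulo `1 + i`. -/
def qn (x : RuVec) : ℕ := Nat.ofBits fun k : Fin 28 => bf x (classVec k.1)

/-- The generators of the lattice: nineteen generators and the multiples of the coordinate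
vectors. -/
def bvec (n : ℕ) : RuVec :=
  if n < 19 then Rud.genVec n else fun p => if Rud.cIdx p = n - 19 then 4 else 0

/-! ### Checks on codes -/

/-- The image of a line under a monomial map. -/
def imgLine (m a : ℕ) : ℕ := ((monoImg.getD m 0) >>> (16 * a)) % 4096

/-- The unit of the image of a line under a monomial map. -/
def imgUnit (m a : ℕ) : ℕ := ((monoImg.getD m 0) >>> (16 * a + 12)) % 16

/-- A packed source coordinate. -/
def srcAt (m i : ℕ) : ℕ := (srcTab >>> (5 * i + 140 * m)) % 32

/-- A packed exponent. -/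
def phAt (m i : ℕ) : ℕ := (phTab >>> (2 * i + 56 * m)) % 4

/-- A packed product of a symbol with a unit. -/
def rotAt (e n : ℕ) : ℕ := (rotTab >>> (4 * (16 * e + n))) % 16

/-- One line is mapped to a multiple of another. -/
def closeRow (m ca cb e : ℕ) : Bool :=
  (List.range 28).all fun i =>
    Nat.blt (nibAt ca i) 9 && Nat.blt (nibAt cb i) 9 &&
      rotAt (phAt m i) (nibAt ca (srcAt m i)) == rotAt e (nibAt cb i)

/-- A monomial map permutes the lines up to units. -/
def closeOK (m : ℕ) : Bool :=
  (List.range 4060).all fun a =>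
    decide (imgLine m a < 4060) && decide (imgUnit m a < 4) &&
      closeRow m (lcode a) (lcode (imgLine m a)) (imgUnit m a)

/-- The parent of a line. -/
def lparent (q : ℕ) : ℕ := (linePar >>> (16 * q)) % 4096

/-- The map leading to a line. -/
def lmap (q : ℕ) : ℕ := (linePar >>> (16 * q + 12)) % 16

/-- The roots of the forest. -/
def lroots : List ℕ := (lineRoots.map fun r => r.1) ++ lineExtra.map fun r => r.1

/-- The depth of a line in the forest. -/
def ldepth (q : ℕ) : ℕ := (lineDepth >>> (4 * q)) % 16

/-- The parent of a line in the forest is correct. -/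
def lineOK (q : ℕ) : Bool :=
  if ldepth q == 0 then lroots.contains q
  else Nat.blt (lmap q) 4 && Nat.blt (lparent q) 4060 && Nat.blt (ldepth (lparent q)) (ldepth q) &&
    imgLine (lmap q) (lparent q) == q

/-- A combination of lines. -/
def comboVec : List (ℕ × ℕ × ℕ) → RuVec
  | [] => 0
  | c :: cs => smulV ⟨(c.2.1 : ℕ), (c.2.2 : ℕ)⟩ (line c.1) + comboVec cs

/-- Congruence modulo four. -/
def congrOK (x y : RuVec) : Bool :=
  (List.range 28).all fun i => Rud.four? (x (Rud.iPt i) - y (Rud.iPt i))

/-! ### The searches -/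

/-- Read a number from a packed word with digits below 4096. -/
def dig (t i : ℕ) : ℕ := t / 4096 ^ i % 4096

/-- The word of a predicate. -/
def wordOf (f : ℕ → Bool) : ℕ := Nat.ofBits fun i : Fin 28 => f i.1

/-- The first column of a level, by coordinate. -/
def colRe (s : Search) (q : ℕ) : ℕ :=
  ((s.levels.filter fun l => l.pos == q).getD 0 ⟨0, 0, 0, 0, 0, 0⟩).cre

/-- The second column of a level, by coordinate. -/
def colIm (s : Search) (q : ℕ) : ℕ :=
  ((s.levels.filter fun l => l.pos == q).getD 0 ⟨0, 0, 0, 0, 0, 0⟩).cim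

/-- Least norm of a representative for a kind of coordinate. -/
def minCost : ℕ → ℕ
  | 0 => 0
  | 1 => 1
  | 2 => 0
  | 3 => 2
  | 4 => 0
  | 5 => 4
  | _ => 1

/-- The bounds on the remaining norm are sound. -/
def needOK : List Lev → Bool
  | [] => true
  | l :: ls => decide (l.need ≤ (ls.map fun m => minCost m.kind).sum) && needOK ls

/-- The constraints of a level involve no later coordinate. -/
def maskOK : List Lev → Bool
  | [] => true
  | l :: ls => (ls.all fun m => m.cre &&& l.mask == 0 && m.cim &&& l.mask == 0) && maskOK ls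

/-- The residue code of a coordinate of a line multiple. -/
def leafNib (n : ℕ) : ℕ :=
  [0, 1, 4, 3, 12].getD n 0

/-- A leaf is a multiple of a line supported on the pattern. -/
def leafOK (w : ℕ) (lf : ℕ × ℕ × ℕ) : Bool :=
  decide (lf.2.1 < 4060) && decide (lf.2.2 < 4) && decide (lf.1 < 16 ^ 28) &&
    (List.range 28).all fun i =>
      decide (nibAt (lcode lf.2.1) i < 5) &&
        (w.testBit i == decide (nibAt (lcode lf.2.1) i ≠ 0)) &&
        (lf.1 / 16 ^ i % 16 == leafNib (rotN lf.2.2 (nibAt (lcode lf.2.1) i)))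

/-- The constraints of a search are orthogonal to the generators modulo four. -/
def dualOK (s : Search) : Bool :=
  (List.range 19).all fun g =>
    let re := fun i => (Rud.genVec g (Rud.iPt i)).re.toNat
    let im := fun i => (Rud.genVec g (Rud.iPt i)).im.toNat
    let a := ((List.range 28).map fun i => re i * colRe s i + im i * colIm s i).sum
    let b := ((List.range 28).map fun i => (4 - im i) * colRe s i + re i * colIm s i).sum
    (List.range s.ncons).all fun j => dig a j % 4 == 0 && dig b j % 4 == 0

/-- The kind of a coordinate is the expected one. -/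
def kindOK (s : Search) (l : Lev) (fx : ℕ) : Bool :=
  if l.pos == fx then l.kind == 6 && s.lvl == 0 && s.word.testBit l.pos
  else l.kind == 2 * s.lvl + (if s.word.testBit l.pos then 1 else 0)

/-- The coordinate fixed by the choice of a unit. -/
def fixPos (s : Search) : ℕ :=
  ((s.levels.filter fun l => l.kind == 6).getD 0 ⟨28, 0, 0, 0, 0, 0⟩).pos

/-- All conditions on a search. -/
def searchOK (s : Search) : Bool :=
  decide (s.lvl < 3) && decide (s.word < 2 ^ 28) && decide (s.ncons ≤ 64) &&
    decide ((s.levels.map fun l => l.pos).Perm (List.range 28)) &&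
    (s.levels.all fun l =>
      decide (l.mask < 4096 ^ s.ncons) && decide (l.cre < 4096 ^ s.ncons) &&
        decide (l.cim < 4096 ^ s.ncons) && kindOK s l (fixPos s) &&
        (List.range s.ncons).all fun j =>
          decide (dig l.cre j < 4) && decide (dig l.cim j < 4) &&
            (dig l.mask j == 0 || dig l.mask j == 3)) &&
    needOK s.levels && maskOK s.levels && dualOK s &&
    (s.leaves.isEmpty || (s.lvl == 0 &&
      ((List.range 28).countP fun i => s.word.testBit i) == 16 && s.leaves.all (leafOK s.word))) &&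
    dfs (s.leaves.map fun x => x.1) s.levels 16 0 0

/-- The reductions at a level. -/
def movesOf : ℕ → List (ℕ × ℕ × List ℕ)
  | 0 => moves0
  | 1 => moves1
  | 2 => moves2
  | _ => []

/-- The pattern after a monomial map. -/
def wordMap (m w : ℕ) : ℕ := wordOf fun i => w.testBit (mSrc m i)

/-- A reduction leads to the pattern of its search. -/
def moveOK (k : ℕ) (t : ℕ × ℕ × List ℕ) : Bool :=
  decide (t.2.1 < searches.length) && t.2.2.all (fun m => decide (m < 3)) &&
    (searches.getD t.2.1 ⟨0, 0, 0, [], []⟩).lvl == k &&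
    t.2.2.foldl (fun w m => wordMap m w) t.1 ==
      (searches.getD t.2.1 ⟨0, 0, 0, [], []⟩).word

end Cfsg.Agent.PGroups.Ru
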