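import Cfsg.Agent.PGroups.RuLatDefs

/-!
Kernel checks for the lines and the form of the Rudvalis lattice.
-/

set_option autoImplicit false
set_option Elab.async false

namespace Cfsg.Agent.PGroups.Ru

open Cfsg.Spor
open Cfsg.Agent.H44 (Rud.iPt Rud.cIdx Rud.herm Rud.oddG Rud.four? Rud.genVec Rud.gAt Rud.comb)

theorem edge_cert :
    ((List.range 4060).all fun a => (List.range 4).all fun m =>
      pt (imgLine m a) == lin (monoRows.getD m []) (pt a)) = true := by
  decide +kernel

theorem forest_cert : ((List.range 4060).all lineOK) = true := by
  decide +kernel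

theorem roots_cert :
    ((lroots.all fun a => decide (a < 4060) && qn (line a) == pt a &&
        ((List.range 28).map fun i => (line a (Rud.iPt i)).norm).sum == 16) &&
      (lineRoots.all fun r => decide (r.2.1 < ruTable.length) && decide (r.2.2 < 4) &&
        (List.range 28).all fun i =>
          gI ^ r.2.2 * line r.1 (Rud.iPt i) == ruTable.getD r.2.1 0 (Rud.iPt i)) &&
      (lineExtra.all fun r => congrOK (line r.1) (comboVec r.2) &&
        r.2.all fun c => lineRoots.length == 20 && decide (c.1 < 4060)) &&
      ((List.range 28).all fun i => decide (frameLines.getD i 0 < 4060) &&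
        lcode (frameLines.getD i 0) == 5 * 16 ^ i) &&
      ((List.range 19).all fun l => congrOK (Rud.genVec l) (comboVec (genCombo.getD l [])) &&
        (genCombo.getD l []).all fun c => decide (c.1 < 4060)) &&
      ((List.range 28).all fun k => decide ((classBasis.getD k (0, 0)).1 < 4060) &&
        decide ((classBasis.getD k (0, 0)).2 < 4))) = true := by
  decide +kernel

theorem connect_cert :
    ((List.range 4060).all fun a => (nb 0).testBit a || !(nb 0 &&& nb a == 0)) = true := by
  decide +kernel

end Cfsg.Agent.PGroups.Ru
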