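import Cfsg.Agent.PGroups.RuLatCertsA3Img0
import Cfsg.Agent.PGroups.RuLatCertsA3Img1

/-!
Kernel checks for the lines and the form of the Rudvalis lattice.
-/

set_option autoImplicit false
set_option Elab.async false

namespace Cfsg.Agent.PGroups.Ru

open Cfsg.Spor
open Cfsg.Agent.H44 (Rud.iPt Rud.cIdx Rud.herm Rud.oddG Rud.four? Rud.genVec Rud.gAt Rud.comb)

theorem orth_cert0 : orthOK 0 = true := by decide +kernel

theorem orth_cert1 : orthOK 1 = true := by decide +kernel

theorem orth_cert : (orthOK 0 && orthOK 1) = true := by rw [orth_cert0, orth_cert1]; rfl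

theorem span_img_cert0 : spanImgOK 0 = true := by decide +kernel

theorem span_img_cert1 : spanImgOK 1 = true := by decide +kernel

theorem span_img_cert : (spanImgOK 0 && spanImgOK 1) = true := by
  rw [span_img_cert0, span_img_cert1]; rfl

end Cfsg.Agent.PGroups.Ru
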