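import Cfsg.Agent.PGroups.RuLatDefs

/-!
Kernel checks for the lines and the form of the Rudvalis lattice.
-/

set_option autoImplicit false
set_option Elab.async false

namespace Cfsg.Agent.PGroups.Ru

open Cfsg.Spor
open Cfsg.Agent.H44 (Rud.iPt Rud.cIdx Rud.herm Rud.oddG Rud.four? Rud.genVec Rud.gAt Rud.comb)

theorem bclass_cert : ((List.range 47).all fun n => qn (bvec n) == bclass n) = true := by
  decide +kernel

theorem mono_rows_cert :
    ((List.range 4).all fun m => (List.range 47).all fun n =>
      qn (monoMap m (bvec n)) == lin (monoRows.getD m []) (bclass n)) = true := by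
  decide +kernel

theorem bilin_cert :
    ((List.range 47).all fun n => (List.range 47).all fun n' =>
      bf (bvec n) (bvec n') == form (bclass n) (bclass n')) = true := by
  decide +kernel

end Cfsg.Agent.PGroups.Ru
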