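import Cfsg.Agent.PGroups.RuLatCertsA1
import Cfsg.Agent.PGroups.RuLatCertsA2
import Cfsg.Agent.PGroups.RuLatCertsA3
import Cfsg.Agent.PGroups.RuLatCertsA4

/-!
The checks for the lines and the form of the Rudvalis lattice.
-/
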