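import Cfsg.Agent.PGroups.RuLatDefs

/-!
Kernel checks for the lines and the form of the Rudvalis lattice.
-/

set_option autoImplicit false
set_option Elab.async false

namespace Cfsg.Agent.PGroups.Ru

open Cfsg.Spor
open Cfsg.Agent.H44 (Rud.iPt Rud.cIdx Rud.herm Rud.oddG Rud.four? Rud.genVec Rud.gAt Rud.comb)

theorem close_cert0 : closeOK 0 = true := by decide +kernel

theorem close_cert1 : closeOK 1 = true := by decide +kernel

theorem close_cert2 : closeOK 2 = true := by decide +kernel

theorem close_cert3 : closeOK 3 = true := by decide +kernel

end Cfsg.Agent.PGroups.Ru
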