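import Cfsg.Agent.PGroups.RuLatImageDefs

/-!
Kernel checks of the images under lifted matrix 0.
-/

set_option autoImplicit false
set_option Elab.async false

namespace Cfsg.Agent.PGroups.Ru

open Cfsg.Spor
open Cfsg.Agent.H44 (Rud.iPt Rud.cIdx Rud.herm Rud.oddG Rud.four? Rud.genVec Rud.gAt Rud.comb)

theorem image0a_half0 :
    (List.range' 0 24).all (imageRowOK (liftEntry 0) (liftData.getD 0 ([], [], [], [])).2.1) = true := by
  decide +kernel

theorem image0a_half1 :
    (List.range' 24 23).all (imageRowOK (liftEntry 0) (liftData.getD 0 ([], [], [], [])).2.1) = true := by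
  decide +kernel

theorem image0b_half0 :
    (List.range' 0 24).all (imageRowOK (liftEntryH 0) (liftData.getD 0 ([], [], [], [])).2.2.1) = true := by
  decide +kernel

theorem image0b_half1 :
    (List.range' 24 23).all (imageRowOK (liftEntryH 0) (liftData.getD 0 ([], [], [], [])).2.2.1) = true := by
  decide +kernel

theorem image_cert0 :
    (imageOK (liftEntry 0) (liftData.getD 0 ([], [], [], [])).2.1 &&
      imageOK (liftEntryH 0) (liftData.getD 0 ([], [], [], [])).2.2.1) = true := by
  rw [imageOK_of_halves image0a_half0 image0a_half1, imageOK_of_halves image0b_half0 image0b_half1]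
  rfl

end Cfsg.Agent.PGroups.Ru
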