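import Cfsg.Agent.PGroups.RuLatBasic

/-!
Kernel checks of the searches for short vectors.
-/

set_option autoImplicit false
set_option Elab.async false

namespace Cfsg.Agent.PGroups.Ru

open Cfsg.Agent.H44 (Rud.cands Rud.freeList Rud.recon)

theorem search_cert2 : searchOK srch2 = true := by decide +kernel

theorem search_cert7 : searchOK srch7 = true := by decide +kernel

theorem search_cert8 : searchOK srch8 = true := by decide +kernel

theorem search_cert9 : searchOK srch9 = true := by decide +kernel

theorem search_cert10 : searchOK srch10 = true := by decide +kernel

theorem search_cert11 : searchOK srch11 = true := by decide +kernel

theorem search_cert12 : searchOK srch12 = true := by decide +kernel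

theorem search_cert13 : searchOK srch13 = true := by decide +kernel

theorem search_cert14 : searchOK srch14 = true := by decide +kernel

end Cfsg.Agent.PGroups.Ru
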