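import Cfsg.Agent.PGroups.RuLatBasic

/-!
Kernel checks of the searches for short vectors.
-/

set_option autoImplicit false
set_option Elab.async false

namespace Cfsg.Agent.PGroups.Ru

open Cfsg.Agent.H44 (Rud.cands Rud.freeList Rud.recon)

theorem search_cert3 : searchOK srch3 = true := by decide +kernel

theorem search_cert4 : searchOK srch4 = true := by decide +kernel

theorem search_cert5 : searchOK srch5 = true := by decide +kernel

theorem search_cert6 : searchOK srch6 = true := by decide +kernel

theorem search_cert15 : searchOK srch15 = true := by decide +kernel

theorem search_cert16 : searchOK srch16 = true := by decide +kernel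

theorem search_cert17 : searchOK srch17 = true := by decide +kernel

theorem search_cert18 : searchOK srch18 = true := by decide +kernel

theorem search_cert19 : searchOK srch19 = true := by decide +kernel

theorem search_cert20 : searchOK srch20 = true := by decide +kernel

theorem search_cert21 : searchOK srch21 = true := by decide +kernel

theorem search_cert22 : searchOK srch22 = true := by decide +kernel

theorem search_cert23 : searchOK srch23 = true := by decide +kernel

theorem search_cert24 : searchOK srch24 = true := by decide +kernel

theorem search_cert25 : searchOK srch25 = true := by decide +kernel

theorem search_cert26 : searchOK srch26 = true := by decide +kernel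

theorem search_cert27 : searchOK srch27 = true := by decide +kernel

theorem search_cert28 : searchOK srch28 = true := by decide +kernel

theorem search_cert29 : searchOK srch29 = true := by decide +kernel

theorem search_cert30 : searchOK srch30 = true := by decide +kernel

theorem search_cert31 : searchOK srch31 = true := by decide +kernel

theorem res_opts_cert :
    ((List.range 4).all fun k => (List.range 81).all fun j =>
      let z : GaussianInt := ⟨(j / 9 : ℕ) - 4, (j % 9 : ℕ) - 4⟩
      let x : GaussianInt := Cfsg.Agent.H44.Rud.pPow k * z
      decide (16 < x.norm) || k == 3 ||
        (resOpts (2 * k + (if Cfsg.Agent.H44.Rud.oddG z then 1 else 0))).any fun o =>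
          o.1 == (x.re % 4).toNat && o.2.1 == (x.im % 4).toNat && decide ((o.2.2 : ℤ) ≤ x.norm)) =
      true := by
  decide +kernel

end Cfsg.Agent.PGroups.Ru
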