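import Cfsg.Agent.PGroups.RuLatBasic

/-!
Kernel checks of the reduction of the parity patterns.
-/

set_option autoImplicit false
set_option Elab.async false
set_option maxHeartbeats 0

namespace Cfsg.Agent.PGroups.Ru

open Cfsg.Agent.H44 (Rud.cands Rud.freeList Rud.recon)

/-- Every short pattern at a level is reduced to a search. -/
def wordsOK (k : ℕ) : Bool :=
  (movesOf k).all (moveOK k) && (Rud.cands (16 / 2 ^ k) (Rud.freeList k)).all fun S =>
    let w := wordOf (Rud.recon k S)
    w == 0 || decide (16 / 2 ^ k < (List.range 28).countP fun i => Rud.recon k S i) ||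
      (movesOf k).any fun t => t.1 == w

/-- One short pattern at a level is reduced to a search. -/
def wordAtOK (k : ℕ) (S : List ℕ) : Bool :=
  let w := wordOf (Rud.recon k S)
  w == 0 || decide (16 / 2 ^ k < (List.range 28).countP fun i => Rud.recon k S i) ||
    (movesOf k).any fun t => t.1 == w

theorem all_four_parts {α : Type} (L : List α) (f : α → Bool) (n : ℕ)
    (h0 : (L.take n).all f = true) (h1 : ((L.drop n).take n).all f = true)
    (h2 : (((L.drop n).drop n).take n).all f = true) (h3 : (((L.drop n).drop n).drop n).all f = true) :
    L.all f = true := by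
  rw [← List.take_append_drop n L, List.all_append, h0, Bool.true_and,
    ← List.take_append_drop n (L.drop n), List.all_append, h1, Bool.true_and,
    ← List.take_append_drop n ((L.drop n).drop n), List.all_append, h2, h3, Bool.and_self]

theorem words_cert0 : wordsOK 0 = true := by decide +kernel

theorem words_cert1 : wordsOK 1 = true := by decide +kernel

theorem words_moves2 : ((movesOf 2).all (moveOK 2)) = true := by decide +kernel

theorem words_part2a : (((Rud.cands (16 / 2 ^ 2) (Rud.freeList 2)).take 1012).all (wordAtOK 2)) = true := by
  decide +kernel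

theorem words_part2b :
    ((((Rud.cands (16 / 2 ^ 2) (Rud.freeList 2)).drop 1012).take 1012).all (wordAtOK 2)) = true := by
  decide +kernel

theorem words_part2c :
    (((((Rud.cands (16 / 2 ^ 2) (Rud.freeList 2)).drop 1012).drop 1012).take 1012).all (wordAtOK 2)) = true := by
  decide +kernel

theorem words_part2d :
    (((((Rud.cands (16 / 2 ^ 2) (Rud.freeList 2)).drop 1012).drop 1012).drop 1012).all (wordAtOK 2)) = true := by
  decide +kernel

theorem words_cert2 : wordsOK 2 = true := by
  rw [wordsOK, words_moves2, Bool.true_and]
  exact all_four_parts _ (wordAtOK 2) 1012 words_part2a words_part2b words_part2c words_part2d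

theorem words_cert3 : wordsOK 3 = true := by decide +kernel

end Cfsg.Agent.PGroups.Ru
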