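import Cfsg.Agent.PGroups.RuLatCertsB1
import Cfsg.Agent.PGroups.RuLatCertsB2
import Cfsg.Agent.PGroups.RuLatCertsB3
import Cfsg.Agent.PGroups.RuLatCertsB4

/-!
The checks of the searches for short vectors, combined.
-/

set_option autoImplicit false

namespace Cfsg.Agent.PGroups.Ru

theorem searches_ok : searches.all searchOK = true := by
  simp only [searches, List.all_cons, List.all_nil, Bool.and_true, search_cert0, search_cert1, search_cert2, search_cert3, search_cert4, search_cert5, search_cert6, search_cert7, search_cert8, search_cert9, search_cert10, search_cert11, search_cert12, search_cert13, search_cert14, search_cert15, search_cert16, search_cert17, search_cert18, search_cert19, search_cert20, search_cert21, search_cert22, search_cert23, search_cert24, search_cert25, search_cert26, search_cert27, search_cert28, search_cert29, search_cert30, search_cert31]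

theorem words_ok {k : ℕ} (hk : k < 4) : wordsOK k = true := by
  interval_cases k
  exacts [words_cert0, words_cert1, words_cert2, words_cert3]

end Cfsg.Agent.PGroups.Ru
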