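import Cfsg.Agent.PGroups.RuLatBasic

/-!
Kernel checks of the searches for short vectors.
-/

set_option autoImplicit false
set_option Elab.async false

namespace Cfsg.Agent.PGroups.Ru

open Cfsg.Agent.H44 (Rud.cands Rud.freeList Rud.recon)

theorem search_cert0 : searchOK srch0 = true := by decide +kernel

theorem search_cert1 : searchOK srch1 = true := by decide +kernel

end Cfsg.Agent.PGroups.Ru
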