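import Cfsg.Agent.PGroups.RuPermDefs

/-!
Kernel checks of the key certificate, one row at a time.
-/

set_option autoImplicit false
set_option Elab.async false

namespace Cfsg.Agent.PGroups.Ru

/-- Row `a` of the key certificate. -/
def keyRow (a : ℕ) : Bool :=
      ((keyDual.getD a []).all fun s => decide (s < 4060) && (tMask 1 ||| 1).testBit s) &&
        (List.range 28).all fun b =>
          form (xorPts (keyDual.getD a [])) (2 ^ b) == (key (2 ^ b)).testBit a

theorem all_range_cert {n : ℕ} {f : ℕ → Bool} (h : ∀ i < n, f i = true) : (List.range n).all f = true :=
  List.all_eq_true.2 fun i hi => h i (List.mem_range.1 hi)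

theorem key_row_0 : keyRow 0 = true := by decide +kernel

theorem key_row_1 : keyRow 1 = true := by decide +kernel

theorem key_row_2 : keyRow 2 = true := by decide +kernel

theorem key_row_3 : keyRow 3 = true := by decide +kernel

theorem key_row_4 : keyRow 4 = true := by decide +kernel

theorem key_row_5 : keyRow 5 = true := by decide +kernel

theorem key_row_6 : keyRow 6 = true := by decide +kernel

theorem key_row_7 : keyRow 7 = true := by decide +kernel

theorem key_row_8 : keyRow 8 = true := by decide +kernel

theorem key_row_9 : keyRow 9 = true := by decide +kernel

theorem key_row_10 : keyRow 10 = true := by decide +kernel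

theorem key_row_11 : keyRow 11 = true := by decide +kernel

theorem key_row_12 : keyRow 12 = true := by decide +kernel

theorem key_row_13 : keyRow 13 = true := by decide +kernel

theorem key_row_14 : keyRow 14 = true := by decide +kernel

theorem key_row_15 : keyRow 15 = true := by decide +kernel

theorem key_row_16 : keyRow 16 = true := by decide +kernel

theorem key_row_17 : keyRow 17 = true := by decide +kernel

theorem key_row_18 : keyRow 18 = true := by decide +kernel

theorem key_row_19 : keyRow 19 = true := by decide +kernel

theorem key_row_20 : keyRow 20 = true := by decide +kernel

theorem key_row_21 : keyRow 21 = true := by decide +kernel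

theorem key_row_22 : keyRow 22 = true := by decide +kernel

theorem key_row_23 : keyRow 23 = true := by decide +kernel

theorem key_row_24 : keyRow 24 = true := by decide +kernel

theorem key_row_25 : keyRow 25 = true := by decide +kernel

theorem key_row_26 : keyRow 26 = true := by decide +kernel

theorem key_row_27 : keyRow 27 = true := by decide +kernel

end Cfsg.Agent.PGroups.Ru
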