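import Cfsg.Agent.PGroups.RuPermRefineDefs

/-!
Kernel check of the fourth refinement certificate, in pieces.
-/

set_option autoImplicit false
set_option Elab.async false

namespace Cfsg.Agent.PGroups.Ru

theorem refine4_part_4 : ((List.range' 80 20).all refine4Step) = true := by decide +kernel

theorem refine4_part_5 : ((List.range' 100 20).all refine4Step) = true := by decide +kernel

theorem refine4_part_6 : ((List.range' 120 20).all refine4Step) = true := by decide +kernel

theorem refine4_part_7 : ((List.range' 140 18).all refine4Step) = true := by decide +kernel

end Cfsg.Agent.PGroups.Ru
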