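import Cfsg.Agent.PGroups.RuPermCertsRefineA
import Cfsg.Agent.PGroups.RuPermCertsRefineB

/-!
Kernel check of the fourth refinement certificate, in pieces.
-/

set_option autoImplicit false
set_option Elab.async false

namespace Cfsg.Agent.PGroups.Ru

theorem refine4_steps (i : ℕ) (hi : i < 158) : refine4Step i = true := by
  rcases Nat.lt_or_ge i 20 with h | h
  · exact List.all_eq_true.1 refine4_part_0 i (List.mem_range'_1.2 ⟨by omega, by omega⟩)
  rcases Nat.lt_or_ge i 40 with h | h
  · exact List.all_eq_true.1 refine4_part_1 i (List.mem_range'_1.2 ⟨by omega, by omega⟩)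
  rcases Nat.lt_or_ge i 60 with h | h
  · exact List.all_eq_true.1 refine4_part_2 i (List.mem_range'_1.2 ⟨by omega, by omega⟩)
  rcases Nat.lt_or_ge i 80 with h | h
  · exact List.all_eq_true.1 refine4_part_3 i (List.mem_range'_1.2 ⟨by omega, by omega⟩)
  rcases Nat.lt_or_ge i 100 with h | h
  · exact List.all_eq_true.1 refine4_part_4 i (List.mem_range'_1.2 ⟨by omega, by omega⟩)
  rcases Nat.lt_or_ge i 120 with h | h
  · exact List.all_eq_true.1 refine4_part_5 i (List.mem_range'_1.2 ⟨by omega, by omega⟩)
  rcases Nat.lt_or_ge i 140 with h | h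
  · exact List.all_eq_true.1 refine4_part_6 i (List.mem_range'_1.2 ⟨by omega, by omega⟩)
  exact List.all_eq_true.1 refine4_part_7 i (List.mem_range'_1.2 ⟨by omega, by omega⟩)

theorem refine4_check : checkCells [0, 4059, 4024, 3674] refine4 cells4 = true := by
  have h := refine4_head
  rw [Bool.and_eq_true, beq_iff_eq] at h
  rw [checkCells, Bool.and_eq_true]
  refine ⟨h.1, List.all_eq_true.2 fun i hi => ?_⟩
  exact refine4_steps i (h.2 ▸ List.mem_range.1 hi)

end Cfsg.Agent.PGroups.Ru
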