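import Cfsg.Agent.PGroups.RuPermCertsTree
import Cfsg.Agent.PGroups.RuPermCertsKey
import Cfsg.Agent.PGroups.RuPermCertsRefine

/-!
Kernel checks for the orbit and refinement certificates of the Rudvalis graph.
-/

set_option autoImplicit false
set_option Elab.async false

namespace Cfsg.Agent.PGroups.Ru

theorem order_cert :
    (((List.range 4060).all fun j => iterT (fwd 0) 29 j == j && iterT (fwd 1) 29 j == j &&
        iterT (fwd 2) 13 j == j && iterT (fwd 3) 13 j == j) &&
      ((List.range 4).all fun g => (List.range 4060).any fun j => !(tget (fwd g) j == j)) &&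
      ([2, 3, 4, 5, 6, 7, 8].all fun g => tget (fwd g) 0 == 0) &&
      ([4, 5, 6, 7, 8].all fun g => tget (fwd g) 4059 == 4059) &&
      ([7, 8].all fun g => tget (fwd g) 4024 == 4024)) = true := by
  decide +kernel

theorem progG_cert :
    (checkProg [mat 0, mat 1] slpG &&
      ((List.range 3).all fun i => decide (outG.getD i 0 < 2 + slpG.length) &&
        ([mat 0, mat 1] ++ slpG.map fun e => e.2.2).getD (outG.getD i 0) [] == mat (2 + i))) =
      true := by
  decide +kernel

theorem progT_cert :
    (checkProg [mat 2, mat 3] slpT &&
      ((List.range 4).all fun i => decide (outT.getD i 0 < 2 + slpT.length) &&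
        ([mat 2, mat 3] ++ slpT.map fun e => e.2.2).getD (outT.getD i 0) [] == mat (5 + i))) =
      true := by
  decide +kernel

theorem tree_cert : ((List.range 10).all treeOK) = true := all_range_cert fun i hi => by
  interval_cases i
  exacts [tree_cert_0, tree_cert_1, tree_cert_2, tree_cert_3, tree_cert_4, tree_cert_5, tree_cert_6, tree_cert_7, tree_cert_8, tree_cert_9]

theorem tree_shape_cert :
    ((tRoot 0 == 0 && tGens 0 == [0, 1] && tMask 0 == 2 ^ 4060 - 1) &&
      (tRoot 1 == 4059 && tGens 1 == [2, 3] && (tMask 1).testBit 4059) &&
      (tGens 2 == [2, 3] && (tMask 2).testBit (tRoot 2)) &&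
      (tMask 1 ||| tMask 2 ||| 1 == 2 ^ 4060 - 1) &&
      (tRoot 3 == 4024 && tGens 3 == [5, 6, 4]) &&
      (tRoot 4 == 4024 && tGens 4 == [5, 6]) &&
      (tRoot 5 == 3674 && tGens 5 == [7, 8]) &&
      ([6, 7, 8, 9].all fun i => tGens i == [5, 6] && (tMask i).testBit (tRoot i)) &&
      (tMask 6 ||| tMask 7 ||| tMask 8 ||| tMask 9 ||| 2 ^ 4059 == tMask 1)) = true := by
  decide +kernel

theorem tree_size_cert :
    ((List.range 10).all fun i => (members (tMask i)).length ==
      [4060, 1755, 2304, 1024, 512, 20, 1024, 640, 80, 10].getD i 0) = true := by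
  decide +kernel

theorem schreier_cert :
    ((List.range 4060).all fun p => !(tMask 1).testBit p || [2, 3].all fun g =>
      (tMask 1).testBit (tget (fwd g) p) && (tMask 4).testBit
        (trInv 1 (tFuel 1) (tget (fwd g) p) (tget (fwd g) (trImg 1 (tFuel 1) p 4024)))) = true := by
  decide +kernel

theorem preserve_cert :
    ((List.range 4060).all fun q => !(tMask 4).testBit q || [5, 6, 7, 8].all fun g =>
      (tMask 4).testBit (tget (fwd g) q)) = true := by
  decide +kernel

theorem refine1_cert :
    (checkCells [0] refine1 cells1 && decide (cell1 < cells1.length) &&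
      ((cells1.getD cell1 0).testBit 4059 && (members (cells1.getD cell1 0)).length == 1755)) =
      true := by
  decide +kernel

theorem refine2_cert :
    (checkCells [0, 4059] refine2 cells2 && decide (cell2 < cells2.length) &&
      ((cells2.getD cell2 0).testBit 4024 && (members (cells2.getD cell2 0)).length == 1024)) =
      true := by
  decide +kernel

theorem refine3_cert :
    (checkCells [0, 4059, 4024] refine3 cells3 && decide (cell3 < cells3.length) &&
      ((cells3.getD cell3 0).testBit 3674 && (members (cells3.getD cell3 0)).length == 20)) =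
      true := by
  decide +kernel

theorem refine4_cert : checkCells [0, 4059, 4024, 3674] refine4 cells4 = true :=
  refine4_check

theorem span_cert :
    ((spanPts.all fun e => decide (e.1 < 4060) && decide (e.2 < cells4.length) &&
        cells4.getD e.2 0 == 2 ^ e.1) &&
      ((List.range 28).all fun a =>
        ((spanDual.getD a []).all fun s => (spanPts.map fun e => e.1).contains s) &&
          (List.range 28).all fun b =>
            form (xorPts (spanDual.getD a [])) (2 ^ b) == (a == b))) = true := by
  decide +kernel

theorem key_cert :
    ((List.range 28).all fun a =>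
      ((keyDual.getD a []).all fun s => decide (s < 4060) && (tMask 1 ||| 1).testBit s) &&
        (List.range 28).all fun b =>
          form (xorPts (keyDual.getD a [])) (2 ^ b) == (key (2 ^ b)).testBit a) = true := all_range_cert fun a ha => by
  show keyRow a = true
  interval_cases a
  exacts [key_row_0,
    key_row_1,
    key_row_2,
    key_row_3,
    key_row_4,
    key_row_5,
    key_row_6,
    key_row_7,
    key_row_8,
    key_row_9,
    key_row_10,
    key_row_11,
    key_row_12,
    key_row_13,
    key_row_14,
    key_row_15,
    key_row_16,
    key_row_17,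
    key_row_18,
    key_row_19,
    key_row_20,
    key_row_21,
    key_row_22,
    key_row_23,
    key_row_24,
    key_row_25,
    key_row_26,
    key_row_27]

end Cfsg.Agent.PGroups.Ru
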