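import Cfsg.Agent.PGroups.RuPermCertsA
import Cfsg.Agent.PGroups.RuPermCertsB

/-!
The automorphism group of the graph on 4060 points is a simple group of order 145926144000,
and the stabiliser of a point contains a simple subgroup of order 17971200.
-/

set_option autoImplicit false

open scoped Pointwise

set_option maxRecDepth 20000

namespace Cfsg.Agent.PGroups.Ru

/-! ### General lemmas -/

/-- A group of prime elements generators is simple if the prime divides every nontrivial normal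
subgroup. -/
theorem isSimpleGroup_of_prime_gens {G : Type*} [Group G] [Finite G] {p : ℕ} (hp : p.Prime)
    (x y : G) (hgen : Subgroup.closure ({x, y} : Set G) = ⊤) (hx : x ^ p = 1) (hy : y ^ p = 1)
    (hx1 : x ≠ 1) (hsq : ¬ p ^ 2 ∣ Nat.card G)
    (hdvd : ∀ N : Subgroup G, N.Normal → N ≠ ⊥ → p ∣ Nat.card N) : IsSimpleGroup G := by
  haveI : Nontrivial G := ⟨x, 1, hx1⟩
  refine ⟨fun N hN => ?_⟩
  by_cases h : N = ⊥
  · exact Or.inl h
  right
  haveI := hN
  have hpn : ¬ p ∣ N.index := by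
    intro hi
    apply hsq
    rw [← N.card_mul_index, pow_two]
    exact Nat.mul_dvd_mul (hdvd N hN h) hi
  have key : ∀ z : G, z ^ p = 1 → z ∈ N := by
    intro z hz
    have hzp : ((z : G ⧸ N)) ^ p = 1 := by rw [← QuotientGroup.mk_pow, hz]; rfl
    have h1 : orderOf (z : G ⧸ N) ∣ p := orderOf_dvd_of_pow_eq_one hzp
    rcases (Nat.dvd_prime hp).1 h1 with h2 | h2
    · exact (QuotientGroup.eq_one_iff z).1 (orderOf_eq_one_iff.1 h2)
    · exfalso
      apply hpn
      rw [← h2, Subgroup.index_eq_card]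
      exact orderOf_dvd_natCard _
  rw [eq_top_iff, ← hgen, Subgroup.closure_le]
  rintro z (rfl | rfl)
  · exact key _ hx
  · exact key _ hy

/-- The orbit size of a normal subgroup divides the orbit size. -/
theorem ncard_orbit_dvd {G X : Type*} [Group G] [Finite X] [MulAction G X] (N : Subgroup G)
    [N.Normal] (a : X) : (MulAction.orbit N a).ncard ∣ (MulAction.orbit G a).ncard := by
  set Y := MulAction.orbit G a
  let a' : Y := ⟨a, MulAction.mem_orbit_self a⟩
  haveI : Nonempty Y := ⟨a'⟩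
  have hb : MulAction.IsBlock G (MulAction.orbit N a') := MulAction.IsBlock.orbit_of_normal a'
  have h := hb.ncard_dvd_card ⟨a', MulAction.mem_orbit_self a'⟩
  have e : Subtype.val '' MulAction.orbit N a' = MulAction.orbit N a := by
    ext z
    constructor
    · rintro ⟨_, ⟨n, rfl⟩, rfl⟩
      exact ⟨n, rfl⟩
    · rintro ⟨n, rfl⟩
      exact ⟨n • a', ⟨n, rfl⟩, rfl⟩
  rw [← e, Set.ncard_image_of_injective _ Subtype.val_injective]
  rwa [Nat.card_coe_set_eq] at h

section Chain

variable {α : Type*} [Finite α]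

theorem card_eq_orbit_mul (H : Subgroup (Equiv.Perm α)) (a : α) :
    Nat.card H = (MulAction.orbit H a).ncard *
      Nat.card ↥(H ⊓ MulAction.stabilizer (Equiv.Perm α) a) := by
  have h := (MulAction.stabilizer H a).card_mul_index
  rw [MulAction.index_stabilizer] at h
  have e : (MulAction.stabilizer H a).map H.subtype = H ⊓ MulAction.stabilizer (Equiv.Perm α) a := by
    ext z
    constructor
    · rintro ⟨w, hw, rfl⟩
      exact ⟨w.2, hw⟩
    · rintro ⟨hz, hza⟩
      exact ⟨⟨z, hz⟩, hza, rfl⟩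
  rw [← e, Subgroup.card_map_of_injective H.subtype_injective, mul_comm]
  exact h.symm

theorem card_le_mul (H : Subgroup (Equiv.Perm α)) (a : α) (S : Set α) {s k : ℕ}
    (hS : S.ncard ≤ s) (hmaps : ∀ σ ∈ H, σ a ∈ S)
    (hk : Nat.card ↥(H ⊓ MulAction.stabilizer (Equiv.Perm α) a) ≤ k) : Nat.card H ≤ s * k := by
  rw [card_eq_orbit_mul H a]
  refine Nat.mul_le_mul (le_trans (Set.ncard_le_ncard ?_ (Set.toFinite _)) hS) hk
  rintro z ⟨σ, rfl⟩
  exact hmaps σ σ.2

theorem mul_le_card (H : Subgroup (Equiv.Perm α)) (a : α) (S : Set α) {s k : ℕ}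
    (hS : s ≤ S.ncard) (hreach : ∀ z ∈ S, ∃ σ ∈ H, σ a = z)
    (hk : k ≤ Nat.card ↥(H ⊓ MulAction.stabilizer (Equiv.Perm α) a)) : s * k ≤ Nat.card H := by
  rw [card_eq_orbit_mul H a]
  refine Nat.mul_le_mul (le_trans hS (Set.ncard_le_ncard ?_ (Set.toFinite _))) hk
  intro z hz
  obtain ⟨σ, hσ, rfl⟩ := hreach z hz
  exact ⟨⟨σ, hσ⟩, rfl⟩

end Chain

/-! ### Basic facts -/

/-- A point from a number. -/
def fp (a : ℕ) : Fin 4060 := ⟨a % 4060, Nat.mod_lt _ (by norm_num)⟩

theorem fp_val {a : ℕ} (h : a < 4060) : (fp a).1 = a := Nat.mod_eq_of_lt h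

theorem fp_fin (x : Fin 4060) : fp x.1 = x := Fin.ext (Nat.mod_eq_of_lt x.2)

/-- The set of points of a mask. -/
def mset (m : ℕ) : Set (Fin 4060) := {x | m.testBit x.1 = true}

theorem ncard_mset (m : ℕ) : (mset m).ncard = (members m).length := by
  have h := countP_members m (fun _ => true)
  rw [List.countP_true] at h
  rw [h, ← Set.ncard_coe_finset]
  congr 1
  ext x
  simp [mset]

theorem nb_spec (y x : Fin 4060) : (nb y.1).testBit x.1 = adj y.1 x.1 := by
  refine xext (fun v => (lin nbRows v).testBit x.1) (fun v => form v (pt x.1)) (· ^^ ·) 28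
    (fun a b => by simp only [lin_xor, Nat.testBit_xor]) (fun a b => form_xor_left a b _)
    (by simp [lin_zero, form_zero_left]) (fun a ha => ?_) _ (pt_lt _)
  have h := nb_cert
  simp only [List.all_eq_true, List.mem_range, Bool.and_eq_true, beq_iff_eq] at h
  obtain ⟨⟨⟨h1, h2⟩, -⟩, h3⟩ := h a ha
  simp only [form, h1, h2, h3 x.1 x.2]

theorem key_lt_key {i j : ℕ} (hij : i < j) (hj : j < 4060) : key (pt i) < key (pt j) := by
  have h := sorted_cert
  simp only [List.all_eq_true, List.mem_range, decide_eq_true_eq] at h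
  induction j, hij using Nat.le_induction with
  | base => exact h i (by omega)
  | succ j hj' ih => exact lt_trans (ih (by omega)) (h j (by omega))

theorem key_inj {x y : Fin 4060} (h : key (pt x.1) = key (pt y.1)) : x = y := by
  rcases lt_trichotomy x.1 y.1 with h' | h' | h'
  · exact absurd h (key_lt_key h' y.2).ne
  · exact Fin.ext h'
  · exact absurd h (key_lt_key h' x.2).ne'

theorem repr_unique {σ τ : Equiv.Perm (Fin 4060)} {M : List ℕ} (hσ : Repr σ M) (hτ : Repr τ M) :
    σ = τ := Equiv.ext fun x => key_inj (by rw [hσ x, hτ x])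

theorem genOK_all {g : ℕ} (hg : g < 9) : genOK g = true := by
  interval_cases g
  exacts [gen_cert0, gen_cert1, gen_cert2, gen_cert3, gen_cert4, gen_cert5, gen_cert6, gen_cert7,
    gen_cert8]

theorem gen_spec {g : ℕ} (hg : g < 9) {j : ℕ} (hj : j < 4060) :
    tget (fwd g) j < 4060 ∧ tget (bwd g) j < 4060 ∧ tget (bwd g) (tget (fwd g) j) = j ∧
      tget (fwd g) (tget (bwd g) j) = j ∧ pt (tget (fwd g) j) = lin (mat g) (pt j) := by
  have h := genOK_all hg
  simp only [genOK, Bool.and_eq_true, List.all_eq_true, List.mem_range, beq_iff_eq,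
    decide_eq_true_eq] at h
  obtain ⟨⟨⟨⟨h1, h2⟩, h3⟩, h4⟩, h5⟩ := h.1 j hj
  exact ⟨h1, h2, h3, h4, h5⟩

/-- The permutation of a generator. -/
def perm (g : ℕ) : Equiv.Perm (Fin 4060) :=
  if hg : g < 9 then
    { toFun := fun j => ⟨tget (fwd g) j.1, (gen_spec hg j.2).1⟩
      invFun := fun j => ⟨tget (bwd g) j.1, (gen_spec hg j.2).2.1⟩
      left_inv := fun j => Fin.ext (gen_spec hg j.2).2.2.1
      right_inv := fun j => Fin.ext (gen_spec hg j.2).2.2.2.1 }
  else 1

theorem perm_val {g : ℕ} (hg : g < 9) (j : Fin 4060) : (perm g j).1 = tget (fwd g) j.1 := by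
  rw [perm, dif_pos hg]; rfl

theorem perm_inv_val {g : ℕ} (hg : g < 9) (j : Fin 4060) :
    ((perm g)⁻¹ j).1 = tget (bwd g) j.1 := by
  rw [perm, dif_pos hg]; rfl

theorem repr_perm {g : ℕ} (hg : g < 9) : Repr (perm g) (mat g) := fun x => by
  rw [perm_val hg]; exact (gen_spec hg x.2).2.2.2.2

theorem perm_mem_aut {g : ℕ} (hg : g < 9) : perm g ∈ autGrp := by
  intro i j
  have h := genOK_all hg
  simp only [genOK, Bool.and_eq_true, List.all_eq_true, List.mem_range, beq_iff_eq,
    decide_eq_true_eq] at h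
  simp only [adj, repr_perm hg i, repr_perm hg j]
  set M := mat g
  have h1 : ∀ a, a < 28 → ∀ v, v < 2 ^ 28 →
      form (lin M (2 ^ a)) (lin M v) = form (2 ^ a) v := fun a ha =>
    xext (fun v => form (lin M (2 ^ a)) (lin M v)) (fun v => form (2 ^ a) v) (· ^^ ·) 28
      (fun u v => by simp only [lin_xor, form_xor_right]) (fun u v => form_xor_right _ u v)
      (by simp [lin_zero, form_zero_right]) (fun b hb => h.2 a ha b hb)
  exact xext (fun u => form (lin M u) (lin M (pt j.1))) (fun u => form u (pt j.1)) (· ^^ ·) 28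
    (fun u v => by simp only [lin_xor, form_xor_left]) (fun u v => form_xor_left u v _)
    (by simp [lin_zero, form_zero_left]) (fun a ha => h1 a ha _ (pt_lt _)) _ (pt_lt _)

theorem order_spec :
    (∀ j, j < 4060 → ((iterT (fwd 0) 29 j = j ∧ iterT (fwd 1) 29 j = j) ∧
      iterT (fwd 2) 13 j = j) ∧ iterT (fwd 3) 13 j = j) ∧
    (∀ g, g < 4 → ∃ j, j < 4060 ∧ tget (fwd g) j ≠ j) ∧
    (∀ g ∈ [2, 3, 4, 5, 6, 7, 8], tget (fwd g) 0 = 0) ∧
    (∀ g ∈ [4, 5, 6, 7, 8], tget (fwd g) 4059 = 4059) ∧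
    (∀ g ∈ [7, 8], tget (fwd g) 4024 = 4024) := by
  have h := order_cert
  simp only [Bool.and_eq_true, List.all_eq_true, List.any_eq_true, List.mem_range, beq_iff_eq,
    Bool.not_eq_true', beq_eq_false_iff_ne] at h
  obtain ⟨⟨⟨⟨h1, h2⟩, h3⟩, h4⟩, h5⟩ := h
  exact ⟨h1, h2, h3, h4, h5⟩

theorem perm_pow_val {g : ℕ} (hg : g < 9) (k : ℕ) (j : Fin 4060) :
    ((perm g ^ k) j).1 = iterT (fwd g) k j.1 := by
  induction k with
  | zero => rfl
  | succ k ih => rw [pow_succ', Equiv.Perm.mul_apply, perm_val hg, ih]; rfl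

theorem perm_pow_eq_one {g k : ℕ} (hg : g < 9) (h : ∀ j, j < 4060 → iterT (fwd g) k j = j) :
    perm g ^ k = 1 :=
  Equiv.ext fun j => Fin.ext (by rw [perm_pow_val hg, h _ j.2]; rfl)

theorem perm_ne_one {g : ℕ} (hg : g < 4) : perm g ≠ 1 := by
  obtain ⟨j, hj, hne⟩ := order_spec.2.1 g hg
  intro h
  apply hne
  have := perm_val (g := g) (by omega) ⟨j, hj⟩
  rw [h] at this
  exact this.symm

theorem perm_fix {g a : ℕ} (hg : g < 9) (ha : a < 4060) (h : tget (fwd g) a = a) :
    perm g (fp a) = fp a :=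
  Fin.ext (by rw [perm_val hg, fp_val ha, h])

/-! ### Groups and trees -/

/-- Generated by two generators of order 29. -/
def kGrp : Subgroup (Equiv.Perm (Fin 4060)) := Subgroup.closure {perm 0, perm 1}

/-- Generated by two generators of order 13. -/
def tGrp : Subgroup (Equiv.Perm (Fin 4060)) := Subgroup.closure {perm 2, perm 3}

theorem perm_mem_kGrp {g : ℕ} (hg : g < 5) : perm g ∈ kGrp := by
  by_cases h2 : g < 2
  · interval_cases g <;> exact Subgroup.subset_closure (by simp)
  have hc := progG_cert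
  simp only [Bool.and_eq_true, List.all_eq_true, List.mem_range, beq_iff_eq,
    decide_eq_true_eq] at hc
  obtain ⟨hlt, he⟩ := hc.2 (g - 2) (by omega)
  obtain ⟨σ, hσ, hσr⟩ := mem_of_checkProg (K := kGrp) hc.1 (fun i hi => by
    refine ⟨perm i, Subgroup.subset_closure ?_, ?_⟩
    · rcases i with _ | _ | i
      · simp
      · simp
      · simp at hi
    · rcases i with _ | _ | i
      · exact repr_perm (by norm_num)
      · exact repr_perm (by norm_num)
      · simp at hi) _ hlt
  rw [he, show 2 + (g - 2) = g by omega] at hσr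
  rwa [repr_unique (repr_perm (by omega)) hσr]

theorem perm_mem_tGrp {g : ℕ} (hg : 2 ≤ g) (hg9 : g < 9) (hg4 : g ≠ 4) : perm g ∈ tGrp := by
  by_cases h2 : g < 4
  · interval_cases g <;> exact Subgroup.subset_closure (by simp)
  have hc := progT_cert
  simp only [Bool.and_eq_true, List.all_eq_true, List.mem_range, beq_iff_eq,
    decide_eq_true_eq] at hc
  obtain ⟨hlt, he⟩ := hc.2 (g - 5) (by omega)
  obtain ⟨σ, hσ, hσr⟩ := mem_of_checkProg (K := tGrp) hc.1 (fun i hi => by
    refine ⟨perm (2 + i), Subgroup.subset_closure ?_, ?_⟩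
    · rcases i with _ | _ | i
      · simp
      · simp
      · simp at hi
    · rcases i with _ | _ | i
      · exact repr_perm (by norm_num)
      · exact repr_perm (by norm_num)
      · simp at hi) _ hlt
  rw [he, show 5 + (g - 5) = g by omega] at hσr
  rwa [repr_unique (repr_perm (by omega)) hσr]

theorem tGrp_le_kGrp : tGrp ≤ kGrp := by
  rw [tGrp, Subgroup.closure_le]
  rintro z (rfl | rfl) <;> exact perm_mem_kGrp (by norm_num)

theorem perm_mem_kGrp' {g : ℕ} (hg : g < 9) : perm g ∈ kGrp := by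
  by_cases h : g < 5
  · exact perm_mem_kGrp h
  · exact tGrp_le_kGrp (perm_mem_tGrp (by omega) hg (by omega))

theorem kGrp_le_aut : kGrp ≤ autGrp := by
  rw [kGrp, Subgroup.closure_le]
  rintro z (rfl | rfl) <;> exact perm_mem_aut (by norm_num)

/-- The group of the generators of a tree. -/
def treeGrp (i : ℕ) : Subgroup (Equiv.Perm (Fin 4060)) :=
  Subgroup.closure {σ | ∃ g ∈ tGens i, σ = perm g}

/-- A transversal element. -/
def trPerm (i : ℕ) : ℕ → ℕ → Equiv.Perm (Fin 4060)
  | 0, _ => 1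
  | f + 1, q => if q = tRoot i then 1 else perm (tEdge i q) * trPerm i f (tPar i q)

theorem tree_basic {i : ℕ} (hi : i < 10) :
    tRoot i < 4060 ∧ (∀ g ∈ tGens i, g < 9) ∧
      ∀ q, q < 4060 → (tMask i).testBit q = true → trOK i (tFuel i) q = true := by
  have h := List.all_eq_true.1 tree_cert i (List.mem_range.2 hi)
  simp only [treeOK, Bool.and_eq_true, List.all_eq_true, List.mem_range, decide_eq_true_eq,
    Bool.or_eq_true, Bool.not_eq_true'] at h
  refine ⟨h.1.1, h.1.2, fun q hq hb => (h.2 q hq).resolve_left ?_⟩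
  rw [hb]; simp

theorem trPerm_spec {i : ℕ} (hi : i < 10) :
    ∀ (f q : ℕ), q < 4060 → trOK i f q = true →
      trPerm i f q ∈ treeGrp i ∧ (trPerm i f q (fp (tRoot i))).1 = q ∧
        (∀ j : Fin 4060, (trPerm i f q j).1 = trImg i f q j.1) ∧
        ∀ v : Fin 4060, ((trPerm i f q)⁻¹ v).1 = trInv i f q v.1
  | 0, q, hq, h => by
    simp only [trOK, beq_iff_eq] at h
    exact ⟨one_mem _, by simp [trPerm, h, fp_val (tree_basic hi).1], fun j => rfl, fun v => rfl⟩
  | f + 1, q, hq, h => by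
    by_cases hr : q = tRoot i
    · simp only [trPerm, trImg, trInv, hr, if_true, beq_self_eq_true]
      exact ⟨one_mem _, fp_val (tree_basic hi).1, fun j => rfl, fun v => rfl⟩
    · simp only [trOK, Bool.or_eq_true, Bool.and_eq_true, beq_iff_eq, hr, false_or,
        decide_eq_true_eq, List.contains_iff_mem] at h
      obtain ⟨⟨⟨hg, hp⟩, he⟩, hok⟩ := h
      have hg9 := (tree_basic hi).2.1 _ hg
      obtain ⟨h1, h2, h3, h4⟩ := trPerm_spec hi f _ hp hok
      simp only [trPerm, trImg, trInv, hr, if_false, beq_iff_eq]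
      refine ⟨mul_mem (Subgroup.subset_closure ⟨_, hg, rfl⟩) h1, ?_, fun j => ?_, fun v => ?_⟩
      · rw [Equiv.Perm.mul_apply, perm_val hg9, h2, he]
      · rw [Equiv.Perm.mul_apply, perm_val hg9, h3]
      · rw [mul_inv_rev, Equiv.Perm.mul_apply, h4, perm_inv_val hg9]

/-- The transversal element of a point. -/
def tr (i : ℕ) (x : Fin 4060) : Equiv.Perm (Fin 4060) := trPerm i (tFuel i) x.1

theorem tr_spec {i : ℕ} (hi : i < 10) {x : Fin 4060} (hx : x ∈ mset (tMask i)) :
    tr i x ∈ treeGrp i ∧ tr i x (fp (tRoot i)) = x ∧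
      (∀ j : Fin 4060, (tr i x j).1 = trImg i (tFuel i) x.1 j.1) ∧
      ∀ v : Fin 4060, ((tr i x)⁻¹ v).1 = trInv i (tFuel i) x.1 v.1 := by
  obtain ⟨h1, h2, h3, h4⟩ :=
    trPerm_spec hi (tFuel i) x.1 x.2 ((tree_basic hi).2.2 _ x.2 hx)
  exact ⟨h1, Fin.ext h2, h3, h4⟩

theorem tr_root (i : ℕ) (hi : i < 10) : tr i (fp (tRoot i)) = 1 := by
  rw [tr, fp_val (tree_basic hi).1]
  cases tFuel i <;> simp [trPerm]

theorem tree_size {i : ℕ} (hi : i < 10) :
    (mset (tMask i)).ncard =
      [4060, 1755, 2304, 1024, 512, 20, 1024, 640, 80, 10].getD i 0 := by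
  rw [ncard_mset]
  exact eq_of_beq (List.all_eq_true.1 tree_size_cert i (List.mem_range.2 hi))

theorem tree_shape :
    (tRoot 0 = 0 ∧ tGens 0 = [0, 1] ∧ tMask 0 = 2 ^ 4060 - 1) ∧
    (tRoot 1 = 4059 ∧ tGens 1 = [2, 3] ∧ (tMask 1).testBit 4059 = true) ∧
    (tGens 2 = [2, 3] ∧ (tMask 2).testBit (tRoot 2) = true) ∧
    (tMask 1 ||| tMask 2 ||| 1 = 2 ^ 4060 - 1) ∧
    (tRoot 3 = 4024 ∧ tGens 3 = [5, 6, 4]) ∧
    (tRoot 4 = 4024 ∧ tGens 4 = [5, 6]) ∧
    (tRoot 5 = 3674 ∧ tGens 5 = [7, 8]) ∧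
    (∀ i ∈ [6, 7, 8, 9], tGens i = [5, 6] ∧ (tMask i).testBit (tRoot i) = true) ∧
    (tMask 6 ||| tMask 7 ||| tMask 8 ||| tMask 9 ||| 2 ^ 4059 = tMask 1) := by
  have h := tree_shape_cert
  simp only [Bool.and_eq_true, List.all_eq_true, beq_iff_eq] at h
  obtain ⟨⟨⟨⟨⟨⟨⟨⟨⟨⟨a, b⟩, c⟩, ⟨d, e⟩, f⟩, g⟩, i⟩, j⟩, k⟩, l⟩, m⟩, n⟩ := h
  exact ⟨⟨a, b, c⟩, ⟨d, e, f⟩, g, i, j, k, l, m, n⟩

theorem treeGrp_le {i : ℕ} {H : Subgroup (Equiv.Perm (Fin 4060))} {L : List ℕ}
    (hL : tGens i = L) (h : ∀ g ∈ L, perm g ∈ H) : treeGrp i ≤ H := by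
  rw [treeGrp, Subgroup.closure_le]
  rintro z ⟨g, hg, rfl⟩
  exact h g (hL ▸ hg)

/-! ### Pointwise stabilisers -/

/-- The stabiliser of a point. -/
abbrev stab (a : ℕ) : Subgroup (Equiv.Perm (Fin 4060)) := MulAction.stabilizer _ (fp a)

theorem mem_stab {σ : Equiv.Perm (Fin 4060)} {a : ℕ} : σ ∈ stab a ↔ σ (fp a) = fp a := Iff.rfl

/-- The stabiliser of the first point. -/
def fix1 : Subgroup (Equiv.Perm (Fin 4060)) := autGrp ⊓ stab 0

/-- The stabiliser of two points. -/
def fix2 : Subgroup (Equiv.Perm (Fin 4060)) := fix1 ⊓ stab 4059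

/-- The stabiliser of three points. -/
def fix3 : Subgroup (Equiv.Perm (Fin 4060)) := fix2 ⊓ stab 4024

theorem perm_mem_fix1 {g : ℕ} (hg : g ∈ [2, 3, 4, 5, 6, 7, 8]) : perm g ∈ fix1 := by
  have hg9 : g < 9 := by simp at hg; omega
  exact ⟨perm_mem_aut hg9, perm_fix hg9 (by norm_num) (order_spec.2.2.1 g hg)⟩

theorem perm_mem_fix2 {g : ℕ} (hg : g ∈ [4, 5, 6, 7, 8]) : perm g ∈ fix2 := by
  have hg9 : g < 9 := by simp at hg; omega
  exact ⟨perm_mem_fix1 (by simp at hg ⊢; omega),
    perm_fix hg9 (by norm_num) (order_spec.2.2.2.1 g hg)⟩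

theorem perm_mem_fix3 {g : ℕ} (hg : g ∈ [7, 8]) : perm g ∈ fix3 := by
  have hg9 : g < 9 := by simp at hg; omega
  exact ⟨perm_mem_fix2 (by simp at hg ⊢; omega),
    perm_fix hg9 (by norm_num) (order_spec.2.2.2.2 g hg)⟩

theorem fix_of_list {σ : Equiv.Perm (Fin 4060)} {L : List ℕ}
    (h : ∀ a ∈ L, σ (fp a) = fp a) (x : Fin 4060) (hx : x.1 ∈ L) : σ x = x := by
  have := h _ hx
  rwa [fp_fin] at this

theorem eq_one_of_fix4 {σ : Equiv.Perm (Fin 4060)} (hσ : σ ∈ fix3)
    (h4 : σ (fp 3674) = fp 3674) : σ = 1 := by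
  obtain ⟨⟨⟨ha, h1⟩, h2⟩, h3⟩ := hσ
  replace h1 : σ (fp 0) = fp 0 := h1
  replace h2 : σ (fp 4059) = fp 4059 := h2
  replace h3 : σ (fp 4024) = fp 4024 := h3
  have hp := pres_of_checkCells nb_spec refine4_cert ha (fix_of_list (by
    intro a hm
    simp only [List.mem_cons, List.not_mem_nil, or_false] at hm
    rcases hm with rfl | rfl | rfl | rfl
    exacts [h1, h2, h3, h4]))
  have hc := span_cert
  simp only [Bool.and_eq_true, List.all_eq_true, List.mem_range, beq_iff_eq, decide_eq_true_eq,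
    List.contains_iff_mem, List.mem_map] at hc
  have hpin : ∀ e ∈ spanPts, σ (fp e.1) = fp e.1 := by
    intro e he
    obtain ⟨⟨he1, he2⟩, hm⟩ := hc.1 e he
    have h := hp e.2 he2 (fp e.1)
    rw [hm, Nat.testBit_two_pow, Nat.testBit_two_pow, fp_val he1] at h
    exact Fin.ext (by rw [fp_val he1]; exact (by simpa using h : e.1 = _).symm)
  refine Equiv.ext fun y => key_inj ?_
  congr 1
  show pt (σ y).1 = pt y.1
  apply Nat.eq_of_testBit_eq
  intro a
  by_cases ha28 : a < 28
  · obtain ⟨hs, hd⟩ := hc.2 a ha28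
    have hx : ∀ v, v < 2 ^ 28 → v.testBit a = form (xorPts (spanDual.getD a [])) v := fun v hv =>
      (xext (fun w => form (xorPts (spanDual.getD a [])) w) (fun w => w.testBit a) (· ^^ ·) 28
        (fun u w => form_xor_right _ u w) (fun u w => by simp only [Nat.testBit_xor])
        (by simp [form_zero_right]) (fun b hb => by
          rw [hd b hb, Nat.testBit_two_pow]
          by_cases hab : a = b
          · simp [hab]
          · simp [hab, Ne.symm hab]) v hv).symm
    rw [hx _ (pt_lt _), hx _ (pt_lt _)]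
    suffices H : ∀ l : List ℕ, (∀ s ∈ l, ∃ e ∈ spanPts, e.1 = s) →
        form (xorPts l) (pt (σ y).1) = form (xorPts l) (pt y.1) from H _ hs
    intro l
    induction l with
    | nil => intro _; simp [xorPts, form_zero_left]
    | cons s l ih =>
      intro hl
      obtain ⟨e, he, hes⟩ := hl s List.mem_cons_self
      simp only [xorPts, form_xor_left]
      rw [ih fun t ht => hl t (List.mem_cons_of_mem _ ht)]
      congr 1
      have h := ha (fp e.1) y
      rw [hpin e he, fp_val (hc.1 e he).1.1, hes] at h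
      exact h
  · rw [Nat.testBit_lt_two_pow (lt_of_lt_of_le (pt_lt _) (Nat.pow_le_pow_right (by norm_num)
      (by omega))), Nat.testBit_lt_two_pow (lt_of_lt_of_le (pt_lt _) (Nat.pow_le_pow_right
      (by norm_num) (by omega)))]

theorem card_fix3_le : Nat.card fix3 ≤ 20 := by
  have hc := refine3_cert
  simp only [Bool.and_eq_true, decide_eq_true_eq, beq_iff_eq] at hc
  obtain ⟨⟨hcell, hlt⟩, hb, hn⟩ := hc
  have := card_le_mul fix3 (fp 3674) (mset (cells3.getD cell3 0)) (s := 20) (k := 1)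
    (by rw [ncard_mset, hn]) (fun σ hσ => ?_) ?_
  · simpa using this
  · obtain ⟨⟨⟨ha, h1⟩, h2⟩, h3⟩ := hσ
    replace h1 : σ (fp 0) = fp 0 := h1
    replace h2 : σ (fp 4059) = fp 4059 := h2
    replace h3 : σ (fp 4024) = fp 4024 := h3
    show (cells3.getD cell3 0).testBit (σ (fp 3674)).1 = true
    rw [pres_of_checkCells nb_spec hcell ha (fix_of_list (by
      intro a hm
      simp only [List.mem_cons, List.not_mem_nil, or_false] at hm
      rcases hm with rfl | rfl | rfl
      exacts [h1, h2, h3])) _ hlt (fp 3674), fp_val (by norm_num)]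
    exact hb
  · refine le_of_eq (Subgroup.card_eq_one.2 ?_)
    rw [eq_bot_iff]
    rintro σ ⟨hσ, hs⟩
    exact eq_one_of_fix4 hσ hs

theorem card_fix2_le : Nat.card fix2 ≤ 1024 * 20 := by
  have hc := refine2_cert
  simp only [Bool.and_eq_true, decide_eq_true_eq, beq_iff_eq] at hc
  obtain ⟨⟨hcell, hlt⟩, hb, hn⟩ := hc
  refine card_le_mul fix2 (fp 4024) (mset (cells2.getD cell2 0)) (by rw [ncard_mset, hn])
    (fun σ hσ => ?_) card_fix3_le
  obtain ⟨⟨ha, h1⟩, h2⟩ := hσ
  replace h1 : σ (fp 0) = fp 0 := h1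
  replace h2 : σ (fp 4059) = fp 4059 := h2
  show (cells2.getD cell2 0).testBit (σ (fp 4024)).1 = true
  rw [pres_of_checkCells nb_spec hcell ha (fix_of_list (by
    intro a hm
    simp only [List.mem_cons, List.not_mem_nil, or_false] at hm
    rcases hm with rfl | rfl
    exacts [h1, h2])) _ hlt (fp 4024), fp_val (by norm_num)]
  exact hb

theorem pres_cell1 {σ : Equiv.Perm (Fin 4060)} (hσ : σ ∈ fix1) :
    Pres σ (cells1.getD cell1 0) := by
  have hc := refine1_cert
  simp only [Bool.and_eq_true, decide_eq_true_eq, beq_iff_eq] at hc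
  exact pres_of_checkCells nb_spec hc.1.1 hσ.1 (fix_of_list (by
    intro a hm
    simp only [List.mem_cons, List.not_mem_nil, or_false] at hm
    subst hm
    exact hσ.2)) _ hc.1.2

theorem mset_cell1 : mset (cells1.getD cell1 0) = mset (tMask 1) := by
  have hc := refine1_cert
  simp only [Bool.and_eq_true, decide_eq_true_eq, beq_iff_eq] at hc
  refine (Set.eq_of_subset_of_ncard_le ?_ ?_ (Set.toFinite _)).symm
  · intro x hx
    obtain ⟨h1, h2, -, -⟩ := tr_spec (i := 1) (by norm_num) hx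
    have hf : tr 1 x ∈ fix1 := treeGrp_le tree_shape.2.1.2.1 (fun g hg => perm_mem_fix1 (by
      simp at hg ⊢; omega)) h1
    have h := pres_cell1 hf (fp (tRoot 1))
    rw [h2, tree_shape.2.1.1, fp_val (by norm_num : (4059 : ℕ) < 4060), hc.2.1] at h
    exact h
  · rw [ncard_mset, hc.2.2, tree_size (by norm_num)]; rfl

theorem pres_tMask1 {σ : Equiv.Perm (Fin 4060)} (hσ : σ ∈ fix1) : Pres σ (tMask 1) := by
  intro x
  have h := pres_cell1 hσ x
  have e := Set.ext_iff.1 mset_cell1
  simp only [mset, Set.mem_setOf_eq] at e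
  rw [Bool.eq_iff_iff] at h ⊢
  rw [← e, ← e]
  exact h

theorem card_fix1_le : Nat.card fix1 ≤ 1755 * (1024 * 20) := by
  refine card_le_mul fix1 (fp 4059) (mset (tMask 1))
    (by rw [tree_size (by norm_num)]; rfl) (fun σ hσ => ?_) card_fix2_le
  show (tMask 1).testBit (σ (fp 4059)).1 = true
  rw [pres_tMask1 hσ, fp_val (by norm_num : (4059 : ℕ) < 4060)]
  exact tree_shape.2.1.2.2

theorem card_aut_le : Nat.card autGrp ≤ 4060 * (1755 * (1024 * 20)) :=
  card_le_mul autGrp (fp 0) Set.univ (by simp) (fun _ _ => Set.mem_univ _) card_fix1_le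

/-! ### Lower bounds -/

theorem reach {i : ℕ} (hi : i < 10) {r : ℕ} (hr : tRoot i = r)
    {H : Subgroup (Equiv.Perm (Fin 4060))} (hH : treeGrp i ≤ H) :
    ∀ z ∈ mset (tMask i), ∃ σ ∈ H, σ (fp r) = z := fun z hz =>
  ⟨tr i z, hH (tr_spec hi hz).1, by rw [← hr]; exact (tr_spec hi hz).2.1⟩

theorem tree5_le : treeGrp 5 ≤ fix3 ⊓ tGrp :=
  treeGrp_le tree_shape.2.2.2.2.2.2.1.2 fun g hg =>
    ⟨perm_mem_fix3 hg, perm_mem_tGrp (by simp at hg; omega) (by simp at hg; omega)
      (by simp at hg; omega)⟩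

theorem card_lower3 : 20 * 1 ≤ Nat.card (treeGrp 5) :=
  mul_le_card _ (fp 3674) (mset (tMask 5)) (by rw [tree_size (by norm_num)]; rfl)
    (reach (by norm_num) tree_shape.2.2.2.2.2.2.1.1 le_rfl) Nat.card_pos

theorem fix3_eq : fix3 = treeGrp 5 :=
  (Subgroup.eq_of_le_of_card_ge (tree5_le.trans inf_le_left)
    (le_trans card_fix3_le card_lower3)).symm

theorem fix3_le_tGrp : fix3 ≤ tGrp := fix3_eq ▸ tree5_le.trans inf_le_right

theorem kGrp_eq : kGrp = autGrp := by
  refine Subgroup.eq_of_le_of_card_ge kGrp_le_aut (le_trans card_aut_le ?_)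
  refine mul_le_card kGrp (fp 0) (mset (tMask 0)) (by rw [tree_size (by norm_num)]; rfl)
    (reach (by norm_num) tree_shape.1.1 (treeGrp_le tree_shape.1.2.1 fun g hg =>
      perm_mem_kGrp (by simp at hg; omega))) ?_
  refine le_trans (mul_le_card (kGrp ⊓ fix1) (fp 4059) (mset (tMask 1))
    (by rw [tree_size (by norm_num)]; rfl)
    (reach (by norm_num) tree_shape.2.1.1 (treeGrp_le tree_shape.2.1.2.1 fun g hg =>
      ⟨perm_mem_kGrp (by simp at hg; omega), perm_mem_fix1 (by simp at hg ⊢; omega)⟩)) ?_)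
    (Subgroup.card_le_of_le (le_inf inf_le_left (inf_le_right.trans inf_le_right)))
  refine le_trans (mul_le_card (kGrp ⊓ fix2) (fp 4024) (mset (tMask 3))
    (by rw [tree_size (by norm_num)]; rfl)
    (reach (by norm_num) tree_shape.2.2.2.2.1.1 (treeGrp_le tree_shape.2.2.2.2.1.2 fun g hg =>
      ⟨perm_mem_kGrp' (by simp at hg; omega), perm_mem_fix2 (by simp at hg ⊢; omega)⟩)) ?_)
    (Subgroup.card_le_of_le (le_inf (inf_le_inf_left _ inf_le_left)
      (inf_le_right.trans inf_le_right)))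
  refine le_trans (le_trans (le_of_eq (by norm_num : 20 = 20 * 1)) card_lower3)
    (Subgroup.card_le_of_le (fun σ hσ => ?_))
  have h := tree5_le hσ
  exact ⟨⟨tGrp_le_kGrp h.2, h.1.1⟩, h.1.2⟩

theorem card_aut : Nat.card autGrp = 145926144000 := by
  have h1 := card_aut_le
  have h2 : 4060 * (1755 * (1024 * 20)) ≤ Nat.card autGrp := by
    rw [← kGrp_eq]
    refine mul_le_card kGrp (fp 0) (mset (tMask 0)) (by rw [tree_size (by norm_num)]; rfl)
      (reach (by norm_num) tree_shape.1.1 (treeGrp_le tree_shape.1.2.1 fun g hg =>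
        perm_mem_kGrp (by simp at hg; omega))) ?_
    rw [kGrp_eq]
    refine mul_le_card fix1 (fp 4059) (mset (tMask 1))
      (by rw [tree_size (by norm_num)]; rfl)
      (reach (by norm_num) tree_shape.2.1.1 (treeGrp_le tree_shape.2.1.2.1 fun g hg =>
        perm_mem_fix1 (by simp at hg ⊢; omega))) ?_
    refine mul_le_card fix2 (fp 4024) (mset (tMask 3))
      (by rw [tree_size (by norm_num)]; rfl)
      (reach (by norm_num) tree_shape.2.2.2.2.1.1 (treeGrp_le tree_shape.2.2.2.2.1.2
        fun g hg => perm_mem_fix2 (by simp at hg ⊢; omega))) ?_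
    exact le_trans (le_of_eq (by norm_num)) (le_trans card_lower3
      (Subgroup.card_le_of_le fix3_eq.symm.le))
  omega

/-! ### Transitivity and normal subgroups -/

theorem mem_mset_zero (x : Fin 4060) : x ∈ mset (tMask 0) := by
  show (tMask 0).testBit x.1 = true
  rw [tree_shape.1.2.2, Nat.testBit_two_pow_sub_one]
  simp [x.2]

theorem aut_move (x : Fin 4060) : ∃ σ ∈ autGrp, σ (fp 0) = x :=
  reach (by norm_num) tree_shape.1.1
    (treeGrp_le tree_shape.1.2.1 fun g hg => perm_mem_aut (by simp at hg; omega)) x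
    (mem_mset_zero x)

theorem aut_pretransitive : MulAction.IsPretransitive autGrp (Fin 4060) :=
  ⟨fun x y => by
    obtain ⟨σ, hσ, hx⟩ := aut_move x
    obtain ⟨τ, hτ, hy⟩ := aut_move y
    refine ⟨⟨τ * σ⁻¹, mul_mem hτ (inv_mem hσ)⟩, ?_⟩
    show (τ * σ⁻¹) x = y
    rw [Equiv.Perm.mul_apply, ← hx]
    simp [hy]⟩

/-- Union of masks. -/
def orMask : List ℕ → ℕ
  | [] => 0
  | m :: l => m ||| orMask l

theorem testBit_orMask (l : List ℕ) (x : ℕ) :
    (orMask l).testBit x = true ↔ ∃ m ∈ l, m.testBit x = true := by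
  induction l with
  | nil => simp [orMask]
  | cons m l ih => simp [orMask, ih]

/-- All unions of some of the pieces with a point whose size divides a number. -/
def checkUnions (r N : ℕ) (ps : List ℕ) : Bool :=
  ps.sublists.all fun s => decide (s = ps) ||
    decide (s = []) || !(decide ((members (orMask (2 ^ r :: s))).length ∣ N))

theorem unions0_cert : checkUnions 0 4060 [tMask 1, tMask 2] = true := by decide +kernel

theorem unions1_cert : checkUnions 4059 1755 [tMask 6, tMask 7, tMask 8, tMask 9] = true := by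
  decide +kernel

theorem union_cases {r N : ℕ} {ps : List ℕ} (hr : r < 4060) (hc : checkUnions r N ps = true)
    (O : Set (Fin 4060)) (hrO : fp r ∈ O) (hsplit : ∀ m ∈ ps, mset m ⊆ O ∨ Disjoint (mset m) O)
    (hcov : ∀ x ∈ O, x = fp r ∨ ∃ m ∈ ps, x ∈ mset m) (hdvd : O.ncard ∣ N) :
    O = {fp r} ∨ ∀ m ∈ ps, mset m ⊆ O := by
  classical
  set s := ps.filter fun m => decide (mset m ⊆ O) with hs
  have hO : O = mset (orMask (2 ^ r :: s)) := by
    ext x
    show x ∈ O ↔ (orMask (2 ^ r :: s)).testBit x.1 = true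
    rw [testBit_orMask]
    constructor
    · intro hx
      rcases hcov x hx with rfl | ⟨m, hm, hxm⟩
      · exact ⟨_, List.mem_cons_self, by rw [fp_val hr]; exact Nat.testBit_two_pow_self⟩
      · refine ⟨m, List.mem_cons_of_mem _ (List.mem_filter.2 ⟨hm, decide_eq_true ?_⟩), hxm⟩
        exact (hsplit m hm).resolve_right fun hd => Set.disjoint_left.1 hd hxm hx
    · rintro ⟨m, hm, hx⟩
      rcases List.mem_cons.1 hm with rfl | hm
      · rw [Nat.testBit_two_pow, decide_eq_true_eq] at hx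
        have : x = fp r := Fin.ext (by rw [fp_val hr, hx])
        rw [this]; exact hrO
      · exact (of_decide_eq_true (List.mem_filter.1 hm).2) hx
  have hmem : s ∈ ps.sublists := List.mem_sublists.2 List.filter_sublist
  have h := List.all_eq_true.1 hc s hmem
  simp only [Bool.or_eq_true, decide_eq_true_eq, Bool.not_eq_true', decide_eq_false_iff_not] at h
  rcases h with (h | h) | h
  · exact Or.inr fun m hm => by
      rw [← h] at hm
      exact of_decide_eq_true (List.mem_filter.1 hm).2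
  · left
    rw [hO, h]
    ext x
    show (orMask [2 ^ r]).testBit x.1 = true ↔ x = fp r
    rw [testBit_orMask]
    simp only [List.mem_singleton, exists_eq_left, Nat.testBit_two_pow, decide_eq_true_eq, Fin.ext_iff,
      fp_val hr]
    exact eq_comm
  · exact absurd (by rw [← ncard_mset, ← hO]; exact hdvd) h

theorem orbit_split {H G : Subgroup (Equiv.Perm (Fin 4060))} (hHG : H ≤ G) (N : Subgroup G)
    [N.Normal] {a : Fin 4060} (ha : ∀ σ ∈ H, σ a = a) {i : ℕ} (hi : i < 10)
    (hH : treeGrp i ≤ H) :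
    mset (tMask i) ⊆ MulAction.orbit N a ∨ Disjoint (mset (tMask i)) (MulAction.orbit N a) := by
  by_cases hd : Disjoint (mset (tMask i)) (MulAction.orbit N a)
  · exact Or.inr hd
  left
  obtain ⟨y, hy, n, hn⟩ := Set.not_disjoint_iff.1 hd
  intro z hz
  have h1 := tr_spec hi hy
  have h2 := tr_spec hi hz
  set s := tr i z * (tr i y)⁻¹
  have hs : s ∈ H := mul_mem (hH h2.1) (inv_mem (hH h1.1))
  have e1 : (tr i y)⁻¹ y = fp (tRoot i) := by
    conv_lhs => arg 2; rw [← h1.2.1]
    simp
  refine ⟨⟨⟨s, hHG hs⟩ * n.1 * ⟨s, hHG hs⟩⁻¹, Subgroup.Normal.conj_mem inferInstance _ n.2 _⟩, ?_⟩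
  show s (((n.1 : Equiv.Perm (Fin 4060))) (s⁻¹ a)) = z
  rw [ha _ (inv_mem hs)]
  have hn' : ((n.1 : Equiv.Perm (Fin 4060))) a = y := hn
  rw [hn', Equiv.Perm.mul_apply, e1, h2.2.1]

theorem dvd_card_of_normal (N : Subgroup autGrp) [N.Normal] (hN : N ≠ ⊥) : 29 ∣ Nat.card N := by
  have htop : MulAction.orbit autGrp (fp 0) = Set.univ := by
    haveI := aut_pretransitive
    exact MulAction.orbit_eq_univ _ _
  have hdvd : (MulAction.orbit N (fp 0)).ncard ∣ 4060 := by
    have h := ncard_orbit_dvd N (fp 0)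
    rw [htop, Set.ncard_univ, Nat.card_eq_fintype_card, Fintype.card_fin] at h
    exact h
  have hsp : ∀ m ∈ [tMask 1, tMask 2], mset m ⊆ MulAction.orbit N (fp 0) ∨
      Disjoint (mset m) (MulAction.orbit N (fp 0)) := by
    intro m hm
    simp only [List.mem_cons, List.not_mem_nil, or_false] at hm
    rcases hm with rfl | rfl
    · exact orbit_split (H := fix1) inf_le_left N (fun σ hσ => hσ.2) (by norm_num)
        (treeGrp_le tree_shape.2.1.2.1 fun g hg => perm_mem_fix1 (by simp at hg ⊢; omega))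
    · exact orbit_split (H := fix1) inf_le_left N (fun σ hσ => hσ.2) (by norm_num)
        (treeGrp_le tree_shape.2.2.1.1 fun g hg => perm_mem_fix1 (by simp at hg ⊢; omega))
  have hcov : ∀ x ∈ MulAction.orbit N (fp 0),
      x = fp 0 ∨ ∃ m ∈ [tMask 1, tMask 2], x ∈ mset m := by
    intro x _
    have h : (tMask 1 ||| tMask 2 ||| 1).testBit x.1 = true := by
      rw [tree_shape.2.2.2.1, Nat.testBit_two_pow_sub_one]; simp [x.2]
    simp only [Nat.testBit_or, Bool.or_eq_true] at h
    rcases h with (h | h) | h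
    · exact Or.inr ⟨_, List.mem_cons_self, h⟩
    · exact Or.inr ⟨_, List.mem_cons_of_mem _ List.mem_cons_self, h⟩
    · rw [← pow_zero 2, Nat.testBit_two_pow, decide_eq_true_eq] at h
      exact Or.inl (Fin.ext (by rw [fp_val (by norm_num : 0 < 4060), h]))
  rcases union_cases (by norm_num) unions0_cert _ (MulAction.mem_orbit_self _) hsp hcov hdvd with
    h | h
  · exfalso
    apply hN
    rw [eq_bot_iff]
    intro n hn
    rw [Subgroup.mem_bot]
    apply Subtype.ext
    ext x : 1
    obtain ⟨σ, hσ, rfl⟩ := aut_move x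
    have hmem : ((⟨σ, hσ⟩ : autGrp)⁻¹ * n * ⟨σ, hσ⟩) ∈ N := by
      simpa using Subgroup.Normal.conj_mem inferInstance n hn (⟨σ, hσ⟩ : autGrp)⁻¹
    have h0 : (⟨_, hmem⟩ : N) • fp 0 ∈ MulAction.orbit N (fp 0) := MulAction.mem_orbit _ _
    rw [h, Set.mem_singleton_iff] at h0
    have h' : σ⁻¹ ((n : Equiv.Perm (Fin 4060)) (σ (fp 0))) = fp 0 := h0
    have := congrArg σ h'
    simpa using this
  · have hu : MulAction.orbit N (fp 0) = Set.univ := by
      refine Set.eq_univ_of_forall fun x => ?_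
      by_cases hx : x = fp 0
      · exact hx ▸ MulAction.mem_orbit_self _
      · have hc : (tMask 1 ||| tMask 2 ||| 1).testBit x.1 = true := by
          rw [tree_shape.2.2.2.1, Nat.testBit_two_pow_sub_one]; simp [x.2]
        simp only [Nat.testBit_or, Bool.or_eq_true] at hc
        rcases hc with (hc | hc) | hc
        · exact h _ List.mem_cons_self hc
        · exact h _ (List.mem_cons_of_mem _ List.mem_cons_self) hc
        · rw [← pow_zero 2, Nat.testBit_two_pow, decide_eq_true_eq] at hc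
          exact absurd (Fin.ext (by rw [fp_val (by norm_num : 0 < 4060), hc])) hx
    have h1 : (MulAction.orbit N (fp 0)).ncard ∣ Nat.card N :=
      ⟨_, by rw [← MulAction.index_stabilizer, mul_comm]; exact (Subgroup.card_mul_index _).symm⟩
    rw [hu, Set.ncard_univ, Nat.card_eq_fintype_card, Fintype.card_fin] at h1
    exact dvd_trans (by norm_num) h1

theorem aut_isSimple : IsSimpleGroup autGrp := by
  refine isSimpleGroup_of_prime_gens (p := 29) (by norm_num)
    ⟨perm 0, perm_mem_aut (by norm_num)⟩ ⟨perm 1, perm_mem_aut (by norm_num)⟩ ?_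
    (Subtype.ext (perm_pow_eq_one (by norm_num) fun j hj => (order_spec.1 j hj).1.1.1))
    (Subtype.ext (perm_pow_eq_one (by norm_num) fun j hj => (order_spec.1 j hj).1.1.2))
    (fun h => perm_ne_one (g := 0) (by norm_num) (congrArg Subtype.val h))
    (by rw [card_aut]; norm_num) fun N hN hne => ?_
  · apply Subgroup.map_injective autGrp.subtype_injective
    rw [MonoidHom.map_closure, ← MonoidHom.range_eq_map, Subgroup.range_subtype, Set.image_pair]
    exact kGrp_eq
  · haveI := hN
    exact dvd_card_of_normal N hne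

theorem card_fix1 : Nat.card fix1 = 35942400 := by
  have h := card_eq_orbit_mul autGrp (fp 0)
  have htop : MulAction.orbit autGrp (fp 0) = Set.univ := by
    haveI := aut_pretransitive
    exact MulAction.orbit_eq_univ _ _
  rw [htop, Set.ncard_univ, Nat.card_eq_fintype_card (α := Fin 4060), Fintype.card_fin,
    card_aut] at h
  show Nat.card ↥(autGrp ⊓ stab 0) = 35942400
  simp only [stab]
  omega

/-! ### The simple subgroup of the stabiliser of a point -/

/-- Permutations fixing two points and a set of 512 points. -/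
def halfGrp : Subgroup (Equiv.Perm (Fin 4060)) where
  carrier := {σ | σ ∈ fix2 ∧ Pres σ (tMask 4)}
  one_mem' := ⟨one_mem _, fun _ => rfl⟩
  mul_mem' := fun {a b} ha hb => ⟨mul_mem ha.1 hb.1, fun x => by
    rw [Equiv.Perm.mul_apply, ha.2, hb.2]⟩
  inv_mem' := fun {a} ha => ⟨inv_mem ha.1, fun x => by
    have h := ha.2 (a⁻¹ x)
    simp only [Equiv.Perm.coe_inv, Equiv.apply_symm_apply] at h ⊢
    exact h.symm⟩

theorem tree4_le_half : treeGrp 4 ≤ halfGrp ∧ fix3 ≤ halfGrp := by
  have hgen : ∀ g ∈ [5, 6, 7, 8], perm g ∈ halfGrp := by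
    intro g hg
    have hg9 : g < 9 := by simp at hg; omega
    refine ⟨perm_mem_fix2 (by simp at hg ⊢; omega), fun x => ?_⟩
    have hfwd : ∀ y : Fin 4060, (tMask 4).testBit y.1 = true →
        (tMask 4).testBit (perm g y).1 = true := by
      intro y hy
      have hc := List.all_eq_true.1 preserve_cert y.1 (List.mem_range.2 y.2)
      rw [hy, Bool.not_true, Bool.false_or, List.all_eq_true] at hc
      rw [perm_val hg9]
      exact hc g hg
    have himg : (perm g) '' mset (tMask 4) = mset (tMask 4) := by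
      refine Set.eq_of_subset_of_ncard_le ?_ ?_ (Set.toFinite _)
      · rintro _ ⟨y, hy, rfl⟩
        exact hfwd y hy
      · rw [Set.ncard_image_of_injective _ (perm g).injective]
    rw [Bool.eq_iff_iff]
    constructor
    · intro hx
      have : perm g x ∈ (perm g) '' mset (tMask 4) := by rw [himg]; exact hx
      obtain ⟨y, hy, he⟩ := this
      rw [(perm g).injective he] at hy
      exact hy
    · exact hfwd x
  refine ⟨treeGrp_le tree_shape.2.2.2.2.2.1.2 fun g hg => hgen g (by simp at hg ⊢; omega), ?_⟩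
  rw [fix3_eq]
  exact treeGrp_le tree_shape.2.2.2.2.2.2.1.2 fun g hg => hgen g (by simp at hg ⊢; omega)

theorem mem_half {σ : Equiv.Perm (Fin 4060)} (hσ : σ ∈ fix2)
    (h : σ (fp 4024) ∈ mset (tMask 4)) : σ ∈ halfGrp := by
  have ht := tr_spec (i := 4) (by norm_num) h
  have hk := tree4_le_half.1 ht.1
  have hs : (tr 4 (σ (fp 4024)))⁻¹ * σ ∈ fix3 := by
    refine ⟨(mul_mem (inv_mem hk.1) hσ : _ ∈ fix2), ?_⟩
    show ((tr 4 (σ (fp 4024)))⁻¹ * σ) (fp 4024) = fp 4024
    rw [Equiv.Perm.mul_apply]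
    have h2 := ht.2.1
    rw [tree_shape.2.2.2.2.2.1.1] at h2
    conv_lhs => arg 2; rw [← h2]
    simp
  have := mul_mem hk (tree4_le_half.2 hs)
  rwa [mul_inv_cancel_left] at this

/-- Permutations whose cocycle lies in the group of the half cell. -/
def cocGrp : Subgroup (Equiv.Perm (Fin 4060)) where
  carrier := {σ | σ ∈ fix1 ∧
    ∀ p ∈ mset (tMask 1), (tr 1 (σ p))⁻¹ * σ * tr 1 p ∈ halfGrp}
  one_mem' := ⟨one_mem _, fun p _ => by simp⟩
  mul_mem' := fun {a b} ha hb => ⟨mul_mem ha.1 hb.1, fun p hp => by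
    have hbp : b p ∈ mset (tMask 1) := by
      show (tMask 1).testBit (b p).1 = true
      rw [pres_tMask1 hb.1]; exact hp
    have h := mul_mem (ha.2 (b p) hbp) (hb.2 p hp)
    rw [show (a * b) p = a (b p) from rfl]
    have e : (tr 1 (a (b p)))⁻¹ * (a * b) * tr 1 p =
        (tr 1 (a (b p)))⁻¹ * a * tr 1 (b p) * ((tr 1 (b p))⁻¹ * b * tr 1 p) := by group
    rw [e]; exact h⟩
  inv_mem' := fun {a} ha => ⟨inv_mem ha.1, fun p hp => by
    have hp' : a⁻¹ p ∈ mset (tMask 1) := by
      show (tMask 1).testBit (a⁻¹ p).1 = true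
      rw [pres_tMask1 (inv_mem ha.1)]; exact hp
    have h := inv_mem (ha.2 (a⁻¹ p) hp')
    have e0 : a (a⁻¹ p) = p := by simp
    rw [e0] at h
    have e : (tr 1 (a⁻¹ p))⁻¹ * a⁻¹ * tr 1 p = ((tr 1 p)⁻¹ * a * tr 1 (a⁻¹ p))⁻¹ := by group
    rw [e]; exact h⟩

theorem tGrp_le_fix1 : tGrp ≤ fix1 := by
  rw [tGrp, Subgroup.closure_le]
  rintro z (rfl | rfl) <;> exact perm_mem_fix1 (by simp)

theorem tGrp_le_coc : tGrp ≤ cocGrp := by
  rw [tGrp, Subgroup.closure_le]
  suffices H : ∀ g ∈ [2, 3], perm g ∈ cocGrp by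
    rintro z (rfl | rfl)
    · exact H 2 (by simp)
    · exact H 3 (by simp)
  intro g hg
  have hg9 : g < 9 := by simp at hg; omega
  refine ⟨perm_mem_fix1 (by simp at hg ⊢; omega), fun p hp => ?_⟩
  have hc := List.all_eq_true.1 schreier_cert p.1 (List.mem_range.2 p.2)
  rw [show (tMask 1).testBit p.1 = true from hp, Bool.not_true, Bool.false_or,
    List.all_eq_true] at hc
  have hcg := hc g hg
  rw [Bool.and_eq_true, ← perm_val hg9] at hcg
  have hq : perm g p ∈ mset (tMask 1) := hcg.1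
  have hp1 := tr_spec (i := 1) (by norm_num) hp
  have hq1 := tr_spec (i := 1) (by norm_num) hq
  have h1le : treeGrp 1 ≤ fix1 :=
    treeGrp_le tree_shape.2.1.2.1 fun k hk => perm_mem_fix1 (by simp at hk ⊢; omega)
  refine mem_half ⟨(mul_mem (mul_mem (inv_mem (h1le hq1.1))
    (perm_mem_fix1 (by simp at hg ⊢; omega))) (h1le hp1.1) : _ ∈ fix1), ?_⟩ ?_
  · show ((tr 1 (perm g p))⁻¹ * perm g * tr 1 p) (fp 4059) = fp 4059
    rw [Equiv.Perm.mul_apply, Equiv.Perm.mul_apply]
    have e1 := hp1.2.1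
    have e2 := hq1.2.1
    rw [tree_shape.2.1.1] at e1 e2
    rw [e1]
    conv_lhs => arg 2; rw [← e2]
    simp
  · show (tMask 4).testBit _ = true
    rw [Equiv.Perm.mul_apply, Equiv.Perm.mul_apply, hq1.2.2.2, perm_val hg9, perm_val hg9, hp1.2.2.1,
      fp_val (by norm_num : (4024 : ℕ) < 4060)]
    have h2 := hcg.2
    try rw [perm_val hg9] at h2
    exact h2

theorem card_tGrp : Nat.card tGrp = 17971200 := by
  have hup : Nat.card tGrp ≤ 1755 * (512 * 20) := by
    refine card_le_mul tGrp (fp 4059) (mset (tMask 1)) (by rw [tree_size (by norm_num)]; rfl)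
      (fun σ hσ => ?_) ?_
    · show (tMask 1).testBit (σ (fp 4059)).1 = true
      rw [pres_tMask1 (tGrp_le_fix1 hσ), fp_val (by norm_num : (4059 : ℕ) < 4060)]
      exact tree_shape.2.1.2.2
    · refine le_trans (Subgroup.card_le_of_le (K := halfGrp) fun σ hσ => ?_) ?_
      · have h := (tGrp_le_coc hσ.1).2 (fp 4059) (by
          show (tMask 1).testBit (fp 4059).1 = true
          rw [fp_val (by norm_num : (4059 : ℕ) < 4060)]; exact tree_shape.2.1.2.2)
        rw [show σ (fp 4059) = fp 4059 from hσ.2] at h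
        have e := tr_root 1 (by norm_num)
        rw [tree_shape.2.1.1] at e
        simpa [e] using h
      · refine card_le_mul halfGrp (fp 4024) (mset (tMask 4))
          (by rw [tree_size (by norm_num)]; rfl) (fun σ hσ => ?_) ?_
        · show (tMask 4).testBit (σ (fp 4024)).1 = true
          rw [hσ.2]
          have h := (tree_basic (i := 4) (by norm_num)).1
          have hself : fp 4024 ∈ mset (tMask 4) := by
            show (tMask 4).testBit (fp 4024).1 = true
            rw [fp_val (by norm_num : (4024 : ℕ) < 4060)]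
            exact root4_cert
          exact hself
        · exact le_trans (Subgroup.card_le_of_le fun σ hσ => (⟨hσ.1.1, hσ.2⟩ : σ ∈ fix3))
            card_fix3_le
  have hlo : 1755 * (512 * 20) ≤ Nat.card tGrp := by
    refine mul_le_card tGrp (fp 4059) (mset (tMask 1)) (by rw [tree_size (by norm_num)]; rfl)
      (reach (by norm_num) tree_shape.2.1.1 (treeGrp_le tree_shape.2.1.2.1 fun g hg =>
        perm_mem_tGrp (by simp at hg; omega) (by simp at hg; omega) (by simp at hg; omega))) ?_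
    refine mul_le_card _ (fp 4024) (mset (tMask 4)) (by rw [tree_size (by norm_num)]; rfl)
      (reach (by norm_num) tree_shape.2.2.2.2.2.1.1 (treeGrp_le tree_shape.2.2.2.2.2.1.2
        fun g hg => ⟨perm_mem_tGrp (by simp at hg; omega) (by simp at hg; omega)
          (by simp at hg; omega), (perm_mem_fix2 (g := g) (by simp at hg ⊢; omega)).2⟩)) ?_
    refine le_trans (le_trans (le_of_eq (by norm_num : 20 = 20 * 1)) card_lower3)
      (Subgroup.card_le_of_le fun σ hσ => ?_)
    have h := tree5_le hσ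
    exact ⟨⟨h.2, h.1.1.2⟩, h.1.2⟩
  omega
where
  root4_cert : (tMask 4).testBit 4024 = true := by decide +kernel

theorem dvd_card_of_normal' (N : Subgroup tGrp) [N.Normal] (hN : N ≠ ⊥) : 13 ∣ Nat.card N := by
  have hb : (tMask 1).testBit 4059 = true := tree_shape.2.1.2.2
  have horb : MulAction.orbit tGrp (fp 4059) = mset (tMask 1) := by
    ext x
    constructor
    · rintro ⟨σ, rfl⟩
      show (tMask 1).testBit ((σ : Equiv.Perm (Fin 4060)) (fp 4059)).1 = true
      rw [pres_tMask1 (tGrp_le_fix1 σ.2), fp_val (by norm_num : (4059 : ℕ) < 4060)]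
      exact hb
    · intro hx
      obtain ⟨σ, hσ, rfl⟩ := reach (H := tGrp) (by norm_num) tree_shape.2.1.1
        (treeGrp_le tree_shape.2.1.2.1 fun g hg =>
          perm_mem_tGrp (by simp at hg; omega) (by simp at hg; omega) (by simp at hg; omega)) x hx
      exact ⟨⟨σ, hσ⟩, rfl⟩
  have hdvd : (MulAction.orbit N (fp 4059)).ncard ∣ 1755 := by
    have h := ncard_orbit_dvd N (fp 4059)
    rw [horb, tree_size (by norm_num)] at h
    exact h
  have hsp : ∀ m ∈ [tMask 6, tMask 7, tMask 8, tMask 9],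
      mset m ⊆ MulAction.orbit N (fp 4059) ∨ Disjoint (mset m) (MulAction.orbit N (fp 4059)) := by
    intro m hm
    obtain ⟨i, hi, rfl⟩ : ∃ i ∈ [6, 7, 8, 9], m = tMask i := by
      simp only [List.mem_cons, List.not_mem_nil, or_false] at hm
      rcases hm with rfl | rfl | rfl | rfl
      exacts [⟨6, by simp, rfl⟩, ⟨7, by simp, rfl⟩, ⟨8, by simp, rfl⟩, ⟨9, by simp, rfl⟩]
    refine orbit_split (H := tGrp ⊓ stab 4059) inf_le_left N (fun σ hσ => hσ.2)
      (by simp at hi; omega) (treeGrp_le (tree_shape.2.2.2.2.2.2.2.1 i hi).1 fun g hg => ?_)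
    exact ⟨perm_mem_tGrp (by simp at hg; omega) (by simp at hg; omega) (by simp at hg; omega),
      (perm_mem_fix2 (g := g) (by simp at hg ⊢; omega)).2⟩
  have hcov : ∀ x ∈ MulAction.orbit N (fp 4059),
      x = fp 4059 ∨ ∃ m ∈ [tMask 6, tMask 7, tMask 8, tMask 9], x ∈ mset m := by
    rintro x ⟨n, rfl⟩
    have h1 : (n.1 : tGrp) • fp 4059 ∈ mset (tMask 1) := horb ▸ MulAction.mem_orbit _ _
    have h : (tMask 1).testBit ((n.1 : Equiv.Perm (Fin 4060)) (fp 4059)).1 = true := h1
    rw [← tree_shape.2.2.2.2.2.2.2.2] at h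
    simp only [Nat.testBit_or, Bool.or_eq_true] at h
    rcases h with (((h | h) | h) | h) | h
    · exact Or.inr ⟨_, by simp, h⟩
    · exact Or.inr ⟨tMask 7, by simp, h⟩
    · exact Or.inr ⟨tMask 8, by simp, h⟩
    · exact Or.inr ⟨tMask 9, by simp, h⟩
    · rw [Nat.testBit_two_pow, decide_eq_true_eq] at h
      exact Or.inl (Fin.ext (h.symm.trans (fp_val (by norm_num : (4059 : ℕ) < 4060)).symm))
  rcases union_cases (by norm_num) unions1_cert _ (MulAction.mem_orbit_self _) hsp hcov hdvd with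
    h | h
  · exfalso
    apply hN
    rw [eq_bot_iff]
    intro n hn
    rw [Subgroup.mem_bot]
    have hfix : ∀ x : Fin 4060, (tMask 1 ||| 1).testBit x.1 = true →
        (n : Equiv.Perm (Fin 4060)) x = x := by
      intro x hx
      simp only [Nat.testBit_or, Bool.or_eq_true] at hx
      rcases hx with hx | hx
      · obtain ⟨⟨σ, hσ⟩, rfl⟩ : x ∈ MulAction.orbit tGrp (fp 4059) := by rw [horb]; exact hx
        have hmem : ((⟨σ, hσ⟩ : tGrp)⁻¹ * n * ⟨σ, hσ⟩) ∈ N := by
          simpa using Subgroup.Normal.conj_mem inferInstance n hn (⟨σ, hσ⟩ : tGrp)⁻¹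
        have h0 : (⟨_, hmem⟩ : N) • fp 4059 ∈ MulAction.orbit N (fp 4059) :=
          MulAction.mem_orbit _ _
        rw [h, Set.mem_singleton_iff] at h0
        have h' : σ⁻¹ ((n : Equiv.Perm (Fin 4060)) (σ (fp 4059))) = fp 4059 := h0
        have := congrArg σ h'
        simp only [Equiv.Perm.coe_inv, Equiv.apply_symm_apply] at this
        exact this
      · rw [← pow_zero 2, Nat.testBit_two_pow, decide_eq_true_eq] at hx
        have hx0 : x = fp 0 := Fin.ext (by rw [fp_val (by norm_num : 0 < 4060), hx])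
        rw [hx0]
        exact (tGrp_le_fix1 n.2).2
    have hk := key_cert
    simp only [Bool.and_eq_true, List.all_eq_true, List.mem_range, beq_iff_eq,
      decide_eq_true_eq] at hk
    apply Subtype.ext
    refine Equiv.ext fun y => key_inj ?_
    apply Nat.eq_of_testBit_eq
    intro a
    show (key (pt ((n : Equiv.Perm (Fin 4060)) y).1)).testBit a = (key (pt y.1)).testBit a
    have klt : ∀ v, v < 2 ^ 28 → key v < 2 ^ 28 := by
      intro v hv
      rw [key]
      refine Nat.xor_lt_two_pow hv ?_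
      split
      · exact pt_lt 0
      · positivity
    by_cases ha28 : a < 28
    · obtain ⟨hs, hd⟩ := hk a ha28
      have hx : ∀ v, v < 2 ^ 28 → (key v).testBit a = form (xorPts (keyDual.getD a [])) v :=
        fun v hv => (xext (fun w => form (xorPts (keyDual.getD a [])) w)
          (fun w => (key w).testBit a) (· ^^ ·) 28 (fun u w => form_xor_right _ u w)
          (fun u w => by simp only [key_xor, Nat.testBit_xor])
          (by simp [form_zero_right, key]) (fun b hb => hd b hb) v hv).symm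
      rw [hx _ (pt_lt _), hx _ (pt_lt _)]
      suffices H : ∀ l : List ℕ, (∀ s ∈ l, s < 4060 ∧ (tMask 1 ||| 1).testBit s = true) →
          form (xorPts l) (pt ((n : Equiv.Perm (Fin 4060)) y).1) = form (xorPts l) (pt y.1) from
        H _ hs
      intro l
      induction l with
      | nil => intro _; simp [xorPts, form_zero_left]
      | cons s l ih =>
        intro hl
        obtain ⟨hs4, hsb⟩ := hl s List.mem_cons_self
        simp only [xorPts, form_xor_left]
        rw [ih fun t ht => hl t (List.mem_cons_of_mem _ ht)]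
        congr 1
        have hσ := (tGrp_le_fix1 n.2).1 (fp s) y
        rw [hfix (fp s) (by rw [fp_val hs4]; exact hsb), fp_val hs4] at hσ
        exact hσ
    · rw [Nat.testBit_lt_two_pow (lt_of_lt_of_le (klt _ (pt_lt _)) (Nat.pow_le_pow_right
        (by norm_num) (by omega))), Nat.testBit_lt_two_pow (lt_of_lt_of_le (klt _ (pt_lt _))
        (Nat.pow_le_pow_right (by norm_num) (by omega)))]
  · have hu : MulAction.orbit N (fp 4059) = mset (tMask 1) := by
      refine Set.Subset.antisymm ?_ fun x hx => ?_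
      · rintro x ⟨n, rfl⟩
        exact horb ▸ MulAction.mem_orbit (fp 4059) (n.1 : tGrp)
      · have hx' : (tMask 1).testBit x.1 = true := hx
        rw [← tree_shape.2.2.2.2.2.2.2.2] at hx'
        simp only [Nat.testBit_or, Bool.or_eq_true] at hx'
        rcases hx' with (((hc | hc) | hc) | hc) | hc
        · exact h (tMask 6) (by simp) hc
        · exact h (tMask 7) (by simp) hc
        · exact h (tMask 8) (by simp) hc
        · exact h (tMask 9) (by simp) hc
        · rw [Nat.testBit_two_pow, decide_eq_true_eq] at hc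
          have hx0 : x = fp 4059 := Fin.ext (by rw [fp_val (by norm_num : (4059 : ℕ) < 4060), hc])
          rw [hx0]; exact MulAction.mem_orbit_self _
    have h1 : (MulAction.orbit N (fp 4059)).ncard ∣ Nat.card N :=
      ⟨_, by rw [← MulAction.index_stabilizer, mul_comm]; exact (Subgroup.card_mul_index _).symm⟩
    rw [hu, tree_size (by norm_num)] at h1
    exact dvd_trans (by norm_num) h1

theorem tGrp_isSimple : IsSimpleGroup tGrp := by
  refine isSimpleGroup_of_prime_gens (p := 13) (by norm_num)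
    ⟨perm 2, perm_mem_tGrp (by norm_num) (by norm_num) (by norm_num)⟩
    ⟨perm 3, perm_mem_tGrp (by norm_num) (by norm_num) (by norm_num)⟩ ?_
    (Subtype.ext (perm_pow_eq_one (by norm_num) fun j hj => (order_spec.1 j hj).1.2))
    (Subtype.ext (perm_pow_eq_one (by norm_num) fun j hj => (order_spec.1 j hj).2))
    (fun h => perm_ne_one (g := 2) (by norm_num) (congrArg Subtype.val h))
    (by rw [card_tGrp]; norm_num) fun N hN hne => ?_
  · apply Subgroup.map_injective tGrp.subtype_injective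
    rw [MonoidHom.map_closure, ← MonoidHom.range_eq_map, Subgroup.range_subtype, Set.image_pair]
    rfl
  · haveI := hN
    exact dvd_card_of_normal' N hne

end Cfsg.Agent.PGroups.Ru
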