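import Cfsg.Agent.PGroups.RuLatCertsA
import Cfsg.Agent.PGroups.RuPermGroup

/-!
The lines generate the lattice; the class of a vector and the parity form.
-/

set_option autoImplicit false
set_option maxRecDepth 20000

namespace Cfsg.Agent.PGroups.Ru

open Cfsg.Spor
open Cfsg.Agent.H44 (Rud.iPt Rud.cIdx Rud.herm Rud.oddG Rud.four? Rud.genVec Rud.gAt Rud.comb
  Rud.modSpan Rud.ruLattice_le Rud.four?_iff Rud.four_dvd_herm Rud.iPt_cIdx Rud.cIdx_iPt
  Rud.cIdx_lt Rud.sum_idx Rud.genVec_mem)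

/-! ### The span of the lines -/

theorem eq_of_idx {β : Type*} (F G : RuIdx → β) (h : ∀ i, i < 28 → F (Rud.iPt i) = G (Rud.iPt i)) :
    F = G := funext fun p => by rw [← Rud.iPt_cIdx p]; exact h _ (Rud.cIdx_lt p)

theorem congr_dvd {x y : RuVec} (h : congrOK x y = true) (p : RuIdx) :
    (4 : GaussianInt) ∣ x p - y p := by
  have := List.all_eq_true.1 h (Rud.cIdx p) (List.mem_range.2 (Rud.cIdx_lt p))
  rw [Rud.iPt_cIdx] at this
  exact Rud.four?_iff.1 this

theorem lat_tab {j : ℕ} (hj : j < ruTable.length) : ruTable.getD j 0 ∈ ruLattice := by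
  rw [ruLattice, AddSubgroup.mem_sInf]
  intro L hL
  refine hL.1 _ ?_
  rw [List.getD_eq_getElem _ _ hj]
  exact List.getElem_mem hj

theorem lat_maps {v : RuVec} (hv : v ∈ ruLattice) {m : ℕ} (hm : m < 4) :
    monoMap m v ∈ ruLattice := by
  rw [ruLattice, AddSubgroup.mem_sInf] at hv ⊢
  intro L hL
  obtain ⟨-, hj, hk, hs, ht⟩ := hL.2 v (hv L hL)
  interval_cases m
  · rwa [monoMap_zero]
  · rwa [monoMap_one]
  · rwa [monoMap_two]
  · rwa [monoMap_three]

theorem smulV_zsmul (n : ℤ) (x : RuVec) : smulV (n : GaussianInt) x = n • x :=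
  funext fun p => by simp [smulV, zsmul_eq_mul]

theorem smulV_mem {S : AddSubgroup RuVec} (hi : ∀ x ∈ S, gI • x ∈ S) (c : GaussianInt)
    {x : RuVec} (hx : x ∈ S) : smulV c x ∈ S := by
  have e : smulV c x = c.re • x + c.im • (gI • x) := by
    funext p
    simp only [smulV, Pi.add_apply, zsmul_eq_mul, Pi.mul_apply, Pi.intCast_apply, Pi.smul_apply,
      smul_eq_mul]
    rw [← mul_assoc, ← add_mul]
    congr 1
    ext <;> simp [gI]
  rw [e]
  exact add_mem (zsmul_mem hx _) (zsmul_mem (hi x hx) _)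

theorem lat_smul (c : GaussianInt) {x : RuVec} (hx : x ∈ ruLattice) : smulV c x ∈ ruLattice :=
  smulV_mem (fun _ h => gI_smul_mem_ruLattice h) c hx

theorem gI_pow_four : (gI : GaussianInt) ^ 4 = 1 := by decide

theorem closeOK_all {m : ℕ} (hm : m < 4) : closeOK m = true := by
  interval_cases m
  exacts [close_cert0, close_cert1, close_cert2, close_cert3]

theorem mSrc_lt {m i : ℕ} (hm : m < 4) (hi : i < 28) : mSrc m i < 28 := by
  interval_cases m <;> interval_cases i <;> decide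

theorem close_spec {m a : ℕ} (hm : m < 4) (ha : a < 4060) :
    imgLine m a < 4060 ∧ imgUnit m a < 4 ∧
      monoMap m (line a) = smulV (gI ^ imgUnit m a) (line (imgLine m a)) := by
  have h := List.all_eq_true.1 (closeOK_all hm) a (List.mem_range.2 ha)
  simp only [Bool.and_eq_true, decide_eq_true_eq] at h
  obtain ⟨⟨hb, he⟩, hr⟩ := h
  simp only [closeRow, List.all_eq_true, List.mem_range, Bool.and_eq_true, beq_iff_eq,
    Nat.blt_eq] at hr
  have htab := tab_cert
  simp only [List.all_eq_true, List.mem_range, Bool.and_eq_true, beq_iff_eq,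
    decide_eq_true_eq] at htab
  refine ⟨hb, he, eq_of_idx _ _ fun i hi => ?_⟩
  have hs := mSrc_lt hm hi
  simp only [monoMap, smulV, line, cvec, Rud.cIdx_iPt hi, Rud.cIdx_iPt hs]
  obtain ⟨⟨-, hb9⟩, heq⟩ := hr i hi
  have hph : mPh m i < 4 := by interval_cases m <;> interval_cases i <;> decide
  have ha9 : nibAt (lcode a) (mSrc m i) < 9 := (hr _ hs).1.1
  rw [(htab.1.1 m hm i hi).1, (htab.1.1 m hm i hi).2, htab.1.2 _ hph _ ha9,
    htab.1.2 _ he _ hb9] at heq
  rw [← gi_rotN _ hph _ ha9, ← gi_rotN _ he _ hb9, heq]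

theorem norm_gI_pow (e : ℕ) : (gI ^ e : GaussianInt).norm = 1 := by
  induction e with
  | zero => rfl
  | succ e ih => rw [pow_succ, Zsqrtd.norm_mul, ih]; rfl

theorem ruNorm_smulV (c : GaussianInt) (x : RuVec) :
    ruNorm (smulV c x) = c.norm * ruNorm x := by
  simp only [ruNorm, smulV, Zsqrtd.norm_mul, Finset.mul_sum]

theorem ruNorm_monoMap {m : ℕ} (hm : m < 4) (x : RuVec) : ruNorm (monoMap m x) = ruNorm x := by
  have h1 : ruNorm (monoMap m x) = ∑ p : RuIdx, (x (Rud.iPt (mSrc m (Rud.cIdx p)))).norm := by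
    simp only [ruNorm, monoMap, Zsqrtd.norm_mul, norm_gI_pow, one_mul]
  rw [h1]
  refine Fintype.sum_bijective (fun p : RuIdx => Rud.iPt (mSrc m (Rud.cIdx p))) ?_ _ _
    (fun _ => rfl)
  rw [Finite.injective_iff_bijective.symm]
  intro p q h
  have h' : mSrc m (Rud.cIdx p) = mSrc m (Rud.cIdx q) := by
    have := congrArg Rud.cIdx h
    rwa [Rud.cIdx_iPt (mSrc_lt hm (Rud.cIdx_lt p)),
      Rud.cIdx_iPt (mSrc_lt hm (Rud.cIdx_lt q))] at this
  have key : ∀ m < 4, ∀ i < 28, ∀ j < 28, mSrc m i = mSrc m j → i = j := by decide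
  rw [← Rud.iPt_cIdx p, ← Rud.iPt_cIdx q,
    key m hm _ (Rud.cIdx_lt p) _ (Rud.cIdx_lt q) h']

theorem roots_spec :
    (∀ a ∈ lroots, (a < 4060 ∧ qn (line a) = pt a) ∧
      ((List.range 28).map fun i => (line a (Rud.iPt i)).norm).sum = 16) ∧
    (∀ r ∈ lineRoots, (r.2.1 < ruTable.length ∧ r.2.2 < 4) ∧ ∀ i, i < 28 →
      gI ^ r.2.2 * line r.1 (Rud.iPt i) = ruTable.getD r.2.1 0 (Rud.iPt i)) ∧
    (∀ r ∈ lineExtra, congrOK (line r.1) (comboVec r.2) = true ∧ ∀ c ∈ r.2, c.1 < 4060) ∧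
    (∀ i, i < 28 → frameLines.getD i 0 < 4060 ∧ lcode (frameLines.getD i 0) = 5 * 16 ^ i) ∧
    (∀ l, l < 19 → congrOK (Rud.genVec l) (comboVec (genCombo.getD l [])) = true ∧
      ∀ c ∈ genCombo.getD l [], c.1 < 4060) ∧
    (∀ k, k < 28 → (classBasis.getD k (0, 0)).1 < 4060 ∧ (classBasis.getD k (0, 0)).2 < 4) := by
  have h := roots_cert
  simp only [Bool.and_eq_true, List.all_eq_true, List.mem_range, beq_iff_eq,
    decide_eq_true_eq] at h
  obtain ⟨⟨⟨⟨⟨h1, h2⟩, h3⟩, h4⟩, h5⟩, h6⟩ := h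
  exact ⟨h1, h2, fun r hr => ⟨(h3 r hr).1, fun c hc => ((h3 r hr).2 c hc).2⟩, h4, h5, h6⟩

theorem ruTable_mem_of_root {r : ℕ × ℕ × ℕ} (hr : r ∈ lineRoots) : line r.1 ∈ ruLattice := by
  obtain ⟨⟨hj, he⟩, heq⟩ := roots_spec.2.1 r hr
  have e : smulV (gI ^ r.2.2) (line r.1) = ruTable.getD r.2.1 0 := eq_of_idx _ _ heq
  have e2 : line r.1 = smulV (gI ^ (4 - r.2.2)) (ruTable.getD r.2.1 0) := by
    rw [← e, smulV_smulV, ← pow_add, Nat.sub_add_cancel he.le, gI_pow_four, smulV_one]
  rw [e2]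
  exact lat_smul _ (lat_tab hj)

theorem line_delta {i : ℕ} (hi : i < 28) :
    line (frameLines.getD i 0) = fun p => if Rud.cIdx p = i then 4 else 0 := by
  refine eq_of_idx _ _ fun j hj => ?_
  simp only [line, cvec, (roots_spec.2.2.2.1 i hi).2, Rud.cIdx_iPt hj]
  have key : ∀ i < 28, ∀ j < 28, nibAt (5 * 16 ^ i) j = if j = i then 5 else 0 := by decide +kernel
  rw [key i hi j hj]
  split <;> rfl

theorem four_mul_mem {S : AddSubgroup RuVec} (hi : ∀ x ∈ S, gI • x ∈ S)
    (hf : ∀ i, i < 28 → line (frameLines.getD i 0) ∈ S) {x : RuVec}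
    (hx : ∀ p, (4 : GaussianInt) ∣ x p) : x ∈ S := by
  choose z hz using hx
  have e : x = ∑ i ∈ Finset.range 28, smulV (z (Rud.iPt i)) (line (frameLines.getD i 0)) := by
    refine eq_of_idx _ _ fun j hj => ?_
    rw [Finset.sum_apply, Finset.sum_eq_single j]
    · rw [smulV_apply, line_delta hj]
      simp only [Rud.cIdx_iPt hj, if_true]
      rw [hz, mul_comm]
    · intro b hb hbj
      rw [smulV_apply, line_delta (Finset.mem_range.1 hb)]
      simp [Rud.cIdx_iPt hj, Ne.symm hbj]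
    · intro h; exact absurd (Finset.mem_range.2 hj) h
  rw [e]
  exact sum_mem fun i hi' => smulV_mem hi _ (hf i (Finset.mem_range.1 hi'))

theorem mem_of_congr {S : AddSubgroup RuVec} (hi : ∀ x ∈ S, gI • x ∈ S)
    (hf : ∀ i, i < 28 → line (frameLines.getD i 0) ∈ S) {x v : RuVec} (hv : v ∈ S)
    (h : ∀ p, (4 : GaussianInt) ∣ x p - v p) : x ∈ S := by
  have := four_mul_mem hi hf (x := x - v) h
  simpa using add_mem this hv

theorem combo_mem {S : AddSubgroup RuVec} (hi : ∀ x ∈ S, gI • x ∈ S) :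
    ∀ l : List (ℕ × ℕ × ℕ), (∀ c ∈ l, line c.1 ∈ S) → comboVec l ∈ S
  | [], _ => zero_mem _
  | c :: l, h => add_mem (smulV_mem hi _ (h c List.mem_cons_self))
      (combo_mem hi l fun d hd => h d (List.mem_cons_of_mem _ hd))

theorem forest_spec (q : ℕ) (hq : q < 4060) : lineOK q = true :=
  List.all_eq_true.1 forest_cert q (List.mem_range.2 hq)

/-- Induction along the forest of lines. -/
theorem line_induction (P : ℕ → Prop) (hroot : ∀ a ∈ lroots, P a)
    (hstep : ∀ a, a < 4060 → ∀ m, m < 4 → P a → P (imgLine m a)) :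
    ∀ q, q < 4060 → P q := by
  suffices H : ∀ d q, q < 4060 → ldepth q = d → P q from fun q hq => H _ q hq rfl
  intro d
  induction d using Nat.strong_induction_on with
  | _ d ih =>
    intro q hq hd
    have h := forest_spec q hq
    rw [lineOK] at h
    by_cases h0 : ldepth q = 0
    · rw [if_pos (beq_iff_eq.2 h0)] at h
      exact hroot q (List.contains_iff_mem.1 h)
    · rw [if_neg (fun e => h0 (eq_of_beq e))] at h
      simp only [Bool.and_eq_true, Nat.blt_eq, beq_iff_eq] at h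
      obtain ⟨⟨⟨hm, ha⟩, hlt⟩, he⟩ := h
      rw [← he]
      exact hstep _ ha _ hm (ih _ (hd ▸ hlt) _ ha rfl)

theorem edge_line_mem {a m : ℕ} (ha : a < 4060) (hm : m < 4) (h : line a ∈ ruLattice) :
    line (imgLine m a) ∈ ruLattice := by
  obtain ⟨-, he, e⟩ := close_spec hm ha
  have e2 : line (imgLine m a) = smulV (gI ^ (4 - imgUnit m a)) (monoMap m (line a)) := by
    rw [e, smulV_smulV, ← pow_add, Nat.sub_add_cancel he.le, gI_pow_four, smulV_one]
  rw [e2]
  exact lat_smul _ (lat_maps h hm)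

/-- The path of a line avoiding the extra roots. -/
def lineOK0 : ℕ → ℕ → Bool
  | 0, q => (lineRoots.map fun r => r.1).contains q
  | f + 1, q => (lineRoots.map fun r => r.1).contains q ||
    (decide (lmap q < 4) && decide (lparent q < 4060) &&
      imgLine (lmap q) (lparent q) == q && lineOK0 f (lparent q))

theorem lineOK0_mem : ∀ f q, lineOK0 f q = true → line q ∈ ruLattice := by
  intro f
  induction f with
  | zero =>
    intro q h
    obtain ⟨r, hr, rfl⟩ := List.mem_map.1 (List.contains_iff_mem.1 h)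
    exact ruTable_mem_of_root hr
  | succ f ih =>
    intro q h
    simp only [lineOK0, Bool.or_eq_true, Bool.and_eq_true, decide_eq_true_eq, beq_iff_eq,
      List.contains_iff_mem] at h
    rcases h with h | ⟨⟨⟨hm, ha⟩, he⟩, hr⟩
    · obtain ⟨r, hr, rfl⟩ := List.mem_map.1 h
      exact ruTable_mem_of_root hr
    · rw [← he]; exact edge_line_mem ha hm (ih _ hr)

theorem extra_cert :
    ((lineExtra.all fun r => r.2.all fun c => lineOK0 lineFuel c.1) &&
      (List.range 28).all fun i => lineOK0 lineFuel (frameLines.getD i 0)) = true := by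
  decide +kernel

theorem frame_mem {i : ℕ} (hi : i < 28) : line (frameLines.getD i 0) ∈ ruLattice := by
  have h := extra_cert
  simp only [Bool.and_eq_true, List.all_eq_true, List.mem_range] at h
  exact lineOK0_mem _ _ (h.2 i hi)

theorem line_mem {q : ℕ} (hq : q < 4060) : line q ∈ ruLattice := by
  refine line_induction (fun q => line q ∈ ruLattice) (fun a ha => ?_)
    (fun a ha m hm h => edge_line_mem ha hm h) q hq
  rw [lroots, List.mem_append, List.mem_map, List.mem_map] at ha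
  rcases ha with ⟨r, hr, rfl⟩ | ⟨r, hr, rfl⟩
  · exact ruTable_mem_of_root hr
  · have h := extra_cert
    simp only [Bool.and_eq_true, List.all_eq_true, List.mem_range] at h
    exact mem_of_congr (fun _ hx => gI_smul_mem_ruLattice hx) (fun i hi => frame_mem hi)
      (combo_mem (fun _ hx => gI_smul_mem_ruLattice hx) _ fun c hc => lineOK0_mem _ _ (h.1 r hr c hc))
      (congr_dvd (roots_spec.2.2.1 r hr).1)

/-- A subgroup closed under the unit which contains all lines contains the span of the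
generators. -/
theorem modSpan_le_of_lines {S : AddSubgroup RuVec} (hi : ∀ x ∈ S, gI • x ∈ S)
    (hl : ∀ a, a < 4060 → line a ∈ S) : Rud.modSpan ≤ S := by
  rintro x ⟨c, hc⟩
  have hf : ∀ i, i < 28 → line (frameLines.getD i 0) ∈ S := fun i h =>
    hl _ (roots_spec.2.2.2.1 i h).1
  refine mem_of_congr hi hf ?_ hc
  have e : (Cfsg.Agent.H44.Rud.lin c : RuVec) =
      ∑ l ∈ Finset.range 19, smulV (c l) (Rud.genVec l) := by
    funext p
    simp [Cfsg.Agent.H44.Rud.lin, smulV, Finset.sum_apply]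
  show (Cfsg.Agent.H44.Rud.lin c : RuVec) ∈ S
  rw [e]
  refine sum_mem fun l hl' => smulV_mem hi _ ?_
  have hg := roots_spec.2.2.2.2.1 l (Finset.mem_range.1 hl')
  exact mem_of_congr hi hf (combo_mem hi _ fun d hd => hl _ (hg.2 d hd)) (congr_dvd hg.1)

theorem lat_eq : ruLattice = Rud.modSpan :=
  le_antisymm Rud.ruLattice_le
    (modSpan_le_of_lines (fun _ h => gI_smul_mem_ruLattice h) fun _ h => line_mem h)

/-- Induction on the lattice from the lines. -/
theorem lat_le_of_lines {S : AddSubgroup RuVec} (hi : ∀ x ∈ S, gI • x ∈ S)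
    (hl : ∀ a, a < 4060 → line a ∈ S) : ruLattice ≤ S :=
  Rud.ruLattice_le.trans (modSpan_le_of_lines hi hl)

theorem bvec_mem {n : ℕ} (hn : n < 47) : bvec n ∈ ruLattice := by
  rw [bvec]
  split
  · rw [lat_eq]; exact Rud.genVec_mem (by assumption)
  · have h := frame_mem (i := n - 19) (by omega)
    rwa [line_delta (by omega)] at h

/-- Induction on the lattice from the generators. -/
theorem lat_le_of_basis {S : AddSubgroup RuVec} (hi : ∀ x ∈ S, gI • x ∈ S)
    (hb : ∀ n, n < 47 → bvec n ∈ S) : ruLattice ≤ S := by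
  refine Rud.ruLattice_le.trans ?_
  rintro x ⟨c, hc⟩
  have hf : ∀ i, i < 28 → line (frameLines.getD i 0) ∈ S := fun i h => by
    have := hb (19 + i) (by omega)
    rw [bvec, if_neg (by omega), Nat.add_sub_cancel_left] at this
    rw [line_delta h]
    exact this
  refine mem_of_congr hi hf ?_ hc
  have e : (Cfsg.Agent.H44.Rud.lin c : RuVec) =
      ∑ l ∈ Finset.range 19, smulV (c l) (Rud.genVec l) := by
    funext p
    simp [Cfsg.Agent.H44.Rud.lin, smulV, Finset.sum_apply]
  show (Cfsg.Agent.H44.Rud.lin c : RuVec) ∈ S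
  rw [e]
  refine sum_mem fun l hl' => smulV_mem hi _ ?_
  have := hb l (by have := Finset.mem_range.1 hl'; omega)
  rwa [bvec, if_pos (Finset.mem_range.1 hl')] at this

/-! ### The parity form -/

theorem dvd_herm {x y : RuVec} (hx : x ∈ ruLattice) (hy : y ∈ ruLattice) :
    (4 : ℤ) ∣ (Rud.herm x y).re ∧ (4 : ℤ) ∣ (Rud.herm x y).im := by
  have h := Rud.four_dvd_herm (Rud.ruLattice_le hx) (Rud.ruLattice_le hy)
  rwa [show (4 : GaussianInt) = ((4 : ℤ) : GaussianInt) by norm_num, Zsqrtd.intCast_dvd] at h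

theorem oddG_div_add {a b : GaussianInt} (ha : (4 : ℤ) ∣ a.re ∧ (4 : ℤ) ∣ a.im)
    (hb : (4 : ℤ) ∣ b.re ∧ (4 : ℤ) ∣ b.im) :
    Rud.oddG ⟨(a + b).re / 4, (a + b).im / 4⟩ =
      (Rud.oddG ⟨a.re / 4, a.im / 4⟩ ^^ Rud.oddG ⟨b.re / 4, b.im / 4⟩) := by
  simp only [Cfsg.Agent.H44.Rud.oddG, Zsqrtd.re_add, Zsqrtd.im_add]
  rw [Int.add_ediv_of_dvd_left ha.1, Int.add_ediv_of_dvd_left ha.2]
  rcases Int.emod_two_eq_zero_or_one (a.re / 4 + a.im / 4) with h1 | h1 <;>
    rcases Int.emod_two_eq_zero_or_one (b.re / 4 + b.im / 4) with h2 | h2 <;>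
      simp [h1, h2] <;> omega

theorem herm_add_left (x y z : RuVec) : Rud.herm (x + y) z = Rud.herm x z + Rud.herm y z := by
  simp [Cfsg.Agent.H44.Rud.herm, add_mul, Finset.sum_add_distrib]

theorem herm_add_right (x y z : RuVec) : Rud.herm x (y + z) = Rud.herm x y + Rud.herm x z := by
  simp [Cfsg.Agent.H44.Rud.herm, mul_add, Finset.sum_add_distrib]

theorem herm_smul_left (c : GaussianInt) (x z : RuVec) :
    Rud.herm (smulV c x) z = c * Rud.herm x z := by
  simp [Cfsg.Agent.H44.Rud.herm, smulV, Finset.mul_sum, mul_assoc]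

theorem herm_smul_right (c : GaussianInt) (x z : RuVec) :
    Rud.herm x (smulV c z) = star c * Rud.herm x z := by
  simp only [Cfsg.Agent.H44.Rud.herm, smulV, Finset.mul_sum, star_mul']
  exact Finset.sum_congr rfl fun p _ => by ring

theorem herm_zero_left (z : RuVec) : Rud.herm 0 z = 0 := by simp [Cfsg.Agent.H44.Rud.herm]

theorem hermL_eq (x y : RuVec) : hermL x y = Rud.herm x y :=
  (Rud.sum_idx fun p => x p * star (y p)).symm

theorem bf_eq (x y : RuVec) :
    bf x y = Rud.oddG ⟨(Rud.herm x y).re / 4, (Rud.herm x y).im / 4⟩ := by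
  rw [bf, hermL_eq]

theorem bf_add_left {x y z : RuVec} (hx : x ∈ ruLattice) (hy : y ∈ ruLattice) (hz : z ∈ ruLattice) :
    bf (x + y) z = (bf x z ^^ bf y z) := by
  simp only [bf_eq, herm_add_left]
  exact oddG_div_add (dvd_herm hx hz) (dvd_herm hy hz)

theorem bf_add_right {x y z : RuVec} (hx : x ∈ ruLattice) (hy : y ∈ ruLattice)
    (hz : z ∈ ruLattice) : bf x (y + z) = (bf x y ^^ bf x z) := by
  simp only [bf_eq, herm_add_right]
  exact oddG_div_add (dvd_herm hx hy) (dvd_herm hx hz)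

theorem bf_zero_left (z : RuVec) : bf 0 z = false := by
  simp [bf_eq, herm_zero_left, Cfsg.Agent.H44.Rud.oddG]

theorem bf_zero_right (z : RuVec) : bf z 0 = false := by
  simp [bf_eq, Cfsg.Agent.H44.Rud.herm, Cfsg.Agent.H44.Rud.oddG]

theorem bf_gI_left {x z : RuVec} (hx : x ∈ ruLattice) (hz : z ∈ ruLattice) :
    bf (gI • x) z = bf x z := by
  have e : gI • x = smulV gI x := rfl
  obtain ⟨⟨u, hu⟩, ⟨v, hv⟩⟩ := dvd_herm hx hz
  rw [bf_eq, bf_eq, e, herm_smul_left]
  simp only [Cfsg.Agent.H44.Rud.oddG, Zsqrtd.re_mul, Zsqrtd.im_mul, gI, hu,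
    hv]
  rw [Bool.eq_iff_iff, beq_iff_eq, beq_iff_eq]
  omega

theorem bf_gI_right {x z : RuVec} (hx : x ∈ ruLattice) (hz : z ∈ ruLattice) :
    bf x (gI • z) = bf x z := by
  have e : gI • z = smulV gI z := rfl
  obtain ⟨⟨u, hu⟩, ⟨v, hv⟩⟩ := dvd_herm hx hz
  rw [bf_eq, bf_eq, e, herm_smul_right]
  simp only [Cfsg.Agent.H44.Rud.oddG, Zsqrtd.re_mul, Zsqrtd.im_mul,
    Zsqrtd.re_star, Zsqrtd.im_star, gI, hu, hv]
  rw [Bool.eq_iff_iff, beq_iff_eq, beq_iff_eq]
  omega

theorem classVec_mem {k : ℕ} (hk : k < 28) : classVec k ∈ ruLattice := by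
  have htab := tab_cert
  simp only [List.all_eq_true, List.mem_range, Bool.and_eq_true, beq_iff_eq,
    decide_eq_true_eq] at htab
  obtain ⟨ha, he⟩ := roots_spec.2.2.2.2.2 k hk
  have e : classVec k = smulV (gI ^ (classBasis.getD k (0, 0)).2)
      (line (classBasis.getD k (0, 0)).1) := by
    refine eq_of_idx _ _ fun i hi => ?_
    obtain ⟨h9, heq⟩ := htab.2 k hk i hi
    simp only [classVec, smulV, line, cvec, Rud.cIdx_iPt hi, heq]
    exact gi_rotN _ he _ h9
  rw [e]
  exact lat_smul _ (line_mem ha)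

theorem testBit_qn (x : RuVec) {k : ℕ} (hk : k < 28) :
    (qn x).testBit k = bf x (classVec k) := Nat.testBit_ofBits_lt _ _ hk

theorem testBit_qn_ge (x : RuVec) {k : ℕ} (hk : 28 ≤ k) : (qn x).testBit k = false :=
  Nat.testBit_ofBits_ge _ _ hk

theorem qn_add {x y : RuVec} (hx : x ∈ ruLattice) (hy : y ∈ ruLattice) :
    qn (x + y) = qn x ^^^ qn y := by
  apply Nat.eq_of_testBit_eq
  intro k
  rw [Nat.testBit_xor]
  by_cases hk : k < 28
  · rw [testBit_qn _ hk, testBit_qn _ hk, testBit_qn _ hk, bf_add_left hx hy (classVec_mem hk)]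
  · simp [testBit_qn_ge _ (not_lt.1 hk)]

theorem qn_gI {x : RuVec} (hx : x ∈ ruLattice) : qn (gI • x) = qn x := by
  apply Nat.eq_of_testBit_eq
  intro k
  by_cases hk : k < 28
  · rw [testBit_qn _ hk, testBit_qn _ hk, bf_gI_left hx (classVec_mem hk)]
  · simp [testBit_qn_ge _ (not_lt.1 hk)]

theorem qn_pow {x : RuVec} (hx : x ∈ ruLattice) : ∀ e : ℕ, qn (smulV (gI ^ e) x) = qn x
  | 0 => by rw [pow_zero, smulV_one]
  | e + 1 => by
    rw [pow_succ', ← smulV_smulV]
    show qn (gI • smulV (gI ^ e) x) = _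
    rw [qn_gI (lat_smul _ hx), qn_pow hx e]

theorem qn_zero : qn 0 = 0 := by
  apply Nat.eq_of_testBit_eq
  intro k
  by_cases hk : k < 28
  · simp [testBit_qn _ hk, bf_zero_left]
  · simp [testBit_qn_ge _ (not_lt.1 hk)]

theorem qn_neg {x : RuVec} (hx : x ∈ ruLattice) : qn (-x) = qn x := by
  have h := qn_add hx (neg_mem hx)
  rw [add_neg_cancel, qn_zero] at h
  have h' := congrArg (qn x ^^^ ·) h
  simp only [Nat.xor_zero, ← Nat.xor_assoc, Nat.xor_self, Nat.zero_xor] at h'
  exact h'.symm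

theorem monoMap_add (m : ℕ) (x y : RuVec) : monoMap m (x + y) = monoMap m x + monoMap m y :=
  funext fun _ => mul_add _ _ _

theorem monoMap_smulV (m : ℕ) (c : GaussianInt) (x : RuVec) :
    monoMap m (smulV c x) = smulV c (monoMap m x) :=
  funext fun _ => by simp only [monoMap, smulV]; ring

theorem monoMap_gI (m : ℕ) (x : RuVec) : monoMap m (gI • x) = gI • monoMap m x :=
  monoMap_smulV m gI x

theorem monoMap_zero' (m : ℕ) : monoMap m 0 = 0 := funext fun _ => mul_zero _

theorem monoMap_neg (m : ℕ) (x : RuVec) : monoMap m (-x) = -monoMap m x :=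
  funext fun _ => mul_neg _ _

theorem qn_monoMap {m : ℕ} (hm : m < 4) {x : RuVec} (hx : x ∈ ruLattice) :
    qn (monoMap m x) = lin (monoRows.getD m []) (qn x) := by
  let S : AddSubgroup RuVec :=
    { carrier := {x | x ∈ ruLattice ∧ qn (monoMap m x) = lin (monoRows.getD m []) (qn x)}
      zero_mem' := ⟨zero_mem _, by rw [monoMap_zero', qn_zero, lin_zero]⟩
      add_mem' := fun {a b} ha hb => ⟨add_mem ha.1 hb.1, by
        rw [monoMap_add, qn_add (lat_maps ha.1 hm) (lat_maps hb.1 hm), qn_add ha.1 hb.1, lin_xor,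
          ha.2, hb.2]⟩
      neg_mem' := fun {a} ha => ⟨neg_mem ha.1, by
        rw [monoMap_neg, qn_neg (lat_maps ha.1 hm), qn_neg ha.1, ha.2]⟩ }
  have h : ruLattice ≤ S := lat_le_of_basis
    (fun x hx => ⟨gI_smul_mem_ruLattice hx.1, by
      rw [monoMap_gI, qn_gI (lat_maps hx.1 hm), qn_gI hx.1, hx.2]⟩)
    (fun n hn => ⟨bvec_mem hn, by
      have hc := mono_rows_cert
      have hb := bclass_cert
      simp only [List.all_eq_true, List.mem_range, beq_iff_eq] at hc hb
      rw [hb n hn]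
      exact hc m hm n hn⟩)
  exact (h hx).2

theorem qn_line {q : ℕ} (hq : q < 4060) : qn (line q) = pt q := by
  refine line_induction (fun q => qn (line q) = pt q) (fun a ha => (roots_spec.1 a ha).1.2)
    (fun a ha m hm h => ?_) q hq
  obtain ⟨hb, -, e⟩ := close_spec hm ha
  have h2 := qn_monoMap hm (line_mem ha)
  rw [e, qn_pow (line_mem hb), h] at h2
  have hc := edge_cert
  simp only [List.all_eq_true, List.mem_range, beq_iff_eq] at hc
  rw [h2, hc a ha m hm]

theorem norm_line {q : ℕ} (hq : q < 4060) : ruNorm (line q) = 16 := by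
  refine line_induction (fun q => ruNorm (line q) = 16) (fun a ha => ?_)
    (fun a ha m hm h => ?_) q hq
  · rw [ruNorm, Rud.sum_idx]
    exact (roots_spec.1 a ha).2
  · obtain ⟨-, -, e⟩ := close_spec hm ha
    have h2 := ruNorm_monoMap hm (line a)
    rwa [e, ruNorm_smulV, norm_gI_pow, one_mul, h] at h2

theorem bf_eq_form {x y : RuVec} (hx : x ∈ ruLattice) (hy : y ∈ ruLattice) :
    bf x y = form (qn x) (qn y) := by
  have hc : ∀ n, n < 47 → ∀ n', n' < 47 → bf (bvec n) (bvec n') = form (qn (bvec n)) (qn (bvec n')) := by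
    have hb := bclass_cert
    have h := bilin_cert
    simp only [List.all_eq_true, List.mem_range, beq_iff_eq] at h hb
    intro n hn n' hn'
    rw [hb n hn, hb n' hn']
    exact h n hn n' hn'
  have h1 : ∀ n, n < 47 → ∀ y ∈ ruLattice, bf (bvec n) y = form (qn (bvec n)) (qn y) := by
    intro n hn
    have hb := bvec_mem hn
    let S : AddSubgroup RuVec :=
      { carrier := {y | y ∈ ruLattice ∧ bf (bvec n) y = form (qn (bvec n)) (qn y)}
        zero_mem' := ⟨zero_mem _, by rw [bf_zero_right, qn_zero, form_zero_right]⟩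
        add_mem' := fun {a b} ha hb' => ⟨add_mem ha.1 hb'.1, by
          rw [bf_add_right hb ha.1 hb'.1, qn_add ha.1 hb'.1, form_xor_right, ha.2, hb'.2]⟩
        neg_mem' := fun {a} ha => ⟨neg_mem ha.1, by
          have h := bf_add_right hb ha.1 (neg_mem ha.1)
          rw [add_neg_cancel, bf_zero_right] at h
          rw [qn_neg ha.1, ← ha.2]
          revert h
          cases bf (bvec n) a <;> cases bf (bvec n) (-a) <;> simp⟩ }
    intro y hy
    exact ((lat_le_of_basis (S := S)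
      (fun y hy => ⟨gI_smul_mem_ruLattice hy.1, by
        rw [bf_gI_right hb hy.1, qn_gI hy.1, hy.2]⟩)
      (fun m hm => ⟨bvec_mem hm, hc n hn m hm⟩)) hy).2
  let S : AddSubgroup RuVec :=
    { carrier := {x | x ∈ ruLattice ∧ bf x y = form (qn x) (qn y)}
      zero_mem' := ⟨zero_mem _, by rw [bf_zero_left, qn_zero, form_zero_left]⟩
      add_mem' := fun {a b} ha hb => ⟨add_mem ha.1 hb.1, by
        rw [bf_add_left ha.1 hb.1 hy, qn_add ha.1 hb.1, form_xor_left, ha.2, hb.2]⟩
      neg_mem' := fun {a} ha => ⟨neg_mem ha.1, by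
        have h := bf_add_left ha.1 (neg_mem ha.1) hy
        rw [add_neg_cancel, bf_zero_left] at h
        rw [qn_neg ha.1, ← ha.2]
        revert h
        cases bf a y <;> cases bf (-a) y <;> simp⟩ }
  exact ((lat_le_of_basis (S := S)
    (fun x hx => ⟨gI_smul_mem_ruLattice hx.1, by
      rw [bf_gI_left hx.1 hy, qn_gI hx.1, hx.2]⟩)
    (fun m hm => ⟨bvec_mem hm, h1 m hm y hy⟩)) hx).2

/-! ### Multiples of lines -/

/-- A unit multiple of one of the lines. -/
def Listed (x : RuVec) : Prop := ∃ a, a < 4060 ∧ ∃ e, e < 4 ∧ x = smulV (gI ^ e) (line a)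

theorem qn_inj {a b : ℕ} (ha : a < 4060) (hb : b < 4060) (h : pt a = pt b) : a = b := by
  have := key_inj (x := ⟨a, ha⟩) (y := ⟨b, hb⟩) (congrArg key h)
  exact congrArg Fin.val this

theorem line_unique {a b e e' : ℕ} (ha : a < 4060) (hb : b < 4060)
    (h : smulV (gI ^ e) (line a) = smulV (gI ^ e') (line b)) : a = b := by
  have := congrArg qn h
  rw [qn_pow (line_mem ha), qn_pow (line_mem hb), qn_line ha, qn_line hb] at this
  exact qn_inj ha hb this

theorem listed_of_monoMap {m : ℕ} (hm : m < 4) {x : RuVec} (h : Listed (monoMap m x)) :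
    Listed x := by
  have hinj : Function.Injective (monoMap m) := by
    intro u v huv
    funext p
    obtain ⟨i, hi, rfl⟩ : ∃ i, i < 28 ∧ Rud.iPt i = p :=
      ⟨Rud.cIdx p, Rud.cIdx_lt p, Rud.iPt_cIdx p⟩
    have key : ∀ m < 4, ∀ i < 28, ∃ j < 28, mSrc m j = i := by decide
    obtain ⟨j, hj, hji⟩ := key m hm i hi
    have := congrFun huv (Rud.iPt j)
    simp only [monoMap, Rud.cIdx_iPt hj, hji] at this
    exact mul_left_cancel₀ (pow_ne_zero _ (by decide)) this
  let f : Fin 4060 → Fin 4060 := fun a => ⟨imgLine m a.1, (close_spec hm a.2).1⟩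
  have hf : Function.Injective f := by
    intro a b hab
    have he : imgLine m a.1 = imgLine m b.1 := congrArg Fin.val hab
    obtain ⟨-, hua, ea⟩ := close_spec hm a.2
    obtain ⟨-, hub, eb⟩ := close_spec hm b.2
    refine Fin.ext (line_unique (e := 0) (e' := 4 - imgUnit m b.1 + imgUnit m a.1) a.2 b.2 ?_)
    apply hinj
    rw [monoMap_smulV, monoMap_smulV, ea, eb, he, smulV_smulV, smulV_smulV, pow_zero, one_mul]
    congr 1
    rw [← pow_add, show 4 - imgUnit m b.1 + imgUnit m a.1 + imgUnit m b.1 = 4 + imgUnit m a.1 by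
      omega, pow_add, gI_pow_four, one_mul]
  obtain ⟨b, hb, e, he, hx⟩ := h
  obtain ⟨a, ha⟩ := (Finite.injective_iff_surjective.1 hf) ⟨b, hb⟩
  obtain ⟨-, hua, ea⟩ := close_spec hm a.2
  rw [show imgLine m a.1 = b from congrArg Fin.val ha] at ea
  refine ⟨a.1, a.2, (e + (4 - imgUnit m a.1)) % 4, Nat.mod_lt _ (by norm_num), hinj ?_⟩
  rw [hx, monoMap_smulV, ea, smulV_smulV]
  congr 1
  rw [← pow_add]
  conv_rhs => rw [pow_eq_pow_mod _ gI_pow_four]
  conv_lhs => rw [pow_eq_pow_mod _ gI_pow_four]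
  congr 1
  omega

end Cfsg.Agent.PGroups.Ru
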