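import Cfsg.Agent.PGroups.RuLatCertsB
import Cfsg.Agent.PGroups.RuLatFacts

/-!
Every vector of norm 16 of the Rudvalis lattice is a unit multiple of one of the 4060 lines.
-/

set_option autoImplicit false
set_option maxRecDepth 20000

namespace Cfsg.Agent.PGroups.Ru

open Cfsg.Spor
open Cfsg.Agent.H44 (Rud.iPt Rud.cIdx Rud.oddG Rud.genVec Rud.modSpan Rud.ruLattice_le
  Rud.iPt_cIdx Rud.cIdx_iPt Rud.cIdx_lt Rud.sum_idx Rud.pPow Rud.recon Rud.freeList Rud.cands
  Rud.mem_cands Rud.pattern Rud.one_le_norm Rud.countP_map_sum Rud.parity_oddG Rud.parity_eq_zero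
  Rud.ruNorm_mul)

/-! ### Digits -/

/-- Pack digits. -/
def pk : ℕ → (ℕ → ℕ) → ℕ
  | 0, _ => 0
  | n + 1, f => f 0 + 4096 * pk n fun i => f (i + 1)

theorem pk_zero_fun : ∀ n, pk n (fun _ => 0) = 0
  | 0 => rfl
  | n + 1 => by simp [pk, pk_zero_fun n]

theorem pk_add : ∀ (n : ℕ) (f g : ℕ → ℕ), pk n (fun i => f i + g i) = pk n f + pk n g
  | 0, _, _ => rfl
  | n + 1, f, g => by simp only [pk]; rw [pk_add n]; ring

theorem pk_mul : ∀ (n c : ℕ) (f : ℕ → ℕ), pk n (fun i => c * f i) = c * pk n f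
  | 0, _, _ => by simp [pk]
  | n + 1, c, f => by simp only [pk]; rw [pk_mul n]; ring

theorem pk_sum {ι : Type*} (n : ℕ) (f : ι → ℕ → ℕ) :
    ∀ l : List ι, pk n (fun j => (l.map fun i => f i j).sum) = (l.map fun i => pk n (f i)).sum
  | [] => by simp [pk_zero_fun]
  | a :: l => by simp only [List.map_cons, List.sum_cons]; rw [pk_add, pk_sum n f l]

theorem dig_pk : ∀ (n : ℕ) (f : ℕ → ℕ), (∀ i, i < n → f i < 4096) →
    ∀ i, i < n → dig (pk n f) i = f i
  | 0, _, _, i, hi => absurd hi (Nat.not_lt_zero i)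
  | n + 1, f, hf, 0, _ => by
    simp only [dig, pk, pow_zero, Nat.div_one, Nat.add_mul_mod_self_left,
      Nat.mod_eq_of_lt (hf 0 (Nat.succ_pos n))]
  | n + 1, f, hf, i + 1, hi => by
    have h := dig_pk n (fun i => f (i + 1)) (fun j hj => hf (j + 1) (by omega)) i (by omega)
    simp only [dig] at h ⊢
    rw [pk, pow_succ', ← Nat.div_div_eq_div_mul, Nat.add_mul_div_left _ _ (by norm_num),
      Nat.div_eq_of_lt (hf 0 (Nat.succ_pos n)), Nat.zero_add, h]

theorem pk_dig : ∀ (n t : ℕ), t < 4096 ^ n → t = pk n (dig t)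
  | 0, t, h => by simp [pk] at h ⊢; omega
  | n + 1, t, h => by
    have h' : t / 4096 < 4096 ^ n :=
      Nat.div_lt_of_lt_mul (by rwa [← pow_succ'])
    have := pk_dig n (t / 4096) h'
    have e : (fun i => dig t (i + 1)) = dig (t / 4096) := by
      funext i
      simp only [dig]
      rw [pow_succ', ← Nat.div_div_eq_div_mul]
    rw [pk, e, ← this]
    simp only [dig, pow_zero, Nat.div_one]
    exact (Nat.mod_add_div t 4096).symm

theorem testBit_dig (t i : ℕ) {r : ℕ} (hr : r < 12) :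
    t.testBit (12 * i + r) = (dig t i).testBit r := by
  rw [dig, show (4096 : ℕ) = 2 ^ 12 by norm_num, ← pow_mul, Nat.testBit_mod_two_pow,
    Nat.testBit_div_two_pow, decide_eq_true hr, Bool.true_and, Nat.add_comm]

theorem and_eq_zero_of_digits {t m n : ℕ} (hm : m < 4096 ^ n)
    (hd : ∀ j, j < n → dig m j = 0 ∨ dig m j = 3) (h : ∀ j, j < n → dig m j = 3 → dig t j % 4 = 0) :
    t &&& m = 0 := by
  apply Nat.eq_of_testBit_eq
  intro b
  rw [Nat.testBit_and, Nat.zero_testBit]
  by_contra hb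
  rw [Bool.not_eq_false, Bool.and_eq_true] at hb
  obtain ⟨ht, hmb⟩ := hb
  have hb' : b < 12 * n := by
    by_contra hge
    rw [Nat.testBit_lt_two_pow (lt_of_lt_of_le hm (by
      rw [show (4096 : ℕ) = 2 ^ 12 by norm_num, ← pow_mul]
      exact Nat.pow_le_pow_right (by norm_num) (not_lt.1 hge)))] at hmb
    exact Bool.false_ne_true hmb
  have e : b = 12 * (b / 12) + b % 12 := (Nat.div_add_mod b 12).symm
  have hr : b % 12 < 12 := Nat.mod_lt _ (by norm_num)
  rw [e, testBit_dig _ _ hr] at ht hmb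
  rcases hd (b / 12) (by omega) with h0 | h3
  · rw [h0, Nat.zero_testBit] at hmb; exact Bool.false_ne_true hmb
  · rw [h3] at hmb
    have hr2 : b % 12 < 2 := by
      by_contra hge
      rw [Nat.testBit_lt_two_pow (show 3 < 2 ^ (b % 12) from lt_of_lt_of_le (by norm_num)
        (Nat.pow_le_pow_right (by norm_num) (not_lt.1 hge) : 2 ^ 2 ≤ 2 ^ (b % 12)))] at hmb
      exact Bool.false_ne_true hmb
    have h4 : (dig t (b / 12) % 2 ^ 2).testBit (b % 12) = true := by
      rw [Nat.testBit_mod_two_pow, decide_eq_true hr2, Bool.true_and, ht]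
    rw [show (2 : ℕ) ^ 2 = 4 by norm_num, h (b / 12) (by omega) h3, Nat.zero_testBit] at h4
    exact Bool.false_ne_true h4

theorem dig_eq_zero_of_and {c m j : ℕ} (hc : dig c j < 4) (hm : dig m j = 3)
    (h : c &&& m = 0) : dig c j = 0 := by
  apply Nat.eq_of_testBit_eq
  intro r
  rw [Nat.zero_testBit]
  by_cases hr : r < 2
  · have h1 : (c &&& m).testBit (12 * j + r) = false := by rw [h, Nat.zero_testBit]
    rw [Nat.testBit_and, testBit_dig _ _ (show r < 12 by omega),
      testBit_dig _ _ (show r < 12 by omega), hm] at h1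
    have h3 : (3 : ℕ).testBit r = true := by interval_cases r <;> decide
    rwa [h3, Bool.and_true] at h1
  · exact Nat.testBit_lt_two_pow (lt_of_lt_of_le hc
      (Nat.pow_le_pow_right (by norm_num) (not_lt.1 hr) : 2 ^ 2 ≤ 2 ^ r))

/-! ### Soundness of the search -/

/-- The contribution of a chosen residue at a level. -/
def contrib (o : ℕ → ℕ × ℕ × ℕ) (l : Lev) : ℕ :=
  (o l.pos).1 * l.cre + (o l.pos).2.1 * l.cim

/-- The chosen residues pass all the masks. -/
def Pruned (o : ℕ → ℕ × ℕ × ℕ) : List Lev → ℕ → Prop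
  | [], _ => True
  | l :: ls, acc => (acc + contrib o l) &&& l.mask = 0 ∧ Pruned o ls (acc + contrib o l)

theorem minCost_le (k : ℕ) : ∀ o ∈ resOpts k, minCost k ≤ o.2.2 := by
  intro o ho
  rcases k with _ | _ | _ | _ | _ | _ | k <;> simp [resOpts] at ho <;>
    rcases ho with rfl | rfl | rfl | rfl | rfl | rfl | rfl | rfl <;> simp [minCost]

theorem dfs_sound (good : List ℕ) (o : ℕ → ℕ × ℕ × ℕ) :
    ∀ (ls : List Lev) (b acc X : ℕ), dfs good ls b acc X = true → needOK ls = true →
      (∀ l ∈ ls, o l.pos ∈ resOpts l.kind) → (ls.map fun l => (o l.pos).2.2).sum ≤ b →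
      Pruned o ls acc →
      X + (ls.map fun l => ((o l.pos).1 + 4 * (o l.pos).2.1) * 2 ^ (4 * l.pos)).sum ∈ good
  | [], b, acc, X, h, _, _, _, _ => by
    simpa [dfs] using h
  | l :: ls, b, acc, X, h, hn, ho, hb, hp => by
    simp only [dfs, List.all_eq_true, Bool.or_eq_true, decide_eq_true_eq, bne_iff_ne] at h
    simp only [needOK, Bool.and_eq_true, decide_eq_true_eq] at hn
    simp only [List.map_cons, List.sum_cons] at hb ⊢
    obtain ⟨hp1, hp2⟩ := hp
    have hneed : l.need ≤ (ls.map fun m => (o m.pos).2.2).sum := by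
      refine le_trans hn.1 (List.sum_le_sum fun m hm => ?_)
      exact minCost_le _ _ (ho m (List.mem_cons_of_mem _ hm))
    have e : acc + (o l.pos).1 * l.cre + (o l.pos).2.1 * l.cim = acc + contrib o l := by
      rw [contrib, Nat.add_assoc]
    rcases h _ (ho l List.mem_cons_self) with h1 | h1 | h1
    · omega
    · rw [e] at h1; exact absurd hp1 h1
    · rw [e] at h1
      have h2 := dfs_sound good o ls _ _ _ h1 hn.2 (fun m hm => ho m (List.mem_cons_of_mem _ hm))
        (by omega) hp2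
      rwa [Nat.add_assoc] at h2

/-- The digit sum of the chosen residues. -/
def digSum (o : ℕ → ℕ × ℕ × ℕ) (j : ℕ) (ls : List Lev) : ℕ :=
  (ls.map fun l => (o l.pos).1 * dig l.cre j + (o l.pos).2.1 * dig l.cim j).sum

theorem contrib_sum (o : ℕ → ℕ × ℕ × ℕ) (n : ℕ) (ls : List Lev)
    (hc : ∀ l ∈ ls, l.cre < 4096 ^ n ∧ l.cim < 4096 ^ n) :
    (ls.map (contrib o)).sum = pk n (fun j => digSum o j ls) := by
  rw [show (fun j => digSum o j ls) = fun j => (ls.map fun l =>
    (fun (l : Lev) j => (o l.pos).1 * dig l.cre j + (o l.pos).2.1 * dig l.cim j) l j).sum from rfl,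
    pk_sum n (fun (l : Lev) j => (o l.pos).1 * dig l.cre j + (o l.pos).2.1 * dig l.cim j) ls]
  congr 1
  refine List.map_congr_left fun l hl => ?_
  rw [pk_add, pk_mul, pk_mul, ← pk_dig n _ (hc l hl).1, ← pk_dig n _ (hc l hl).2]
  rfl

theorem pruned_of_sums (o : ℕ → ℕ × ℕ × ℕ) (n : ℕ) :
    ∀ (pre ls : List Lev), maskOK ls = true → (pre ++ ls).length ≤ 28 →
      (∀ l ∈ pre ++ ls, (l.cre < 4096 ^ n ∧ l.cim < 4096 ^ n) ∧ l.mask < 4096 ^ n ∧
        ((o l.pos).1 < 4 ∧ (o l.pos).2.1 < 4) ∧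
        ∀ j, j < n → dig l.cre j < 4 ∧ dig l.cim j < 4 ∧ (dig l.mask j = 0 ∨ dig l.mask j = 3)) →
      (∀ j, j < n → digSum o j (pre ++ ls) % 4 = 0) →
      Pruned o ls (pre.map (contrib o)).sum
  | _, [], _, _, _, _ => trivial
  | pre, l :: ls, hm, hlen, hall, hsum => by
    simp only [maskOK, Bool.and_eq_true, List.all_eq_true, beq_iff_eq] at hm
    have e : (pre.map (contrib o)).sum + contrib o l = ((pre ++ [l]).map (contrib o)).sum := by
      simp
    have happ : (pre ++ [l]) ++ ls = pre ++ l :: ls := by simp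
    refine ⟨?_, e ▸ pruned_of_sums o n (pre ++ [l]) ls hm.2 (happ ▸ hlen) (happ ▸ hall)
      (happ ▸ hsum)⟩
    have hsub : ∀ x ∈ pre ++ [l], x ∈ pre ++ l :: ls := fun x hx => by
      simp only [List.mem_append, List.mem_cons, List.not_mem_nil, or_false] at hx ⊢
      rcases hx with h | h
      exacts [Or.inl h, Or.inr (Or.inl h)]
    have hl := hall l (by simp)
    rw [e, contrib_sum o n _ fun x hx => (hall x (hsub x hx)).1]
    refine and_eq_zero_of_digits hl.2.1 (fun j hj => (hl.2.2.2 j hj).2.2) fun j hj h3 => ?_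
    have hbound : ∀ i, i < n → digSum o i (pre ++ [l]) < 4096 := by
      intro i hi
      refine lt_of_le_of_lt (List.sum_le_card_nsmul _ 18 fun x hx => ?_) ?_
      · obtain ⟨y, hy, rfl⟩ := List.mem_map.1 hx
        obtain ⟨-, -, ⟨ha, hb⟩, hd⟩ := hall y (hsub y hy)
        obtain ⟨hc, hd', -⟩ := hd i hi
        have e1 : (o y.pos).1 * dig y.cre i ≤ 3 * 3 := Nat.mul_le_mul (by omega) (by omega)
        have e2 : (o y.pos).2.1 * dig y.cim i ≤ 3 * 3 := Nat.mul_le_mul (by omega) (by omega)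
        omega
      · rw [List.length_map, smul_eq_mul]
        have : (pre ++ [l]).length ≤ 28 := by
          simp only [List.length_append, List.length_cons, List.length_nil] at hlen ⊢
          omega
        omega
    rw [dig_pk n _ hbound j hj]
    have hzero : digSum o j ls = 0 := by
      refine List.sum_eq_zero fun x hx => ?_
      obtain ⟨y, hy, rfl⟩ := List.mem_map.1 hx
      obtain ⟨hc, hd, -⟩ := (hall y (by simp [hy])).2.2.2 j hj
      rw [dig_eq_zero_of_and hc h3 (hm.1 y hy).1, dig_eq_zero_of_and hd h3 (hm.1 y hy).2]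
      simp
    have htot := hsum j hj
    rwa [← happ, show digSum o j (pre ++ [l] ++ ls) = digSum o j (pre ++ [l]) + digSum o j ls by
      simp [digSum, List.sum_append, add_assoc], hzero, add_zero] at htot

/-! ### The conditions on a search -/

/-- The conditions on a search as propositions. -/
structure SearchFacts (s : Search) : Prop where
  lvl : s.lvl < 3
  word : s.word < 2 ^ 28
  perm : (s.levels.map fun l => l.pos).Perm (List.range 28)
  lev : ∀ l ∈ s.levels, l.mask < 4096 ^ s.ncons ∧ (l.cre < 4096 ^ s.ncons ∧ l.cim < 4096 ^ s.ncons) ∧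
    kindOK s l (fixPos s) = true ∧
    ∀ j, j < s.ncons → dig l.cre j < 4 ∧ dig l.cim j < 4 ∧ (dig l.mask j = 0 ∨ dig l.mask j = 3)
  need : needOK s.levels = true
  mask : maskOK s.levels = true
  dual : dualOK s = true
  leaves : s.leaves ≠ [] → (s.lvl = 0 ∧
    ((List.range 28).countP fun i => s.word.testBit i) = 16) ∧
      ∀ lf ∈ s.leaves, leafOK s.word lf = true
  run : dfs (s.leaves.map fun x => x.1) s.levels 16 0 0 = true

theorem searchFacts {s : Search} (hs : s ∈ searches) : SearchFacts s := by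
  have h := List.all_eq_true.1 searches_ok s hs
  simp only [searchOK, Bool.and_eq_true, List.all_eq_true, List.mem_range, decide_eq_true_eq,
    Bool.or_eq_true, beq_iff_eq] at h
  obtain ⟨⟨⟨⟨⟨⟨⟨⟨⟨h1, h2⟩, -⟩, h4⟩, h5⟩, h6⟩, h7⟩, h8⟩, h9⟩, h10⟩ := h
  refine ⟨h1, h2, h4, fun l hl => ?_, h6, h7, h8, fun hne => ?_, h10⟩
  · obtain ⟨⟨⟨⟨a, b⟩, c⟩, d⟩, e⟩ := h5 l hl
    exact ⟨a, ⟨b, c⟩, d, fun j hj => ⟨(e j hj).1.1, (e j hj).1.2, (e j hj).2⟩⟩
  · rcases h9 with h9 | ⟨⟨a, b⟩, c⟩
    · exact absurd (List.isEmpty_iff.1 h9) hne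
    · exact ⟨⟨a, b⟩, c⟩

/-- A residue modulo four. -/
def res4 (z : ℤ) : ℕ := (z % 4).toNat

theorem res4_lt (z : ℤ) : res4 z < 4 := by unfold res4; omega

theorem res4_cast (z : ℤ) : ((res4 z : ℕ) : ZMod 4) = (z : ZMod 4) := by
  rw [← Int.cast_natCast, res4, Int.toNat_of_nonneg (Int.emod_nonneg _ (by norm_num))]
  exact ZMod.intCast_mod z 4

theorem sum_range_idx {M : Type*} [AddCommMonoid M] (g : ℕ → M) :
    ((List.range 28).map g).sum = ∑ i ∈ Finset.range 28, g i := rfl

/-- The linear form of one constraint. -/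
def evalC (s : Search) (j : ℕ) (x : RuVec) : ZMod 4 :=
  ∑ i ∈ Finset.range 28, (((x (Rud.iPt i)).re : ZMod 4) * (dig (colRe s i) j : ZMod 4) +
    ((x (Rud.iPt i)).im : ZMod 4) * (dig (colIm s i) j : ZMod 4))

theorem col_spec {s : Search} (hf : SearchFacts s) {l : Lev} (hl : l ∈ s.levels) :
    colRe s l.pos = l.cre ∧ colIm s l.pos = l.cim := by
  have hnd : (s.levels.map fun m => m.pos).Nodup := hf.perm.nodup_iff.2 List.nodup_range
  have key : ∀ ls : List Lev, (ls.map fun m => m.pos).Nodup → l ∈ ls →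
      (ls.filter fun m => m.pos == l.pos) = [l] := by
    intro ls
    induction ls with
    | nil => intro _ h; simp at h
    | cons a ls ih =>
      intro hn hm
      rw [List.map_cons, List.nodup_cons] at hn
      rcases List.mem_cons.1 hm with rfl | hm
      · rw [List.filter_cons_of_pos (by simp), List.filter_eq_nil_iff.2 ?_]
        intro m hm h
        rw [beq_iff_eq] at h
        exact hn.1 (List.mem_map.2 ⟨m, hm, h⟩)
      · rw [List.filter_cons_of_neg (fun h => ?_), ih hn.2 hm]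
        rw [beq_iff_eq] at h
        exact hn.1 (List.mem_map.2 ⟨l, hm, h.symm⟩)
  simp [colRe, colIm, key _ hnd hl]

theorem exists_level {s : Search} (hf : SearchFacts s) {i : ℕ} (hi : i < 28) :
    ∃ l ∈ s.levels, l.pos = i := by
  have h : i ∈ s.levels.map fun l => l.pos := hf.perm.mem_iff.2 (List.mem_range.2 hi)
  simpa using h

theorem col_bounds {s : Search} (hf : SearchFacts s) {i : ℕ} (hi : i < 28) :
    (colRe s i < 4096 ^ s.ncons ∧ colIm s i < 4096 ^ s.ncons) ∧
      ∀ j, j < s.ncons → dig (colRe s i) j < 4 ∧ dig (colIm s i) j < 4 := by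
  obtain ⟨l, hl, rfl⟩ := exists_level hf hi
  obtain ⟨e1, e2⟩ := col_spec hf hl
  obtain ⟨-, h2, -, h4⟩ := hf.lev l hl
  rw [e1, e2]
  exact ⟨h2, fun j hj => ⟨(h4 j hj).1, (h4 j hj).2.1⟩⟩

theorem packed_dual {s : Search} (hf : SearchFacts s) (u v : ℕ → ℕ)
    (hu : ∀ i, i < 28 → u i ≤ 4 ∧ v i ≤ 4) {j : ℕ} (hj : j < s.ncons)
    (h : dig ((List.range 28).map fun i => u i * colRe s i + v i * colIm s i).sum j % 4 = 0) :
    (∑ i ∈ Finset.range 28, ((u i : ZMod 4) * (dig (colRe s i) j : ZMod 4) +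
      (v i : ZMod 4) * (dig (colIm s i) j : ZMod 4))) = 0 := by
  have e : ((List.range 28).map fun i => u i * colRe s i + v i * colIm s i).sum =
      pk s.ncons fun j => ((List.range 28).map fun i =>
        (fun i j => u i * dig (colRe s i) j + v i * dig (colIm s i) j) i j).sum := by
    rw [pk_sum s.ncons (fun i j => u i * dig (colRe s i) j + v i * dig (colIm s i) j)]
    congr 1
    refine List.map_congr_left fun i hi => ?_
    have hi' := List.mem_range.1 hi
    rw [pk_add, pk_mul, pk_mul, ← pk_dig _ _ (col_bounds hf hi').1.1,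
      ← pk_dig _ _ (col_bounds hf hi').1.2]
  rw [e, dig_pk _ _ (fun k hk => ?_) j hj] at h
  · rw [sum_range_idx] at h
    have h2 := (ZMod.natCast_eq_zero_iff _ 4).2 (Nat.dvd_of_mod_eq_zero h)
    rw [Nat.cast_sum] at h2
    refine Eq.trans (Finset.sum_congr rfl fun i _ => ?_) h2
    rw [Nat.cast_add, Nat.cast_mul, Nat.cast_mul]
  · refine lt_of_le_of_lt (List.sum_le_card_nsmul _ 24 fun x hx => ?_) (by simp)
    obtain ⟨i, hi, rfl⟩ := List.mem_map.1 hx
    have hi' := List.mem_range.1 hi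
    obtain ⟨hc, hd⟩ := (col_bounds hf hi').2 k hk
    obtain ⟨ha, hb⟩ := hu i hi'
    have e1 : u i * dig (colRe s i) k ≤ 4 * 3 := Nat.mul_le_mul ha (by omega)
    have e2 : v i * dig (colIm s i) k ≤ 4 * 3 := Nat.mul_le_mul hb (by omega)
    beta_reduce
    omega

theorem genVec_bound : ∀ l, l < 19 → ∀ i, i < 28 →
    (0 ≤ (Rud.genVec l (Rud.iPt i)).re ∧ (Rud.genVec l (Rud.iPt i)).re < 4) ∧
      0 ≤ (Rud.genVec l (Rud.iPt i)).im ∧ (Rud.genVec l (Rud.iPt i)).im < 4 := by
  intro l hl i hi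
  simp only [Cfsg.Agent.H44.Rud.genVec, Cfsg.Agent.H44.Rud.gAt]
  omega

theorem eval_lat {s : Search} (hf : SearchFacts s) {j : ℕ} (hj : j < s.ncons) {x : RuVec}
    (hx : x ∈ ruLattice) : evalC s j x = 0 := by
  have hadd : ∀ a b, evalC s j (a + b) = evalC s j a + evalC s j b := fun a b => by
    simp only [evalC, Pi.add_apply, Zsqrtd.re_add, Zsqrtd.im_add, Int.cast_add]
    rw [← Finset.sum_add_distrib]
    exact Finset.sum_congr rfl fun i _ => by ring
  have hzero : evalC s j 0 = 0 := by simp [evalC]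
  have hneg : ∀ a, evalC s j (-a) = -evalC s j a := fun a => by
    have := hadd a (-a)
    rw [add_neg_cancel, hzero] at this
    exact (neg_eq_of_add_eq_zero_right this.symm).symm
  let S : AddSubgroup RuVec :=
    { carrier := {x | evalC s j x = 0 ∧ evalC s j (gI • x) = 0}
      zero_mem' := ⟨hzero, by rw [smul_zero]; exact hzero⟩
      add_mem' := fun {a b} ha hb => ⟨by rw [hadd, ha.1, hb.1, add_zero],
        by rw [smul_add, hadd, ha.2, hb.2, add_zero]⟩
      neg_mem' := fun {a} ha => ⟨by rw [hneg, ha.1, neg_zero],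
        by rw [smul_neg, hneg, ha.2, neg_zero]⟩ }
  refine (lat_le_of_basis (S := S) ?_ ?_ hx).1
  · rintro a ⟨h1, h2⟩
    refine ⟨h2, ?_⟩
    have e : gI • gI • a = -a := by
      rw [smul_smul, show gI * gI = -1 by decide, neg_one_smul]
    rw [e, hneg, h1, neg_zero]
  · intro n hn
    by_cases h19 : n < 19
    · rw [bvec, if_pos h19]
      have hd := hf.dual
      simp only [dualOK, List.all_eq_true, List.mem_range, Bool.and_eq_true, beq_iff_eq] at hd
      obtain ⟨hda, hdb⟩ := hd n h19 j hj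
      have hb := genVec_bound n h19
      refine ⟨?_, ?_⟩
      · have h := packed_dual hf (fun i => (Rud.genVec n (Rud.iPt i)).re.toNat)
          (fun i => (Rud.genVec n (Rud.iPt i)).im.toNat)
          (fun i hi => by have := hb i hi; constructor <;> omega) hj hda
        beta_reduce at h
        refine Eq.trans ?_ h
        rw [evalC]
        refine Finset.sum_congr rfl fun i hi => ?_
        obtain ⟨⟨a, -⟩, b, -⟩ := hb i (Finset.mem_range.1 hi)
        congr 2 <;> rw [← Int.cast_natCast, Int.toNat_of_nonneg (by assumption)]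
      · have h := packed_dual hf (fun i => 4 - (Rud.genVec n (Rud.iPt i)).im.toNat)
          (fun i => (Rud.genVec n (Rud.iPt i)).re.toNat)
          (fun i hi => by have := hb i hi; constructor <;> omega) hj hdb
        beta_reduce at h
        refine Eq.trans ?_ h
        rw [evalC]
        refine Finset.sum_congr rfl fun i hi => ?_
        obtain ⟨⟨a, -⟩, b, b'⟩ := hb i (Finset.mem_range.1 hi)
        rw [Pi.smul_apply, smul_eq_mul]
        generalize Rud.genVec n (Rud.iPt i) = z at a b b' ⊢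
        have e1 : (gI * z).re = -z.im := by simp [gI, Zsqrtd.re_mul]
        have e2 : (gI * z).im = z.re := by simp [gI, Zsqrtd.im_mul]
        have hle : z.im.toNat ≤ 4 := by omega
        have u1 : ((4 - z.im.toNat : ℕ) : ZMod 4) = ((-z.im : ℤ) : ZMod 4) := by
          rw [Nat.cast_sub hle, ← Int.cast_natCast z.im.toNat, Int.toNat_of_nonneg b]
          push_cast
          rw [show (4 : ZMod 4) = 0 from rfl, zero_sub]
        have u2 : ((z.re.toNat : ℕ) : ZMod 4) = (z.re : ZMod 4) := by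
          rw [← Int.cast_natCast z.re.toNat, Int.toNat_of_nonneg a]
        rw [e1, e2, u1, u2]
    · rw [bvec, if_neg h19]
      have h4 : (4 : ZMod 4) = 0 := rfl
      constructor <;>
        · refine Finset.sum_eq_zero fun i hi => ?_
          simp only [Pi.smul_apply, smul_eq_mul, Zsqrtd.re_mul, Zsqrtd.im_mul, gI,
            Rud.cIdx_iPt (Finset.mem_range.1 hi)]
          split <;> simp [h4]

/-! ### Residues of a vector -/

theorem exists_opt {k : ℕ} (hk : k < 3) (z : GaussianInt) (h : (Rud.pPow k * z).norm ≤ 16) :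
    ∃ o ∈ resOpts (2 * k + if Rud.oddG z then 1 else 0),
      o.1 = res4 (Rud.pPow k * z).re ∧ o.2.1 = res4 (Rud.pPow k * z).im ∧
        (o.2.2 : ℤ) ≤ (Rud.pPow k * z).norm := by
  have hz : z.norm ≤ 16 := by
    rw [Zsqrtd.norm_mul] at h
    have h1 : 1 ≤ (Rud.pPow k).norm := by interval_cases k <;> decide
    nlinarith [GaussianInt.norm_nonneg z]
  rw [Zsqrtd.norm_def] at hz
  have hre : -4 ≤ z.re ∧ z.re ≤ 4 := by constructor <;> nlinarith [mul_self_nonneg z.im]
  have him : -4 ≤ z.im ∧ z.im ≤ 4 := by constructor <;> nlinarith [mul_self_nonneg z.re]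
  have hc := res_opts_cert
  simp only [List.all_eq_true, List.mem_range, Bool.or_eq_true, List.any_eq_true,
    Bool.and_eq_true, beq_iff_eq, decide_eq_true_eq] at hc
  have hc' := hc k (by omega) ((z.re + 4).toNat * 9 + (z.im + 4).toNat) (by omega)
  have e : (⟨((((z.re + 4).toNat * 9 + (z.im + 4).toNat) / 9 : ℕ) : ℤ) - 4,
      ((((z.re + 4).toNat * 9 + (z.im + 4).toNat) % 9 : ℕ) : ℤ) - 4⟩ : GaussianInt) = z := by
    ext <;> simp <;> omega
  rw [e] at hc'
  rcases hc' with (h1 | h1) | ⟨o, ho, ⟨e1, e2⟩, e3⟩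
  · omega
  · omega
  · exact ⟨o, ho, e1, e2, e3⟩

theorem norm_le_total (v : RuVec) (p : RuIdx) : (v p).norm ≤ ruNorm v :=
  Finset.single_le_sum (f := fun q => (v q).norm) (fun q _ => GaussianInt.norm_nonneg _)
    (Finset.mem_univ p)

theorem pk16_digit (g : ℕ → ℕ) : ∀ (n : ℕ), (∀ i, i < n → g i < 16) →
    ∑ i ∈ Finset.range n, g i * 16 ^ i < 16 ^ n ∧
      ∀ i, i < n → (∑ i ∈ Finset.range n, g i * 16 ^ i) / 16 ^ i % 16 = g i := by
  intro n
  induction n with
  | zero => intro _; exact ⟨by simp, fun i hi => absurd hi (Nat.not_lt_zero i)⟩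
  | succ n ih =>
    intro hg
    obtain ⟨hlt, hd⟩ := ih fun i hi => hg i (by omega)
    have hgn := hg n (by omega)
    rw [Finset.sum_range_succ]
    refine ⟨?_, fun i hi => ?_⟩
    · have : (g n + 1) * 16 ^ n ≤ 16 * 16 ^ n := Nat.mul_le_mul_right _ (by omega)
      rw [pow_succ']
      nlinarith
    · rcases Nat.lt_or_ge i n with hin | hin
      · obtain ⟨d, rfl⟩ := Nat.exists_eq_add_of_lt hin
        have e : g (i + d + 1) * 16 ^ (i + d + 1) = g (i + d + 1) * 16 ^ d * 16 * 16 ^ i := by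
          rw [pow_succ, pow_add]; ring
        rw [e, Nat.add_mul_div_right _ _ (by positivity), Nat.add_mul_mod_self_right]
        exact hd i hin
      · obtain rfl : i = n := by omega
        rw [Nat.add_mul_div_right _ _ (by positivity), Nat.div_eq_of_lt hlt, Nat.zero_add,
          Nat.mod_eq_of_lt hgn]

/-- A unit whose residue class contains a given unit multiple. -/
theorem norm_one_eq {z w : GaussianInt} (hz : z.norm = 1) (hw : w.norm = 1)
    (hr : res4 z.re = res4 w.re) (hi : res4 z.im = res4 w.im) : z = w := by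
  have hb : ∀ u : GaussianInt, u.norm = 1 → (-1 ≤ u.re ∧ u.re ≤ 1) ∧ -1 ≤ u.im ∧ u.im ≤ 1 := by
    intro u hu
    rw [Zsqrtd.norm_def] at hu
    refine ⟨⟨?_, ?_⟩, ?_, ?_⟩ <;> nlinarith [mul_self_nonneg u.re, mul_self_nonneg u.im]
  obtain ⟨⟨a1, a2⟩, a3, a4⟩ := hb z hz
  obtain ⟨⟨b1, b2⟩, b3, b4⟩ := hb w hw
  unfold res4 at hr hi
  ext <;> omega

theorem gi_small : ∀ n < 5, (gi n).norm = (if n = 0 then 0 else 1) ∧
    leafNib n = res4 (gi n).re + 4 * res4 (gi n).im := by decide

theorem rotN_small : ∀ e < 4, ∀ n < 5, rotN e n < 5 ∧ (rotN e n = 0 ↔ n = 0) := by decide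

theorem oddG_gI_mul (z : GaussianInt) : Rud.oddG (gI * z) = Rud.oddG z := by
  simp only [Cfsg.Agent.H44.Rud.oddG, Zsqrtd.re_mul, Zsqrtd.im_mul, gI]
  rw [Bool.eq_iff_iff, beq_iff_eq, beq_iff_eq]
  omega

theorem oddG_pow_mul (z : GaussianInt) : ∀ e : ℕ, Rud.oddG (gI ^ e * z) = Rud.oddG z
  | 0 => by rw [pow_zero, one_mul]
  | e + 1 => by rw [pow_succ', mul_assoc, oddG_gI_mul, oddG_pow_mul z e]

theorem opt1_lt : ∀ k < 7, ∀ o ∈ resOpts k, o.1 < 4 ∧ o.2.1 < 4 := by decide

/-- One coordinate can be turned into one of two residues by a unit. -/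
theorem unit_fix : ∀ o ∈ resOpts 1, ∃ e < 4, ∃ o' ∈ resOpts 6, o'.2.2 = o.2.2 ∧
    ((o'.1 : ℕ) : ZMod 4) = ((gI ^ e * ⟨o.1, o.2.1⟩ : GaussianInt).re : ZMod 4) ∧
    ((o'.2.1 : ℕ) : ZMod 4) = ((gI ^ e * ⟨o.1, o.2.1⟩ : GaussianInt).im : ZMod 4) := by decide

theorem cast_congr {a b : ℤ} (h : (a : ZMod 4) = b) : res4 a = res4 b := by
  have := (ZMod.intCast_eq_intCast_iff' a b 4).1 h
  unfold res4
  omega

theorem search_sound {s : Search} (hf : SearchFacts s) {y : RuVec}
    (hy : (fun p => Rud.pPow s.lvl * y p) ∈ ruLattice)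
    (hn : ruNorm (fun p => Rud.pPow s.lvl * y p) = 16)
    (hw : ∀ i, i < 28 → s.word.testBit i = Rud.oddG (y (Rud.iPt i))) :
    Listed (fun p => Rud.pPow s.lvl * y p) := by
  classical
  -- choose a unit for the fixed coordinate
  obtain ⟨e0, he0, hfix⟩ : ∃ e0, e0 < 4 ∧ ∀ l ∈ s.levels, l.kind = 6 →
      ∃ o ∈ resOpts 6, o.1 = res4 (gI ^ e0 * (Rud.pPow s.lvl * y (Rud.iPt l.pos))).re ∧
        o.2.1 = res4 (gI ^ e0 * (Rud.pPow s.lvl * y (Rud.iPt l.pos))).im ∧
        (o.2.2 : ℤ) ≤ (gI ^ e0 * (Rud.pPow s.lvl * y (Rud.iPt l.pos))).norm := by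
    by_cases hex : ∃ l ∈ s.levels, l.kind = 6
    · obtain ⟨l, hl, hl6⟩ := hex
      obtain ⟨-, -, hk, -⟩ := hf.lev l hl
      have hpos : l.pos < 28 := List.mem_range.1 (hf.perm.mem_iff.1 (List.mem_map.2 ⟨l, hl, rfl⟩))
      rw [kindOK] at hk
      by_cases hp : l.pos == fixPos s
      · rw [if_pos hp] at hk
        simp only [Bool.and_eq_true, beq_iff_eq] at hk
        obtain ⟨⟨-, hl0⟩, hbit⟩ := hk
        rw [hl0] at hn hy ⊢
        obtain ⟨o, ho, e1, e2, e3⟩ := exists_opt (k := 0) (by norm_num) (y (Rud.iPt l.pos))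
          (le_trans (norm_le_total (fun p => Rud.pPow 0 * y p) _) hn.le)
        rw [← hw _ hpos, hbit] at ho
        obtain ⟨e, he, o', ho', hcost, hre, him⟩ := unit_fix o (by simpa using ho)
        refine ⟨e, he, fun m hm hm6 => ?_⟩
        have hmp : m.pos = l.pos := by
          obtain ⟨-, -, hk2, -⟩ := hf.lev m hm
          rw [kindOK] at hk2
          by_cases hp2 : m.pos == fixPos s
          · exact (eq_of_beq hp2).trans (eq_of_beq hp).symm
          · rw [if_neg hp2, beq_iff_eq] at hk2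
            split at hk2 <;> omega
        rw [hmp]
        obtain ⟨hb1, hb2⟩ := opt1_lt 6 (by norm_num) o' ho'
        set z := Rud.pPow 0 * y (Rud.iPt l.pos)
        have c1 : ((gI ^ e * z).re : ZMod 4) = ((gI ^ e * ⟨o.1, o.2.1⟩ : GaussianInt).re : ZMod 4) := by
          simp only [Zsqrtd.re_mul, Int.cast_add, Int.cast_mul]
          rw [e1, e2]
          push_cast
          rw [res4_cast, res4_cast]
        have c2 : ((gI ^ e * z).im : ZMod 4) = ((gI ^ e * ⟨o.1, o.2.1⟩ : GaussianInt).im : ZMod 4) := by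
          simp only [Zsqrtd.im_mul, Int.cast_add, Int.cast_mul]
          rw [e1, e2]
          push_cast
          rw [res4_cast, res4_cast]
        refine ⟨o', ho', ?_, ?_, ?_⟩
        · have := cast_congr (a := (o'.1 : ℤ)) (b := (gI ^ e * z).re)
            (by rw [c1, ← hre]; push_cast; rfl)
          rw [← this, res4]; omega
        · have := cast_congr (a := (o'.2.1 : ℤ)) (b := (gI ^ e * z).im)
            (by rw [c2, ← him]; push_cast; rfl)
          rw [← this, res4]; omega
        · rw [hcost, Zsqrtd.norm_mul, norm_gI_pow, one_mul]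
          exact e3
      · rw [if_neg hp, beq_iff_eq] at hk
        have := hf.lvl
        split at hk <;> omega
    · exact ⟨0, by norm_num, fun l hl h6 => absurd ⟨l, hl, h6⟩ hex⟩
  -- the rotated vector
  set x : RuVec := smulV (gI ^ e0) fun p => Rud.pPow s.lvl * y p with hxdef
  have hx : x ∈ ruLattice := lat_smul _ hy
  have hxn : ruNorm x = 16 := by rw [hxdef, ruNorm_smulV, norm_gI_pow, one_mul, hn]
  have hopt : ∀ l ∈ s.levels, ∃ o ∈ resOpts l.kind, o.1 = res4 (x (Rud.iPt l.pos)).re ∧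
      o.2.1 = res4 (x (Rud.iPt l.pos)).im ∧ (o.2.2 : ℤ) ≤ (x (Rud.iPt l.pos)).norm := by
    intro l hl
    by_cases h6 : l.kind = 6
    · rw [h6]; exact hfix l hl h6
    · obtain ⟨-, -, hk, -⟩ := hf.lev l hl
      have hpos : l.pos < 28 := List.mem_range.1 (hf.perm.mem_iff.1 (List.mem_map.2 ⟨l, hl, rfl⟩))
      have hk' : l.kind = 2 * s.lvl + if s.word.testBit l.pos then 1 else 0 := by
        rw [kindOK] at hk
        by_cases hp : l.pos == fixPos s
        · rw [if_pos hp] at hk
          simp only [Bool.and_eq_true, beq_iff_eq] at hk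
          exact absurd hk.1.1 h6
        · rw [if_neg hp, beq_iff_eq] at hk
          exact hk
      have hz : x (Rud.iPt l.pos) = Rud.pPow s.lvl * (gI ^ e0 * y (Rud.iPt l.pos)) := by
        simp only [hxdef, smulV]; ring
      have h16 : (Rud.pPow s.lvl * (gI ^ e0 * y (Rud.iPt l.pos))).norm ≤ 16 := by
        rw [← hz]; exact le_trans (norm_le_total x _) hxn.le
      obtain ⟨o, ho, h1, h2, h3⟩ := exists_opt hf.lvl _ h16
      rw [hz]
      refine ⟨o, ?_, h1, h2, h3⟩
      rwa [hk', hw _ hpos, ← oddG_pow_mul _ e0]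
  choose! o ho using hopt
  obtain ⟨O, hO⟩ : ∃ O : ℕ → ℕ × ℕ × ℕ, ∀ l ∈ s.levels, O l.pos ∈ resOpts l.kind ∧
      (O l.pos).1 = res4 (x (Rud.iPt l.pos)).re ∧ (O l.pos).2.1 = res4 (x (Rud.iPt l.pos)).im ∧
      ((O l.pos).2.2 : ℤ) ≤ (x (Rud.iPt l.pos)).norm := by
    refine ⟨fun q => o ((s.levels.filter fun l => l.pos == q).getD 0 ⟨0, 0, 0, 0, 0, 0⟩),
      fun l hl => ?_⟩
    have hnd : (s.levels.map fun m => m.pos).Nodup := hf.perm.nodup_iff.2 List.nodup_range
    have : ((s.levels.filter fun m => m.pos == l.pos).getD 0 ⟨0, 0, 0, 0, 0, 0⟩) = l := by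
      have hmem : ((s.levels.filter fun m => m.pos == l.pos).getD 0 ⟨0, 0, 0, 0, 0, 0⟩) ∈
          s.levels.filter fun m => m.pos == l.pos := by
        have hne : 0 < (s.levels.filter fun m => m.pos == l.pos).length :=
          List.length_pos_of_mem (List.mem_filter.2 ⟨hl, by simp⟩)
        rw [List.getD_eq_getElem _ _ hne]
        exact List.getElem_mem hne
      obtain ⟨h1, h2⟩ := List.mem_filter.1 hmem
      exact List.inj_on_of_nodup_map hnd h1 hl (eq_of_beq h2)
    simp only [this]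
    exact ho l hl
  -- sums over levels are sums over coordinates
  have hperm : ∀ {M : Type} [AddCommMonoid M] (g : ℕ → M),
      (s.levels.map fun l => g l.pos).sum = ∑ i ∈ Finset.range 28, g i := by
    intro M _ g
    rw [← sum_range_idx, ← (hf.perm.map g).sum_eq, List.map_map]
    rfl
  have hbud : (s.levels.map fun l => (O l.pos).2.2).sum ≤ 16 := by
    rw [hperm fun i => (O i).2.2, ← Int.ofNat_le, Nat.cast_sum]
    refine le_trans (Finset.sum_le_sum (g := fun i => (x (Rud.iPt i)).norm) fun i hi => ?_)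
      (le_of_eq ?_)
    · obtain ⟨l, hl, rfl⟩ := exists_level hf (Finset.mem_range.1 hi)
      exact (hO l hl).2.2.2
    · rw [← sum_range_idx (fun i => (x (Rud.iPt i)).norm),
        ← Rud.sum_idx fun p => (x p).norm]
      exact_mod_cast hxn
  have hlen : s.levels.length ≤ 28 := by
    have := hf.perm.length_eq
    simp only [List.length_map, List.length_range] at this
    omega
  have hpr : Pruned O s.levels 0 := by
    refine pruned_of_sums O s.ncons [] s.levels hf.mask (by simpa using hlen) (fun l hl => ?_)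
      (fun j hj => ?_)
    · rw [List.nil_append] at hl
      obtain ⟨h1, h2, -, h4⟩ := hf.lev l hl
      obtain ⟨-, a, b, -⟩ := hO l hl
      exact ⟨h2, h1, ⟨a ▸ res4_lt _, b ▸ res4_lt _⟩, h4⟩
    · rw [List.nil_append]
      refine Nat.mod_eq_zero_of_dvd ((ZMod.natCast_eq_zero_iff _ 4).1 ?_)
      have e : digSum O j s.levels = ∑ i ∈ Finset.range 28,
          ((O i).1 * dig (colRe s i) j + (O i).2.1 * dig (colIm s i) j) := by
        rw [← hperm fun i => (O i).1 * dig (colRe s i) j + (O i).2.1 * dig (colIm s i) j, digSum]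
        congr 1
        refine List.map_congr_left fun l hl => ?_
        rw [(col_spec hf hl).1, (col_spec hf hl).2]
      rw [e, ← eval_lat hf hj hx, evalC, Nat.cast_sum]
      refine Finset.sum_congr rfl fun i hi => ?_
      obtain ⟨l, hl, rfl⟩ := exists_level hf (Finset.mem_range.1 hi)
      rw [Nat.cast_add, Nat.cast_mul, Nat.cast_mul, (hO l hl).2.1, (hO l hl).2.2.1, res4_cast,
        res4_cast]
  have hX := dfs_sound _ O s.levels 16 0 0 hf.run hf.need (fun l hl => (hO l hl).1) hbud hpr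
  have heX : (s.levels.map fun l => ((O l.pos).1 + 4 * (O l.pos).2.1) * 2 ^ (4 * l.pos)).sum =
      ∑ i ∈ Finset.range 28, ((O i).1 + 4 * (O i).2.1) * 16 ^ i := by
    rw [hperm fun i => ((O i).1 + 4 * (O i).2.1) * 2 ^ (4 * i)]
    exact Finset.sum_congr rfl fun i _ => by rw [pow_mul]; norm_num
  rw [Nat.zero_add, heX] at hX
  obtain ⟨lf, hlf, hlfe⟩ := List.mem_map.1 hX
  obtain ⟨⟨hl0, hc16⟩, hleaf⟩ := hf.leaves (List.ne_nil_of_mem hlf)
  have hcl := hleaf lf hlf
  simp only [leafOK, Bool.and_eq_true, List.all_eq_true, List.mem_range, decide_eq_true_eq,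
    beq_iff_eq] at hcl
  obtain ⟨⟨⟨ha, he⟩, -⟩, hall⟩ := hcl
  -- the vector has unit entries on the pattern and zeros elsewhere
  have hodd : ∀ i, i < 28 → Rud.oddG (x (Rud.iPt i)) = s.word.testBit i := by
    intro i hi
    rw [hw i hi]
    simp only [hxdef, smulV, hl0]
    rw [oddG_pow_mul, show Rud.pPow 0 = 1 from rfl, one_mul]
  have hexact : ∀ i, i < 28 → (x (Rud.iPt i)).norm = if s.word.testBit i then 1 else 0 := by
    intro i hi
    have hge : ∀ q ∈ Finset.range 28,
        (if s.word.testBit q then (1 : ℤ) else 0) ≤ (x (Rud.iPt q)).norm := by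
      intro q hq
      split
      · rename_i hb
        refine Rud.one_le_norm fun e => ?_
        have := hodd q (Finset.mem_range.1 hq)
        rw [e, hb] at this
        exact absurd this (by decide)
      · exact GaussianInt.norm_nonneg _
    have htot : ∑ q ∈ Finset.range 28, (if s.word.testBit q then (1 : ℤ) else 0) =
        ∑ q ∈ Finset.range 28, (x (Rud.iPt q)).norm := by
      rw [← sum_range_idx, ← Rud.countP_map_sum, hc16,
        ← sum_range_idx (fun q => (x (Rud.iPt q)).norm), ← Rud.sum_idx fun p => (x p).norm]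
      exact hxn.symm
    exact ((Finset.sum_eq_sum_iff_of_le hge).1 htot i (Finset.mem_range.2 hi)).symm
  have hg16 : ∀ i, i < 28 → (O i).1 + 4 * (O i).2.1 < 16 := by
    intro i hi
    obtain ⟨l, hl, rfl⟩ := exists_level hf hi
    have a := (hO l hl).2.1 ▸ res4_lt (x (Rud.iPt l.pos)).re
    have b := (hO l hl).2.2.1 ▸ res4_lt (x (Rud.iPt l.pos)).im
    omega
  have hxline : x = smulV (gI ^ lf.2.2) (line lf.2.1) := by
    refine eq_of_idx _ _ fun i hi => ?_
    obtain ⟨⟨hn5, hbit⟩, hdig⟩ := hall i hi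
    rw [hlfe, (pk16_digit _ 28 hg16).2 i hi] at hdig
    obtain ⟨hr5, hr0⟩ := rotN_small _ he _ hn5
    obtain ⟨hnorm, hlnib⟩ := gi_small _ hr5
    have hv : smulV (gI ^ lf.2.2) (line lf.2.1) (Rud.iPt i) =
        gi (rotN lf.2.2 (nibAt (lcode lf.2.1) i)) := by
      rw [gi_rotN _ he _ (by omega)]
      simp only [smulV, line, cvec, Rud.cIdx_iPt hi]
    rw [hv]
    by_cases hb : nibAt (lcode lf.2.1) i = 0
    · rw [hr0.2 hb]
      have h0 := hexact i hi
      rw [hbit, decide_eq_false (not_not_intro hb), if_neg Bool.false_ne_true] at h0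
      rw [(GaussianInt.norm_eq_zero).1 h0]
      rfl
    · have h1 := hexact i hi
      rw [hbit, decide_eq_true hb, if_pos rfl] at h1
      rw [if_neg (fun h => hb (hr0.1 h))] at hnorm
      obtain ⟨l, hl, rfl⟩ := exists_level hf hi
      rw [(hO l hl).2.1, (hO l hl).2.2.1, hlnib] at hdig
      have := res4_lt (x (Rud.iPt l.pos)).re
      have := res4_lt (gi (rotN lf.2.2 (nibAt (lcode lf.2.1) l.pos))).re
      exact norm_one_eq h1 hnorm (by omega) (by omega)
  refine ⟨lf.2.1, ha, (lf.2.2 + (4 - e0)) % 4, Nat.mod_lt _ (by norm_num), ?_⟩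
  rw [← pow_eq_pow_mod _ gI_pow_four, Nat.add_comm, pow_add, ← smulV_smulV, ← hxline, hxdef,
    smulV_smulV, ← pow_add, Nat.sub_add_cancel he0.le, gI_pow_four, smulV_one]

/-! ### The reduction to the searches -/

theorem testBit_wordOf (f : ℕ → Bool) {i : ℕ} (hi : i < 28) : (wordOf f).testBit i = f i :=
  Nat.testBit_ofBits_lt _ _ hi

theorem wordMap_oddG {m : ℕ} (hm : m < 4) (y : RuVec) :
    wordMap m (wordOf fun i => Rud.oddG (y (Rud.iPt i))) =
      wordOf fun i => Rud.oddG (monoMap m y (Rud.iPt i)) := by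
  unfold wordMap
  apply Nat.eq_of_testBit_eq
  intro i
  by_cases hi : i < 28
  · rw [testBit_wordOf _ hi, testBit_wordOf _ (mSrc_lt hm hi), testBit_wordOf _ hi]
    simp only [monoMap, Rud.cIdx_iPt hi, oddG_pow_mul]
  · rw [wordOf, Nat.testBit_ofBits_ge _ _ (not_lt.1 hi)]
    rw [wordOf, Nat.testBit_ofBits_ge _ _ (not_lt.1 hi)]

theorem monoMap_scale (m : ℕ) (c : GaussianInt) (y : RuVec) :
    monoMap m (fun p => c * y p) = fun p => c * monoMap m y p :=
  monoMap_smulV m c y

theorem listed_of_moves {s : Search} (hf : SearchFacts s) :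
    ∀ (ms : List ℕ) (y : RuVec), (∀ m ∈ ms, m < 3) →
      (fun p => Rud.pPow s.lvl * y p) ∈ ruLattice →
      ruNorm (fun p => Rud.pPow s.lvl * y p) = 16 →
      ms.foldl (fun w m => wordMap m w) (wordOf fun i => Rud.oddG (y (Rud.iPt i))) = s.word →
      Listed (fun p => Rud.pPow s.lvl * y p)
  | [], y, _, hy, hn, hw => search_sound hf hy hn fun i hi => by
      rw [← show wordOf (fun i => Rud.oddG (y (Rud.iPt i))) = s.word from hw, testBit_wordOf _ hi]
  | m :: ms, y, hm, hy, hn, hw => by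
    have hm3 : m < 4 := by have := hm m List.mem_cons_self; omega
    rw [List.foldl_cons, wordMap_oddG hm3] at hw
    have h := listed_of_moves hf ms (monoMap m y) (fun k hk => hm k (List.mem_cons_of_mem _ hk))
      (by rw [← monoMap_scale]; exact lat_maps hy hm3)
      (by rw [← monoMap_scale, ruNorm_monoMap hm3]; exact hn) hw
    rw [← monoMap_scale] at h
    exact listed_of_monoMap hm3 h

theorem norm_single {v : RuVec} (h : ruNorm v = 1) :
    ∃ i, i < 28 ∧ (v (Rud.iPt i)).norm = 1 ∧ ∀ j, j < 28 → j ≠ i → v (Rud.iPt j) = 0 := by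
  have hs : ∑ j ∈ Finset.range 28, (v (Rud.iPt j)).norm = 1 := by
    rw [← sum_range_idx, ← Rud.sum_idx fun p => (v p).norm]; exact h
  obtain ⟨i, hi, hne⟩ : ∃ i ∈ Finset.range 28, (v (Rud.iPt i)).norm ≠ 0 :=
    Finset.exists_ne_zero_of_sum_ne_zero (by rw [hs]; norm_num)
  rw [← Finset.add_sum_erase _ _ hi] at hs
  have h0 : ∀ j ∈ (Finset.range 28).erase i, 0 ≤ (v (Rud.iPt j)).norm :=
    fun j _ => GaussianInt.norm_nonneg _
  have hr := Finset.sum_nonneg h0
  have hn := GaussianInt.norm_nonneg (v (Rud.iPt i))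
  refine ⟨i, Finset.mem_range.1 hi, by omega, fun j hj hji => (GaussianInt.norm_eq_zero).1 ?_⟩
  exact (Finset.sum_eq_zero_iff_of_nonneg h0).1 (by omega) j
    (Finset.mem_erase.2 ⟨hji, Finset.mem_range.2 hj⟩)

theorem listed_four {v : RuVec} (h : ruNorm v = 1) : Listed (fun p => Rud.pPow 3 * (⟨1, 1⟩ * v p)) := by
  obtain ⟨i, hi, hn, hz⟩ := norm_single h
  have key : ∀ z : GaussianInt, z.norm = 1 → ∃ e < 4, gI ^ e * 4 = Rud.pPow 3 * (⟨1, 1⟩ * z) := by
    intro z hz
    have hb : ∀ a b : ℤ, a * a - -1 * b * b = 1 →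
        (a = 1 ∧ b = 0) ∨ (a = -1 ∧ b = 0) ∨ (a = 0 ∧ b = 1) ∨ (a = 0 ∧ b = -1) := by
      intro a b hab
      have : -1 ≤ a ∧ a ≤ 1 := by constructor <;> nlinarith [mul_self_nonneg b]
      have : -1 ≤ b ∧ b ≤ 1 := by constructor <;> nlinarith [mul_self_nonneg a]
      obtain ⟨h1, h2⟩ := ‹-1 ≤ a ∧ a ≤ 1›
      obtain ⟨h3, h4⟩ := ‹-1 ≤ b ∧ b ≤ 1›
      interval_cases a <;> interval_cases b <;> simp_all
    rw [Zsqrtd.norm_def] at hz
    obtain ⟨a, b⟩ := z
    rcases hb a b hz with ⟨rfl, rfl⟩ | ⟨rfl, rfl⟩ | ⟨rfl, rfl⟩ | ⟨rfl, rfl⟩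
    exacts [⟨2, by norm_num, by decide⟩, ⟨0, by norm_num, by decide⟩, ⟨3, by norm_num, by decide⟩,
      ⟨1, by norm_num, by decide⟩]
  obtain ⟨e, he, hee⟩ := key _ hn
  refine ⟨frameLines.getD i 0, (roots_spec.2.2.2.1 i hi).1, e, he, eq_of_idx _ _ fun j hj => ?_⟩
  rw [smulV_apply, line_delta hi]
  simp only [Rud.cIdx_iPt hj]
  by_cases hji : j = i
  · subst hji; rw [if_pos rfl, hee]
  · rw [if_neg hji, hz j hj hji]; simp

/-- Every vector of norm 16 is a unit multiple of a line. -/
theorem listed_of_norm (m : ℕ) : ∀ k, k + m = 4 → ∀ y : RuVec,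
    (fun p => Rud.pPow k * y p) ∈ ruLattice → ruNorm (fun p => Rud.pPow k * y p) = 16 →
      Listed (fun p => Rud.pPow k * y p) := by
  induction m with
  | zero =>
    intro k hk y _ h
    obtain rfl : k = 4 := by omega
    rw [Rud.ruNorm_mul, show Rud.pPow 4 = 0 from rfl] at h
    simp at h
  | succ m ih =>
    intro k hk y hy h
    have hk4 : k < 4 := by omega
    have hN : ruNorm y = ((16 / 2 ^ k : ℕ) : ℤ) := by
      rw [Rud.ruNorm_mul] at h
      have hp : (Rud.pPow k).norm = 2 ^ k := by interval_cases k <;> rfl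
      rw [hp] at h
      interval_cases k <;> norm_num at h ⊢ <;> omega
    set S := (Rud.freeList k).filter fun f => Rud.oddG (y (Rud.iPt f)) with hS
    have hpat := Rud.pattern hk4 (Rud.ruLattice_le hy)
    have hcount : (List.range 28).countP (fun i => Rud.oddG (y (Rud.iPt i))) ≤ 16 / 2 ^ k := by
      have h1 : (((List.range 28).countP (fun i => Rud.oddG (y (Rud.iPt i))) : ℕ) : ℤ) ≤
          ruNorm y := by
        rw [ruNorm, Rud.sum_idx, Rud.countP_map_sum]
        refine List.sum_le_sum fun i _ => ?_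
        split
        · next ho =>
          refine Rud.one_le_norm fun e => ?_
          rw [e] at ho
          exact absurd ho (by decide)
        · exact GaussianInt.norm_nonneg _
      rw [hN] at h1
      exact_mod_cast h1
    have hrec : wordOf (Rud.recon k S) = wordOf fun i => Rud.oddG (y (Rud.iPt i)) := by
      apply Nat.eq_of_testBit_eq
      intro i
      by_cases hi : i < 28
      · rw [testBit_wordOf _ hi, testBit_wordOf _ hi, hpat i hi]
      · rw [wordOf, wordOf, Nat.testBit_ofBits_ge _ _ (not_lt.1 hi),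
          Nat.testBit_ofBits_ge _ _ (not_lt.1 hi)]
    have hcnt' : (List.range 28).countP (fun i => Rud.recon k S i) =
        (List.range 28).countP fun i => Rud.oddG (y (Rud.iPt i)) :=
      List.countP_congr fun i hi => by rw [hpat i (List.mem_range.1 hi)]
    have hSw : S.length ≤ 16 / 2 ^ k := by
      refine le_trans ?_ hcount
      rw [List.countP_eq_length_filter]
      exact (List.filter_sublist.filter _).length_le
    have hw := words_ok hk4
    simp only [wordsOK, List.all_eq_true, Bool.and_eq_true] at hw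
    obtain ⟨hmoves, hS'⟩ := hw
    have hl := hS' S (Rud.mem_cands List.filter_sublist hSw)
    simp only [Bool.or_eq_true, beq_iff_eq, decide_eq_true_eq, List.any_eq_true, hcnt', hrec] at hl
    rcases hl with (h0 | hgt) | ⟨t, ht, hte⟩
    · -- all coordinates are divisible by `1 + i`
      have hev : ∀ p, ∃ w, y p = ⟨1, 1⟩ * w := fun p => Rud.parity_eq_zero (by
        rw [Rud.parity_oddG, if_neg]
        have hb := testBit_wordOf (fun i => Rud.oddG (y (Rud.iPt i))) (Rud.cIdx_lt p)
        rw [h0, Nat.zero_testBit, Rud.iPt_cIdx] at hb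
        rw [← hb]; exact Bool.false_ne_true)
      choose w hw using hev
      rcases Nat.lt_or_ge (k + 1) 4 with hk' | hk'
      · have e : (fun p => Rud.pPow (k + 1) * w p) = fun p => Rud.pPow k * y p := funext fun p => by
          rw [hw p, ← mul_assoc]; congr 1; interval_cases k <;> first | rfl | omega
        have := ih (k + 1) (by omega) w (by rw [e]; exact hy) (by rw [e]; exact h)
        rwa [e] at this
      · obtain rfl : k = 3 := by omega
        have e : (fun p => Rud.pPow 3 * y p) = fun p => Rud.pPow 3 * (⟨1, 1⟩ * w p) :=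
          funext fun p => by rw [hw p]
        rw [e]
        refine listed_four ?_
        have h2 : ruNorm y = 2 * ruNorm w := by
          simp only [ruNorm, Finset.mul_sum]
          refine Finset.sum_congr rfl fun p _ => ?_
          rw [hw p, Zsqrtd.norm_mul]
          rfl
        norm_num at hN
        omega
    · omega
    · have hmv := hmoves t ht
      simp only [moveOK, Bool.and_eq_true, List.all_eq_true, decide_eq_true_eq, beq_iff_eq] at hmv
      obtain ⟨⟨⟨hidx, hms⟩, hlvl⟩, hfold⟩ := hmv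
      have hmem : searches.getD t.2.1 ⟨0, 0, 0, [], []⟩ ∈ searches := by
        rw [List.getD_eq_getElem _ _ hidx]
        exact List.getElem_mem hidx
      have hf := searchFacts hmem
      rw [hte] at hfold
      have := listed_of_moves hf t.2.2 y hms (by rw [hlvl]; exact hy) (by rw [hlvl]; exact h) hfold
      rwa [hlvl] at this

/-- Every lattice vector of norm 16 is a unit multiple of a line. -/
theorem listed_of_norm16 {x : RuVec} (hx : x ∈ ruLattice) (hn : ruNorm x = 16) : Listed x := by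
  have e : (fun p => Rud.pPow 0 * x p) = x := funext fun p => one_mul _
  have := listed_of_norm 4 0 rfl x (e.symm ▸ hx) (e.symm ▸ hn)
  rwa [e] at this

end Cfsg.Agent.PGroups.Ru
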