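import Cfsg.Agent.PGroups.RuPermBasic

/-!
The checks of the certificates of the Rudvalis group on 4060 points.
-/

set_option autoImplicit false

namespace Cfsg.Agent.PGroups.Ru

/-- The table of a generator. -/
def fwd (g : ℕ) : ℕ := (genData.getD g (0, 0, [])).1

/-- The inverse table of a generator. -/
def bwd (g : ℕ) : ℕ := (genData.getD g (0, 0, [])).2.1

/-- The matrix of a generator. -/
def mat (g : ℕ) : List ℕ := (genData.getD g (0, 0, [])).2.2

/-- Validity of the tables of a generator. -/
def genOK (g : ℕ) : Bool :=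
  ((List.range 4060).all fun j =>
    decide (tget (fwd g) j < 4060) && decide (tget (bwd g) j < 4060) &&
      tget (bwd g) (tget (fwd g) j) == j && tget (fwd g) (tget (bwd g) j) == j &&
      pt (tget (fwd g) j) == lin (mat g) (pt j)) &&
  (List.range 28).all fun a => (List.range 28).all fun b =>
    form (lin (mat g) (2 ^ a)) (lin (mat g) (2 ^ b)) == form (2 ^ a) (2 ^ b)

/-- Iterate a table. -/
def iterT (t : ℕ) : ℕ → ℕ → ℕ
  | 0, j => j
  | k + 1, j => tget t (iterT t k j)

/-- A root. -/
def tRoot (i : ℕ) : ℕ := (treeData.getD i (0, [], 0, 0, 0)).1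

/-- The generators allowed in a tree. -/
def tGens (i : ℕ) : List ℕ := (treeData.getD i (0, [], 0, 0, 0)).2.1

/-- The depth of a tree. -/
def tFuel (i : ℕ) : ℕ := (treeData.getD i (0, [], 0, 0, 0)).2.2.1

/-- The points of a tree. -/
def tMask (i : ℕ) : ℕ := (treeData.getD i (0, [], 0, 0, 0)).2.2.2.1

/-- Parent of a point in a tree. -/
def tPar (i q : ℕ) : ℕ := ((treeData.getD i (0, [], 0, 0, 0)).2.2.2.2 >>> (16 * q)) % 4096

/-- Generator leading to a point in a tree. -/
def tEdge (i q : ℕ) : ℕ := ((treeData.getD i (0, [], 0, 0, 0)).2.2.2.2 >>> (16 * q + 12)) % 16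

/-- The path of a point leads to the root. -/
def trOK (i : ℕ) : ℕ → ℕ → Bool
  | 0, q => q == tRoot i
  | f + 1, q => q == tRoot i ||
    ((tGens i).contains (tEdge i q) && decide (tPar i q < 4060) &&
      tget (fwd (tEdge i q)) (tPar i q) == q && trOK i f (tPar i q))

/-- Image under the transversal element. -/
def trImg (i : ℕ) : ℕ → ℕ → ℕ → ℕ
  | 0, _, j => j
  | f + 1, q, j => if q == tRoot i then j else tget (fwd (tEdge i q)) (trImg i f (tPar i q) j)

/-- Preimage under the transversal element. -/
def trInv (i : ℕ) : ℕ → ℕ → ℕ → ℕ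
  | 0, _, v => v
  | f + 1, q, v => if q == tRoot i then v else trInv i f (tPar i q) (tget (bwd (tEdge i q)) v)

/-- All the paths of a tree lead to the root. -/
def treeOK (i : ℕ) : Bool :=
  decide (tRoot i < 4060) && (tGens i).all (fun g => decide (g < 9)) &&
    (List.range 4060).all fun q => !(tMask i).testBit q || trOK i (tFuel i) q

/-- Sum of vectors. -/
def xorPts : List ℕ → ℕ
  | [] => 0
  | s :: l => pt s ^^^ xorPts l

end Cfsg.Agent.PGroups.Ru
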