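import Cfsg.Agent.PGroups.RuLatBasic
import Cfsg.Agent.PGroups.RuPermDefs

/-!
Checks for the lifted generators and the classes of the generators of the Rudvalis lattice.
-/

set_option autoImplicit false

namespace Cfsg.Agent.PGroups.Ru

open Cfsg.Spor
open Cfsg.Agent.H44 (Rud.iPt Rud.cIdx Rud.herm Rud.oddG Rud.four? Rud.genVec Rud.gAt Rud.comb)

/-- The coordinates of the image of a generator under a lifted matrix are those given. -/
def imageOK (row : ℕ → ℕ → GaussianInt) (co : List ℕ) : Bool :=
  (List.range 47).all fun n =>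
    (List.range 28).all fun r =>
      let z := ((List.range 28).map fun p => row r p * bvec n (Rud.iPt p)).sum
      Rud.four? z && Rud.four? (⟨z.re / 4, z.im / 4⟩ - Rud.comb (co.getD n 0) (Rud.iPt r))

/-- An entry of a lifted matrix. -/
def liftEntry (g r p : ℕ) : GaussianInt :=
  gi (nibAt ((liftData.getD g ([], [], [], [])).1.getD r 0) p)

/-- An entry of the conjugate transpose. -/
def liftEntryH (g r p : ℕ) : GaussianInt := star (liftEntry g p r)

/-- The rows and columns of a lifted matrix are orthogonal of norm sixteen. -/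
def orthOK (g : ℕ) : Bool :=
  (List.range 28).all fun a => (List.range 28).all fun b =>
    ((List.range 28).map fun r => liftEntryH g a r * liftEntry g r b).sum ==
        (if a = b then 16 else 0) &&
      ((List.range 28).map fun r => liftEntry g a r * liftEntryH g r b).sum ==
        (if a = b then 16 else 0)

/-- The lifted matrix maps the spanning lines as the permutation does. -/
def spanImgOK (g : ℕ) : Bool :=
  ((liftData.getD g ([], [], [], [])).2.2.2.map fun t => t.1) == spanPts.map (fun e => e.1) &&
    (liftData.getD g ([], [], [], [])).2.2.2.all fun t =>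
      decide (t.2.2 < 4) && tget (fwd g) t.1 == t.2.1 && (List.range 28).all fun r =>
        ((List.range 28).map fun p => liftEntry g r p * gi (nibAt (lcode t.1) p)).sum ==
          4 * gi (rotN t.2.2 (nibAt (lcode t.2.1) r)) && decide (nibAt (lcode t.2.1) r < 9)

/-- The classes of the generators. -/
def bclasses : List ℕ :=
  [0xd55dcb4, 0xc84552c, 0xf5ca6f4, 0xe811312, 0x2d36034, 0xe85d9d2, 0xe233550, 0x7c8b08e, 0x4142d67, 0xa3a0998, 0xcc5a366, 0x8907632, 0x9c0492c, 0xe6a6d4a, 0x45c6498, 0xc7c6498, 0x3fa07e0, 0x8fc7fe0, 0x21007e0, 0xffffffe, 0x7fffffe, 0x8fffffe, 0xfffffe, 0xf3f80fe, 0x74fff00, 0x4fff00, 0x83f80fe, 0xbc000fe, 0x4c000fe, 0xbb07f00, 0x4b07f00, 0xfb07f00, 0x8b07f00, 0x8c000fe, 0xfc000fe, 0x2cf80fe, 0xdbfff00, 0xacf80fe, 0x5bfff00, 0xf307f00, 0xf4000fe, 0x74000fe, 0x7307f00, 0x94fff00, 0xe3f80fe, 0x64fff00, 0x13f80fe]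

/-- The class of a generator. -/
def bclass (n : ℕ) : ℕ := bclasses.getD n 0

theorem tab_cert :
    (((List.range 4).all fun m => (List.range 28).all fun i =>
        srcAt m i == mSrc m i && phAt m i == mPh m i) &&
      ((List.range 4).all fun e => (List.range 9).all fun n => rotAt e n == rotN e n) &&
      ((List.range 28).all fun k => (List.range 28).all fun i =>
        decide (nibAt (lcode (classBasis.getD k (0, 0)).1) i < 9) &&
        nibAt (classCodes.getD k 0) i ==
          rotN (classBasis.getD k (0, 0)).2 (nibAt (lcode (classBasis.getD k (0, 0)).1) i))) = true := by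
  decide +kernel

end Cfsg.Agent.PGroups.Ru
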