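import Mathlib

/-!
A search over residues modulo 4 with linear constraints, used to classify the short vectors of
the Rudvalis lattice.
-/

set_option autoImplicit false

namespace Cfsg.Agent.PGroups.Ru

/-- Residues with the least norm of a representative, by kind of coordinate. -/
def resOpts : ℕ → List (ℕ × ℕ × ℕ)
  | 0 => [(0, 0, 0), (1, 3, 2), (1, 1, 2), (3, 1, 2), (3, 3, 2), (2, 0, 4), (0, 2, 4), (2, 2, 8)]
  | 1 => [(1, 0, 1), (3, 0, 1), (0, 1, 1), (0, 3, 1), (1, 2, 5), (2, 1, 5), (2, 3, 5), (3, 2, 5)]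
  | 2 => [(0, 0, 0), (0, 2, 4), (2, 0, 4), (2, 2, 8)]
  | 3 => [(3, 1, 2), (1, 3, 2), (1, 1, 2), (3, 3, 2)]
  | 4 => [(0, 0, 0), (2, 2, 8)]
  | 5 => [(0, 2, 4), (2, 0, 4)]
  | _ => [(1, 0, 1), (1, 2, 5)]

/-- One level of a search: position, options, constraint mask, least remaining norm, columns. -/
structure Lev where
  pos : ℕ
  kind : ℕ
  mask : ℕ
  need : ℕ
  cre : ℕ
  cim : ℕ

/-- The search: every surviving leaf is in the list. -/
def dfs (good : List ℕ) : List Lev → ℕ → ℕ → ℕ → Bool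
  | [], _, _, X => good.contains X
  | l :: ls, b, acc, X => (resOpts l.kind).all fun o =>
      decide (b < o.2.2 + l.need) ||
        (((acc + o.1 * l.cre + o.2.1 * l.cim) &&& l.mask != 0) ||
          dfs good ls (b - o.2.2) (acc + o.1 * l.cre + o.2.1 * l.cim)
            (X + (o.1 + 4 * o.2.1) * 2 ^ (4 * l.pos)))

end Cfsg.Agent.PGroups.Ru
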