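import Cfsg.Agent.PGroups.RuLatComplete

/-!
The automorphism group of the Rudvalis lattice acts on the 4060 lines with kernel the four
scalars and image the automorphism group of the graph.
-/

set_option autoImplicit false
set_option maxRecDepth 20000

namespace Cfsg.Agent.PGroups.Ru

open Cfsg.Spor
open Cfsg.Agent.H44 (Rud.iPt Rud.cIdx Rud.herm Rud.oddG Rud.four? Rud.four?_iff Rud.iPt_cIdx
  Rud.cIdx_iPt Rud.cIdx_lt Rud.sum_idx Rud.ruNorm_add Rud.comb Rud.modSpan Rud.gAt Rud.comb_eq)

/-! ### Automorphisms -/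

theorem ruI_val (v : ruLattice) : ((ruI v : ruLattice) : RuVec) = gI • (v : RuVec) := rfl

theorem gI_smul_eq (x : RuVec) : gI • x = smulV gI x := rfl

/-- A unit multiple inside the lattice. -/
def unitMul (e : ℕ) (v : ruLattice) : ruLattice := ⟨smulV (gI ^ e) v, lat_smul _ v.2⟩

theorem unitMul_succ (e : ℕ) (v : ruLattice) : unitMul (e + 1) v = ruI (unitMul e v) :=
  Subtype.ext (by
    rw [ruI_val, gI_smul_eq]
    show smulV (gI ^ (e + 1)) (v : RuVec) = smulV gI (smulV (gI ^ e) (v : RuVec))
    rw [smulV_smulV, pow_succ'])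

theorem unitMul_zero (v : ruLattice) : unitMul 0 v = v :=
  Subtype.ext (by show smulV (gI ^ 0) (v : RuVec) = v; rw [pow_zero, smulV_one])

theorem map_unitMul (f : fourRu) (e : ℕ) (v : ruLattice) :
    (f : Equiv.Perm ruLattice) (unitMul e v) = unitMul e ((f : Equiv.Perm ruLattice) v) := by
  induction e with
  | zero => rw [unitMul_zero, unitMul_zero]
  | succ e ih => rw [unitMul_succ, f.2.2.1, ih, ← unitMul_succ]

theorem herm_re_eq (f : fourRu) (v w : ruLattice) :
    (Rud.herm (((f : Equiv.Perm ruLattice) v : ruLattice) : RuVec)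
      (((f : Equiv.Perm ruLattice) w : ruLattice) : RuVec)).re =
      (Rud.herm (v : RuVec) (w : RuVec)).re := by
  have h := f.2.2.2 (v + w)
  rw [f.2.1, AddSubgroup.coe_add, AddSubgroup.coe_add, Rud.ruNorm_add, Rud.ruNorm_add, f.2.2.2,
    f.2.2.2] at h
  omega

theorem herm_eq (f : fourRu) (v w : ruLattice) :
    Rud.herm (((f : Equiv.Perm ruLattice) v : ruLattice) : RuVec)
      (((f : Equiv.Perm ruLattice) w : ruLattice) : RuVec) =
      Rud.herm (v : RuVec) (w : RuVec) := by
  refine Zsqrtd.ext (herm_re_eq f v w) ?_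
  have h := herm_re_eq f v (ruI w)
  rw [f.2.2.1, ruI_val, ruI_val, gI_smul_eq, gI_smul_eq, herm_smul_right, herm_smul_right] at h
  simp only [Zsqrtd.re_mul, Zsqrtd.re_star, Zsqrtd.im_star, gI] at h
  omega

/-- A line as a lattice element. -/
def lineL (a : Fin 4060) : ruLattice := ⟨line a.1, line_mem a.2⟩

theorem exists_img (f : fourRu) (a : Fin 4060) : ∃ b : Fin 4060, ∃ e < 4,
    (f : Equiv.Perm ruLattice) (lineL a) = unitMul e (lineL b) := by
  obtain ⟨b, hb, e, he, h⟩ := listed_of_norm16 ((f : Equiv.Perm ruLattice) (lineL a)).2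
    (by rw [f.2.2.2]; exact norm_line a.2)
  exact ⟨⟨b, hb⟩, e, he, Subtype.ext h⟩

/-- The image of a line. -/
noncomputable def img (f : fourRu) (a : Fin 4060) : Fin 4060 := Classical.choose (exists_img f a)

theorem img_spec (f : fourRu) (a : Fin 4060) : ∃ e < 4,
    (f : Equiv.Perm ruLattice) (lineL a) = unitMul e (lineL (img f a)) :=
  Classical.choose_spec (exists_img f a)

theorem img_eq {f : fourRu} {a b : Fin 4060} {e : ℕ}
    (h : (f : Equiv.Perm ruLattice) (lineL a) = unitMul e (lineL b)) : img f a = b := by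
  obtain ⟨e', -, h'⟩ := img_spec f a
  rw [h] at h'
  exact (Fin.ext (line_unique b.2 (img f a).2 (congrArg Subtype.val h'))).symm

theorem img_mul (f g : fourRu) (a : Fin 4060) : img (f * g) a = img f (img g a) := by
  obtain ⟨e, -, hg⟩ := img_spec g a
  obtain ⟨e', -, hf⟩ := img_spec f (img g a)
  refine img_eq (e := e + e') ?_
  rw [Subgroup.coe_mul, Equiv.Perm.mul_apply, hg, map_unitMul, hf]
  refine Subtype.ext ?_
  show smulV (gI ^ e) (smulV (gI ^ e') _) = _
  rw [smulV_smulV, ← pow_add]
  rfl

theorem img_one (a : Fin 4060) : img 1 a = a :=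
  img_eq (e := 0) (by rw [unitMul_zero]; rfl)

/-- The action on the lines. -/
noncomputable def actHom : fourRu →* Equiv.Perm (Fin 4060) where
  toFun f :=
    { toFun := img f
      invFun := img f⁻¹
      left_inv := fun a => by rw [← img_mul, inv_mul_cancel, img_one]
      right_inv := fun a => by rw [← img_mul, mul_inv_cancel, img_one] }
  map_one' := Equiv.ext img_one
  map_mul' f g := Equiv.ext (img_mul f g)

theorem actHom_apply (f : fourRu) (a : Fin 4060) : actHom f a = img f a := rfl

theorem adj_eq_bf (a b : Fin 4060) : adj a.1 b.1 = bf (line a.1) (line b.1) := by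
  rw [adj, bf_eq_form (line_mem a.2) (line_mem b.2), qn_line a.2, qn_line b.2]

theorem actHom_mem (f : fourRu) : actHom f ∈ autGrp := by
  intro a b
  rw [actHom_apply, actHom_apply, adj_eq_bf, adj_eq_bf]
  obtain ⟨e, -, ha⟩ := img_spec f a
  obtain ⟨e', -, hb⟩ := img_spec f b
  have h : bf (((f : Equiv.Perm ruLattice) (lineL a) : ruLattice) : RuVec)
      (((f : Equiv.Perm ruLattice) (lineL b) : ruLattice) : RuVec) = bf (line a.1) (line b.1) := by
    simp only [bf_eq, herm_eq f]
    rfl
  rw [← h, ha, hb]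
  have h1 := line_mem (img f a).2
  have h2 := line_mem (img f b).2
  show bf (line (img f a).1) (line (img f b).1) =
    bf (smulV (gI ^ e) (line (img f a).1)) (smulV (gI ^ e') (line (img f b).1))
  rw [bf_eq_form (lat_smul _ h1) (lat_smul _ h2), qn_pow h1, qn_pow h2, ← bf_eq_form h1 h2]

/-! ### Lifts of the generators -/

/-- Apply a matrix. -/
def matApp (row : ℕ → ℕ → GaussianInt) (x : RuVec) (r : ℕ) : GaussianInt :=
  ∑ p ∈ Finset.range 28, row r p * x (Rud.iPt p)

theorem exists_quot {row : ℕ → ℕ → GaussianInt} {co : List ℕ} (h : imageOK row co = true)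
    {x : RuVec} (hx : x ∈ ruLattice) :
    ∃ x', x' ∈ ruLattice ∧ ∀ r, r < 28 → matApp row x r = 4 * x' (Rud.iPt r) := by
  let S : AddSubgroup RuVec :=
    { carrier := {x | ∃ x', x' ∈ ruLattice ∧ ∀ r, r < 28 → matApp row x r = 4 * x' (Rud.iPt r)}
      zero_mem' := ⟨0, zero_mem _, fun r _ => by simp [matApp]⟩
      add_mem' := by
        rintro a b ⟨a', ha, ha'⟩ ⟨b', hb, hb'⟩
        refine ⟨a' + b', add_mem ha hb, fun r hr => ?_⟩
        simp only [matApp, Pi.add_apply, mul_add, Finset.sum_add_distrib]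
        rw [← matApp, ← matApp, ha' r hr, hb' r hr]
      neg_mem' := by
        rintro a ⟨a', ha, ha'⟩
        refine ⟨-a', neg_mem ha, fun r hr => ?_⟩
        simp only [matApp, Pi.neg_apply, mul_neg, Finset.sum_neg_distrib]
        rw [← matApp, ha' r hr] }
  refine lat_le_of_basis (S := S) ?_ ?_ hx
  · rintro a ⟨a', ha, ha'⟩
    refine ⟨gI • a', gI_smul_mem_ruLattice ha, fun r hr => ?_⟩
    simp only [Pi.smul_apply, smul_eq_mul]
    rw [mul_left_comm, ← ha' r hr, matApp, matApp, Finset.mul_sum]
    exact Finset.sum_congr rfl fun p _ => by simp only [Pi.smul_apply, smul_eq_mul]; ring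
  · intro n hn
    simp only [imageOK, List.all_eq_true, List.mem_range, Bool.and_eq_true] at h
    have h1 := h n hn
    let x' : RuVec := fun p =>
      ⟨(matApp row (bvec n) (Rud.cIdx p)).re / 4, (matApp row (bvec n) (Rud.cIdx p)).im / 4⟩
    have hco : ∀ p, (4 : GaussianInt) ∣ x' p - Rud.comb (co.getD n 0) p := by
      intro p
      have := Rud.four?_iff.1 (h1 _ (Rud.cIdx_lt p)).2
      rw [Rud.iPt_cIdx] at this
      exact this
    refine ⟨x', ?_, fun r hr => ?_⟩
    · rw [lat_eq]
      exact ⟨Rud.gAt (co.getD n 0), fun p => by rw [← Rud.comb_eq]; exact hco p⟩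
    · have h4 : (4 : GaussianInt) ∣ matApp row (bvec n) r := Rud.four?_iff.1 (h1 r hr).1
      obtain ⟨c, hc⟩ := h4
      simp only [x', Rud.cIdx_iPt hr, hc]
      ext <;> simp [Zsqrtd.re_mul, Zsqrtd.im_mul] <;> omega

section Lift

variable {A B : ℕ → ℕ → GaussianInt}

/-- A matrix maps lattice vectors to four times lattice vectors. -/
def MapsLat (A : ℕ → ℕ → GaussianInt) : Prop :=
  ∀ x : RuVec, x ∈ ruLattice →
    ∃ x', x' ∈ ruLattice ∧ ∀ r, r < 28 → matApp A x r = 4 * x' (Rud.iPt r)

/-- The two matrices are inverse up to the factor 16. -/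
def InvPair (A B : ℕ → ℕ → GaussianInt) : Prop :=
  ∀ a, a < 28 → ∀ b, b < 28 →
    ∑ r ∈ Finset.range 28, B a r * A r b = if a = b then 16 else 0

/-- The quotient map. -/
noncomputable def quotMap (hA : MapsLat A) (v : ruLattice) : ruLattice :=
  ⟨Classical.choose (hA v v.2), (Classical.choose_spec (hA v v.2)).1⟩

theorem quotMap_spec (hA : MapsLat A) (v : ruLattice) {r : ℕ} (hr : r < 28) :
    matApp A v r = 4 * (quotMap hA v : RuVec) (Rud.iPt r) :=
  (Classical.choose_spec (hA v v.2)).2 r hr

theorem four_inj {a b : GaussianInt} (h : 4 * a = 4 * b) : a = b :=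
  mul_left_cancel₀ (by decide) h

theorem quotMap_inv (hA : MapsLat A) (hB : MapsLat B) (h : InvPair A B) (v : ruLattice) :
    quotMap hB (quotMap hA v) = v := by
  refine Subtype.ext (eq_of_idx _ _ fun a ha => four_inj (four_inj ?_))
  rw [← quotMap_spec hB _ ha, matApp, Finset.mul_sum]
  have e : ∀ r ∈ Finset.range 28, 4 * (B a r * (quotMap hA v : RuVec) (Rud.iPt r)) =
      ∑ b ∈ Finset.range 28, B a r * A r b * (v : RuVec) (Rud.iPt b) := by
    intro r hr
    rw [mul_left_comm, ← quotMap_spec hA v (Finset.mem_range.1 hr), matApp, Finset.mul_sum]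
    exact Finset.sum_congr rfl fun b _ => by ring
  rw [Finset.sum_congr rfl e, Finset.sum_comm]
  have e2 : ∀ b ∈ Finset.range 28, (∑ r ∈ Finset.range 28, B a r * A r b * (v : RuVec) (Rud.iPt b)) =
      (if a = b then 16 else 0) * (v : RuVec) (Rud.iPt b) := by
    intro b hb
    rw [← Finset.sum_mul, h a ha b (Finset.mem_range.1 hb)]
  rw [Finset.sum_congr rfl e2]
  simp only [ite_mul, zero_mul, Finset.sum_ite_eq, Finset.mem_range, ha, if_true]
  rw [← mul_assoc]
  norm_num

theorem quotMap_norm (hA : MapsLat A) (h : InvPair A B) (hB : ∀ a r, B a r = star (A r a))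
    (v : ruLattice) : ruNorm (quotMap hA v : RuVec) = ruNorm (v : RuVec) := by
  have cast_norm : ∀ x : RuVec, ((ruNorm x : ℤ) : GaussianInt) =
      ∑ r ∈ Finset.range 28, x (Rud.iPt r) * star (x (Rud.iPt r)) := by
    intro x
    rw [ruNorm, Rud.sum_idx]
    show ((∑ r ∈ Finset.range 28, (x (Rud.iPt r)).norm : ℤ) : GaussianInt) = _
    rw [Int.cast_sum]
    exact Finset.sum_congr rfl fun r _ => Zsqrtd.norm_eq_mul_conj _
  have h16 : (16 : GaussianInt) * (ruNorm (quotMap hA v : RuVec) : GaussianInt) =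
      16 * (ruNorm (v : RuVec) : GaussianInt) := by
    rw [cast_norm, cast_norm, Finset.mul_sum, Finset.mul_sum]
    have e : ∀ r ∈ Finset.range 28, (16 : GaussianInt) *
        ((quotMap hA v : RuVec) (Rud.iPt r) * star ((quotMap hA v : RuVec) (Rud.iPt r))) =
        ∑ a ∈ Finset.range 28, ∑ b ∈ Finset.range 28, B a r * A r b *
          ((v : RuVec) (Rud.iPt b) * star ((v : RuVec) (Rud.iPt a))) := by
      intro r hr
      have hq := quotMap_spec hA v (Finset.mem_range.1 hr)
      calc (16 : GaussianInt) *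
            ((quotMap hA v : RuVec) (Rud.iPt r) * star ((quotMap hA v : RuVec) (Rud.iPt r)))
          = matApp A v r * star (matApp A v r) := by
            rw [hq, star_mul', show star (4 : GaussianInt) = 4 from rfl]; ring
        _ = _ := by
            rw [matApp, star_sum, Finset.sum_mul_sum, Finset.sum_comm]
            refine Finset.sum_congr rfl fun a _ => Finset.sum_congr rfl fun b _ => ?_
            rw [hB, star_mul']
            ring
    rw [Finset.sum_congr rfl e, Finset.sum_comm]
    refine Finset.sum_congr rfl fun a ha => ?_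
    rw [Finset.sum_comm]
    have e2 : ∀ b ∈ Finset.range 28, (∑ r ∈ Finset.range 28, B a r * A r b *
        ((v : RuVec) (Rud.iPt b) * star ((v : RuVec) (Rud.iPt a)))) =
        (if a = b then 16 else 0) * ((v : RuVec) (Rud.iPt b) * star ((v : RuVec) (Rud.iPt a))) := by
      intro b hb
      rw [← Finset.sum_mul, h a (Finset.mem_range.1 ha) b (Finset.mem_range.1 hb)]
    rw [Finset.sum_congr rfl e2]
    simp only [ite_mul, zero_mul, Finset.sum_ite_eq, ha, if_true]
  have h2 := mul_left_cancel₀ (by decide : (16 : GaussianInt) ≠ 0) h16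
  exact_mod_cast h2

theorem quotMap_add (hA : MapsLat A) (v w : ruLattice) :
    quotMap hA (v + w) = quotMap hA v + quotMap hA w := by
  refine Subtype.ext (eq_of_idx _ _ fun r hr => four_inj ?_)
  rw [← quotMap_spec hA _ hr, AddSubgroup.coe_add, AddSubgroup.coe_add, Pi.add_apply, mul_add,
    ← quotMap_spec hA _ hr, ← quotMap_spec hA _ hr]
  simp only [matApp, Pi.add_apply, mul_add, Finset.sum_add_distrib]

theorem quotMap_ruI (hA : MapsLat A) (v : ruLattice) :
    quotMap hA (ruI v) = ruI (quotMap hA v) := by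
  refine Subtype.ext (eq_of_idx _ _ fun r hr => four_inj ?_)
  rw [← quotMap_spec hA _ hr, ruI_val, ruI_val, Pi.smul_apply, smul_eq_mul, mul_left_comm,
    ← quotMap_spec hA _ hr, matApp, matApp, Finset.mul_sum]
  exact Finset.sum_congr rfl fun p _ => by simp only [Pi.smul_apply, smul_eq_mul]; ring

/-- The automorphism of a pair of inverse matrices. -/
noncomputable def liftAut (hA : MapsLat A) (hB : MapsLat B) (h : InvPair A B) (h' : InvPair B A)
    (hadj : ∀ a r, B a r = star (A r a)) : fourRu :=
  ⟨{ toFun := quotMap hA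
     invFun := quotMap hB
     left_inv := quotMap_inv hA hB h
     right_inv := quotMap_inv hB hA h' },
   quotMap_add hA, quotMap_ruI hA, quotMap_norm hA h hadj⟩

end Lift

theorem span_head : (spanPts.map fun e => e.1).take 4 = [0, 4059, 4024, 3674] := by decide

theorem aut_ext {σ τ : Equiv.Perm (Fin 4060)} (hσ : σ ∈ autGrp) (hτ : τ ∈ autGrp)
    (h : ∀ e ∈ spanPts, σ (fp e.1) = τ (fp e.1)) : σ = τ := by
  have key : ∀ a ∈ [0, 4059, 4024, 3674], (τ⁻¹ * σ) (fp a) = fp a := by
    intro a ha
    rw [← span_head] at ha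
    obtain ⟨e, he, rfl⟩ := List.mem_map.1 (List.mem_of_mem_take ha)
    rw [Equiv.Perm.mul_apply, h e he]
    simp
  have h1 : τ⁻¹ * σ ∈ fix3 :=
    ⟨⟨⟨(mul_mem (inv_mem hτ) hσ : _ ∈ autGrp), key 0 (by simp)⟩, key 4059 (by simp)⟩, key 4024 (by simp)⟩
  have := eq_one_of_fix4 h1 (key 3674 (by simp))
  exact (inv_mul_eq_one.1 this).symm

theorem perm_mem_range {g : ℕ} (hg : g < 2) : perm g ∈ actHom.range := by
  have himg : imageOK (liftEntry g) (liftData.getD g ([], [], [], [])).2.1 = true ∧
      imageOK (liftEntryH g) (liftData.getD g ([], [], [], [])).2.2.1 = true := by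
    interval_cases g
    · exact Bool.and_eq_true_iff.1 image_cert0
    · exact Bool.and_eq_true_iff.1 image_cert1
  have horth : orthOK g = true := by
    have := orth_cert
    rw [Bool.and_eq_true] at this
    interval_cases g
    exacts [this.1, this.2]
  have hspan : spanImgOK g = true := by
    have := span_img_cert
    rw [Bool.and_eq_true] at this
    interval_cases g
    exacts [this.1, this.2]
  simp only [orthOK, List.all_eq_true, List.mem_range, Bool.and_eq_true, beq_iff_eq] at horth
  have hA : MapsLat (liftEntry g) := fun _ hx => exists_quot himg.1 hx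
  let F := liftAut (A := liftEntry g) (B := liftEntryH g)
    hA (fun _ hx => exists_quot himg.2 hx)
    (fun a ha b hb => (horth a ha b hb).1) (fun a ha b hb => (horth a ha b hb).2) fun _ _ => rfl
  refine ⟨F, aut_ext (actHom_mem F) (perm_mem_aut (by omega)) fun e he => ?_⟩
  simp only [spanImgOK, Bool.and_eq_true, List.all_eq_true, List.mem_range, beq_iff_eq,
    decide_eq_true_eq] at hspan
  obtain ⟨hmap, hall⟩ := hspan
  have hmem : e.1 ∈ (liftData.getD g ([], [], [], [])).2.2.2.map fun t => t.1 := by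
    rw [hmap]; exact List.mem_map.2 ⟨e, he, rfl⟩
  obtain ⟨t, ht, hte⟩ := List.mem_map.1 hmem
  obtain ⟨⟨he4, htg⟩, hcol⟩ := hall t ht
  have he1 : e.1 < 4060 := by
    have h := span_cert
    simp only [Bool.and_eq_true, List.all_eq_true, decide_eq_true_eq] at h
    exact (h.1 e he).1.1
  rw [hte] at htg
  have hpv : (perm g (fp e.1)).1 = t.2.1 := by rw [perm_val (by omega), fp_val he1, htg]
  rw [actHom_apply]
  refine img_eq (e := t.2.2) (Subtype.ext (eq_of_idx _ _ fun r hr => four_inj ?_))
  show 4 * (quotMap hA (lineL (fp e.1)) : RuVec) (Rud.iPt r) = _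
  rw [← quotMap_spec _ _ hr]
  obtain ⟨hsum, h9⟩ := hcol r hr
  rw [hte] at hsum
  show matApp (liftEntry g) (line (fp e.1).1) r =
    4 * smulV (gI ^ t.2.2) (line (perm g (fp e.1)).1) (Rud.iPt r)
  rw [hpv, fp_val he1, smulV_apply, matApp]
  simp only [line, cvec, Rud.cIdx_iPt hr]
  rw [← gi_rotN _ he4 _ h9, ← hsum, sum_range_idx]
  exact Finset.sum_congr rfl fun p hp => by rw [Rud.cIdx_iPt (Finset.mem_range.1 hp)]

theorem range_eq : actHom.range = autGrp := by
  refine le_antisymm ?_ ?_
  · rintro _ ⟨f, rfl⟩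
    exact actHom_mem f
  · rw [← kGrp_eq, kGrp, Subgroup.closure_le]
    rintro z (rfl | rfl) <;> exact perm_mem_range (by norm_num)

/-! ### Kernel and centre -/

/-- A scalar as an automorphism. -/
def scalarAut (e : Fin 4) : fourRu :=
  ⟨{ toFun := unitMul e.1
     invFun := unitMul (4 - e.1)
     left_inv := fun v => Subtype.ext (by
       show smulV (gI ^ (4 - e.1)) (smulV (gI ^ e.1) (v : RuVec)) = v
       rw [smulV_smulV, ← pow_add, Nat.sub_add_cancel e.2.le, gI_pow_four, smulV_one])
     right_inv := fun v => Subtype.ext (by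
       show smulV (gI ^ e.1) (smulV (gI ^ (4 - e.1)) (v : RuVec)) = v
       rw [smulV_smulV, ← pow_add, Nat.add_sub_cancel' e.2.le, gI_pow_four, smulV_one]) },
   fun v w => Subtype.ext (funext fun p => mul_add _ _ _),
   fun v => Subtype.ext (funext fun p => mul_left_comm _ _ _),
   fun v => by
     show ruNorm (smulV (gI ^ e.1) (v : RuVec)) = _
     rw [ruNorm_smulV, norm_gI_pow, one_mul]⟩

theorem scalarAut_apply (e : Fin 4) (v : ruLattice) :
    (scalarAut e : Equiv.Perm ruLattice) v = unitMul e.1 v := rfl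

theorem scalarAut_injective : Function.Injective scalarAut := by
  intro a b h
  have h1 := congrArg (fun f : fourRu =>
    (((f : Equiv.Perm ruLattice) (lineL (fp (frameLines.getD 0 0))) : ruLattice) : RuVec) (Rud.iPt 0)) h
  simp only [scalarAut_apply] at h1
  have e0 : line (fp (frameLines.getD 0 0)).1 (Rud.iPt 0) = 4 := by
    rw [fp_val (roots_spec.2.2.2.1 0 (by norm_num)).1, line_delta (by norm_num)]
    simp [Rud.cIdx_iPt]
  change gI ^ a.1 * line (fp (frameLines.getD 0 0)).1 (Rud.iPt 0) =
    gI ^ b.1 * line (fp (frameLines.getD 0 0)).1 (Rud.iPt 0) at h1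
  rw [e0] at h1
  have key : ∀ a b : Fin 4, gI ^ a.1 * 4 = gI ^ b.1 * 4 → a = b := by decide
  exact key a b h1

theorem scalarAut_central (e : Fin 4) (f : fourRu) : scalarAut e * f = f * scalarAut e := by
  refine Subtype.ext (Equiv.ext fun v => ?_)
  rw [Subgroup.coe_mul, Subgroup.coe_mul, Equiv.Perm.mul_apply, Equiv.Perm.mul_apply,
    scalarAut_apply, scalarAut_apply, map_unitMul]

theorem herm_ne_zero {x y : RuVec} (h : bf x y = true) : Rud.herm x y ≠ 0 := by
  intro h0
  rw [bf_eq, h0] at h
  exact absurd h (by decide)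

theorem ker_scalar {f : fourRu} (hf : actHom f = 1) : ∃ e : Fin 4, f = scalarAut e := by
  have hspec : ∀ a : Fin 4060, ∃ e < 4, (f : Equiv.Perm ruLattice) (lineL a) = unitMul e (lineL a) := by
    intro a
    obtain ⟨e, he, h⟩ := img_spec f a
    have : img f a = a := by rw [← actHom_apply, hf]; rfl
    rw [this] at h
    exact ⟨e, he, h⟩
  choose u hu huf using hspec
  have hadj : ∀ a b : Fin 4060, adj a.1 b.1 = true → u a = u b := by
    intro a b hab
    rw [adj_eq_bf] at hab
    have hne := herm_ne_zero hab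
    have h := herm_eq f (lineL a) (lineL b)
    rw [huf a, huf b] at h
    change Rud.herm (smulV (gI ^ u a) (line a.1)) (smulV (gI ^ u b) (line b.1)) =
      Rud.herm (line a.1) (line b.1) at h
    rw [herm_smul_left, herm_smul_right, ← mul_assoc] at h
    have h1 : gI ^ u a * star (gI ^ u b) = 1 :=
      mul_right_cancel₀ hne (by rw [h, one_mul])
    have key : ∀ i < 4, ∀ j < 4, gI ^ i * star (gI ^ j) = 1 → i = j := by decide
    exact key _ (hu a) _ (hu b) h1
  have hconst : ∀ a : Fin 4060, u a = u (fp 0) := by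
    intro a
    have h := List.all_eq_true.1 connect_cert a.1 (List.mem_range.2 a.2)
    simp only [Bool.or_eq_true, Bool.not_eq_true', beq_eq_false_iff_ne] at h
    have h0v : (fp 0).1 = 0 := fp_val (by norm_num)
    rcases h with h | h
    · have := nb_spec (fp 0) a
      rw [h0v, h] at this
      exact (hadj (fp 0) a (by rw [h0v]; exact this.symm)).symm
    · obtain ⟨i, hi⟩ := Nat.exists_testBit_of_ne_zero h
      rw [Nat.testBit_and, Bool.and_eq_true] at hi
      have hlt : i < 4060 := by
        by_contra hge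
        have hb : nb 0 < 2 ^ 4060 := lin_lt _ (fun r hr => ?_) _
        · rw [Nat.testBit_lt_two_pow (lt_of_lt_of_le hb
            (Nat.pow_le_pow_right (by norm_num) (not_lt.1 hge)))] at hi
          exact Bool.false_ne_true hi.1
        · obtain ⟨k, hk, rfl⟩ := List.mem_iff_getElem.1 hr
          have hc := nb_cert
          simp only [List.all_eq_true, List.mem_range, Bool.and_eq_true, beq_iff_eq,
            decide_eq_true_eq] at hc
          have hk28 : k < 28 := lt_of_lt_of_eq hk rfl
          have := (hc k hk28).1.2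
          rwa [List.getD_eq_getElem _ _ hk] at this
      have h1 := nb_spec (fp 0) ⟨i, hlt⟩
      have h2 := nb_spec a ⟨i, hlt⟩
      rw [h0v, hi.1] at h1
      rw [hi.2] at h2
      rw [hadj a ⟨i, hlt⟩ h2.symm, hadj (fp 0) ⟨i, hlt⟩ (by rw [h0v]; exact h1.symm)]
  refine ⟨⟨u (fp 0), hu _⟩, Subtype.ext (Equiv.ext fun v => ?_)⟩
  let E : Fin 4 := ⟨u (fp 0), hu _⟩
  let S : AddSubgroup RuVec :=
    { carrier := {x | ∃ hx : x ∈ ruLattice,
        (f : Equiv.Perm ruLattice) ⟨x, hx⟩ = unitMul E.1 ⟨x, hx⟩}
      zero_mem' := ⟨zero_mem _, by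
        have h0 : (f : Equiv.Perm ruLattice) 0 = 0 := by
          have := f.2.1 0 0
          rw [add_zero] at this
          exact left_eq_add.1 this
        exact h0.trans (Subtype.ext (funext fun p => (mul_zero _).symm))⟩
      add_mem' := fun {a b} ha hb => by
        obtain ⟨ha, ha'⟩ := ha
        obtain ⟨hb, hb'⟩ := hb
        refine ⟨add_mem ha hb, ?_⟩
        have := f.2.1 ⟨a, ha⟩ ⟨b, hb⟩
        rw [ha', hb'] at this
        exact this.trans (Subtype.ext (funext fun p => (mul_add _ _ _).symm))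
      neg_mem' := fun {a} ha => by
        obtain ⟨ha, ha'⟩ := ha
        refine ⟨neg_mem ha, ?_⟩
        have h0 : (f : Equiv.Perm ruLattice) 0 = 0 := by
          have := f.2.1 0 0
          rw [add_zero] at this
          exact left_eq_add.1 this
        have h1 := f.2.1 ⟨a, ha⟩ ⟨-a, neg_mem ha⟩
        rw [show (⟨a, ha⟩ : ruLattice) + ⟨-a, neg_mem ha⟩ = 0 from Subtype.ext (add_neg_cancel a),
          h0, ha'] at h1
        rw [eq_neg_of_add_eq_zero_right h1.symm]
        exact Subtype.ext (funext fun p => (mul_neg _ _).symm) }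
  have hS : ruLattice ≤ S := lat_le_of_lines
    (fun x hx => by
      obtain ⟨hx, hx'⟩ := hx
      refine ⟨gI_smul_mem_ruLattice hx, ?_⟩
      have := f.2.2.1 ⟨x, hx⟩
      rw [hx'] at this
      exact this.trans (Subtype.ext (funext fun p => mul_left_comm _ _ _)))
    (fun a ha => ⟨line_mem ha, by
      have h := huf ⟨a, ha⟩
      rw [hconst ⟨a, ha⟩] at h
      exact h⟩)
  obtain ⟨_, hv⟩ := hS v.2
  exact hv

theorem actHom_scalar (e : Fin 4) : actHom (scalarAut e) = 1 :=
  Equiv.ext fun a => by
    rw [actHom_apply]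
    exact img_eq (e := e.1) rfl

theorem center_aut : Subgroup.center autGrp = ⊥ := by
  haveI := aut_isSimple
  rcases (inferInstance : (Subgroup.center autGrp).Normal).eq_bot_or_eq_top with h | h
  · exact h
  exfalso
  letI : CommGroup autGrp :=
    { (inferInstance : Group autGrp) with
      mul_comm := fun a b => by
        have hb : b ∈ Subgroup.center autGrp := by rw [h]; trivial
        exact Subgroup.mem_center_iff.1 hb a }
  have hp := IsSimpleGroup.prime_card (α := autGrp)
  rw [card_aut] at hp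
  norm_num at hp

theorem ker_eq_center : actHom.ker = Subgroup.center fourRu := by
  refine le_antisymm (fun f hf => ?_) (fun f hf => ?_)
  · obtain ⟨e, rfl⟩ := ker_scalar hf
    exact Subgroup.mem_center_iff.2 fun g => (scalarAut_central e g).symm
  · have hc : (⟨actHom f, actHom_mem f⟩ : autGrp) ∈ Subgroup.center autGrp := by
      rw [Subgroup.mem_center_iff]
      rintro ⟨σ, hσ⟩
      rw [← range_eq] at hσ
      obtain ⟨g, rfl⟩ := hσ
      exact Subtype.ext (by
        show actHom g * actHom f = actHom f * actHom g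
        rw [← map_mul, ← map_mul, Subgroup.mem_center_iff.1 hf g])
    rw [center_aut, Subgroup.mem_bot] at hc
    exact congrArg Subtype.val hc

theorem card_center_four : Nat.card (Subgroup.center fourRu) = 4 := by
  rw [← ker_eq_center]
  have e : Fin 4 ≃ actHom.ker := Equiv.ofBijective (fun e => ⟨scalarAut e, actHom_scalar e⟩)
    ⟨fun a b h => scalarAut_injective (congrArg Subtype.val h), fun f => by
      obtain ⟨e, he⟩ := ker_scalar f.2
      exact ⟨e, Subtype.ext he.symm⟩⟩
  rw [← Nat.card_congr e, Nat.card_fin]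

/-- The Rudvalis group is the automorphism group of the graph. -/
noncomputable def ruEquiv : Cfsg.Spor.Ru ≃* autGrp :=
  (QuotientGroup.quotientMulEquivOfEq ker_eq_center.symm).trans
    ((QuotientGroup.quotientKerEquivRange actHom).trans (MulEquiv.subgroupCongr range_eq))

theorem card_Ru : Nat.card Cfsg.Spor.Ru = 145926144000 := by
  rw [Nat.card_congr ruEquiv.toEquiv, card_aut]

theorem isSimple_Ru : IsSimpleGroup Cfsg.Spor.Ru := by
  haveI := aut_isSimple
  haveI : Nontrivial Cfsg.Spor.Ru := ruEquiv.toEquiv.nontrivial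
  exact IsSimpleGroup.isSimpleGroup_of_surjective ruEquiv.symm.toMonoidHom ruEquiv.symm.surjective

end Cfsg.Agent.PGroups.Ru
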