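import Cfsg.Agent.PGroups.RuLatDefs

/-!
The image check of the Rudvalis lattice in two halves.
-/

set_option autoImplicit false

namespace Cfsg.Agent.PGroups.Ru

open Cfsg.Spor
open Cfsg.Agent.H44 (Rud.iPt Rud.cIdx Rud.herm Rud.oddG Rud.four? Rud.genVec Rud.gAt Rud.comb)

/-- Row `n` of the image check. -/
def imageRowOK (row : ℕ → ℕ → GaussianInt) (co : List ℕ) (n : ℕ) : Bool :=
  (List.range 28).all fun r =>
    let z := ((List.range 28).map fun p => row r p * bvec n (Rud.iPt p)).sum
    Rud.four? z && Rud.four? (⟨z.re / 4, z.im / 4⟩ - Rud.comb (co.getD n 0) (Rud.iPt r))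

theorem imageOK_of_halves {row : ℕ → ℕ → GaussianInt} {co : List ℕ}
    (h1 : (List.range' 0 24).all (imageRowOK row co) = true)
    (h2 : (List.range' 24 23).all (imageRowOK row co) = true) : imageOK row co = true := by
  rw [imageOK, List.all_eq_true]
  intro n hn
  show imageRowOK row co n = true
  rw [List.mem_range] at hn
  rcases Nat.lt_or_ge n 24 with h | h
  · exact List.all_eq_true.1 h1 n (List.mem_range'_1.2 ⟨by omega, by omega⟩)
  · exact List.all_eq_true.1 h2 n (List.mem_range'_1.2 ⟨by omega, by omega⟩)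

end Cfsg.Agent.PGroups.Ru
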