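import Cfsg.Agent.PGroups.RuPermCertsGen

/-!
Kernel checks for the adjacency of the Rudvalis graph.
-/

set_option autoImplicit false
set_option Elab.async false

namespace Cfsg.Agent.PGroups.Ru

/-- Row `a` of the adjacency certificate. -/
def nbRowOK (a : ℕ) : Bool :=
  (lin nbRows (2 ^ a) == nbRows.getD a 0) &&
      (lin formRows (2 ^ a) == formRows.getD a 0) && (nbRows.getD a 0 < 2 ^ 4060) &&
      (List.range 4060).all fun j =>
        (nbRows.getD a 0).testBit j == par (formRows.getD a 0 &&& pt j)

theorem nb_rows_low : ((List.range' 0 7).all nbRowOK) = true := by decide +kernel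

theorem nb_rows_mid : ((List.range' 7 7).all nbRowOK) = true := by decide +kernel

theorem nb_rows_high : ((List.range' 14 7).all nbRowOK) = true := by decide +kernel

theorem nb_rows_top : ((List.range' 21 7).all nbRowOK) = true := by decide +kernel

theorem nb_cert :
    ((List.range 28).all fun a => (lin nbRows (2 ^ a) == nbRows.getD a 0) &&
      (lin formRows (2 ^ a) == formRows.getD a 0) && (nbRows.getD a 0 < 2 ^ 4060) &&
      (List.range 4060).all fun j =>
        (nbRows.getD a 0).testBit j == par (formRows.getD a 0 &&& pt j)) = true := by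
  refine List.all_eq_true.2 fun a ha => ?_
  show nbRowOK a = true
  have ha' : a < 28 := List.mem_range.1 ha
  rcases Nat.lt_or_ge a 7 with h | h
  · exact List.all_eq_true.1 nb_rows_low a (List.mem_range'_1.2 ⟨by omega, by omega⟩)
  rcases Nat.lt_or_ge a 14 with h | h
  · exact List.all_eq_true.1 nb_rows_mid a (List.mem_range'_1.2 ⟨by omega, by omega⟩)
  rcases Nat.lt_or_ge a 21 with h | h
  · exact List.all_eq_true.1 nb_rows_high a (List.mem_range'_1.2 ⟨by omega, by omega⟩)
  exact List.all_eq_true.1 nb_rows_top a (List.mem_range'_1.2 ⟨by omega, by omega⟩)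

theorem sorted_cert :
    ((List.range 4059).all fun j => decide (key (pt j) < key (pt (j + 1)))) = true := by
  decide +kernel

end Cfsg.Agent.PGroups.Ru
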