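import Cfsg.Agent.PGroups.RuPermDefs

/-!
Kernel checks for the generators of the Rudvalis graph.
-/

set_option autoImplicit false
set_option Elab.async false

namespace Cfsg.Agent.PGroups.Ru

theorem gen_cert0 : genOK 0 = true := by decide +kernel
theorem gen_cert1 : genOK 1 = true := by decide +kernel
theorem gen_cert2 : genOK 2 = true := by decide +kernel
theorem gen_cert3 : genOK 3 = true := by decide +kernel
theorem gen_cert4 : genOK 4 = true := by decide +kernel
theorem gen_cert5 : genOK 5 = true := by decide +kernel
theorem gen_cert6 : genOK 6 = true := by decide +kernel
theorem gen_cert7 : genOK 7 = true := by decide +kernel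
theorem gen_cert8 : genOK 8 = true := by decide +kernel

end Cfsg.Agent.PGroups.Ru
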