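import Cfsg.Agent.PGroups.RuPermRefineDefs

/-!
Kernel check of the fourth refinement certificate, in pieces.
-/

set_option autoImplicit false
set_option Elab.async false

namespace Cfsg.Agent.PGroups.Ru

theorem refine4_head :
    (((cells4.getD 0 0 == 2 ^ 4060 - 1) &&
      ((List.range [0, 4059, 4024, 3674].length).all fun i =>
        cells4.getD (i + 1) 0 == 2 ^ [0, 4059, 4024, 3674].getD i 0) &&
      (cells4.length == [0, 4059, 4024, 3674].length + 1 + refine4.length)) &&
      (refine4.length == 158)) = true := by
  decide +kernel

theorem refine4_part_0 : ((List.range' 0 20).all refine4Step) = true := by decide +kernel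

theorem refine4_part_1 : ((List.range' 20 20).all refine4Step) = true := by decide +kernel

theorem refine4_part_2 : ((List.range' 40 20).all refine4Step) = true := by decide +kernel

theorem refine4_part_3 : ((List.range' 60 20).all refine4Step) = true := by decide +kernel

end Cfsg.Agent.PGroups.Ru
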