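import Cfsg.Agent.PGroups.RuPermDefs

/-!
Kernel checks for the trees of the Rudvalis graph, one tree at a time.
-/

set_option autoImplicit false
set_option Elab.async false

namespace Cfsg.Agent.PGroups.Ru

theorem tree_cert_0 : treeOK 0 = true := by decide +kernel

theorem tree_cert_1 : treeOK 1 = true := by decide +kernel

theorem tree_cert_2 : treeOK 2 = true := by decide +kernel

theorem tree_cert_3 : treeOK 3 = true := by decide +kernel

theorem tree_cert_4 : treeOK 4 = true := by decide +kernel

theorem tree_cert_5 : treeOK 5 = true := by decide +kernel

theorem tree_cert_6 : treeOK 6 = true := by decide +kernel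

theorem tree_cert_7 : treeOK 7 = true := by decide +kernel

theorem tree_cert_8 : treeOK 8 = true := by decide +kernel

theorem tree_cert_9 : treeOK 9 = true := by decide +kernel


end Cfsg.Agent.PGroups.Ru
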