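import Cfsg.Agent.PGroups.RuPermDefs

/-!
Kernel check of the fourth refinement certificate, in pieces.
-/

set_option autoImplicit false
set_option Elab.async false

namespace Cfsg.Agent.PGroups.Ru

/-- Step `i` of the fourth refinement. -/
def refine4Step (i : ℕ) : Bool :=
  let s := refine4.getD i (0, 0, 0, 0)
  decide (s.2.1 < [0, 4059, 4024, 3674].length + 1 + i) &&
    decide (s.2.2.1 < [0, 4059, 4024, 3674].length + 1 + i) &&
    stepMask cells4 s == cells4.getD ([0, 4059, 4024, 3674].length + 1 + i) 0

end Cfsg.Agent.PGroups.Ru
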