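import Cfsg.Agent.PGroups.CyclicMaximal
import Cfsg.Agent.PGroups.Taussky
import Cfsg.Agent.PGroups.Burnside
import Cfsg.Agent.PGroups.Extraspecial
import Cfsg.Agent.S3976
import Mathlib.GroupTheory.FiniteAbelian.Duality
import Mathlib.RingTheory.RootsOfUnity.AlgebraicallyClosed
import Mathlib.Analysis.Complex.Polynomial.Basic

/-!
The enumeration principle modulo `p ^ 2`: over the maximal subgroups, a subgroup of index at least `p ^ 2` is
counted once, up to `p` times a number which adds up to `1` modulo `p`.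
-/

set_option autoImplicit false
set_option linter.style.haveILetI false
set_option linter.unusedSectionVars false

namespace Cfsg.Agent.PGroups

open Subgroup
open scoped commutatorElement

universe u

variable {p : ℕ} [hp : Fact p.Prime]

/-- The number of subgroups of order `p ^ k`. -/
noncomputable def sCount (p : ℕ) (G : Type u) [Group G] (k : ℕ) : ℕ :=
  Nat.card {H : Subgroup G // Nat.card H = p ^ k}

theorem sCount_congr {G H : Type u} [Group G] [Group H] (e : G ≃* H) (k : ℕ) : sCount p G k = sCount p H k :=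
  Nat.card_congr (Equiv.subtypeEquiv e.mapSubgroup.toEquiv fun K => by
    rw [show Nat.card ↑(e.mapSubgroup.toEquiv K) = Nat.card K from
      (Nat.card_congr (e.subgroupMap K).toEquiv).symm])

theorem sCount_subgroup {G : Type u} [Group G] (M : Subgroup G) (k : ℕ) :
    sCount p M k = Nat.card {H : Subgroup G // H ≤ M ∧ Nat.card H = p ^ k} := by
  refine Nat.card_congr
    { toFun := fun H => ⟨H.1.map M.subtype, Subgroup.map_subtype_le _, by
        rw [Subgroup.card_map_of_injective M.subtype_injective]; exact H.2⟩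
      invFun := fun H => ⟨H.1.subgroupOf M, by
        rw [Nat.card_congr (Subgroup.subgroupOfEquivOfLe H.2.1).toEquiv]; exact H.2.2⟩
      left_inv := fun H => Subtype.ext (Subgroup.comap_map_eq_self_of_injective M.subtype_injective H.1)
      right_inv := fun H => Subtype.ext (Subgroup.map_subgroupOf_eq_of_le H.2.1) }

/-- The number of subgroups of a given order is congruent to `1` modulo `p`. -/
theorem sCount_modEq_one {G : Type u} [Group G] [Finite G] {m k : ℕ} (hG : Nat.card G = p ^ m) (hk : k ≤ m) :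
    sCount p G k ≡ 1 [MOD p] := by
  classical
  have h0 := Cfsg.Agent.S3976.result p m k hp.out hG hk
  refine Nat.ModEq.trans ?_ h0
  letI : MulAction (ConjAct G) {H : Subgroup G // Nat.card H = p ^ k} :=
    { smul := fun g H => ⟨H.1.map (MulAut.conj (ConjAct.ofConjAct g)).toMonoidHom, by
        rw [Subgroup.card_map_of_injective (MulAut.conj (ConjAct.ofConjAct g)).injective]; exact H.2⟩
      one_smul := fun H => Subtype.ext (by
        show H.1.map (MulAut.conj (ConjAct.ofConjAct (1 : ConjAct G))).toMonoidHom = H.1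
        ext x; simp)
      mul_smul := fun g h H => Subtype.ext (by
        show H.1.map (MulAut.conj (ConjAct.ofConjAct (g * h))).toMonoidHom =
          (H.1.map (MulAut.conj (ConjAct.ofConjAct h)).toMonoidHom).map
            (MulAut.conj (ConjAct.ofConjAct g)).toMonoidHom
        rw [Subgroup.map_map, map_mul, map_mul]
        rfl) }
  have hA : IsPGroup p (ConjAct G) := IsPGroup.of_card (n := m) (by rw [← hG]; exact Nat.card_congr ConjAct.ofConjAct.toEquiv)
  refine (hA.card_modEq_card_fixedPoints (α := {H : Subgroup G // Nat.card H = p ^ k})).trans ?_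
  have hiff : ∀ H : {H : Subgroup G // Nat.card H = p ^ k},
      H ∈ MulAction.fixedPoints (ConjAct G) _ ↔ H.1.Normal := by
    intro H
    constructor
    · intro h
      refine ⟨fun x hx g => ?_⟩
      have hg := congrArg Subtype.val (h (ConjAct.toConjAct g))
      rw [← show H.1.map (MulAut.conj g).toMonoidHom = H.1 from hg]
      exact ⟨x, hx, rfl⟩
    · intro h g
      refine Subtype.ext ?_
      show H.1.map (MulAut.conj (ConjAct.ofConjAct g)).toMonoidHom = H.1
      exact @Subgroup.Normal.map_conj_eq _ _ H.1 h _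
  show _ % p = _ % p
  refine congrArg (· % p) (Nat.card_congr
    { toFun := fun H => ⟨H.1.1, (hiff H.1).1 H.2, H.1.2⟩
      invFun := fun H => ⟨⟨H.1, H.2.2⟩, (hiff _).2 H.2.1⟩
      left_inv := fun H => rfl
      right_inv := fun H => rfl })

/-- Subgroups over a normal subgroup, by index. -/
theorem card_index_over {G : Type u} [Group G] (R : Subgroup G) [R.Normal] (i : ℕ) :
    Nat.card {K : Subgroup G // K.index = i ∧ R ≤ K} = Nat.card {K : Subgroup (G ⧸ R) // K.index = i} := by
  have hs := QuotientGroup.mk'_surjective R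
  refine Nat.card_congr
    { toFun := fun K => ⟨K.1.map (QuotientGroup.mk' R), by
        rw [Subgroup.index_map_eq _ hs (by rw [QuotientGroup.ker_mk']; exact K.2.2)]; exact K.2.1⟩
      invFun := fun K => ⟨K.1.comap (QuotientGroup.mk' R), by
        rw [Subgroup.index_comap_of_surjective _ hs]; exact K.2, by
        intro r hr
        show QuotientGroup.mk' R r ∈ K.1
        rw [show QuotientGroup.mk' R r = 1 from (QuotientGroup.eq_one_iff r).2 hr]
        exact one_mem _⟩
      left_inv := fun K => Subtype.ext (by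
        show (K.1.map (QuotientGroup.mk' R)).comap (QuotientGroup.mk' R) = K.1
        rw [Subgroup.comap_map_eq, QuotientGroup.ker_mk', sup_eq_left.2 K.2.2])
      right_inv := fun K => Subtype.ext (Subgroup.map_comap_eq_self_of_surjective hs K.1) }

/-- Index `p` and index `p ^ 2` subgroups of an elementary abelian group. -/
theorem count_elementary {W : Type u} [Group W] [Finite W] (hW : ∀ a b : W, a * b = b * a)
    (hexp : ∀ a : W, a ^ p = 1) {d : ℕ} (hd : Nat.card W = p ^ d) :
    (d = 1 → Nat.card {K : Subgroup W // K.index = p} = 1 ∧ Nat.card {K : Subgroup W // K.index = p ^ 2} = 0) ∧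
    (2 ≤ d → ((Nat.card {K : Subgroup W // K.index = p} : ℕ) : ZMod (p ^ 2)) = 1 + p ∧
      Nat.card {K : Subgroup W // K.index = p ^ 2} ≡ 1 [MOD p]) := by
  classical
  have hp2 := hp.out.two_le
  refine ⟨fun h1 => ⟨?_, ?_⟩, fun h2 => ⟨?_, ?_⟩⟩
  · rw [Nat.card_eq_one_iff_unique]
    refine ⟨⟨fun K L => Subtype.ext ?_⟩, ⟨⟨⊥, by rw [Subgroup.index_bot, hd, h1, pow_one]⟩⟩⟩
    have : ∀ K : Subgroup W, K.index = p → K = ⊥ := fun K hK => by
      have h := K.card_mul_index
      rw [hK, hd, h1, pow_one] at h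
      exact Subgroup.eq_bot_of_card_eq K (Nat.eq_of_mul_eq_mul_right hp.out.pos (h.trans (one_mul p).symm))
    rw [this _ K.2, this _ L.2]
  · haveI : IsEmpty {K : Subgroup W // K.index = p ^ 2} := ⟨fun K => by
      have h := Subgroup.index_dvd_card K.1
      rw [K.2, hd, h1, Nat.pow_dvd_pow_iff_le_right hp.out.one_lt] at h
      omega⟩
    exact Nat.card_of_isEmpty
  · letI : CommGroup W := { (inferInstance : Group W) with mul_comm := hW }
    haveI : NeZero (Monoid.exponent W) := ⟨Monoid.exponent_ne_zero_of_finite⟩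
    obtain ⟨e⟩ := CommGroup.monoidHom_mulEquiv_of_hasEnoughRootsOfUnity W ℂ
    set D := W →* ℂˣ
    haveI : Finite D := Finite.of_equiv W e.symm.toEquiv
    have hDe : ∀ a : D, a ^ p = 1 := fun a => e.injective (by rw [map_pow, hexp, map_one])
    have hDc : Nat.card D = p ^ d := (Nat.card_congr e.toEquiv).trans hd
    have hcnt : Nat.card {K : Subgroup W // K.index = p} = Nat.card {L : Subgroup D // Nat.card L = p} := by
      refine Nat.card_congr (Equiv.subtypeEquiv
        ((CommGroup.subgroupOrderIsoSubgroupMonoidHom W ℂ).toEquiv.trans OrderDual.ofDual) fun K => ?_)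
      show K.index = p ↔ Nat.card ↑(CommGroup.subgroupOrderIsoSubgroupMonoidHom W ℂ K).ofDual = p
      rw [CommGroup.card_subgroupOrderIsoSubgroupMonoidHom, Subgroup.index_eq_card]
    rw [hcnt]
    cases nonempty_fintype D
    let f : (Σ L : {L : Subgroup D // Nat.card L = p}, {a : L.1 // a ≠ 1}) → {a : D // a ≠ 1} :=
      fun a => ⟨(a.2.1 : D), fun h => a.2.2 (Subtype.ext h)⟩
    have hz : ∀ (L : Subgroup D) (a : D), Nat.card L = p → a ∈ L → a ≠ 1 → zpowers a = L :=
      fun L a hL ha ha1 => zpowers_eq_of_card_eq hL ha ha1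
    have hf : Function.Bijective f := by
      refine ⟨?_, ?_⟩
      · rintro ⟨⟨K, hK⟩, ⟨a, ha⟩, ha1⟩ ⟨⟨K', hK'⟩, ⟨a', ha'⟩, ha1'⟩ h
        obtain rfl : a = a' := congrArg Subtype.val h
        have hne : a ≠ 1 := fun h => ha1 (Subtype.ext h)
        obtain rfl : K = K' := (hz K a hK ha hne).symm.trans (hz K' a hK' ha' hne)
        rfl
      · rintro ⟨a, ha⟩
        exact ⟨⟨⟨zpowers a, by rw [Nat.card_zpowers, orderOf_eq_prime (hDe a) ha]⟩,
          ⟨⟨a, mem_zpowers a⟩, fun h => ha (congrArg Subtype.val h)⟩⟩, rfl⟩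
    have h := Nat.card_congr (Equiv.ofBijective f hf)
    rw [Nat.card_sigma] at h
    have hD : ∀ L : {L : Subgroup D // Nat.card L = p}, Nat.card {a : L.1 // a ≠ 1} = p - 1 := fun L => by
      rw [Nat.card_eq_fintype_card, Fintype.card_subtype_compl, ← Nat.card_eq_fintype_card, L.2]
      simp
    simp only [hD, Finset.sum_const, Finset.card_univ, smul_eq_mul] at h
    rw [Nat.card_eq_fintype_card (α := {a : D // a ≠ 1}), Fintype.card_subtype_compl,
      ← Nat.card_eq_fintype_card (α := D), hDc, Fintype.card_subtype_eq, ← Nat.card_eq_fintype_card] at h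
    set t := Nat.card {L : Subgroup D // Nat.card L = p}
    have h' : (t : ZMod (p ^ 2)) * ((p : ZMod (p ^ 2)) - 1) = -1 := by
      have := congrArg (fun a : ℕ => (a : ZMod (p ^ 2))) h
      simp only [Nat.cast_mul, Nat.cast_sub hp.out.one_le, Nat.cast_sub (Nat.one_le_pow d p hp.out.pos),
        Nat.cast_one] at this
      rw [this, show ((p ^ d : ℕ) : ZMod (p ^ 2)) = 0 from
        (ZMod.natCast_eq_zero_iff _ _).2 (pow_dvd_pow p h2), zero_sub]
    have hpp : (p : ZMod (p ^ 2)) * p = 0 := by
      rw [← Nat.cast_mul, ← sq, ZMod.natCast_self]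
    have hu : ((p : ZMod (p ^ 2)) - 1) * ((p : ZMod (p ^ 2)) + 1) = -1 := by linear_combination hpp
    linear_combination (-(((p : ZMod (p ^ 2)) + 1))) * h' + (t : ZMod (p ^ 2)) * hu
  · have heq : Nat.card {K : Subgroup W // K.index = p ^ 2} =
        Nat.card {K : Subgroup W // K.Normal ∧ Nat.card K = p ^ (d - 2)} := by
      refine Nat.card_congr (Equiv.subtypeEquivRight fun K => ?_)
      have h := K.card_mul_index
      rw [hd, show d = d - 2 + 2 by omega, pow_add] at h
      constructor
      · intro hK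
        rw [hK] at h
        exact ⟨⟨fun a ha g => by rw [hW g a, mul_inv_cancel_right]; exact ha⟩,
          Nat.eq_of_mul_eq_mul_right (pow_pos hp.out.pos _) h⟩
      · rintro ⟨-, hK⟩
        rw [hK] at h
        exact Nat.eq_of_mul_eq_mul_left (pow_pos hp.out.pos _) h
    rw [heq]
    exact Cfsg.Agent.S3976.result p d (d - 2) hp.out hd (by omega)

variable {G : Type u} [Group G] [Finite G] {m : ℕ}

theorem frattini_le_of_index (hG : IsPGroup p G) {M : Subgroup G} (hM : M.index = p) : frattini G ≤ M := by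
  refine frattini_le_coatom ⟨fun h => ?_, fun K hK => ?_⟩
  · rw [h, Subgroup.index_top] at hM; exact hp.out.one_lt.ne hM
  · have h := Subgroup.index_dvd_of_le hK.le
    rw [hM] at h
    rcases hp.out.eq_one_or_self_of_dvd _ h with h | h
    · exact Subgroup.index_eq_one.1 h
    · exfalso
      have h1 := M.card_mul_index
      rw [hM, ← K.card_mul_index, h] at h1
      exact hK.ne (Subgroup.eq_of_le_of_card_ge hK.le (Nat.eq_of_mul_eq_mul_right hp.out.pos h1).ge)

/-- A proper subgroup lies in `1` plus `p` times `#{index p ^ 2 over it}` maximal subgroups. -/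
theorem count_over (hG : IsPGroup p G) (H : Subgroup G) (hH : H ≠ ⊤) :
    ((Nat.card {M : Subgroup G // M.index = p ∧ H ≤ M} : ℕ) : ZMod (p ^ 2)) =
      1 + p * (Nat.card {N : Subgroup G // (N.index = p ^ 2 ∧ frattini G ≤ N) ∧ H ≤ N} : ℕ) := by
  haveI := hG.isNilpotent
  set R := H ⊔ frattini G
  haveI hR : R.Normal := ⟨fun a ha g => by
    have h1 : ⁅g, a⁆ ∈ R := le_sup_right (α := Subgroup G) (commutator_le_frattini hG
      (commutator_mem_commutator (mem_top g) (mem_top a)))
    simpa [commutatorElement_def] using mul_mem h1 ha⟩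
  have hne : R ≠ ⊤ := fun h => hH (frattini_nongenerating h)
  obtain ⟨d, hd⟩ := IsPGroup.iff_card.1 (hG.to_quotient R)
  have hd0 : d ≠ 0 := fun h => hne (by
    rw [h, pow_zero, ← Subgroup.index_eq_card] at hd
    exact Subgroup.index_eq_one.1 hd)
  obtain ⟨h1, h2⟩ := count_elementary (W := G ⧸ R) (p := p) (fun a b => by
      obtain ⟨a, rfl⟩ := QuotientGroup.mk'_surjective R a
      obtain ⟨b, rfl⟩ := QuotientGroup.mk'_surjective R b
      rw [← commutatorElement_eq_one_iff_mul_comm, ← map_commutatorElement]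
      exact (QuotientGroup.eq_one_iff _).2 (le_sup_right (α := Subgroup G) (commutator_le_frattini hG
        (commutator_mem_commutator (mem_top a) (mem_top b)))))
    (fun a => by
      obtain ⟨a, rfl⟩ := QuotientGroup.mk'_surjective R a
      rw [← map_pow]
      exact (QuotientGroup.eq_one_iff _).2 (le_sup_right (α := Subgroup G) (pow_mem_frattini hG a))) hd
  have hM : Nat.card {M : Subgroup G // M.index = p ∧ H ≤ M} = Nat.card {K : Subgroup (G ⧸ R) // K.index = p} := by
    rw [← card_index_over R p]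
    exact Nat.card_congr (Equiv.subtypeEquivRight fun M =>
      ⟨fun h => ⟨h.1, sup_le h.2 (frattini_le_of_index hG h.1)⟩, fun h => ⟨h.1, le_sup_left.trans h.2⟩⟩)
  have hN : Nat.card {N : Subgroup G // (N.index = p ^ 2 ∧ frattini G ≤ N) ∧ H ≤ N} =
      Nat.card {K : Subgroup (G ⧸ R) // K.index = p ^ 2} := by
    rw [← card_index_over R (p ^ 2)]
    exact Nat.card_congr (Equiv.subtypeEquivRight fun N =>
      ⟨fun h => ⟨h.1.1, sup_le h.2 h.1.2⟩, fun h => ⟨⟨h.1, le_sup_right.trans h.2⟩, le_sup_left.trans h.2⟩⟩)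
  rw [hM, hN]
  rcases (show d = 1 ∨ 2 ≤ d by omega) with h | h
  · rw [(h1 h).1, (h1 h).2]; simp
  · rw [(h2 h).1]
    obtain ⟨t, ht⟩ := (Nat.modEq_iff_dvd.1 (h2 h).2.symm)
    have e : ((Nat.card {K : Subgroup (G ⧸ R) // K.index = p ^ 2} : ℕ) : ZMod (p ^ 2)) = 1 + p * (t : ZMod (p ^ 2)) := by
      have := congrArg (fun a : ℤ => (a : ZMod (p ^ 2))) ht
      push_cast at this
      linear_combination this
    have hpp : (p : ZMod (p ^ 2)) * p = 0 := by rw [← Nat.cast_mul, ← sq, ZMod.natCast_self]
    rw [e]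
    linear_combination (-(t : ZMod (p ^ 2))) * hpp

theorem two_le_of_not_cyclic (hG : IsPGroup p G) (hnc : ¬ IsCyclic G) : ∃ d, 2 ≤ d ∧ Nat.card (G ⧸ frattini G) = p ^ d := by
  obtain ⟨d, hd⟩ := IsPGroup.iff_card.1 (hG.to_quotient (frattini G))
  refine ⟨d, ?_, hd⟩
  by_contra hlt
  haveI : IsCyclic (G ⧸ frattini G) := by
    rcases Nat.le_one_iff_eq_zero_or_eq_one.mp (show d ≤ 1 by omega) with rfl | rfl
    · haveI : Subsingleton (G ⧸ frattini G) := (Nat.card_eq_one_iff_unique.mp (by simpa using hd)).1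
      infer_instance
    · exact isCyclic_of_prime_card (p := p) (by simpa using hd)
  exact hnc isCyclic_of_frattini

theorem count_frattini (hG : IsPGroup p G) (hnc : ¬ IsCyclic G) :
    ((Nat.card {M : Subgroup G // M.index = p} : ℕ) : ZMod (p ^ 2)) = 1 + p ∧
      Nat.card {N : Subgroup G // N.index = p ^ 2 ∧ frattini G ≤ N} ≡ 1 [MOD p] := by
  obtain ⟨d, hd2, hd⟩ := two_le_of_not_cyclic hG hnc
  obtain ⟨-, h2⟩ := count_elementary (W := G ⧸ frattini G) (p := p) (fun a b => by
      obtain ⟨a, rfl⟩ := QuotientGroup.mk'_surjective (frattini G) a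
      obtain ⟨b, rfl⟩ := QuotientGroup.mk'_surjective (frattini G) b
      rw [← commutatorElement_eq_one_iff_mul_comm, ← map_commutatorElement]
      exact (QuotientGroup.eq_one_iff _).2 (commutator_le_frattini hG
        (commutator_mem_commutator (mem_top a) (mem_top b))))
    (fun a => by
      obtain ⟨a, rfl⟩ := QuotientGroup.mk'_surjective (frattini G) a
      rw [← map_pow]
      exact (QuotientGroup.eq_one_iff _).2 (pow_mem_frattini hG a)) hd
  obtain ⟨h3, h4⟩ := h2 hd2
  constructor
  · rw [← h3, ← card_index_over (frattini G) p]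
    exact congrArg Nat.cast (Nat.card_congr (Equiv.subtypeEquivRight fun M =>
      ⟨fun h => ⟨h, frattini_le_of_index hG h⟩, fun h => h.1⟩))
  · rwa [card_index_over (frattini G) (p ^ 2)]

theorem card_of_index (hc : Nat.card G = p ^ m) {M : Subgroup G} {i : ℕ} (hM : M.index = p ^ i) :
    Nat.card M = p ^ (m - i) := by
  have h := M.card_mul_index
  have hi : i ≤ m := by
    have := Subgroup.index_dvd_card M
    rwa [hM, hc, Nat.pow_dvd_pow_iff_le_right hp.out.one_lt] at this
  rw [hM, hc, show m = m - i + i by omega, pow_add] at h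
  exact Nat.eq_of_mul_eq_mul_right (pow_pos hp.out.pos _) h

/-- The maximal subgroups, as a finite set. -/
noncomputable def maxSubs (p : ℕ) (G : Type u) [Group G] [Finite G] : Finset (Subgroup G) :=
  letI := Fintype.ofFinite (Subgroup G)
  Finset.univ.filter fun M => M.index = p

theorem mem_maxSubs {M : Subgroup G} : M ∈ maxSubs p G ↔ M.index = p := by
  simp [maxSubs]

theorem card_maxSubs (hG : IsPGroup p G) (hnc : ¬ IsCyclic G) :
    ((maxSubs p G).card : ZMod (p ^ 2)) = 1 + p := by
  rw [← (count_frattini hG hnc).1]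
  refine congrArg Nat.cast ?_
  rw [← Nat.card_eq_finsetCard]
  exact Nat.card_congr (Equiv.subtypeEquivRight fun M => mem_maxSubs)

theorem sCount_maximal (hc : Nat.card G = p ^ m) (hm : 1 ≤ m) (hnc : ¬ IsCyclic G) :
    (sCount p G (m - 1) : ZMod (p ^ 2)) = 1 + p := by
  rw [← (count_frattini (IsPGroup.of_card hc) hnc).1]
  refine congrArg Nat.cast (Nat.card_congr (Equiv.subtypeEquivRight fun M => ⟨fun h => ?_, fun h => ?_⟩))
  · have h1 := M.card_mul_index
    rw [h, hc, show m = m - 1 + 1 by omega, pow_succ, Nat.add_sub_cancel] at h1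
    exact Nat.eq_of_mul_eq_mul_left (pow_pos hp.out.pos _) h1
  · exact card_of_index (i := 1) hc (by rwa [pow_one])

/-- The enumeration principle. -/
theorem sum_sCount (hc : Nat.card G = p ^ m) (hnc : ¬ IsCyclic G) {k : ℕ} (hk : k + 2 ≤ m) :
    (∑ M ∈ maxSubs p G, (sCount p M k : ZMod (p ^ 2))) = sCount p G k + p := by
  classical
  have hG := IsPGroup.of_card hc
  letI := Fintype.ofFinite (Subgroup G)
  set A := Finset.univ.filter fun H : Subgroup G => Nat.card H = p ^ k
  set N := Finset.univ.filter fun N : Subgroup G => N.index = p ^ 2 ∧ frattini G ≤ N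
  have hs : ∀ M : Subgroup G, sCount p M k = (A.filter fun H => H ≤ M).card := fun M => by
    rw [sCount_subgroup, ← Nat.card_eq_finsetCard]
    exact Nat.card_congr (Equiv.subtypeEquivRight fun H => by simp [A, and_comm])
  have hsA : sCount p G k = A.card := by
    rw [sCount, ← Nat.card_eq_finsetCard]
    exact Nat.card_congr (Equiv.subtypeEquivRight fun H => by simp [A])
  have hswap : ∀ B : Finset (Subgroup G), (∑ M ∈ B, ((A.filter fun H => H ≤ M).card : ZMod (p ^ 2))) =
      ∑ H ∈ A, ((B.filter fun M => H ≤ M).card : ZMod (p ^ 2)) := by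
    intro B
    simp only [Finset.card_filter, Nat.cast_sum]
    exact Finset.sum_comm
  have hover : ∀ H ∈ A, (((maxSubs p G).filter fun M => H ≤ M).card : ZMod (p ^ 2)) =
      1 + p * ((N.filter fun M => H ≤ M).card : ZMod (p ^ 2)) := by
    intro H hH
    have hHc : Nat.card H = p ^ k := by simpa [A] using hH
    have h := count_over hG H fun h => by
      rw [h, Subgroup.card_top, hc] at hHc
      have := Nat.pow_right_injective hp.out.two_le hHc
      omega
    rw [← Nat.card_eq_finsetCard, ← Nat.card_eq_finsetCard]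
    convert h using 1
    · exact congrArg Nat.cast (Nat.card_congr (Equiv.subtypeEquivRight fun M => by simp [mem_maxSubs]))
    · congr 2
      exact congrArg Nat.cast (Nat.card_congr (Equiv.subtypeEquivRight fun M => by simp [N, and_assoc]))
  simp only [hs]
  rw [hswap, Finset.sum_congr rfl hover, Finset.sum_add_distrib, ← Finset.mul_sum, ← hswap, Finset.sum_const,
    nsmul_eq_mul, mul_one, hsA]
  congr 1
  have hN : N.card ≡ 1 [MOD p] := by
    rw [← Nat.card_eq_finsetCard]
    refine Nat.ModEq.trans (congrArg (· % p) ?_) (count_frattini hG hnc).2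
    exact Nat.card_congr (Equiv.subtypeEquivRight fun M => by simp [N])
  have hsum : (∑ M ∈ N, sCount p M k) ≡ ∑ M ∈ N, 1 [MOD p] :=
    Nat.ModEq.sum fun M hM => by
      have hM' : M.index = p ^ 2 := by
        have := (Finset.mem_filter.1 hM).2
        exact this.1
      exact sCount_modEq_one (card_of_index hc hM') (by omega)
  rw [Finset.sum_const, smul_eq_mul, mul_one] at hsum
  obtain ⟨t, ht⟩ := Nat.modEq_iff_dvd.1 (hsum.trans hN)
  have h' := congrArg (fun a : ℤ => (a : ZMod (p ^ 2))) ht
  simp only [hs] at h'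
  push_cast at h'
  have hpp : (p : ZMod (p ^ 2)) * p = 0 := by rw [← Nat.cast_mul, ← sq, ZMod.natCast_self]
  linear_combination (-(p : ZMod (p ^ 2))) * h' + (-(t : ZMod (p ^ 2))) * hpp

theorem sCount_cyclic [IsCyclic G] (hc : Nat.card G = p ^ m) {k : ℕ} (hk : k ≤ m) : sCount p G k = 1 := by
  classical
  cases nonempty_fintype G
  rw [sCount, Nat.card_eq_one_iff_unique]
  refine ⟨⟨fun H K => Subtype.ext ?_⟩, ?_⟩
  · have : ∀ H : Subgroup G, Nat.card H = p ^ k → (H : Set G) = {a : G | a ^ p ^ k = 1} := by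
      intro H hH
      refine Set.eq_of_subset_of_ncard_le (fun a ha => ?_) ?_ (Set.toFinite _)
      · rw [Set.mem_ofPred_eq, ← hH]
        exact congrArg Subtype.val (pow_card_eq_one' (x := (⟨a, ha⟩ : H)))
      · rw [← Nat.card_coe_set_eq (H : Set G), show Nat.card ((H : Set G)) = p ^ k from hH,
          Set.ncard_eq_toFinset_card', Set.toFinset_ofPred]
        exact IsCyclic.card_pow_eq_one_le (pow_pos hp.out.pos _)
    exact SetLike.coe_injective ((this _ H.2).trans (this _ K.2).symm)
  · obtain ⟨H, hH⟩ := Sylow.exists_subgroup_card_pow_prime p (G := G) (n := k) (hc ▸ pow_dvd_pow p hk)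
    exact ⟨⟨H, hH⟩⟩

end Cfsg.Agent.PGroups
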